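import Cfsg.Agent.Lib.U5.Rad
import Cfsg.Agent.Lib.HX.AutA

/-! The normaliser of a unitary subgroup -/

set_option autoImplicit false
set_option linter.unusedSectionVars false

namespace CfsgLib.U5

open Subgroup Module CfsgLib.Forms CfsgLib.LieMult
open CfsgLib.HX (Std CO Two Mv Tr Heis NF Fus4 Has4 M2)
open Submodule (span)
open scoped commutatorElement Pointwise

universe u

variable {K : Type} [Field K] [Finite K] {σ : K →+* K} {V : Type} [AddCommGroup V] [Module K V]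
  [FiniteDimensional K V] {P : PQ σ V} {S : Type} [Group S] [Finite S] {G : Type u} [Group G]
  [Finite G] {C : CG P S} {φ : S →* G} {t : G}

theorem Mod.T_semi (h : Mod C) {α : RingAut K} {γ : AV V} (k : SI P α γ) {e a : V} {c : K} (hc : TOk P e a c) :
    TOk P (γ e) (γ a) (α c) ∧ ∀ v, C.act (C.T (γ e) (γ a) (α c)) (γ v) = γ (C.act (C.T e a c) v) := by
  have h1 : TOk P (γ e) (γ a) (α c) := by
    obtain ⟨a1, a2, a3⟩ := h.tok.1 hc
    exact h.tok.2 ⟨by rw [k.B_eq, a1, map_zero], by rw [k.B_eq, a2, map_zero],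
      by rw [k.B_eq, ← a3, map_add, h.aut_comm]⟩
  refine ⟨h1, fun v => ?_⟩
  rw [h.T_app h1, h.T_app hc, map_add, map_add, k.semi, k.semi, k.B_eq, k.B_eq, map_add, map_mul, h.aut_comm]

theorem Mod.exists_pair (h : Mod C) : ∃ e f, HP P e f := by
  obtain ⟨e, -, f, -, k⟩ := h.exists_hp_perp (U := ⊥) disjoint_bot_left (by have := h.d4; simp; omega)
  exact ⟨e, f, k⟩

theorem hp_ne {e f : V} (k : HP P e f) : e ≠ 0 := fun h => by simpa [h] using k.ef

theorem Mod.T_sq (h : Mod C) {e a : V} {c : K} (k : TOk P e a c) : C.T e a c * C.T e a c = C.T e 0 (P.B a a) := by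
  rw [C.T_mul k k, h.vadd_self, h.add_self, zero_add]

theorem Mod.T_sq0 (h : Mod C) {e : V} {c : K} (k : TOk P e 0 c) : C.T e 0 c * C.T e 0 c = 1 := by
  rw [h.T_sq k]
  simpa using C.T_zero k.sing

theorem Mod.T_four (h : Mod C) {e a : V} {c : K} (k : TOk P e a c) : C.T e a c ^ 2 ^ 2 = 1 := by
  rw [show 2 ^ 2 = 2 * 2 from rfl, pow_mul, pow_two, pow_two, h.T_sq k,
    h.T_sq0 (h.tok0 (h.tok.1 k).1 (h.conj a a))]

theorem Mod.center_ne (h : Mod C) : center S ≠ ⊤ := by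
  intro e
  obtain ⟨p, f, k⟩ := h.exists_pair
  have h1 : (⊤ : Subgroup S) ≤ ⊥ := h.perf.trans (commutator_le.2 fun a _ b _ =>
    commutatorElement_eq_one_iff_mul_comm.2 (mem_center_iff.1 (e ▸ mem_top b : b ∈ center S) a))
  have t := h.tok0 (h.hp_iff.1 k).1 (map_one σ)
  obtain ⟨l, h2, h3⟩ := (h.T_eq_one t (U5.hp_ne k)).1 (mem_bot.1 (h1 (mem_top _)))
  obtain rfl : l = 0 := by simpa [U5.hp_ne k] using h2.symm
  simp at h3

theorem eq_one_of_odd_card {Z : Subgroup S} (hZ : Odd (Nat.card Z)) {z : S} (hz : z ∈ Z) {k : ℕ}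
    (e : z ^ 2 ^ k = 1) : z = 1 :=
  HX.Nrm.eq_one_of_odd (Odd.of_dvd_nat hZ (Z.orderOf_dvd_natCard hz)) e

theorem exists_two_part {Z : Subgroup S} (hZ : Odd (Nat.card Z)) (hc : Z ≤ center S) {s : S} {k : ℕ}
    (e : s ^ 2 ^ k ∈ Z) : ∃ z ∈ Z, (s * z) ^ 2 ^ k = 1 := by
  obtain ⟨z, hz⟩ := (powCoprime (G := Z) (n := 2 ^ k)
    (Nat.Coprime.pow_right k (Nat.coprime_two_right.2 hZ))).surjective (⟨_, e⟩ : Z)⁻¹
  refine ⟨z, z.2, ?_⟩
  have h1 : (z : S) ^ 2 ^ k = (s ^ 2 ^ k)⁻¹ := congrArg Subtype.val hz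
  rw [Commute.mul_pow (mem_center_iff.1 (hc z.2) s), h1, mul_inv_cancel]

theorem two_iff {A : Type*} [Group A] {a : A} : IsPGroup 2 (zpowers a) ↔ ∃ k, a ^ 2 ^ k = 1 := by
  refine ⟨fun h => ?_, fun ⟨k, hk⟩ => ?_⟩
  · obtain ⟨k, hk⟩ := h ⟨a, mem_zpowers a⟩
    exact ⟨k, congrArg Subtype.val hk⟩
  · rintro ⟨_, n, rfl⟩
    refine ⟨k, Subtype.ext ?_⟩
    change (a ^ n) ^ 2 ^ k = 1
    rw [← zpow_natCast, ← zpow_mul, mul_comm, zpow_mul, zpow_natCast, hk, one_zpow]

theorem norm_of_le {H : Subgroup G} {g : G} (h : ∀ n ∈ H, g * n * g⁻¹ ∈ H) : g ∈ normalizer (H : Set G) :=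
  mem_normalizer_fintype h

theorem Mod.exists_conj (h : Mod C) {α : RingAut K} {γ : AV V} (k : SI P α γ) (s : S) :
    ∃ s', ∀ v, C.act s' (γ v) = γ (C.act s v) := by
  let H : Subgroup S :=
    { carrier := {s | ∃ s', ∀ v, C.act s' (γ v) = γ (C.act s v)}
      one_mem' := ⟨1, fun v => by rw [C.one_apply, C.one_apply]⟩
      mul_mem' := by
        rintro a b ⟨a', ha⟩ ⟨b', hb⟩
        exact ⟨a' * b', fun v => by rw [C.mul_apply, C.mul_apply, hb, ha]⟩
      inv_mem' := by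
        rintro a ⟨a', ha⟩
        exact ⟨a'⁻¹, fun v => C.inv_apply_eq (by rw [ha, C.apply_inv])⟩ }
  have : H = ⊤ := h.gen H fun p r hp hr => ⟨_, by simpa only [map_zero] using (h.T_semi k (h.tok0 hp hr)).2⟩
  exact (this ▸ mem_top s : s ∈ H)

theorem SI.mul {α α' : RingAut K} {γ γ' : AV V} (k : SI P α γ) (k' : SI P α' γ') :
    SI P (α * α') (γ * γ') := by
  refine ⟨fun c v => ?_, fun v w => ?_⟩
  · change γ (γ' (c • v)) = α (α' c) • γ (γ' v)
    rw [k'.semi, k.semi]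
  · change P.B (γ (γ' v)) (γ (γ' w)) = α (α' _)
    rw [k.B_eq, k'.B_eq]

theorem SI.inv {α : RingAut K} {γ : AV V} (k : SI P α γ) : SI P α⁻¹ γ⁻¹ := by
  refine ⟨fun c v => γ.injective ?_, fun v w => α.injective ?_⟩
  · change γ (γ.symm (c • v)) = γ (α.symm c • γ.symm v)
    rw [k.semi]; simp
  · change α (P.B (γ.symm v) (γ.symm w)) = α (α.symm _)
    rw [← k.B_eq]; simp

theorem SI.perp {α : RingAut K} {γ : AV V} (k : SI P α γ) {U : Submodule K V} (hU : ∀ v, γ v ∈ U ↔ v ∈ U) (v : V) :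
    γ v ∈ P.perp U ↔ v ∈ P.perp U := by
  refine ⟨fun h w hw => α.injective ?_, fun h w hw => ?_⟩
  · rw [← k.B_eq, h _ ((hU w).2 hw), map_zero]
  · obtain ⟨w, rfl⟩ := γ.surjective w
    rw [k.B_eq, h w ((hU w).1 hw), map_zero]

/-- a semilinear isometry commuting with `S` is a scalar -/
theorem Mod.scalar_of_comm (h : Mod C) {β : RingAut K} {δ : AV V} (k : SI P β δ) (hc : ∀ s, s ∈ Cg C δ) :
    β = 1 ∧ ∃ μ, σ μ * μ = 1 ∧ ∀ v, δ v = μ • v := by
  obtain ⟨e, f, hf⟩ := h.exists_pair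
  obtain ⟨a1, a2, a3⟩ := h.hp_iff.1 hf
  have t := h.tok0 a1 (map_one σ)
  have h1 : δ e = P.B e (δ f) • e := by
    have := hc (C.T e 0 1) f
    rw [h.T_app t, h.T_app t, a3] at this
    simpa using this.symm
  generalize P.B e (δ f) = μ at h1
  have h2 : ∀ p, P.B p p = 0 → δ p = μ • p := fun p hp => by
    by_cases h0 : p = 0
    · simp [h0]
    obtain ⟨s, rfl⟩ := h.trans (U5.hp_ne hf) a1 h0 hp
    rw [← hc s e, h1, map_smul]
  have h3 : ∀ v, δ v = μ • v := fun v => by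
    have := h.iso_span (U := ⊥) bot_le (by have := h.d4; simp; omega) (v := v) (by simp [PQ.perp_bot])
    induction this using AddSubgroup.closure_induction with
    | mem x hx => exact h2 x hx.2
    | zero => simp
    | add x y _ _ hx hy => rw [map_add, hx, hy, smul_add]
    | neg x _ hx => rw [map_neg, hx, smul_neg]
  have h4 : σ μ * μ = 1 := by
    have := k.B_eq e f
    rwa [h3, h3, P.B_smul_left, P.B_smul_right, a3, map_one, mul_one] at this
  refine ⟨RingEquiv.ext fun c => ?_, μ, h4, h3⟩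
  have := k.semi c e
  rw [h3, h3, smul_smul, smul_smul, mul_comm] at this
  exact (mul_right_cancel₀ (ne_zero_of_norm h4) (smul_left_injective K (U5.hp_ne hf) this)).symm

/-- the linear map of a semilinear map with trivial field automorphism -/
def Semi.lin {γ : AV V} (k : Semi (1 : RingAut K) γ) : V ≃ₗ[K] V := { γ with map_smul' := k }

theorem Semi.lin_apply {γ : AV V} (k : Semi (1 : RingAut K) γ) (v : V) : k.lin v = γ v := rfl

theorem Mod.odd_cardU (h : Mod C) : Odd (Nat.card Kˣ) := by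
  have := Fintype.ofFinite K
  have : CharP K 2 := CharTwo.of_one_ne_zero_of_two_eq_zero one_ne_zero h.two
  rw [Nat.card_units, Nat.card_eq_fintype_card]
  exact Nat.Even.sub_odd Fintype.card_pos (FiniteField.even_card_of_char_two (ringChar.eq K 2) |> Nat.even_iff.2)
    odd_one

namespace Emb

variable (h : Emb C φ) {g g' : G} {α α' : RingAut K} {γ γ' : AV V}
include h

theorem cj (g : G) : Emb C ((MulAut.conj g).toMonoidHom.comp φ) := by
  refine ⟨h.toMod, fun s hs => h.ker ?_⟩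
  simpa using hs

theorem mem_center {s : S} (hs : φ s ∈ centralizer (φ.range : Set G)) : s ∈ center S := by
  have hn : ((centralizer (φ.range : Set G)).comap φ).Normal := ⟨fun a ha b => by
    rw [mem_comap, map_mul, map_mul, map_inv, mem_centralizer_iff.1 ha (φ b) ⟨b, rfl⟩, mul_inv_cancel_right]
    exact ha⟩
  refine (h.simp _ hn).resolve_right (fun e => h.center_ne (top_le_iff.1 ?_)) hs
  refine h.toMod.perf.trans (commutator_le.2 fun a _ b _ => h.ker ?_)
  rw [MonoidHom.mem_ker, map_commutatorElement, commutatorElement_eq_one_iff_mul_comm]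
  exact mem_centralizer_iff.1 (e ▸ mem_top b : b ∈ (centralizer (φ.range : Set G)).comap φ) _ ⟨a, rfl⟩

theorem cent_of_center {s : S} (hs : s ∈ center S) : φ s ∈ centralizer (φ.range : Set G) := by
  rintro _ ⟨a, rfl⟩
  rw [← map_mul, ← map_mul, mem_center_iff.1 hs]

theorem inj_pow {a b : S} {k : ℕ} (ha : a ^ 2 ^ k = 1) (hb : b ^ 2 ^ k = 1) (e : φ a = φ b) : a = b := by
  have h1 : a⁻¹ * b ∈ center S := h.ker (by rw [MonoidHom.mem_ker, map_mul, map_inv, e, inv_mul_cancel])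
  refine inv_mul_eq_one.1 (eq_one_of_odd_card h.toMod.center_odd h1 (k := k) ?_)
  have := Commute.mul_pow (mem_center_iff.1 h1 a) (2 ^ k)
  rwa [mul_inv_cancel_left, ha, hb, one_mul, eq_comm] at this

theorem exists_act (hg : g ∈ normalizer (φ.range : Set G)) : ∃ α γ, Act C φ g α γ := by
  have h1 : ∀ s, ∃ s', φ s' = g * φ s * g⁻¹ := fun s => (mem_normalizer_iff.1 hg _).1 ⟨s, rfl⟩
  choose c hc using h1
  have h2 : ∀ s, c s ∈ center S ↔ s ∈ center S := fun s => by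
    refine ⟨fun k => h.mem_center ?_, fun k => h.mem_center ?_⟩
    · rintro _ ⟨a, rfl⟩
      have := h.cent_of_center k _ ⟨c a, rfl⟩
      rw [hc, hc] at this
      simpa using this
    · rintro _ ⟨a, rfl⟩
      obtain ⟨b, hb⟩ := (mem_normalizer_iff.1 (inv_mem hg) _).1 ⟨a, rfl⟩
      have := h.cent_of_center k _ ⟨b, rfl⟩
      rw [hc, show φ a = g * φ b * g⁻¹ by rw [hb]; group]
      simpa using this
  let θ₀ : S →* S ⧸ center S := MonoidHom.mk' (fun s => (c s : S ⧸ center S)) fun a b => by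
    rw [← QuotientGroup.mk_mul, QuotientGroup.eq]
    refine h.ker ?_
    simp only [MonoidHom.mem_ker, map_mul, map_inv, hc]
    group
  let θ : S ⧸ center S →* S ⧸ center S := QuotientGroup.lift _ θ₀ fun s hs =>
    (QuotientGroup.eq_one_iff _).2 ((h2 s).2 hs)
  have hθ : Function.Injective θ := (injective_iff_map_eq_one θ).2 fun a ha => by
    obtain ⟨a, rfl⟩ := QuotientGroup.mk_surjective a
    exact (QuotientGroup.eq_one_iff _).2 ((h2 a).1 ((QuotientGroup.eq_one_iff _).1 ha))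
  obtain ⟨α, γ, k, hk⟩ := h.aut (MulEquiv.ofBijective θ (Finite.injective_iff_bijective.1 hθ))
  choose d hd using h.toMod.exists_conj k
  have hu : ∀ s s', (∀ v, C.act s' (γ v) = γ (C.act s v)) → s' = d s := fun s s' e => C.ext fun v => by
    obtain ⟨v, rfl⟩ := γ.surjective v
    rw [e, hd]
  let d' : S →* S := MonoidHom.mk' d fun a b => (hu _ _ fun v => by
    rw [C.mul_apply, C.mul_apply, hd, hd]).symm
  have h3 : ∀ s, ∃ z ∈ center S, g * φ s * g⁻¹ = φ (d s * z) := fun s =>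
    ⟨_, QuotientGroup.eq.1 (hk s (d s) (hd s)).symm, by rw [mul_inv_cancel_left, hc]⟩
  have h4 : (⊤ : Subgroup S) ≤ ((MulAut.conj g).toMonoidHom.comp φ).eqLocus (φ.comp d') := by
    refine h.toMod.perf.trans (commutator_le.2 fun a _ b _ => ?_)
    obtain ⟨z, hz, e1⟩ := h3 a
    obtain ⟨z', hz', e2⟩ := h3 b
    change ((MulAut.conj g).toMonoidHom.comp φ) _ = (φ.comp d') _
    rw [map_commutatorElement, map_commutatorElement]
    change ⁅g * φ a * g⁻¹, g * φ b * g⁻¹⁆ = ⁅φ (d a), φ (d b)⁆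
    rw [e1, e2, ← map_commutatorElement, ← map_commutatorElement]
    congr 1
    have c1 := mem_center_iff.1 hz
    have c2 := mem_center_iff.1 hz'
    simp only [commutatorElement_def, mul_inv_rev]
    rw [show d a * z * (d b * z') * (z⁻¹ * (d a)⁻¹) * (z'⁻¹ * (d b)⁻¹) =
      d a * (z * d b * z⁻¹) * (z * z' * z⁻¹) * (d a)⁻¹ * z'⁻¹ * (d b)⁻¹ by group, ← c1, ← c1,
      mul_inv_cancel_right, mul_inv_cancel_right, mul_assoc _ z', ← c2]
    group
  exact ⟨α, γ, k, fun s s' e => by rw [hu s s' e]; exact h4 (mem_top s)⟩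

theorem act_x (k : Act C φ g α γ) {e a : V} {c : K} (hc : TOk P e a c) :
    TOk P (γ e) (γ a) (α c) ∧ g * x C φ e a c * g⁻¹ = x C φ (γ e) (γ a) (α c) := by
  exact ⟨(h.toMod.T_semi k.toSI hc).1, k.conj _ _ (h.toMod.T_semi k.toSI hc).2⟩

theorem act_z (k : Act C φ g α γ) {p : V} {s : K} (hp : P.B p p = 0) (hs : σ s = s) :
    g * z C φ p s * g⁻¹ = z C φ (γ p) (α s) := by
  have := (h.act_x k (h.toMod.tok0 hp hs)).2
  rwa [map_zero] at this

theorem act_mem (k : Act C φ g α γ) : g ∈ normalizer (φ.range : Set G) := by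
  refine norm_of_le ?_
  rintro _ ⟨s, rfl⟩
  obtain ⟨s', e⟩ := h.toMod.exists_conj k.toSI s
  exact ⟨s', (k.conj s s' e).symm⟩

theorem act_mul (k : Act C φ g α γ) (k' : Act C φ g' α' γ') :
    Act C φ (g * g') (α * α') (γ * γ') := by
  refine ⟨k.toSI.mul k'.toSI, fun s s'' e => ?_⟩
  obtain ⟨s', e'⟩ := h.toMod.exists_conj k'.toSI s
  rw [← k.conj s' s'' fun v => ?_, ← k'.conj s s' e']
  · group
  · obtain ⟨v, rfl⟩ := γ'.surjective v
    rw [e']
    exact e v

theorem act_inv (k : Act C φ g α γ) : Act C φ g⁻¹ α⁻¹ γ⁻¹ := by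
  refine ⟨k.toSI.inv, fun s s' e => ?_⟩
  rw [← k.conj s' s fun v => ?_]
  · group
  · have := e (γ v)
    change C.act s' (γ.symm (γ v)) = γ.symm _ at this
    rw [γ.symm_apply_apply] at this
    rw [this, γ.apply_symm_apply]

theorem act_cent (hg : g ∈ centralizer (φ.range : Set G)) : Act C φ g 1 1 := by
  refine ⟨⟨fun _ _ => rfl, fun _ _ => rfl⟩, fun s s' e => ?_⟩
  rw [C.ext (g := s') (h := s) e, ← hg _ ⟨s, rfl⟩, mul_inv_cancel_right]

theorem act_pow (k : Act C φ g α γ) (n : ℕ) : Act C φ (g ^ n) (α ^ n) (γ ^ n) := by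
  induction n with
  | zero => simpa only [pow_zero] using h.act_cent (one_mem _)
  | succ n ih => simpa only [pow_succ] using h.act_mul ih k

theorem act_self (l : S) : Act C φ (φ l) 1 ((C.act l).restrictScalars ℤ) := by
  refine ⟨⟨fun c v => map_smul (C.act l) c v, fun v w => C.B_act l v w⟩, fun s s' e => ?_⟩
  have : s' * l = l * s := C.ext fun v => by rw [C.mul_apply, C.mul_apply]; exact e v
  rw [← map_mul, ← this, map_mul, mul_inv_cancel_right]

theorem act_smul (k : Act C φ g α γ) {μ : K} (hμ : σ μ * μ = 1) :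
    ∃ γ', Act C φ g α γ' ∧ ∀ v, γ' v = μ • γ v := by
  have h0 := ne_zero_of_norm hμ
  refine ⟨(LinearEquiv.smulOfNeZero K V μ h0).restrictScalars ℤ * γ, ⟨⟨fun c v => ?_, fun v w => ?_⟩,
    fun s s' e => k.conj s s' fun v => smul_right_injective V h0 ?_⟩, fun v => rfl⟩
  · change μ • γ (c • v) = α c • μ • γ v
    rw [k.semi, smul_comm]
  · change P.B (μ • γ v) (μ • γ w) = _
    rw [P.B_smul_left, P.B_smul_right, ← mul_assoc, hμ, one_mul, k.B_eq]
  · exact (map_smul (C.act s') μ (γ v)).symm.trans (e v)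

theorem act_unique (k : Act C φ g α γ) (k' : Act C φ g α' γ') :
    α = α' ∧ ∃ μ, σ μ * μ = 1 ∧ ∀ v, γ' v = μ • γ v := by
  have k1 := h.act_mul (h.act_inv k) k'
  have h1 : Cg C (γ⁻¹ * γ') = ⊤ := h.gen _ fun p r hp hr => by
    have t := h.toMod.tok0 hp hr
    obtain ⟨t1, t2⟩ := h.toMod.T_semi k1.toSI t
    have e := k1.conj _ _ t2
    rw [inv_mul_cancel, one_mul, inv_one, mul_one] at e
    rw [map_zero] at t1 t2 e
    rw [← h.inj_pow (k := 1) (by rw [pow_one, pow_two, h.toMod.T_sq0 t])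
      (by rw [pow_one, pow_two, h.toMod.T_sq0 t1]) e] at t2
    exact t2
  obtain ⟨h2, μ, h3, h4⟩ := h.toMod.scalar_of_comm k1.toSI fun s => h1 ▸ mem_top s
  refine ⟨inv_mul_eq_one.1 h2, α μ, by rw [← h.toMod.aut_comm, ← map_mul, h3, map_one], fun v => ?_⟩
  rw [← k.semi, ← h4]
  exact (γ.apply_symm_apply _).symm

theorem cent_of_act (k : Act C φ g α γ) {l : S} {μ : K} (e : ∀ v, γ v = μ • C.act l v) :
    (φ l)⁻¹ * g ∈ centralizer (φ.range : Set G) := by
  rintro _ ⟨s, rfl⟩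
  have := k.conj s (l * s * l⁻¹) fun v => by
    rw [e, e, map_smul, C.mul_apply, C.mul_apply, C.inv_apply]
  rw [map_mul, map_mul, map_inv] at this
  rw [show φ s * ((φ l)⁻¹ * g) = (φ l)⁻¹ * (φ l * φ s * (φ l)⁻¹) * g by group, ← this]
  group

theorem comm_of_act (k : Act C φ g α γ) {s : S} (hs : s ∈ Cg C γ) : Commute g (φ s) := by
  exact mul_inv_eq_iff_eq_mul.1 (k.conj s s hs)

theorem act_norm (k : Act C φ g α γ) {U : Submodule K V} (hU : ∀ v, γ v ∈ U ↔ v ∈ U) :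
    g ∈ normalizer (Yg C φ U : Set G) ∧ g ∈ normalizer (Rg C φ U : Set G) ∧
      g ∈ normalizer (Eg C φ U : Set G) := by
  have hY : ∀ {U : Submodule K V}, (∀ v, γ v ∈ U ↔ v ∈ U) → g ∈ normalizer (Yg C φ U : Set G) := by
    intro U hU
    refine norm_of_le ?_
    rintro _ ⟨s, hs, rfl⟩
    obtain ⟨s', e⟩ := h.toMod.exists_conj k.toSI s
    refine ⟨s', fun v hv => ?_, (k.conj s s' e).symm⟩
    obtain ⟨v, rfl⟩ := γ.surjective v
    change C.act s' (γ v) = _
    rw [e, hs v ((hU v).1 hv)]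
  refine ⟨hY hU, norm_of_le ?_, hY (k.toSI.perp hU)⟩
  rintro _ ⟨s, hs, rfl⟩
  obtain ⟨s', e⟩ := h.toMod.exists_conj k.toSI s
  refine ⟨s', ⟨fun v hv => ?_, fun v hv => ?_⟩, (k.conj s s' e).symm⟩
  · obtain ⟨v, rfl⟩ := γ.surjective v
    rw [e, hs.1 v ((hU v).1 hv)]
  · obtain ⟨v, rfl⟩ := γ.surjective v
    rw [e, ← map_sub, hU]
    exact hs.2 v ((k.toSI.perp hU v).1 hv)

theorem inj2 {s : S} (h2 : IsPGroup 2 (zpowers s)) (e : φ s ∈ centralizer (φ.range : Set G)) :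
    s = 1 := by
  obtain ⟨k, hk⟩ := two_iff.1 h2
  exact eq_one_of_odd_card h.toMod.center_odd (h.mem_center e) hk

theorem inj_two {H : Subgroup S} (h2 : IsPGroup 2 H) {s s' : S} (hs : s ∈ H) (hs' : s' ∈ H)
    (e : φ s = φ s') : s = s' := by
  refine inv_mul_eq_one.1 (h.inj2 (h2.to_le (zpowers_le.2 (mul_mem (inv_mem hs) hs'))) ?_)
  rw [map_mul, map_inv, e, inv_mul_cancel]
  exact one_mem _

theorem inj_fix {p : V} (h0 : p ≠ 0) {s s' : S} (e1 : C.act s p = C.act s' p) (e : φ s = φ s') :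
    s = s' := by
  obtain ⟨l, hl⟩ := h.toMod.mem_center.1 (h.ker (x := s⁻¹ * s')
    (by rw [MonoidHom.mem_ker, map_mul, map_inv, e, inv_mul_cancel]))
  have h1 := hl p
  rw [C.mul_apply, ← e1, C.inv_apply] at h1
  obtain rfl : 1 = l := smul_left_injective K h0 (by simpa using h1)
  exact inv_mul_eq_one.1 (C.ext fun v => by rw [hl, one_smul, C.one_apply])

theorem comm_two {s u : S} {k : ℕ} (hu : u ^ 2 ^ k = 1) (e1 : Commute (φ s) (φ u)) : Commute s u :=
  mul_inv_eq_iff_eq_mul.1 (h.inj_pow (by rw [conj_pow, hu, mul_one, mul_inv_cancel]) hu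
    (by rw [map_mul, map_mul, map_inv, e1.eq, mul_inv_cancel_right]))

theorem comm_T {s : S} {e a : V} {c : K} (k : TOk P e a c) (e1 : Commute (φ s) (x C φ e a c)) :
    Commute s (C.T e a c) := by
  exact h.comm_two (h.toMod.T_four k) e1

theorem exists_two {l : G} (hl : l ∈ φ.range) (h2 : IsPGroup 2 (zpowers l)) :
    ∃ s, IsPGroup 2 (zpowers s) ∧ orderOf s = orderOf l ∧ φ s = l := by
  obtain ⟨s, rfl⟩ := hl
  obtain ⟨k, hk⟩ := two_iff.1 h2
  obtain ⟨z, hz, e⟩ := exists_two_part (Z := φ.ker) (Odd.of_dvd_nat h.toMod.center_odd (card_dvd_of_le h.ker))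
    h.ker (s := s) (k := k) (by rw [MonoidHom.mem_ker, map_pow, hk])
  have e1 : φ (s * z) = φ s := by rw [map_mul, MonoidHom.mem_ker.1 hz, mul_one]
  refine ⟨s * z, two_iff.2 ⟨k, e⟩, ?_, e1⟩
  rw [← e1]
  refine orderOf_eq_orderOf_iff.2 fun n => ⟨fun a => by rw [← map_pow, a, map_one], fun a => ?_⟩
  exact h.inj_pow (k := k) (by rw [← pow_mul, mul_comm, pow_mul, e, one_pow]) (one_pow _)
    (by rw [map_pow, a, map_one])

theorem center_odd : Odd (Nat.card (φ.range ⊓ centralizer (φ.range : Set G) : Subgroup G)) := by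
  refine Odd.of_dvd_nat h.toMod.center_odd ((card_dvd_of_le ?_).trans (card_map_dvd (center S) φ))
  rintro _ ⟨⟨s, rfl⟩, hs⟩
  exact ⟨s, h.mem_center hs, rfl⟩

theorem lin_det (k : Act C φ g 1 γ) (hd : LinearMap.det k.semi.lin.toLinearMap = 1) :
    ∃ l, (∀ v, C.act l v = γ v) ∧ (φ l)⁻¹ * g ∈ centralizer (φ.range : Set G) := by
  obtain ⟨l, hl⟩ := h.full k.semi.lin.toLinearMap ((h.herm.isIso_iff _).2 k.B_eq) hd
  exact ⟨l, hl, h.cent_of_act k (μ := 1) fun v => by rw [one_smul, hl]; rfl⟩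

theorem lin_odd' (k : Act C φ g 1 γ) :
    ∃ m l, Odd m ∧ (φ l)⁻¹ * g ^ m ∈ centralizer (φ.range : Set G) := by
  have k1 := h.act_pow k (Nat.card Kˣ)
  rw [one_pow] at k1
  obtain ⟨l, -, hl⟩ := h.lin_det k1 (by
    have : k1.semi.lin = k.semi.lin ^ Nat.card Kˣ := LinearEquiv.ext fun v => by
      rw [Semi.lin_apply, LinearEquiv.pow_apply, LinearEquiv.pow_apply]; rfl
    rw [this, ← LinearEquiv.coe_det, map_pow, pow_card_eq_one', Units.val_one])
  exact ⟨_, l, h.toMod.odd_cardU, hl⟩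

theorem lin_odd (k : Act C φ g 1 γ) :
    ∃ m, Odd m ∧ g ^ m ∈ φ.range ⊔ centralizer (φ.range : Set G) := by
  obtain ⟨m, l, h1, h2⟩ := h.lin_odd' k
  exact ⟨m, h1, by rw [← mul_inv_cancel_left (φ l) (g ^ m)]; exact mul_mem_sup ⟨l, rfl⟩ h2⟩

theorem pow_cent {l : S} (hl : (φ l)⁻¹ * g ∈ centralizer (φ.range : Set G)) (n : ℕ) :
    (φ (l ^ n))⁻¹ * g ^ n ∈ centralizer (φ.range : Set G) := by
  have c : Commute (φ l) ((φ l)⁻¹ * g) := hl _ ⟨l, rfl⟩
  have := c.mul_pow n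
  rw [mul_inv_cancel_left] at this
  rw [this, map_pow, inv_mul_cancel_left]
  exact pow_mem hl n

theorem lin_two (k : Act C φ g 1 γ) (h2 : IsPGroup 2 (zpowers g)) :
    ∃ l, IsPGroup 2 (zpowers l) ∧ (φ l)⁻¹ * g ∈ centralizer (φ.range : Set G) := by
  obtain ⟨m, l, h1, h3⟩ := h.lin_odd' k
  obtain ⟨j, hj⟩ := two_iff.1 h2
  obtain ⟨n, hn⟩ := exists_pow_eq_self_of_coprime (x := g) (n := m)
    ((Nat.Coprime.pow_right j (Nat.coprime_two_right.2 h1)).coprime_dvd_right (orderOf_dvd_of_pow_eq_one hj))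
  have h4 := h.pow_cent h3 n
  rw [hn] at h4
  have h5 := h.pow_cent h4 (2 ^ j)
  rw [hj, mul_one, inv_mem_iff] at h5
  obtain ⟨z, hz, e⟩ := exists_two_part h.toMod.center_odd le_rfl (h.mem_center h5)
  refine ⟨_, two_iff.2 ⟨j, e⟩, ?_⟩
  rw [map_mul, mul_inv_rev, mul_assoc]
  exact mul_mem (inv_mem (h.cent_of_center hz)) h4

theorem invol (hg : g ∈ normalizer (φ.range : Set G)) (g2 : g * g = 1) :
    (∃ l, l * l = 1 ∧ (φ l)⁻¹ * g ∈ centralizer (φ.range : Set G)) ∨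
      ∃ α γ, Act C φ g α γ ∧ Gr P α γ := by
  obtain ⟨α, γ, k⟩ := h.exists_act hg
  have k2 := h.act_mul k k
  rw [g2] at k2
  obtain ⟨h1, μ, h2, h3⟩ := h.act_unique (h.act_cent (one_mem _)) k2
  rcases h.toMod.aut_sq h1.symm with rfl | h4
  · obtain ⟨l, h5, h6⟩ := h.lin_two k (two_iff.2 ⟨1, by rw [pow_one, pow_two, g2]⟩)
    have h7 := h.pow_cent h6 2
    rw [pow_two, pow_two, g2, mul_one, inv_mem_iff] at h7
    exact .inl ⟨l, h.inj2 (h5.to_le (zpowers_le.2 (mul_mem (mem_zpowers l) (mem_zpowers l)))) h7, h6⟩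
  · refine .inr ⟨α, γ, k, k.toSI, h4, fun v => ?_⟩
    have h5 : ∀ v, γ (γ v) = μ • v := h3
    obtain ⟨e, f, hf⟩ := h.toMod.exists_pair
    have h6 : σ μ = μ := by
      refine smul_left_injective K (γ.map_ne_zero_iff.2 (hp_ne hf)) ?_
      change σ μ • γ e = μ • γ e
      rw [← h4, ← k.semi, ← h5, h5]
    rw [h5, h.toMod.eq_one_of_sq (c := μ) (by rwa [h6] at h2), one_smul]

theorem exists_ty : ∃ ty : normalizer (φ.range : Set G) →* RingAut K,
    ∀ (g : normalizer (φ.range : Set G)) α γ, Act C φ (g : G) α γ → ty g = α := by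
  choose α γ k using fun g : normalizer (φ.range : Set G) => h.exists_act g.2
  exact ⟨MonoidHom.mk' α fun a b => (h.act_unique (k (a * b)) (h.act_mul (k a) (k b))).1,
    fun g _ _ k' => (h.act_unique (k g) k').1⟩

theorem perf : φ.range ≤ ⁅φ.range, φ.range⁆ := by
  rw [φ.range_eq_map, ← map_commutator]
  exact map_mono h.toMod.perf

theorem not_cent : ¬ φ.range ≤ centralizer (φ.range : Set G) := by
  exact fun e => h.toMod.center_ne (top_le_iff.1 fun s _ => h.mem_center (e ⟨s, rfl⟩))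

theorem le_or_cent {H : Subgroup G} (h1 : φ.range ≤ normalizer (H : Set G))
    (h2 : H ≤ normalizer (φ.range : Set G)) : φ.range ≤ H ∨ H ≤ centralizer (φ.range : Set G) := by
  have hn : (H.comap φ).Normal := ⟨fun a ha b => by
    rw [mem_comap, map_mul, map_mul, map_inv]
    exact (mem_normalizer_iff.1 (h1 ⟨b, rfl⟩) _).1 ha⟩
  refine (h.simp _ hn).symm.imp (fun e => ?_) fun e => ?_
  · rintro _ ⟨s, rfl⟩
    exact (e ▸ mem_top s : s ∈ H.comap φ)
  have h3 : ⁅H, φ.range⁆ ≤ centralizer (φ.range : Set G) := commutator_le.2 fun a ha b hb => by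
    obtain ⟨s, hs⟩ : ⁅a, b⁆ ∈ φ.range := mul_mem ((mem_normalizer_iff.1 (h2 ha) _).1 hb) (inv_mem hb)
    have : ⁅a, b⁆ ∈ H := by
      rw [commutatorElement_def, mul_assoc, mul_assoc, ← mul_assoc b]
      exact mul_mem ha ((mem_normalizer_iff.1 (h1 hb) _).1 (inv_mem ha))
    rw [← hs] at this ⊢
    exact h.cent_of_center (e this)
  have h4 := commutator_eq_bot_iff_le_centralizer.2 h3
  have h5 : ⁅⁅φ.range, φ.range⁆, H⁆ = ⊥ := commutator_commutator_eq_bot_of_rotate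
    (by rwa [commutator_comm φ.range H]) h4
  exact le_centralizer_iff.1 (h.perf.trans (commutator_eq_bot_iff_le_centralizer.1 h5))

end Emb

end CfsgLib.U5
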