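import Cfsg.Agent.Lib.U5.Aut

/-! Centralisers of radicals, fixed points -/

set_option autoImplicit false
set_option linter.unusedSectionVars false

namespace CfsgLib.U5

open Subgroup Module CfsgLib.Forms CfsgLib.LieMult
open CfsgLib.HX (Std CO Two Mv Tr Heis NF Fus4 Has4 M2)
open Submodule (span)
open scoped commutatorElement Pointwise

universe u

variable {K : Type} [Field K] [Finite K] {σ : K →+* K} {V : Type} [AddCommGroup V] [Module K V]
  [FiniteDimensional K V] {P : PQ σ V} {S : Type} [Group S] [Finite S] {G : Type u} [Group G]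
  [Finite G] {C : CG P S} {φ : S →* G} {t : G}

theorem Mod.exists_T_of (h : Mod C) {γ : AV V} (k : SI P 1 γ) {e : V} (h0 : e ≠ 0) (he : P.B e e = 0)
    (h1 : γ e = e) (h2 : ∀ a, P.B e a = 0 → γ a - a ∈ span K {e}) :
    ∃ a c, TOk P e a c ∧ ∀ v, γ v = C.act (C.T e a c) v := by
  obtain ⟨f, hf⟩ := h.exists_hp h0 he
  have kB : ∀ v w, P.B (γ v) (γ w) = P.B v w := k.B_eq
  have ks : ∀ (c : K) v, γ (c • v) = c • γ v := k.semi
  have h3 : P.B e (γ f) = 1 := by rw [← hf.ef, ← kB e f, h1]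
  obtain ⟨a, c, t, -, h4, -⟩ := C.exists_T_map hf (y := γ f)
    ((h.herm.sing_iff _).2 (by rw [kB, (h.hp_iff.1 hf).2.1])) (by rw [h3]; exact one_ne_zero)
  rw [h3, one_smul] at h4
  have h5 : ∀ v, P.B e v = 0 → γ v = C.act (C.T e a c) v := fun v hv => by
    obtain ⟨l, hl⟩ := Submodule.mem_span_singleton.1 (h2 v hv)
    have h6 : P.B (γ f) (γ v) = P.B (γ f) (C.act (C.T e a c) v) := by rw [kB, ← h4, C.B_act]
    have h7 : P.B (γ f) e = 1 := by rw [← hf.fe, ← kB f e, h1]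
    rw [C.T_perp t hv, ← eq_sub_iff_add_eq'.1 hl] at h6 ⊢
    simp only [map_add, map_smul, h7, smul_eq_mul, mul_one, add_right_inj] at h6
    rw [h6]
  refine ⟨a, c, t, fun v => ?_⟩
  have := h5 (v - P.B e v • f) (by simp [hf.ef])
  rwa [map_sub, map_sub, ks, map_smul, h4, sub_left_inj] at this

theorem SI.span_iff {α : RingAut K} {γ : AV V} (k : SI P α γ) {e : V} (h : γ e ∈ span K {e}) (v : V) :
    γ v ∈ span K {e} ↔ v ∈ span K {e} := by
  obtain ⟨l, hl⟩ := Submodule.mem_span_singleton.1 h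
  refine ⟨fun hv => ?_, fun hv => ?_⟩
  · obtain ⟨c, hc⟩ := Submodule.mem_span_singleton.1 hv
    by_cases h0 : l = 0
    · obtain rfl : e = 0 := γ.map_eq_zero_iff.1 (by rw [← hl, h0, zero_smul])
      rw [smul_zero, eq_comm, γ.map_eq_zero_iff] at hc
      simp [hc]
    refine Submodule.mem_span_singleton.2 ⟨α.symm (c / l), γ.injective ?_⟩
    rw [k.semi, ← hl, ← hc, smul_smul, α.apply_symm_apply, div_mul_cancel₀ _ h0]
  · obtain ⟨c, rfl⟩ := Submodule.mem_span_singleton.1 hv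
    rw [k.semi]
    exact Submodule.smul_mem _ _ h

theorem eq_of_indep {p p' : V} (h0 : p ≠ 0) (h1 : p' ∉ span K {p}) {a b a' b' : K}
    (e : a • p + b • p' = a' • p + b' • p') : a = a' ∧ b = b' := by
  have hb : b = b' := by
    by_contra hc
    refine h1 (Submodule.mem_span_singleton.2 ⟨(b - b')⁻¹ * (a' - a), ?_⟩)
    rw [mul_smul, inv_smul_eq_iff₀ (sub_ne_zero.2 hc), sub_smul, sub_smul, sub_eq_sub_iff_add_eq_add, ← e,
      add_comm]
  subst hb
  exact ⟨smul_left_injective K h0 (add_right_cancel e), rfl⟩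

theorem one_of_odd {W : Subgroup G} (hW : Odd (Nat.card W)) {g : G} (hg : g ∈ W) {k : ℕ} (e : g ^ 2 ^ k = 1) :
    g = 1 :=
  HX.Nrm.eq_one_of_odd (Odd.of_dvd_nat hW (W.orderOf_dvd_natCard hg)) e

namespace Emb

variable (h : Emb C φ) {g : G} {α : RingAut K} {γ : AV V} {e f : V} {U : Submodule K V}
include h

theorem z_add {p : V} {s r : K} (hp : P.B p p = 0) (hs : σ s = s) (hr : σ r = r) :
    z C φ p (s + r) = z C φ p s * z C φ p r := by
  rw [z, z, z, ← map_mul, C.T_mul (h.toMod.tok0 hp hs) (h.toMod.tok0 hp hr)]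
  simp

theorem z_sq {p : V} {s : K} (hp : P.B p p = 0) (hs : σ s = s) : z C φ p s * z C φ p s = 1 := by
  rw [z, ← map_mul, h.toMod.T_sq0 (h.toMod.tok0 hp hs), map_one]

theorem z_smul {p : V} {s : K} (hp : P.B p p = 0) (hs : σ s = s) (l : K) :
    z C φ (l • p) s = z C φ p (σ l * l * s) := by
  rw [z, z, C.T_smul_left (h.toMod.tok0 hp hs), smul_zero, mul_comm l]

theorem z_eq_one {p : V} {s : K} (hp : P.B p p = 0) (hs : σ s = s) :
    z C φ p s = 1 ↔ p = 0 ∨ s = 0 := by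
  have t := h.toMod.tok0 hp hs
  refine ⟨fun e => ?_, ?_⟩
  · by_cases h0 : p = 0
    · exact .inl h0
    have := h.inj_pow (h.toMod.T_four t) (one_pow _) (e.trans (map_one φ).symm)
    obtain ⟨l, h2, h3⟩ := (h.toMod.T_eq_one t h0).1 this
    obtain rfl : l = 0 := by simpa [h0] using h2.symm
    exact .inr (by simpa using h3)
  · rintro (rfl | rfl)
    · rw [z, C.ext (g := C.T 0 0 s) (h := 1) fun v => by rw [h.toMod.T_app t, C.one_apply]; simp, map_one]
    · rw [z, C.T_zero t.sing, map_one]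

theorem x_conj (l : S) {p a : V} {c : K} (k : TOk P p a c) :
    φ l * x C φ p a c * (φ l)⁻¹ = x C φ (C.act l p) (C.act l a) c := by
  rw [x, x, ← map_mul, ← map_inv, ← map_mul, C.T_conj l k]

theorem z_conj (l : S) {p : V} {s : K} (hp : P.B p p = 0) (hs : σ s = s) :
    φ l * z C φ p s * (φ l)⁻¹ = z C φ (C.act l p) s := by
  have := h.x_conj l (h.toMod.tok0 hp hs)
  rwa [map_zero] at this

/-- distinct points have disjoint root groups -/
theorem z_eq_z {p p' : V} {s s' : K} (hp : P.B p p = 0) (hp' : P.B p' p' = 0) (hs : σ s = s)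
    (hs' : σ s' = s') (e1 : z C φ p s = z C φ p' s') (h1 : z C φ p s ≠ 1) : p' ∈ span K {p} := by
  have t := h.toMod.tok0 hp hs
  have t' := h.toMod.tok0 hp' hs'
  obtain ⟨h2, h3⟩ := not_or.1 (mt (h.z_eq_one hp hs).2 h1)
  obtain ⟨f, hf⟩ := h.toMod.exists_hp h2 hp
  have := congrArg (fun u => C.act u f) (h.inj_pow (h.toMod.T_four t) (h.toMod.T_four t') e1)
  simp only [h.toMod.T_app t, h.toMod.T_app t', hf.ef, hs, hs', map_zero, LinearMap.zero_apply, zero_add, mul_one,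
    smul_zero, add_zero, add_right_inj] at this
  have h4 : s' * P.B p' f ≠ 0 := fun e => by simp [e, h2, h3] at this
  exact Submodule.mem_span_singleton.2 ⟨(s' * P.B p' f)⁻¹ * s, by rw [mul_smul, this, inv_smul_smul₀ h4]⟩

theorem x_eq_x {a a' : V} {c c' : K} (h0 : e ≠ 0) (t : TOk P e a c) (t' : TOk P e a' c')
    (e1 : x C φ e a c = x C φ e a' c') : a - a' ∈ span K {e} := by
  obtain ⟨f, hf⟩ := h.toMod.exists_hp h0 (h.toMod.tok.1 t).1
  have := congrArg (fun u => C.act u f) (h.inj_pow (h.toMod.T_four t) (h.toMod.T_four t') e1)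
  simp only [h.toMod.T_app t, h.toMod.T_app t', hf.ef, one_smul, add_assoc, add_right_inj] at this
  refine Submodule.mem_span_singleton.2 ⟨(P.B a' f + σ c' * 1) - (P.B a f + σ c * 1), ?_⟩
  rw [sub_smul, sub_eq_sub_iff_add_eq_add, ← this, add_comm]

theorem z_comm {p p' : V} {s s' : K} (hp : P.B p p = 0) (hp' : P.B p' p' = 0) (hs : σ s = s)
    (hs' : σ s' = s') (e1 : P.B p p' = 0) : Commute (z C φ p s) (z C φ p' s') := by
  have := h.z_conj (C.T p 0 s) hp' hs'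
  rw [C.T_fix (h.toMod.tok0 hp hs) e1 (by simp)] at this
  exact mul_inv_eq_iff_eq_mul.1 this

theorem mem_Z (he : P.B e e = 0) : g ∈ Eg C φ (span K {e}) ↔ ∃ r, σ r = r ∧ g = z C φ e r := by
  refine ⟨?_, fun ⟨r, hr, e1⟩ => ⟨_, (h.toMod.mem_E_pt he).2 ⟨r, hr, rfl⟩, e1.symm⟩⟩
  rintro ⟨s, hs, rfl⟩
  obtain ⟨r, hr, rfl⟩ := (h.toMod.mem_E_pt he).1 hs
  exact ⟨r, hr, rfl⟩

theorem mem_Q (h0 : e ≠ 0) (he : P.B e e = 0) :
    g ∈ Rg C φ (span K {e}) ↔ ∃ a c, TOk P e a c ∧ g = x C φ e a c := by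
  refine ⟨?_, fun ⟨a, c, hr, e1⟩ => ⟨_, (h.toMod.mem_rad_pt h0 he).2 ⟨a, c, hr, rfl⟩, e1.symm⟩⟩
  rintro ⟨s, hs, rfl⟩
  obtain ⟨a, c, hr, rfl⟩ := (h.toMod.mem_rad_pt h0 he).1 hs
  exact ⟨a, c, hr, rfl⟩

theorem X_z (he : P.B e e = 0) : HX.X (fun s : Fx σ => z C φ e s) = Eg C φ (span K {e}) := by
  refine le_antisymm ((closure_le _).2 ?_) fun g hg => ?_
  · rintro _ ⟨s, rfl⟩
    exact (h.mem_Z he).2 ⟨s, s.2, rfl⟩
  · obtain ⟨r, hr, rfl⟩ := (h.mem_Z he).1 hg
    exact subset_closure ⟨⟨r, hr⟩, rfl⟩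

/-- an element which maps a transvection with centre `e` into `Z_e` fixes the point -/
theorem fix_of_z (k : Act C φ g α γ) (he : P.B e e = 0) {s r : K} (hs : σ s = s) (hr : σ r = r)
    (h1 : z C φ e s ≠ 1) (e1 : g * z C φ e s * g⁻¹ = z C φ e r) (v : V) :
    γ v ∈ span K {e} ↔ v ∈ span K {e} := by
  refine k.toSI.span_iff (h.z_eq_z he (by rw [k.B_eq, he, map_zero]) hr
    (by rw [← h.toMod.aut_comm, hs]) (e1.symm.trans (h.act_z k he hs)) ?_) v
  rw [← e1]
  simpa using h1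

theorem z_one_ne (h0 : e ≠ 0) (he : P.B e e = 0) : z C φ e 1 ≠ 1 :=
  mt (h.z_eq_one he (map_one σ)).1 (by simp [h0])

/-- an element which normalises `Z_e` fixes the point -/
theorem fix_of_mem (k : Act C φ g α γ) (h0 : e ≠ 0) (he : P.B e e = 0)
    (e1 : g * z C φ e 1 * g⁻¹ ∈ Eg C φ (span K {e})) (v : V) : γ v ∈ span K {e} ↔ v ∈ span K {e} := by
  obtain ⟨r, hr, e2⟩ := (h.mem_Z he).1 e1
  exact h.fix_of_z k he (map_one σ) hr (h.z_one_ne h0 he) e2 v

theorem cV (h0 : e ≠ 0) (he : P.B e e = 0) (hg : g ∈ normalizer (φ.range : Set G))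
    (hc : ∀ q ∈ Rg C φ (span K {e}), g * q * g⁻¹ * q⁻¹ ∈ Eg C φ (span K {e})) :
    ∃ q ∈ Rg C φ (span K {e}), ∃ c ∈ centralizer (φ.range : Set G), g = q * c := by
  obtain ⟨α, γ, k⟩ := h.exists_act hg
  have zm : z C φ e 1 ∈ Eg C φ (span K {e}) := (h.mem_Z he).2 ⟨1, map_one σ, rfl⟩
  obtain ⟨l, hl⟩ := Submodule.mem_span_singleton.1 ((h.fix_of_mem k h0 he ((mul_mem_cancel_right (inv_mem zm)).1
    (hc _ ((h.mem_Q h0 he).2 ⟨0, 1, h.toMod.tok0 he (map_one σ), rfl⟩))) e).2 (Submodule.mem_span_singleton_self e))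
  have h1 : ∀ a, P.B e a = 0 → σ l • γ a - a ∈ span K {e} := fun a ha => by
    obtain ⟨c, t⟩ := h.toMod.exists_tok he ha
    obtain ⟨r, hr, e1⟩ := (h.mem_Z he).1 (hc _ ((h.mem_Q h0 he).2 ⟨a, c, t, rfl⟩))
    obtain ⟨t1, e2⟩ := h.act_x k t
    obtain ⟨b1, b2, b3⟩ := h.toMod.tok.1 t1
    have l0 : l ≠ 0 := fun e => h0 (γ.map_eq_zero_iff.1 (by rw [← hl, e, zero_smul]))
    have t2 : TOk P e (γ a) (α c) := h.toMod.tok.2 ⟨he, by
      rw [← hl, P.B_smul_left] at b2
      exact (mul_eq_zero.1 b2).resolve_left ((map_ne_zero σ).2 l0), b3⟩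
    have t0 := h.toMod.tok0 he hr
    rw [e2, mul_inv_eq_iff_eq_mul, ← hl, x, C.T_smul_left t2, z, x, ← map_mul, C.T_mul t0 t] at e1
    have t3 := t2.smul (σ l)
    rw [P.σσ] at t3
    simpa using h.x_eq_x h0 t3 (t0.add t) e1
  obtain ⟨f, hf⟩ := h.toMod.exists_hp h0 he
  obtain ⟨e', f', hh⟩ := h.toMod.exists_hh hf
  have bl : ∀ {u}, u ∈ span K {e} → P.B u f' = 0 := fun hu => by
    obtain ⟨c, rfl⟩ := Submodule.mem_span_singleton.1 hu
    rw [P.B_smul_left, hh.ef, mul_zero]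
  obtain rfl : α = 1 := RingEquiv.ext fun c => by
    have a1 := bl (h1 (c • e') (by simp [hh.ee]))
    have a2 := bl (Submodule.smul_mem _ (α c) (h1 e' hh.ee))
    rw [k.semi, smul_comm] at a1
    rw [smul_sub] at a2
    rw [P.B_sub_left, sub_eq_zero] at a1 a2
    rw [a1, P.B_smul_left, P.B_smul_left, hh.h₂.ef, mul_one, mul_one] at a2
    exact (σ.injective a2).symm
  have h2 : σ (σ l) * σ l = 1 := by
    obtain ⟨a, ha⟩ := Submodule.mem_span_singleton.1 (h1 e' hh.ee)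
    obtain ⟨b, hb⟩ := Submodule.mem_span_singleton.1 (h1 f' hh.ef)
    have : P.B (σ l • γ e') (σ l • γ f') = 1 := by
      rw [← eq_sub_iff_add_eq.1 ha, ← eq_sub_iff_add_eq.1 hb]
      simp [he, hh.ef, hh.h₂.ef, P.B_eq_zero_comm.1 hh.ee]
    rwa [P.B_smul_left, P.B_smul_right, k.B_eq, hh.h₂.ef, map_one, mul_one] at this
  obtain ⟨γ', k', h3⟩ := h.act_smul k h2
  obtain ⟨a, c, t, h4⟩ := h.toMod.exists_T_of k'.toSI h0 he
    (by rw [h3, ← hl, smul_smul, mul_comm, ← P.σσ l, P.σσ (σ l), h2, one_smul]) fun a ha => by rw [h3]; exact h1 a ha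
  exact ⟨_, (h.mem_Q h0 he).2 ⟨a, c, t, rfl⟩, _, h.cent_of_act k' (μ := 1) fun v => by rw [one_smul, h4],
    (mul_inv_cancel_left _ _).symm⟩

theorem cQ (h0 : e ≠ 0) (he : P.B e e = 0) (hg : g ∈ normalizer (φ.range : Set G))
    (hc : g ∈ centralizer (Rg C φ (span K {e}) : Set G)) :
    ∃ r, σ r = r ∧ ∃ c ∈ centralizer (φ.range : Set G), g = z C φ e r * c := by
  obtain ⟨q, hq, c, hc', rfl⟩ := h.cV h0 he hg fun q hq => by
    rw [← hc q hq, mul_inv_cancel_right, mul_inv_cancel]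
    exact one_mem _
  obtain ⟨a, d, t, rfl⟩ := (h.mem_Q h0 he).1 hq
  have h1 : ∀ b, P.B e b = 0 → P.B b a = P.B a b := fun b hb => by
    obtain ⟨c', t'⟩ := h.toMod.exists_tok he hb
    have c1 : Commute (x C φ e a d * c) (x C φ e b c') := (hc _ ((h.mem_Q h0 he).2 ⟨b, c', t', rfl⟩)).symm
    have c2 : Commute c (x C φ e b c') := (hc' _ ⟨_, rfl⟩).symm
    have c3 := h.comm_T (s := C.T e a d) t' (by simpa [x] using c1.mul_left c2.inv_left)
    have c4 := C.T_commutator t t'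
    rw [commutatorElement_eq_one_iff_commute.2 c3, eq_comm, h.toMod.T_eq_one (h.toMod.tok0 he (by
      rw [map_sub, h.toMod.conj, h.toMod.conj, ← neg_sub, neg_eq_iff_add_eq_zero, h.toMod.add_self])) h0] at c4
    obtain ⟨l, h2, h3⟩ := c4
    obtain rfl : l = 0 := by simpa [h0] using h2.symm
    simpa [sub_eq_zero] using h3
  have h2 : C.T e a d ∈ C.fixG (P.perp (span K {e})) := fun b hb => by
    have hb := P.mem_perp_span_singleton.1 hb
    obtain ⟨θ, hθ⟩ := h.herm.exists_ne_conj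
    have := h1 (θ • b) (by simp [hb])
    rw [P.B_smul_left, P.B_smul_right, h1 b hb] at this
    change C.act _ b = b
    rw [C.T_perp t hb, (mul_eq_mul_right_iff.1 this).resolve_left hθ, zero_smul, add_zero]
  obtain ⟨r, hr, e1⟩ := (h.mem_Z he).1 ⟨_, h2, rfl⟩
  exact ⟨r, hr, c, hc', by rw [← e1]; rfl⟩

theorem cR (hU : TI P U) (h2 : 2 ≤ finrank K U) (hg : g ∈ normalizer (φ.range : Set G))
    (hc : g ∈ centralizer (Rg C φ U : Set G)) :
    ∃ q ∈ Eg C φ U, ∃ c ∈ centralizer (φ.range : Set G), g = q * c := by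
  obtain ⟨α, γ, k⟩ := h.exists_act hg
  have iso : ∀ p ∈ U, P.B p p = 0 := fun p hp => hU hp p hp
  have cx : ∀ {p a c}, TOk P p a c → p ∈ U → a ∈ P.perp U → g * x C φ p a c * g⁻¹ = x C φ p a c :=
    fun t hp ha => by rw [x, ← hc _ ⟨_, h.toMod.T_mem_rad hU t hp ha, rfl⟩, mul_inv_cancel_right]
  have cz : ∀ p ∈ U, g * z C φ p 1 * g⁻¹ = z C φ p 1 := fun p hp =>
    cx (h.toMod.tok0 (iso p hp) (map_one σ)) hp (zero_mem _)
  have h1 : ∀ p ∈ U, ∃ l : K, l • p = γ p := fun p hp => by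
    by_cases h0 : p = 0
    · exact ⟨0, by simp [h0]⟩
    exact Submodule.mem_span_singleton.1 ((h.fix_of_z k (iso p hp) (map_one σ) (map_one σ)
      (h.z_one_ne h0 (iso p hp)) (cz p hp) p).2 (Submodule.mem_span_singleton_self p))
  obtain ⟨p, hp, h0⟩ := (Submodule.ne_bot_iff U).1 fun e => by rw [e, finrank_bot] at h2; omega
  obtain ⟨p', hp', h0'⟩ : ∃ p' ∈ U, p' ∉ span K {p} := by
    by_contra hc
    push Not at hc
    have := Submodule.finrank_mono (show U ≤ span K {p} from hc)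
    rw [finrank_span_singleton h0] at this
    omega
  obtain ⟨l, hl⟩ := h1 p hp
  have h3 : ∀ u ∈ U, u ∉ span K {p} → γ u = l • u ∧ ∀ c, α c * l = l * c := fun u hu hu' => by
    obtain ⟨l', hl'⟩ := h1 u hu
    have : ∀ c, α c * l' = l * c := fun c => by
      obtain ⟨m, hm⟩ := h1 (p + c • u) (add_mem hp (U.smul_mem c hu))
      rw [map_add, k.semi, ← hl, ← hl', smul_add, smul_smul, smul_smul] at hm
      obtain ⟨rfl, e⟩ := eq_of_indep h0 hu' hm
      exact e.symm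
    obtain rfl : l' = l := by simpa using this 1
    exact ⟨hl'.symm, this⟩
  have l0 : l ≠ 0 := fun e => h0 (γ.map_eq_zero_iff.1 (by rw [← hl, e, zero_smul]))
  obtain rfl : α = 1 := RingEquiv.ext fun c => mul_right_cancel₀ l0 (((h3 p' hp' h0').2 c).trans (mul_comm _ _))
  have h4 : ∀ u ∈ U, γ u = l • u := fun u hu => by
    by_cases c : u ∈ span K {p}
    · obtain ⟨c, rfl⟩ := Submodule.mem_span_singleton.1 c
      rw [k.semi, ← hl, smul_comm]; rfl
    · exact (h3 u hu c).1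
  have h5 : σ l * l = 1 := by
    have a := cz p hp
    have n : σ (σ l * l * 1) = σ l * l * 1 := by rw [mul_one, map_mul, P.σσ, mul_comm]
    rw [h.act_z k (iso p hp) (map_one σ), ← hl, map_one, h.z_smul (iso p hp) (map_one σ)] at a
    have b := h.z_add (iso p hp) n (map_one σ)
    rw [a, h.z_sq (iso p hp) (map_one σ), h.z_eq_one (iso p hp) (by rw [map_add, n, map_one])] at b
    have := b.resolve_left h0
    rw [mul_one, ← h.toMod.add_self 1] at this
    exact add_right_cancel this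
  obtain ⟨γ', k', h6⟩ := h.act_smul k (μ := σ l) (by rw [P.σσ, mul_comm, h5])
  have h7 : ∀ u ∈ U, γ' u = u := fun u hu => by rw [h6, h4 u hu, smul_smul, h5, one_smul]
  have h8 : ∀ a ∈ P.perp U, γ' a = a := fun a ha => by
    have : ∀ u ∈ U, u ≠ 0 → γ' a - a ∈ span K {u} := fun u hu u0 => by
      obtain ⟨c, t⟩ := h.toMod.exists_tok (iso u hu) (ha u hu)
      obtain ⟨t1, e1⟩ := h.act_x k' t
      rw [h7 u hu] at t1 e1
      exact h.x_eq_x u0 t1 t (e1.symm.trans (cx t hu ha))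
    obtain ⟨c, e1⟩ := Submodule.mem_span_singleton.1 (this p hp h0)
    obtain ⟨c', e2⟩ := Submodule.mem_span_singleton.1 (this p' hp' fun e => h0' (by simp [e]))
    obtain ⟨rfl, -⟩ := eq_of_indep h0 h0' (a := c) (b := 0) (a' := 0) (b' := c') (by simp [e1, e2])
    exact (sub_eq_zero.1 (by rw [← e1, zero_smul]))
  have h9 : ∀ v, γ' (γ' v) = v := fun v => by
    have : γ' v - v ∈ U := by
      rw [← P.perp_perp C.nondeg U]
      intro u hu
      rw [P.B_sub_right, sub_eq_zero]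
      nth_rw 1 [← h8 u hu]
      exact k'.B_eq u v
    have := h7 _ this
    rw [map_sub, sub_eq_iff_eq_add, sub_add_eq_add_sub, h.toMod.vadd_self, zero_sub] at this
    rw [this, neg_eq_iff_add_eq_zero, h.toMod.vadd_self]
  obtain ⟨s, a1, a2⟩ := h.lin_det k' (h.toMod.eq_one_of_sq (by
    rw [← map_mul, show k'.semi.lin.toLinearMap * k'.semi.lin.toLinearMap = 1 from LinearMap.ext h9, map_one]))
  exact ⟨_, ⟨s, fun v hv => (a1 v).trans (h8 v hv), rfl⟩, _, a2, (mul_inv_cancel_left _ _).symm⟩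

theorem conj_Eg (k : Act C φ g α γ) (he : P.B e e = 0) :
    MulAut.conj g • Eg C φ (span K {e}) = Eg C φ (span K {γ e}) := by
  have he' : P.B (γ e) (γ e) = 0 := by rw [k.B_eq, he, map_zero]
  refine le_antisymm ?_ fun u hu => ?_
  · rintro _ ⟨u, hu, rfl⟩
    obtain ⟨r, hr, rfl⟩ := (h.mem_Z he).1 hu
    exact (h.mem_Z he').2 ⟨α r, by rw [← h.toMod.aut_comm, hr], h.act_z k he hr⟩
  · obtain ⟨r, hr, rfl⟩ := (h.mem_Z he').1 hu
    obtain ⟨r, rfl⟩ := α.surjective r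
    rw [← h.toMod.aut_comm] at hr
    exact ⟨_, (h.mem_Z he).2 ⟨r, α.injective hr, rfl⟩, h.act_z k he (α.injective hr)⟩

/-- a 2-subgroup of `N(L)` fixes an isotropic point -/
theorem fix_pt {H : Subgroup G} (h2 : IsPGroup 2 H) (hH : H ≤ normalizer (φ.range : Set G)) :
    ∃ p, p ≠ 0 ∧ P.B p p = 0 ∧ H ≤ normalizer (Eg C φ (span K {p}) : Set G) := by
  let Ω := {Z : Subgroup G // ∃ p, p ≠ 0 ∧ P.B p p = 0 ∧ Z = Eg C φ (span K {p})}
  let _ : MulAction (normalizer (φ.range : Set G)) Ω :=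
    { smul := fun g Z => ⟨MulAut.conj (g : G) • Z.1, by
        obtain ⟨p, h0, hp, e⟩ := Z.2
        obtain ⟨α, γ, k⟩ := h.exists_act g.2
        exact ⟨γ p, γ.map_ne_zero_iff.2 h0, by rw [k.B_eq, hp, map_zero], by rw [e, h.conj_Eg k hp]⟩⟩
      one_smul := fun Z => Subtype.ext (by
        change MulAut.conj (1 : G) • Z.1 = Z.1
        rw [map_one, one_smul])
      mul_smul := fun a b Z => Subtype.ext (by
        change MulAut.conj (a * b : G) • Z.1 = MulAut.conj (a : G) • MulAut.conj (b : G) • Z.1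
        rw [map_mul, mul_smul]) }
  have nm : ∀ (g : normalizer (φ.range : Set G)) (Z : Ω), g • Z = Z ↔ (g : G) ∈ normalizer (Z.1 : Set G) :=
    fun g Z => Subtype.ext_iff.trans (by
      change MulAut.conj (g : G) • Z.1 = Z.1 ↔ _
      rw [mem_normalizer_iff_map_conj_eq]; rfl)
  obtain ⟨e, f, hf⟩ := h.toMod.exists_pair
  have he := (h.toMod.hp_iff.1 hf).1
  have h0 := hp_ne hf
  have hQ : IsPGroup 2 ((Rg C φ (span K {e})).subgroupOf (normalizer (φ.range : Set G))) :=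
    ((h.toMod.rad_two (ti_span.2 (by simpa using he))).map φ).comap_subtype
  have h3 := hQ.card_modEq_card_fixedPoints Ω
  rw [show Nat.card (MulAction.fixedPoints
    ((Rg C φ (span K {e})).subgroupOf (normalizer (φ.range : Set G))) Ω) = 1 from Nat.card_eq_one_iff_exists.2
    ⟨⟨⟨_, e, h0, he, rfl⟩, fun g => (nm _ _).2 ?_⟩, fun Z => ?_⟩] at h3
  · obtain ⟨⟨_, p, a1, a2, rfl⟩, hZ⟩ := (h2.comap_subtype (K := normalizer (φ.range : Set G))
      ).nonempty_fixed_point_of_prime_not_dvd_card Ω (by unfold Nat.ModEq at h3; omega)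
    exact ⟨p, a1, a2, fun g hg => (nm ⟨g, hH hg⟩ _).1 (hZ ⟨⟨g, hH hg⟩, hg⟩)⟩
  · obtain ⟨s, hs, e1⟩ := g.2
    rw [show (g.1 : G) = φ s from e1.symm]
    exact (h.act_norm (h.act_self s) (fix_le_stb _ (rad_le_fix _ hs))).2.2
  · obtain ⟨⟨_, p, a1, a2, rfl⟩, hZ⟩ := Z
    have : p ∈ span K {e} := h.toMod.rad_fix_pt h0 he fun s hs => by
      have m := (nm ⟨φ s, le_normalizer ⟨s, rfl⟩⟩ _).1 (hZ ⟨_, s, hs, rfl⟩)
      exact (h.fix_of_mem (h.act_self s) a1 a2 ((mem_normalizer_iff.1 m _).1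
        ((h.mem_Z a2).2 ⟨1, map_one σ, rfl⟩)) p).2 (Submodule.mem_span_singleton_self p)
    refine Subtype.ext (Subtype.ext ?_)
    obtain ⟨c, rfl⟩ := Submodule.mem_span_singleton.1 this
    change Eg C φ _ = Eg C φ _
    rw [Submodule.span_singleton_smul_eq (IsUnit.mk0 c (left_ne_zero_of_smul a1))]

theorem zc {H : Subgroup G} (h2 : IsPGroup 2 H) (hH : H ≤ normalizer (φ.range : Set G))
    (he : P.B e e = 0) (hZ : H ≤ normalizer (Eg C φ (span K {e}) : Set G)) :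
    ∃ (A : Type) (_ : Group A) (_ : IsCyclic A) (χ : H →* A),
      (∀ g, χ g = 1 → (g : G) ∈ centralizer (Eg C φ (span K {e}) : Set G)) ∧
      ∀ g, g * g = 1 → χ g = 1 := by
  obtain ⟨ty, hty⟩ := h.exists_ty
  let τ : RingAut K := RingEquiv.ofRingHom σ σ (RingHom.ext P.σσ) (RingHom.ext P.σσ)
  have := h.toMod.aut_cyc
  have : (zpowers τ).Normal := ⟨fun a ha b => by
    rwa [(IsCyclic.isMulCommutative (α := RingAut K)).is_comm.comm b a, mul_inv_cancel_right]⟩
  refine ⟨RingAut K ⧸ zpowers τ, inferInstance, isCyclic_of_surjective _ (QuotientGroup.mk'_surjective _),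
    (QuotientGroup.mk' _).comp (ty.comp (inclusion hH)), fun g hg u hu => ?_, fun g hg => ?_⟩
  · obtain ⟨r, hr, rfl⟩ := (h.mem_Z he).1 hu
    by_cases h0 : e = 0
    · rw [(h.z_eq_one he hr).2 (.inl h0), one_mul, mul_one]
    obtain ⟨α, γ, k⟩ := h.exists_act (hH g.2)
    have h1 : α ∈ zpowers τ := hty ⟨g, hH g.2⟩ α γ k ▸ (QuotientGroup.eq_one_iff _).1 hg
    have h3 : ∀ c, σ c = c → α c = c := fun c hc =>
      (zpowers_le.2 (show τ ∈ MulAction.stabilizer (RingAut K) c from hc)) h1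
    obtain ⟨l, hl⟩ := Submodule.mem_span_singleton.1 ((h.fix_of_mem k h0 he ((mem_normalizer_iff.1 (hZ g.2) _).1
      ((h.mem_Z he).2 ⟨1, map_one σ, rfl⟩)) e).2 (Submodule.mem_span_singleton_self e))
    have n : σ (σ l * l) = σ l * l := by rw [map_mul, P.σσ, mul_comm]
    have h4 : ∀ c, σ c = c → g * z C φ e c * (g : G)⁻¹ = z C φ e (σ l * l * c) := fun c hc => by
      rw [h.act_z k he hc, ← hl, h3 c hc, h.z_smul he hc]
    have h5 : ∀ m : ℕ, (g : G) ^ m * z C φ e 1 * ((g : G) ^ m)⁻¹ = z C φ e ((σ l * l) ^ m) := fun m => by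
      induction m with
      | zero => simp
      | succ m ih =>
        rw [pow_succ' (σ l * l), ← h4 _ (by rw [map_pow, n]), ← ih, pow_succ']
        group
    obtain ⟨j, hj⟩ := h2 g
    have h6 := h5 (2 ^ j)
    rw [show (g : G) ^ 2 ^ j = 1 from congrArg Subtype.val hj, one_mul, inv_one, mul_one] at h6
    have b := h.z_add he (s := (σ l * l) ^ 2 ^ j) (by rw [map_pow, n]) (map_one σ)
    rw [← h6, h.z_sq he (map_one σ), h.z_eq_one he (by rw [map_add, map_pow, n, map_one])] at b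
    have h7 : ∀ (j : ℕ) (c : K), c ^ 2 ^ j = 1 → c = 1 := fun j => by
      induction j with
      | zero => simp
      | succ j ih => exact fun c hc => ih c (h.toMod.eq_one_of_sq (by rw [← pow_two, ← pow_mul, ← pow_succ, hc]))
    have h8 := h7 j _ (add_right_cancel ((b.resolve_left h0).trans (h.toMod.add_self 1).symm))
    have := h4 r hr
    rw [h8, one_mul] at this
    exact (mul_inv_eq_iff_eq_mul.1 this).symm
  · refine (QuotientGroup.eq_one_iff _).2 ?_
    rcases h.toMod.aut_sq (α := ty (inclusion hH g)) (by rw [← map_mul, ← map_mul, hg, map_one, map_one]) with e | e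
    · exact e ▸ one_mem _
    · exact (RingEquiv.ext e : ty (inclusion hH g) = τ) ▸ mem_zpowers τ

/-- an odd subgroup of `N(L)` normalised by `Z_e` and `x e a 0` centralises them -/
theorem cent_odd_sub {W : Subgroup G} (hW : Odd (Nat.card W)) (h1 : W ≤ normalizer (φ.range : Set G))
    {a : V} (h0 : e ≠ 0) (he : P.B e e = 0) (ha : P.B a a = 0) (hea : P.B e a = 0)
    (h2 : a ∉ span K {e}) (h3 : ∀ d, σ d = d → x C φ e a d ∈ normalizer (W : Set G)) {d : K}
    (hd : σ d = d) : W ≤ centralizer {x C φ e a d} := by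
  intro v hv
  obtain ⟨α, γ, k⟩ := h.exists_act (h1 hv)
  have o := map_one σ
  have zN : z C φ e 1 ∈ normalizer (W : Set G) := by
    have := mul_mem (h3 1 o) (h3 0 (map_zero σ))
    rw [x, x, ← map_mul, C.T_mul (h.toMod.tok1 he ha hea o) (h.toMod.tok1 he ha hea (map_zero σ)),
      h.toMod.vadd_self, ha, add_zero, add_zero] at this
    exact this
  have hp : P.B (γ e) (γ e) = 0 := by rw [k.B_eq, he, map_zero]
  have e1 := h.act_z k he o
  rw [map_one] at e1
  have kW : z C φ e 1 * z C φ (γ e) 1 ∈ W := by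
    have := mul_mem ((mem_normalizer_iff.1 zN _).1 hv) (inv_mem hv)
    rwa [inv_eq_of_mul_eq_one_right (h.z_sq he o), mul_assoc, mul_assoc, ← mul_assoc v, e1] at this
  have inv2 : ∀ {p p'}, P.B p p = 0 → P.B p' p' = 0 → P.B p p' = 0 → z C φ p 1 * z C φ p' 1 ∈ W →
      z C φ p 1 = z C φ p' 1 := fun {p p'} a1 a2 a3 a4 => by
    have := one_of_odd hW a4 (k := 1) (by
      rw [pow_one, (h.z_comm a1 a2 o o a3).mul_pow, pow_two, pow_two, h.z_sq a1 o, h.z_sq a2 o, one_mul])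
    rw [← inv_eq_of_mul_eq_one_right this, inv_eq_of_mul_eq_one_right (h.z_sq a1 o)]
  have e2 : P.B e (γ e) = 0 := by
    by_contra hb
    generalize γ e = p at hp kW hb
    have hb' : P.B p e ≠ 0 := mt P.B_eq_zero_comm.1 hb
    obtain ⟨t1, t2, t3⟩ := h.toMod.T_shift (h.toMod.tok1 he ha hea (map_zero σ)) (-(P.B p a / P.B p e))
    set a' := a + -(P.B p a / P.B p e) • e with ha'
    have b1 : P.B p a' = 0 := by simp [ha', hb']
    have b2 : P.B a' a' = 0 := by simpa using (h.toMod.tok.1 t1).2.2.symm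
    have uN : φ (C.T e a' 0) ∈ normalizer (W : Set G) := by
      rw [t3]
      exact h3 _ (by rw [zero_add, map_add, P.σσ, add_comm])
    have up : C.act (C.T e a' 0) p = p + P.B e p • a' := by
      rw [h.toMod.T_app t1, P.B_eq_zero_comm.1 b1]; simp
    have b3 : P.B (p + P.B e p • a') (p + P.B e p • a') = 0 := by rw [← up, C.B_act, hp]
    have k2 := (mem_normalizer_iff.1 uN _).1 kW
    rw [← conj_mul, h.z_conj _ he o, h.z_conj _ hp o, C.T_self t1, up] at k2
    have k3 := mul_mem (inv_mem kW) k2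
    rw [mul_inv_rev, mul_assoc, inv_mul_cancel_left, inv_eq_of_mul_eq_one_right (h.z_sq hp o)] at k3
    have p0 : p ≠ 0 := fun e => hb (by simp [e])
    have k4 := h.z_eq_z hp b3 o o (inv2 hp b3 (by simp [hp, b1]) k3) (h.z_one_ne p0 hp)
    rw [Submodule.add_mem_iff_right _ (Submodule.mem_span_singleton_self p), Submodule.smul_mem_iff _ hb] at k4
    obtain ⟨m, hm⟩ := Submodule.mem_span_singleton.1 k4
    have b4 := t1.perp
    rw [← hm, P.B_smul_right] at b4
    rw [(mul_eq_zero.1 b4).resolve_right hb, zero_smul, ha', eq_comm, add_eq_zero_iff_eq_neg] at hm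
    exact h2 (hm ▸ neg_mem (Submodule.smul_mem _ _ (Submodule.mem_span_singleton_self e)))
  have nQ := (h.act_norm k (h.fix_of_z k he o o (h.z_one_ne h0 he) (e1.trans (inv2 he hp e2 kW).symm))).2.1
  have xQ : x C φ e a d ∈ Rg C φ (span K {e}) := (h.mem_Q h0 he).2 ⟨a, d, h.toMod.tok1 he ha hea hd, rfl⟩
  have m1 := mul_mem ((mem_normalizer_iff.1 nQ _).1 xQ) (inv_mem xQ)
  have m2 := mul_mem hv ((mem_normalizer_iff.1 (h3 d hd) _).1 (inv_mem hv))
  rw [← mul_assoc, ← mul_assoc] at m2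
  obtain ⟨j, hj⟩ := (h.toMod.rad_two (U := span K {e}) (ti_span.2 (by simpa using he))).map φ ⟨_, m1⟩
  have := one_of_odd hW m2 (k := j) (congrArg Subtype.val hj)
  exact mem_centralizer_singleton_iff.2 (mul_inv_eq_iff_eq_mul.1 (mul_inv_eq_one.1 this))

end Emb

end CfsgLib.U5
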