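import Cfsg.Agent.Lib.HX.Red
import Cfsg.Agent.Lib.LieMult.SUMult

/-!
# Standard components of unitary type in characteristic two: definitions
-/

set_option autoImplicit false

namespace CfsgLib.U5

open Subgroup Module CfsgLib.Forms CfsgLib.LieMult
open CfsgLib.HX (Std CO Two Mv Tr Heis NF Fus4 Has4 M2)
open Submodule (span)

universe u

variable {K : Type} [Field K] {σ : K →+* K} {V : Type} [AddCommGroup V] [Module K V]

/-- the fixed field -/
abbrev Fx (σ : K →+* K) : Subfield K := RingHom.eqLocusField σ (RingHom.id K)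

/-- `q = 2` -/
def Small (σ : K →+* K) : Prop := ∀ c, σ c = c → c = 0 ∨ c = 1

/-- additive bijections -/
abbrev AV (V : Type) [AddCommGroup V] : Type := V ≃ₗ[ℤ] V

/-- a semilinear bijection -/
def Semi (α : RingAut K) (γ : AV V) : Prop := ∀ (c : K) (v : V), γ (c • v) = α c • γ v

/-- a semilinear isometry -/
structure SI (P : PQ σ V) (α : RingAut K) (γ : AV V) : Prop where
  semi : Semi α γ
  B_eq : ∀ v w, P.B (γ v) (γ w) = α (P.B v w)

/-- a `σ`-semilinear isometric involution -/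
structure Gr (P : PQ σ V) (α : RingAut K) (γ : AV V) : Prop extends SI P α γ where
  eq : ∀ c, α c = σ c
  sq : ∀ v, γ (γ v) = v

/-- a totally isotropic subspace -/
def TI (P : PQ σ V) (U : Submodule K V) : Prop := U ≤ P.perp U

/-- two orthogonal hyperbolic pairs -/
structure HH (P : PQ σ V) (e f e' f' : V) : Prop where
  h₁ : HP P e f
  h₂ : HP P e' f'
  ee : P.B e e' = 0
  ef : P.B e f' = 0
  fe : P.B f e' = 0
  ff : P.B f f' = 0

/-- a basis with antidiagonal Gram matrix -/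
def Bas (P : PQ σ V) {m : ℕ} (b : Basis (Fin m) K V) : Prop :=
  ∀ i j, P.B (b i) (b j) = if j = i.rev then 1 else 0

/-- the endomorphisms which lower the flag of the basis `b` by `h` steps -/
def Nh {m : ℕ} (b : Basis (Fin m) K V) (h : ℕ) : Submodule K (V →ₗ[K] V) where
  carrier := {n | ∀ i j : Fin m, (j : ℕ) < i + h → b.repr (n (b j)) i = 0}
  zero_mem' i j _ := by simp
  add_mem' h1 h2 i j k := by simp [h1 i j k, h2 i j k]
  smul_mem' c n h1 i j k := by simp [h1 i j k]

variable (K V) in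
/-- the special linear group -/
noncomputable abbrev SLV : Subgroup (V ≃ₗ[K] V) := (LinearEquiv.det : (V ≃ₗ[K] V) →* Kˣ).ker

variable {P : PQ σ V} {S : Type} [Group S] {G : Type u} [Group G]

/-- `S = SU(V)`, with the facts taken from the matrix model -/
structure Mod (C : CG P S) : Prop where
  herm : P.IsHerm
  two : (2 : K) = 0
  full : C.Full
  det : ∀ s, LinearMap.det (C.act s).toLinearMap = 1
  d4 : 4 ≤ finrank K V
  d5 : finrank K V = 5
  gen : ∀ H : Subgroup S, (∀ p s, P.B p p = 0 → σ s = s → C.T p 0 s ∈ H) → H = ⊤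
  simp : ∀ N : Subgroup S, N.Normal → N ≤ center S ∨ N = ⊤
  aut : ∀ θ : MulAut (S ⧸ center S), ∃ α γ, SI P α γ ∧
    ∀ s s' : S, (∀ v, C.act s' (γ v) = γ (C.act s v)) → θ s = s'
  mult : ∀ (Γ : Type) [Group Γ] [Finite Γ] (π : Γ →* S), Cfsg.IsStemExtension π → π.ker = ⊥
  card : ∃ N, (Nat.card S : ℤ) ∣ (Nat.card (Fx σ) : ℤ) ^ N *
    ∏ i ∈ Finset.Icc 1 (finrank K V), ((Nat.card (Fx σ) : ℤ) ^ i - (-1) ^ i)

section
variable (C : CG P S)

/-- the elements acting trivially on `U` and on `U^⊥ / U` -/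
def Rad (U : Submodule K V) : Subgroup S where
  carrier := {s | (∀ v ∈ U, C.act s v = v) ∧ ∀ v ∈ P.perp U, C.act s v - v ∈ U}
  one_mem' := ⟨fun v _ => C.one_apply v, fun v _ => by rw [C.one_apply, sub_self]; exact U.zero_mem⟩
  mul_mem' := by
    rintro a b ⟨a1, a2⟩ ⟨b1, b2⟩
    refine ⟨fun v hv => by rw [C.mul_apply, b1 v hv, a1 v hv], fun v hv => ?_⟩
    have := U.add_mem (b2 v hv) (a2 v hv)
    rwa [← a1 _ (b2 v hv), map_sub, ← C.mul_apply, sub_add_sub_cancel] at this
  inv_mem' := by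
    rintro a ⟨a1, a2⟩
    refine ⟨fun v hv => C.inv_apply_eq (a1 v hv), fun v hv => ?_⟩
    have := U.neg_mem (a2 v hv)
    rwa [← C.inv_apply_eq (a1 _ this), neg_sub, map_sub, C.inv_apply] at this

/-- the stabiliser of a subspace -/
def Stb (U : Submodule K V) : Subgroup S where
  carrier := {s | ∀ v, C.act s v ∈ U ↔ v ∈ U}
  one_mem' v := by rw [C.one_apply]
  mul_mem' h1 h2 v := by rw [C.mul_apply, h1, h2]
  inv_mem' {a} h v := by rw [← h, C.apply_inv]

/-- the elements acting trivially on the layers of a flag -/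
def Uni (M : ℕ → Submodule K V) : Subgroup S where
  carrier := {s | ∀ i, (∀ v, C.act s v ∈ M i ↔ v ∈ M i) ∧ ∀ v ∈ M (i + 1), C.act s v - v ∈ M i}
  one_mem' i := ⟨fun v => by rw [C.one_apply], fun v _ => by
    rw [C.one_apply, sub_self]; exact zero_mem _⟩
  mul_mem' {a b} h1 h2 i := ⟨fun v => by rw [C.mul_apply, (h1 i).1, (h2 i).1], fun v hv => by
    have := add_mem (((h1 i).1 _).2 ((h2 i).2 v hv)) ((h1 i).2 v hv)
    rwa [map_sub, ← C.mul_apply, sub_add_sub_cancel] at this⟩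
  inv_mem' {a} h i := ⟨fun v => by rw [← (h i).1, C.apply_inv], fun v hv => by
    rw [← (h i).1, map_sub, C.apply_inv, ← neg_sub]; exact neg_mem ((h i).2 v hv)⟩

/-- the flag of a basis -/
def flag {m : ℕ} (b : Basis (Fin m) K V) (i : ℕ) : Submodule K V :=
  span K (b '' {j | (j : ℕ) < i})

/-- the Sylow subgroup of a basis -/
def Ub {m : ℕ} (b : Basis (Fin m) K V) : Subgroup S := Uni C (flag b)

/-- the elements commuting with `γ` -/
def Cg (γ : AV V) : Subgroup S where
  carrier := {s | ∀ v, C.act s (γ v) = γ (C.act s v)}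
  one_mem' v := by rw [C.one_apply, C.one_apply]
  mul_mem' h1 h2 v := by rw [C.mul_apply, C.mul_apply, h2, h1]
  inv_mem' {a} h v := C.inv_apply_eq (by rw [h, C.apply_inv])

/-- `s - 1` -/
def nu (s : S) : V →ₗ[K] V := (C.act s).toLinearMap - LinearMap.id

variable (φ : S →* G)

/-- Eichler elements -/
def x (e a : V) (c : K) : G := φ (C.T e a c)

/-- transvections -/
def z (p : V) (s : K) : G := φ (C.T p 0 s)

/-- the pointwise stabiliser -/
def Yg (U : Submodule K V) : Subgroup G := (C.fixG U).map φ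

/-- the radical -/
def Rg (U : Submodule K V) : Subgroup G := (Rad C U).map φ

/-- the centre of the radical -/
def Eg (U : Submodule K V) : Subgroup G := (C.fixG (P.perp U)).map φ

/-- `g` acts as the semilinear isometry `γ` -/
structure Act (g : G) (α : RingAut K) (γ : AV V) : Prop extends SI P α γ where
  conj : ∀ s s', (∀ v, C.act s' (γ v) = γ (C.act s v)) → g * φ s * g⁻¹ = φ s'

/-- a central quotient of `S` inside `G` -/
structure Emb : Prop extends Mod C where
  ker : φ.ker ≤ center S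

/-- the situation of the theorem -/
structure Sit (t : G) : Prop extends Emb C φ, Std φ.range t

/-- no conjugate of `t` lies in `t Z^#` or `Z` -/
def NFU (t : G) : Prop := ∀ g p r, P.B p p = 0 → σ r = r →
  (g * t * g⁻¹ = t * z C φ p r → z C φ p r = 1) ∧ g * t * g⁻¹ ≠ z C φ p r

/-- involutions which move `t` inside `t Z_p` -/
structure Pre (t : G) : Prop extends Sit C φ t where
  two' : Two φ.range t
  inv : ∀ p s, P.B p p = 0 → σ s = s →
    ∃ g, Mv φ.range (Yg C φ (span K {p})) t (z C φ p s) g ∧ g * g = 1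
  com : ∀ p p' s s' g g', P.B p p = 0 → P.B p' p' = 0 → P.B p p' = 0 → σ s = s → σ s' = s' →
    z C φ p s ≠ 1 → z C φ p' s' ≠ 1 → Mv φ.range (Yg C φ (span K {p})) t (z C φ p s) g →
    Mv φ.range (Yg C φ (span K {p'})) t (z C φ p' s') g' → g * g = 1 → g' * g' = 1 → Commute g g'

/-- the hats of the transvections -/
structure Hats (t : G) (y : V → K → G) : Prop extends Sit C φ t where
  two' : Two φ.range t
  add : ∀ p s r, P.B p p = 0 → σ s = s → σ r = r → y p (s + r) = y p s * y p r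
  smul : ∀ p s l, P.B p p = 0 → σ s = s → y (l • p) s = y p (σ l * l * s)
  eqv : ∀ l p s, P.B p p = 0 → σ s = s → φ l * y p s * (φ l)⁻¹ = y (C.act l p) s
  mv : ∀ p s, P.B p p = 0 → σ s = s → Mv φ.range (Yg C φ (span K {p})) t (z C φ p s) (y p s)
  com : ∀ p p' s s', P.B p p = 0 → P.B p' p' = 0 → P.B p p' = 0 → σ s = s → σ s' = s' →
    Commute (y p s) (y p' s')

/-- the hat of `x e a 0` -/
def w (y : V → K → G) (e a : V) : G := y (a + e) 1 * y a 1 * y e 1

/-- the hat of `Z_p` -/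
def Zh (y : V → K → G) (p : V) : Subgroup G :=
  closure {g | ∃ s, σ s = s ∧ (g = z C φ p s ∨ g = y p s)}

/-- the group generated by `L` and the hats -/
def G0 (_ : CG P S) (φ : S →* G) (y : V → K → G) : Subgroup G :=
  φ.range ⊔ closure {g | ∃ p s, P.B p p = 0 ∧ σ s = s ∧ g = y p s}

/-- the hats on totally isotropic subspaces -/
structure HL (t : G) (y : V → K → G) : Prop extends Hats C φ t y where
  wadd : ∀ e a b, P.B e e = 0 → P.B a a = 0 → P.B b b = 0 → P.B e a = 0 → P.B e b = 0 →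
    P.B a b = 0 → w y e (a + b) = w y e a * w y e b
  wsmul : ∀ e a l, P.B e e = 0 → P.B a a = 0 → P.B e a = 0 → w y (l • e) a = w y e (σ l • a)

/-- the hat of the radical `Q_e`; `y` is the multiplication by a root of `X ^ 2 + X + c` -/
structure HQ (t : G) (y : V → K → G) (c : K) : Prop extends HL C φ t y where
  cF : σ c = c
  ww : ∀ e a b, P.B e e = 0 → P.B a a = 0 → P.B b b = 0 → P.B e a = 0 → P.B e b = 0 →
    w y e a * w y e b * w y e a * w y e b =
      y e (P.B a b + P.B b a) * z C φ e (c * (P.B a b + P.B b a))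
  wadd' : ∀ e a b, P.B e e = 0 → P.B a a = 0 → P.B b b = 0 → P.B e a = 0 → P.B e b = 0 →
    P.B a b = P.B b a → w y e (a + b) = w y e a * w y e b * y e (P.B a b) * z C φ e (c * P.B a b)
  yw : ∀ e a b s, P.B e e = 0 → P.B a a = 0 → P.B b b = 0 → P.B e a = 0 → P.B e b = 0 → σ s = s →
    ∃ g ∈ Zh C φ y e, y a s * w y e b * y a s =
      w y e b * w y e ((s * P.B a b) • a) * x C φ e ((c * s * P.B a b) • a) 0 * g

/-- field case: the transvections `τ p r : v ↦ v + B r v • p` of `SL(V)` -/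
structure Tau (t : G) (y : V → K → G) (c : K) (τ : V → V → G) : Prop extends HQ C φ t y c where
  mem : ∀ p r, P.B p p = 0 → P.B p r = 0 → τ p r ∈ G0 C φ y
  tadd : ∀ p r r', P.B p p = 0 → P.B p r = 0 → P.B p r' = 0 → τ p (r + r') = τ p r * τ p r'
  tsq : ∀ p r, P.B p p = 0 → P.B p r = 0 → τ p r * τ p r = 1
  tsmul : ∀ p r l, P.B p p = 0 → P.B p r = 0 → τ (l • p) r = τ p (σ l • r)
  tt : ∀ p r, P.B p p = 0 → P.B r r = 0 → P.B p r = 0 → t * τ p r * t = τ r p
  nat : ∀ a b p r, P.B a a = 0 → P.B p p = 0 → P.B a p = 0 → P.B a b = 0 → P.B p b = 0 →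
    P.B p r = 0 → τ a b * τ p r * τ a b = τ p (r + P.B a r • b)
  nat' : ∀ a b p r, P.B a a = 0 → P.B p p = 0 → P.B a p = 0 → P.B a b = 0 → P.B p b = 0 →
    P.B p r = 0 → t * τ a b * t * τ p r * (t * τ a b * t) = τ p (r + P.B b r • a)
  ext : ∀ p a d, TOk P p a d → x C φ p a d = τ p a * (t * τ p a * t) * τ p (σ d • p)
  hy : ∀ p s, P.B p p = 0 → σ s = s → ∃ l : K, y p s = τ p (l • p)

/-- field case -/
structure DblF (t : G) (y : V → K → G) (c : K) (ψ : SLV K V →* G) : Prop extends HQ C φ t y c where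
  kerψ : ψ.ker ≤ center (SLV K V)
  ext : ∀ (s : S) (g : SLV K V), (g : V ≃ₗ[K] V) = C.act s → ψ g = φ s
  tc : ∀ g g' : SLV K V, (∀ v v', P.B (g.1 v) (g'.1 v') = P.B v v') → t * ψ g * t⁻¹ = ψ g'
  eqG : ψ.range = G0 C φ y

/-- product case -/
structure DblP (t : G) (y : V → K → G) (c : K) (φ₁ φ₂ : S →* G) : Prop extends HQ C φ t y c where
  ker₁ : φ₁.ker ≤ center S
  ker₂ : φ₂.ker ≤ center S
  c12 : ∀ s s', Commute (φ₁ s) (φ₂ s')
  ext : ∀ s, φ s = φ₁ s * φ₂ s
  tc : ∀ s, t * φ₁ s * t⁻¹ = φ₂ s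
  eqG : φ₁.range ⊔ φ₂.range = G0 C φ y

end

/-- `g` acts on `ψ(SL(V))` as the semilinear map `γ` -/
structure ActL (ψ : SLV K V →* G) (g : G) (α : RingAut K) (γ : AV V) : Prop where
  semi : Semi α γ
  conj : ∀ s s' : SLV K V, (∀ v, s'.1 (γ v) = γ (s.1 v)) → g * ψ s * g⁻¹ = ψ s'

/-- the group generated by the elements of odd order of `H` -/
def Od (H : Subgroup G) : Subgroup G := closure {o | o ∈ H ∧ Odd (orderOf o)}

/-- the group generated by the involutions of `Od H` -/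
def Od2 (H : Subgroup G) : Subgroup G := closure {g | g * g = 1 ∧ g ∈ Od H}

/-- a group acting faithfully on a symmetric bilinear space and containing the transvections -/
structure SymD {F W H : Type} [Field F] [AddCommGroup W] [Module F W] [Group H]
    (β : LinearMap.BilinForm F W) (ρ : H →* (W ≃ₗ[F] W)) (τ : W → H) : Prop where
  two : (2 : F) = 0
  symm : ∀ v w, β v w = β w v
  nd : ∀ v, (∀ w, β v w = 0) → v = 0
  inj : Function.Injective ρ
  tau : ∀ a, β a a = 0 → ∀ v, ρ (τ a) v = v + β a v • a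
  d4 : 4 ≤ finrank F W
  d5 : finrank F W = 5

/-- the elements of `SL(V)` which are trivial modulo `Nh b h` -/
noncomputable def Mh {m : ℕ} (b : Basis (Fin m) K V) (h : ℕ) : Subgroup (SLV K V) :=
  closure {g | g.1.toLinearMap - LinearMap.id ∈ Nh b h}

/-- type-free data: `E` is the centre of the radical `R` -/
structure TD (H R E : Subgroup G) (t : G) : Prop extends Std H t where
  two' : Two H t
  ER : E ≤ R
  RH : R ≤ H
  sq : ∀ e ∈ E, e * e = 1
  cen : E ≤ centralizer (R : Set G)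
  EC : ∀ e ∈ E, e ∈ centralizer (H : Set G) → e = 1
  cR : ∀ g, g * t = t * g → g ∈ centralizer (R : Set G) →
    ∃ e ∈ E, ∃ c ∈ centralizer (H : Set G), g = e * c

/-- type-free data of a long root group (`HX.LR` without the perfectness of `Y`) -/
structure LR {F : Type} [Field F] {W : Type} [AddCommGroup W] [Module F W] (H Y Q : Subgroup G) (t : G)
    (z : F → G) (π : G → W) (f : LinearMap.BilinForm F W) : Prop extends Heis Q z π f, Std H t where
  QY : Q ≤ Y
  YH : Y ≤ H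
  Yz : ∀ y ∈ Y, ∀ s, y * z s = z s * y
  YQ : Y ≤ normalizer (Q : Set G)
  dim : ∀ v : W, ∃ w, ∀ s : F, w ≠ s • v
  zC : ∀ s, z s ∈ centralizer (H : Set G) → s = 0
  perf : ∀ M : Subgroup G, (∀ k ∈ H, (∀ s, k * z s = z s * k) → ∀ y ∈ Y, k * y * k⁻¹ * y⁻¹ ∈ M) → Y ≤ M
  qy : Q ≤ ⁅Q, Y⁆
  cQY : ∀ y ∈ Y, y ∈ centralizer (Q : Set G) → ∃ s, y = z s
  cQ : ∀ g, g * t = t * g → g ∈ centralizer (Q : Set G) →
    ∃ s, ∃ c ∈ centralizer (H : Set G), g = z s * c
  nQ : ∀ g, g * t = t * g → (∀ s, g * z s = z s * g) → g ∈ normalizer (Q : Set G)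
  cV : ∀ g, g * t = t * g → (∀ s, g * z s = z s * g) → (∀ x ∈ Q, π (g * x * g⁻¹) = π x) →
    ∃ x ∈ Q, ∃ c ∈ centralizer (H : Set G), g = x * c
  tor : ∀ l : F, l ≠ 0 → ∃ h ∈ H, h ∈ normalizer (Y : Set G) ∧ h ∈ normalizer (Q : Set G) ∧
    (∀ x ∈ Q, π (h * x * h⁻¹) = l • π x) ∧ ∀ s, h * z s * h⁻¹ = z (l * l * s)

end CfsgLib.U5
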