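import Cfsg.Agent.Lib.U5.Rad
import Cfsg.Agent.Lib.ClAut.MainSU

/-! Central extensions of the unitary group -/

set_option autoImplicit false
set_option linter.unusedSectionVars false

namespace CfsgLib.U5

open Subgroup Module CfsgLib.Forms CfsgLib.LieMult
open CfsgLib.HX (Std CO Two Mv Tr Heis NF Fus4 Has4 M2)
open Submodule (span)
open scoped commutatorElement Pointwise

universe u

variable {K : Type} [Field K] [Finite K] {σ : K →+* K} {V : Type} [AddCommGroup V] [Module K V]
  [FiniteDimensional K V] {P : PQ σ V} {S : Type} [Group S] [Finite S] {G : Type u} [Group G]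
  [Finite G] {C : CG P S} {φ : S →* G} {t : G}

theorem Mod.isPerfect (h : Mod C) : Group.IsPerfect S := ⟨top_le_iff.1 h.perf⟩

theorem Mod.lift (h : Mod C) {X Y : Type*} [Group X] [Group Y] (π : S →* Y) {ξ : X →* Y}
    (hs : Function.Surjective ξ) (hk : ξ.ker ≤ center X) : ∃ η : S →* X, ξ.comp η = π :=
  have := h.isPerfect
  Schur.exists_lift_of_trivial_mult (Schur.trivial_mult_iff.2 h.mult) π ⟨hs, hk⟩

theorem Mod.split (h : Mod C) (π : G →* S) (hs : Function.Surjective π) (hk : π.ker ≤ center G) :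
    ∃ ι : S →* G, ∀ s, π (ι s) = s :=
  (h.lift (MonoidHom.id S) hs hk).imp fun _ k => DFunLike.congr_fun k

theorem Mod.exists_emb (h : Mod C) {L : Subgroup G} (hp : commutator L = ⊤) (π : L →* S ⧸ center S)
    (hs : Function.Surjective π) (hk : π.ker ≤ center L) : ∃ φ : S →* G, Emb C φ ∧ φ.range = L := by
  obtain ⟨η, hη⟩ := h.lift (QuotientGroup.mk' (center S)) hs hk
  have h1 := Schur.surjective_of_lift (QuotientGroup.mk'_surjective _) ⟨hs, hk, hp ▸ le_top⟩ η hη
  refine ⟨L.subtype.comp η, ⟨h, fun s k => ?_⟩, ?_⟩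
  · have := DFunLike.congr_fun hη s
    rw [MonoidHom.comp_apply, show η s = 1 from Subtype.ext k, map_one] at this
    exact (QuotientGroup.eq_one_iff s).1 this.symm
  · rw [MonoidHom.range_comp, MonoidHom.range_eq_top.2 h1, ← MonoidHom.range_eq_map, range_subtype]

theorem mod_SU {K : Type} [Field K] [Fintype K] {n m : ℕ} (hn : 1 ≤ n)
    (hK : Fintype.card K = (2 ^ n) ^ 2) (h5 : m = 5) :
    Mod (cgSU hK m) := by
  have h4 : 4 ≤ m := by omega
  have hd : finrank K (Fin m → K) = m := by simp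
  have hq : 2 ≤ 2 ^ n := Unitary.two_le_q hK
  have two : (2 : K) = 0 := by
    have := Unitary.natCast_q hK
    rw [Nat.cast_pow] at this
    exact_mod_cast pow_eq_zero_iff (by omega) |>.1 this
  have neg : ∀ c : K, c + c = 0 := fun c => by rw [← two_mul, two, zero_mul]
  have hc : Nat.card (Fx (Unitary.conj hK)) = 2 ^ n := Unitary.card_fixed hK
  refine ⟨uPQ_isHerm hK m, two, exists_su hK m, su_det m, hd.symm ▸ h4, hd.trans h5, fun H k => ?_,
    fun N _ => Unitary.su_le_center_or_eq_top hK (by omega) (by omega) N, fun θ => ?_,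
    Schur.trivial_mult_iff.1 (trivial_mult_SU hK (by omega) (by omega) ?_), m * (m - 1) / 2, ?_⟩
  · refine Unitary.eq_top_of_transSU_mem hK (.inl h4) H fun v hv c hc _ => ?_
    have e : c ^ 2 ^ n = c := by linear_combination hc - neg c
    have h1 : TOk (uPQ hK m) v 0 c := (tok_iff (uPQ_isHerm hK m)).2
      ⟨hv, by simp, by simpa [Unitary.conj_apply] using hc⟩
    convert k v c hv e
    refine (cgSU hK m).ext fun x => ((Unitary.trans_mulVec v x c).trans ?_).trans
      ((cgSU hK m).T_apply h1 x).symm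
    simp [tfun, uPQ_B, Unitary.conj_apply, show c ^ 2 ^ n = -c by linear_combination hc]
  · obtain ⟨x, rfl⟩ := ClAut.psuInd_surjective hK (n := m) (by omega) (by omega) θ
    refine ⟨x.1.right, (ClAut.gamEquiv x.1).toIntLinearEquiv, ⟨ClAut.gamAct_smul x.1, fun v w => x.2 w v⟩,
      fun s s' k => ClAut.gamInd_mk x (Units.ext (matrix_ext_mulVec fun v => ?_))⟩
    obtain ⟨v, rfl⟩ := ClAut.gamAct_surjective x.1 v
    rw [ClAut.gamAut_mulVec]
    exact k v
  · simp only [Set.mem_insert_iff, Set.mem_singleton_iff, Prod.mk.injEq, not_or, not_and]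
    omega
  · have h1 := congrArg (Nat.cast : ℕ → ℤ) (Unitary.card_SU hK (n := m) (by omega))
    rw [hc, hd, ← Finset.Ico_add_one_right_eq_Icc, Finset.prod_Ico_eq_prod_range, add_tsub_cancel_right]
    refine Dvd.intro_left ((2 ^ n + 1 : ℕ) : ℤ) ?_
    rw [← Nat.cast_mul, h1, Nat.cast_mul, Nat.cast_pow, Nat.cast_prod]
    refine congrArg _ (Finset.prod_congr rfl fun i _ => ?_)
    rw [add_comm 1 i]
    split_ifs with k
    · rw [k.add_one.neg_one_pow]; push_cast; ring
    · rw [Nat.cast_sub (Nat.one_le_pow _ _ (by omega)), ((Nat.not_even_iff_odd.1 k).add_one).neg_one_pow]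
      push_cast; ring

end CfsgLib.U5
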