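import Cfsg.Agent.Lib.U5.Main
import Cfsg.Agent.Lib.U5.Lift
import Cfsg.Agent.Lib.StdW.Pair

/-! The theorems for the unitary groups -/

set_option autoImplicit false
set_option linter.unusedSectionVars false

namespace CfsgLib.U5

open Subgroup Module CfsgLib.Forms CfsgLib.LieMult
open CfsgLib.HX (Std CO Two Mv Tr Heis NF Fus4 Has4 M2)
open Submodule (span)
open scoped commutatorElement Pointwise

universe u

variable {K : Type} [Field K] [Finite K] {σ : K →+* K} {V : Type} [AddCommGroup V] [Module K V]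
  [FiniteDimensional K V] {P : PQ σ V} {S : Type} [Group S] [Finite S] {G : Type u} [Group G]
  [Finite G] {C : CG P S} {φ : S →* G} {t : G}

open Cfsg

theorem equiv_PSL {ψ : SLV K V →* G} (hk : ψ.ker ≤ center (SLV K V)) (hs : IsSimpleGroup ψ.range)
    (hc : ψ.range ≤ ⁅ψ.range, ψ.range⁆) :
    Nonempty (ψ.range ≃* Matrix.ProjectiveSpecialLinearGroup (Fin (finrank K V)) K) := by
  obtain ⟨e⟩ := exists_equiv_SLV (K := K) (V := V)
  have h1 : ψ.ker = center (SLV K V) := by
    refine hk.antisymm fun s k => ?_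
    have h2 : ψ.rangeRestrict s ∈ center ψ.range := mem_center_iff.2 fun y => by
      obtain ⟨y, rfl⟩ := ψ.rangeRestrict_surjective y
      rw [← map_mul, ← map_mul, mem_center_iff.1 k]
    rcases (inferInstance : (center ψ.range).Normal).eq_bot_or_eq_top with e1 | e1
    · exact congrArg Subtype.val (mem_bot.1 (e1.le h2))
    · obtain ⟨y, hy⟩ := exists_ne (1 : ψ.range)
      refine (hy (Subtype.ext (mem_bot.1 ((hc.trans (commutator_le.2 fun a ha b hb => mem_bot.2 ?_)) y.2)))).elim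
      exact commutatorElement_eq_one_iff_mul_comm.2
        (congrArg Subtype.val (mem_center_iff.1 (e1.ge (mem_top ⟨b, hb⟩)) ⟨a, ha⟩))
  exact ⟨(QuotientGroup.quotientKerEquivRange ψ).symm.trans
    ((QuotientGroup.quotientMulEquivOfEq h1).trans (Classical.centerQuotEquiv e))⟩

theorem Emb.has4 (h : Emb C φ) : Has4 φ.range := by
  obtain ⟨e, -, f, -, hf⟩ := h.toMod.exists_hp_perp (U := ⊥) disjoint_bot_left
    (by have := h.d4; rw [finrank_bot]; omega)
  obtain ⟨e', f', k⟩ := h.toMod.exists_hh hf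
  have he := hf.se.self_eq
  have he' := k.h₂.se.self_eq
  have h1 : z C φ e 1 ≠ 1 := fun k1 => ((h.z_eq_one he (map_one σ)).1 k1).elim
    (fun k2 => by simpa [k2] using hf.ef) one_ne_zero
  refine ⟨z C φ e 1, ⟨_, rfl⟩, z C φ e' 1, ⟨_, rfl⟩, h.z_sq he (map_one σ), h.z_sq he' (map_one σ),
    ?_, h1, fun k1 => ((h.z_eq_one he' (map_one σ)).1 k1).elim
      (fun k2 => by simpa [k2] using k.h₂.ef) one_ne_zero, fun k1 => ?_⟩
  · have := h.z_conj (C.T e 0 1) he' (map_one σ)
    rw [C.T_fix (h.toMod.tok0 he (map_one σ)) k.ee (by simp)] at this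
    exact mul_inv_eq_iff_eq_mul.1 this
  · obtain ⟨l, hl⟩ := Submodule.mem_span_singleton.1 (h.z_eq_z he he' (map_one σ) (map_one σ) k1 h1)
    have := k.h₂.ef
    rw [← hl, P.B_smul_left, k.ef, mul_zero] at this
    exact zero_ne_one this

theorem exists_GF (F : Type*) [Field F] [Fintype F] {n : ℕ} (hn : 1 ≤ n)
    (hF : Fintype.card F = (2 ^ n) ^ 2) : ∃ (K : Type) (_ : Field K) (_ : Fintype K),
      Fintype.card K = (2 ^ n) ^ 2 ∧ Nonempty (F ≃+* K) := by
  have hc : Nat.card (GaloisField 2 (n * 2)) = 2 ^ (n * 2) := GaloisField.card 2 _ (by omega)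
  have := Fintype.ofFinite (GaloisField 2 (n * 2))
  rw [Nat.card_eq_fintype_card, pow_mul] at hc
  exact ⟨_, _, this, hc, ⟨FiniteField.ringEquivOfCardEq (hF.trans hc.symm)⟩⟩

theorem std_U5 (hF : IsSimpleGroup (generalizedFittingSubgroup G))
    (hF' : ¬ IsMulCommutative (generalizedFittingSubgroup G)) {L : Subgroup G}
    (hL : IsStandardSubgroup L)
    (hR : ∀ R : Sylow 2 (centralizer (L : Set G)), IsCyclic (R : Subgroup (centralizer (L : Set G))))
    {m n : ℕ} (hm : m = 5) (hn : 1 ≤ n) {F : Type*} [Field F] [Fintype F]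
    (hFq : Fintype.card F = (2 ^ n) ^ 2) (e : (L ⧸ oddCore L) ≃* PSU m F (2 ^ n)) :
    ∃ (K : Type) (_ : Field K) (_ : Fintype K), Fintype.card K = (2 ^ n) ^ 2 ∧
      Nonempty (generalizedFittingSubgroup G ≃* Matrix.ProjectiveSpecialLinearGroup (Fin m) K) := by
  obtain ⟨K, _, _, hK, ⟨f⟩⟩ := exists_GF F hn hFq
  have h := mod_SU (m := m) hn hK hm
  let π := (e.trans (Unitary.psuMapEquiv f)).toMonoidHom.comp (QuotientGroup.mk' (oddCore L))
  have hs := (e.trans (Unitary.psuMapEquiv f)).surjective.comp (QuotientGroup.mk'_surjective _)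
  have := Unitary.isSimpleGroup_PSU (n := m) hK (by omega) (by omega)
  obtain ⟨φ, h1, rfl⟩ := h.exists_emb hL.1.1.commutator_eq_top π hs
    ((Comp.qs_normal hL.1 _ inferInstance).resolve_left fun k => by
      obtain ⟨y, hy⟩ := exists_ne (1 : PSU m K (2 ^ n))
      obtain ⟨y, rfl⟩ := hs y
      exact hy (k.ge (mem_top y)))
  obtain ⟨t, ht⟩ := HX.exists_std hL hR
  have hn' := Comp.fstar_normal (G := G)
  have hb : centralizer (generalizedFittingSubgroup G : Set G) = ⊥ := by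
    rcases ((inferInstance : (centralizer (generalizedFittingSubgroup G : Set G)).Normal).subgroupOf
      (generalizedFittingSubgroup G)).eq_bot_or_eq_top with k | k
    · exact (subgroupOf_eq_bot.1 k).eq_bot_of_le Comp.centralizer_fstar_le
    · exact absurd ⟨⟨fun x y => Subtype.ext (subgroupOf_eq_top.1 k y.2 x x.2)⟩⟩ hF'
  have g := HX.RedAux.glob_sub hn' hF hF' hb ht.t2
  have hLF := StdW.le_fstar hF hF' hL
  have hG := hLF.trans (le_sup_left (b := zpowers t))
  let φ₀ := φ.codRestrict _ fun s => hG ⟨s, rfl⟩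
  have e0 : φ₀.range = φ.range.subgroupOf _ :=
    Subgroup.ext fun y => ⟨fun ⟨s, k⟩ => ⟨s, congrArg Subtype.val k⟩, fun ⟨s, k⟩ => ⟨s, Subtype.ext k⟩⟩
  obtain ⟨-, ψ, h5, h6⟩ := Sit.main (φ := φ₀) ⟨⟨h, fun s k => h1.ker (congrArg Subtype.val k)⟩,
    e0.symm ▸ HX.RedAux.std_sub ht hG (mem_sup_right (mem_zpowers t))⟩ g (e0.le.trans (comap_mono hLF))
  obtain ⟨k⟩ := finrank_fin_fun K (n := m) ▸ equiv_PSL h5 (h6 ▸ g.simple) (h6 ▸ g.perf)
  exact ⟨K, _, _, hK, ⟨(subgroupOfEquivOfLe le_sup_left).symm.trans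
    ((MulEquiv.subgroupCongr h6.symm).trans k)⟩⟩

end CfsgLib.U5
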