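import Cfsg.Agent.Lib.U5.Rad

/-! Dimension five -/

set_option autoImplicit false
set_option linter.unusedSectionVars false

namespace CfsgLib.U5

open Subgroup Module CfsgLib.Forms CfsgLib.LieMult
open CfsgLib.HX (Std CO Two Mv Tr Heis NF Fus4 Has4 M2)
open Submodule (span)
open scoped commutatorElement Pointwise

universe u

variable {K : Type} [Field K] [Finite K] {σ : K →+* K} {V : Type} [AddCommGroup V] [Module K V]
  [FiniteDimensional K V] {P : PQ σ V} {S : Type} [Group S] [Finite S] {G : Type u} [Group G]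
  [Finite G] {C : CG P S} {φ : S →* G} {t : G}

namespace Mod

variable (h : Mod C) {e f e' f' n : V}
include h

theorem exists_n (k : HH P e f e' f') : ∃ n, P.B n n = 1 ∧ P.B e n = 0 ∧ P.B f n = 0 ∧ P.B e' n = 0 ∧
    P.B f' n = 0 ∧ ∀ v, P.B e v = 0 → P.B f v = 0 → P.B e' v = 0 → P.B f' v = 0 → v = P.B n v • n := by
  have hle : span K {e', f'} ≤ P.perp (span K {e, f}) := Submodule.span_le.2 (by
    rintro x (rfl | rfl)
    exacts [CG.mem_perp_pair.2 ⟨k.ee, k.fe⟩, CG.mem_perp_pair.2 ⟨k.ef, k.ff⟩])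
  have hd := P.disjoint_perp_sup (h.hp_disj k.h₁) (h.hp_disj k.h₂) hle
  have a1 := Submodule.finrank_sup_add_finrank_inf_eq (span K {e, f}) (span K {e', f'})
  rw [((h.hp_disj k.h₁).mono_right hle).eq_bot, finrank_bot, h.hp_rank k.h₁, h.hp_rank k.h₂] at a1
  have a2 := P.finrank_perp C.nondeg (span K {e, f} ⊔ span K {e', f'})
  rw [h.d5] at a2
  have hm : ∀ v, v ∈ P.perp (span K {e, f} ⊔ span K {e', f'}) ↔
      (P.B e v = 0 ∧ P.B f v = 0) ∧ P.B e' v = 0 ∧ P.B f' v = 0 := fun v => by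
    rw [P.perp_sup, Submodule.mem_inf, CG.mem_perp_pair, CG.mem_perp_pair]
  obtain ⟨⟨u, hu⟩, u0, a3⟩ := finrank_eq_one_iff'.1
    (show finrank K (P.perp (span K {e, f} ⊔ span K {e', f'})) = 1 by omega)
  have a4 : ∀ v ∈ P.perp (span K {e, f} ⊔ span K {e', f'}), ∃ c : K, c • u = v := fun v hv => by
    obtain ⟨c, hc⟩ := a3 ⟨v, hv⟩
    exact ⟨c, congrArg Subtype.val hc⟩
  have uu : P.B u u ≠ 0 := fun uu => u0 (Subtype.ext (P.disjoint_perp_iff.1
    (P.disjoint_perp_perp C.nondeg hd) u hu fun y hy => by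
      obtain ⟨c, rfl⟩ := a4 y hy
      rw [P.B_smul_right, uu, mul_zero]))
  obtain ⟨μ, hμ⟩ := h.herm.norm_surj (P.B u u)⁻¹ (by rw [map_inv₀, h.conj])
  have nn : P.B (μ • u) (μ • u) = 1 := by
    rw [P.B_smul_left, P.B_smul_right, ← mul_assoc, hμ, inv_mul_cancel₀ uu]
  have μ0 : μ ≠ 0 := by rintro rfl; simp at nn
  obtain ⟨⟨b1, b2⟩, b3, b4⟩ := (hm _).1 (Submodule.smul_mem _ μ hu)
  refine ⟨μ • u, nn, b1, b2, b3, b4, fun v c1 c2 c3 c4 => ?_⟩
  obtain ⟨c, rfl⟩ := a4 v ((hm v).2 ⟨⟨c1, c2⟩, c3, c4⟩)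
  rw [show c • u = (c / μ) • μ • u by rw [smul_smul, div_mul_cancel₀ _ μ0], P.B_smul_right, nn, mul_one]

theorem exists_diag5 (k : HP P e f) (nn : P.B n n = 1) (en : P.B e n = 0) (fn : P.B f n = 0) {l : K}
    (h0 : l ≠ 0) : ∃ s, Odd (orderOf s) ∧ C.act s e = l • e ∧ C.act s f = (σ l)⁻¹ • f ∧
      C.act s n = (σ l / l) • n ∧ ∀ v, P.B e v = 0 → P.B f v = 0 → P.B n v = 0 → C.act s v = v := by
  have s0 := (map_ne_zero σ).2 h0
  have d1 := P.dil_isIso k.se k.sf k.fe h0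
  have d2 := h.herm.qrefl_isIso n (σ l / l - 1) (by
    rw [nn, map_sub, map_div₀, h.σσ, map_one]
    field_simp
    ring)
  obtain ⟨s, hs⟩ := h.full (P.dil e f l ∘ₗ P.qrefl n (σ l / l - 1)) (d1.comp d2) (by
    rw [LinearMap.det_comp, P.det_dil k.sf k.fe, P.det_qrefl, nn]
    field_simp
    ring)
  simp only [LinearMap.comp_apply, P.dil_apply, P.qrefl_apply, C.ε1, mul_one, map_add, map_smul] at hs
  have a1 : C.act s e = l • e := by
    rw [hs]
    simp only [k.fe, k.se.self_eq, h.B_comm en, en, fn]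
    module
  have a2 : C.act s f = (σ l)⁻¹ • f := by
    rw [hs]
    simp only [k.ef, k.sf.self_eq, h.B_comm fn, en, fn]
    module
  have a3 : C.act s n = (σ l / l) • n := by
    rw [hs]
    simp only [nn, en, fn]
    module
  have a5 : ∀ v, P.B e v = 0 → P.B f v = 0 → P.B n v = 0 → C.act s v = v :=
    fun v b1 b2 b3 => by rw [hs]; simp [b1, b2, b3]
  refine ⟨s, h.odd_of_diag fun v => ?_, a1, a2, a3, a5⟩
  obtain ⟨w, b1, b2, b5⟩ := h.hp_decomp k v
  rw [b5, ← sub_add_cancel w (P.B n w • n)]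
  refine add_mem (add_mem (add_mem ?_ ?_) ?_) ?_
  · exact Submodule.subset_span ⟨1, by
      rw [a5 _ (by simp [b1, en]) (by simp [b2, fn]) (by simp [nn]), one_smul]⟩
  exacts [Submodule.smul_mem _ _ (Submodule.subset_span ⟨_, a3⟩),
    Submodule.smul_mem _ _ (Submodule.subset_span ⟨_, a1⟩),
    Submodule.smul_mem _ _ (Submodule.subset_span ⟨_, a2⟩)]

theorem exists_scal5 (nn : P.B n n = 1) {μ : K} (hμ : σ μ * μ = 1) : ∃ s, Odd (orderOf s) ∧
    C.act s n = (μ ^ 4)⁻¹ • n ∧ ∀ v, P.B n v = 0 → C.act s v = μ • v := by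
  have μ0 : μ ≠ 0 := by rintro rfl; simp at hμ
  have a0 : σ (μ ^ 5)⁻¹ * (μ ^ 5)⁻¹ = 1 := by
    rw [map_inv₀, map_pow, ← mul_inv, ← mul_pow, hμ, one_pow, inv_one]
  have d2 := h.herm.qrefl_isIso n ((μ ^ 5)⁻¹ - 1) (by
    rw [nn, map_sub, map_one]
    linear_combination a0)
  obtain ⟨s, hs⟩ := h.full (μ • P.qrefl n ((μ ^ 5)⁻¹ - 1)) (isIso_smul h.herm hμ d2) (by
    rw [LinearMap.det_smul, h.d5, P.det_qrefl, nn]
    field_simp
    ring)
  simp only [LinearMap.smul_apply, P.qrefl_apply] at hs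
  have a3 : C.act s n = (μ ^ 4)⁻¹ • n := by
    rw [hs, nn]
    match_scalars
    field_simp
    ring
  have a5 : ∀ v, P.B n v = 0 → C.act s v = μ • v := fun v b => by rw [hs, b]; simp
  refine ⟨s, h.odd_of_diag fun v => ?_, a3, a5⟩
  rw [← sub_add_cancel v (P.B n v • n)]
  exact add_mem (Submodule.subset_span ⟨μ, a5 _ (by simp [nn])⟩)
    (Submodule.smul_mem _ _ (Submodule.subset_span ⟨_, a3⟩))

theorem mem_fix_pair {g : S} : g ∈ C.fixG (span K {e, f}) ↔ C.act g e = e ∧ C.act g f = f :=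
  ⟨fun H => ⟨H e (Submodule.subset_span (by simp)), H f (Submodule.subset_span (by simp))⟩,
    fun H v hv => by
      obtain ⟨x, y, rfl⟩ := Submodule.mem_span_pair.1 hv
      rw [map_add, map_smul, map_smul, H.1, H.2]⟩

theorem dec5 (k : HH P e f e' f') (en : P.B e n = 0) (fn : P.B f n = 0) (en' : P.B e' n = 0)
    (fn' : P.B f' n = 0)
    (hn : ∀ v, P.B e v = 0 → P.B f v = 0 → P.B e' v = 0 → P.B f' v = 0 → v = P.B n v • n) (v : V) :
    v = P.B n v • n + P.B f v • e + P.B e v • f + P.B f' v • e' + P.B e' v • f' := by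
  obtain ⟨w, b1, b2, b3, b4, b5⟩ := h.hh_decomp k v
  have a : P.B n v = P.B n w := by
    conv_lhs => rw [b5]
    simp [h.B_comm en, h.B_comm fn, h.B_comm en', h.B_comm fn']
  rw [a, ← hn w b1 b2 b3 b4]
  exact b5

theorem T_mem_of {H : Subgroup S} {a : V} {c d : K} (hZ : ∀ r, σ r = r → C.T e 0 r ∈ H)
    (k : TOk P e a c) (k' : TOk P e a d) (m : C.T e a d ∈ H) : C.T e a c ∈ H := by
  have hr : σ (c + d) = c + d := by
    rw [map_add]; linear_combination k.trace C - k'.trace C + (σ d - c) * h.two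
  have := mul_mem (hZ _ hr) m
  rwa [C.T_mul (h.tok0 k.sing.self_eq hr) k', zero_add, map_zero, add_zero, add_assoc, h.add_self,
    add_zero] at this

theorem rad_le_of (h0 : e ≠ 0) (he : P.B e e = 0) {H : Subgroup S}
    (hA : ∀ a, P.B a a = 0 → P.B e a = 0 → a ∉ span K {e} → ∀ l : K, C.T e (l • a) 0 ∈ H) :
    Rad C (span K {e}) ≤ H := by
  have hZ : ∀ r, σ r = r → C.T e 0 r ∈ H := fun r hr => by
    obtain ⟨f, hf⟩ := h.exists_hp h0 he
    obtain ⟨a, b, k⟩ := h.exists_hh hf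
    obtain ⟨θ, k1, k2, e1⟩ := h.z_eq_comm he k.h₂ k.ee k.ef hr
    have m1 := hA a k.h₂.se.self_eq k.ee (fun H' => by
      obtain ⟨l, hl⟩ := Submodule.mem_span_singleton.1 H'
      have := k.h₂.ef
      rw [← hl, P.B_smul_left, k.ef, mul_zero] at this
      exact zero_ne_one this) 1
    have m2 := hA b k.h₂.sf.self_eq k.ef (fun H' => by
      obtain ⟨l, hl⟩ := Submodule.mem_span_singleton.1 H'
      have := k.h₂.fe
      rw [← hl, P.B_smul_left, k.ee, mul_zero] at this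
      exact zero_ne_one this) θ
    rw [one_smul] at m1
    rw [e1, commutatorElement_def]
    exact mul_mem (mul_mem (mul_mem m1 m2) (inv_mem m1)) (inv_mem m2)
  intro s hs
  obtain ⟨a, c, k, rfl⟩ := (h.mem_rad_pt h0 he).1 hs
  have a2 := h.iso_span (ti_pt he) (by rw [finrank_span_singleton h0]; have := h.d4; omega)
    (P.mem_perp_span_singleton.2 k.perp)
  suffices H' : ∃ d, TOk P e a d ∧ C.T e a d ∈ H from
    H'.elim fun d hd => h.T_mem_of hZ k hd.1 hd.2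
  refine AddSubgroup.closure_induction (p := fun a _ => ∃ d, TOk P e a d ∧ C.T e a d ∈ H) ?_
    ⟨0, h.tok0 he (map_zero σ), hZ 0 (map_zero σ)⟩ ?_ ?_ a2
  · rintro a ⟨ha, aa⟩
    rw [P.mem_perp_span_singleton] at ha
    by_cases H' : a ∈ span K {e}
    · obtain ⟨l, rfl⟩ := Submodule.mem_span_singleton.1 H'
      obtain ⟨b1, -, b3⟩ := h.T_shift (h.tok0 he (map_zero σ)) l
      rw [zero_add] at b1 b3
      exact ⟨0, b1, b3 ▸ hZ _ (by rw [zero_add, map_add, h.σσ, add_comm])⟩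
    · exact ⟨0, h.tok1 he aa ha (map_zero σ), by simpa using hA a aa ha H' 1⟩
  · rintro a b _ _ ⟨c, k1, m1⟩ ⟨d, k2, m2⟩
    exact ⟨_, k1.add k2, C.T_mul k1 k2 ▸ mul_mem m1 m2⟩
  · rintro a _ ⟨c, k1, m1⟩
    exact ⟨_, k1.neg C, C.T_inv k1 ▸ inv_mem m1⟩

/-- `SU₃` is generated by its Eichler elements -/
theorem fix_gen5 (hf : HP P e f) {H : Subgroup S} (hH : ∀ p a c, TOk P p a c → P.B e p = 0 → P.B f p = 0 →
    P.B e a = 0 → P.B f a = 0 → C.T p a c ∈ H) : C.fixG (span K {e, f}) ≤ H := by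
  obtain ⟨p, p', k⟩ := h.exists_hh hf
  obtain ⟨n, nn, en, fn, pn, pn', hn⟩ := h.exists_n k
  have dec := h.dec5 k en fn pn pn' hn
  have hF : ∀ {g}, g ∈ C.fixG (span K {e, f}) ↔ C.act g e = e ∧ C.act g f = f := h.mem_fix_pair
  have hT : ∀ q a c, TOk P q a c → P.B e q = 0 → P.B f q = 0 → P.B e a = 0 → P.B f a = 0 →
      C.T q a c ∈ H ⊓ C.fixG (span K {e, f}) := fun q a c t a1 a2 a3 a4 =>
    ⟨hH q a c t a1 a2 a3 a4, hF.2 ⟨C.T_fix t (h.B_comm a1) (h.B_comm a3),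
      C.T_fix t (h.B_comm a2) (h.B_comm a4)⟩⟩
  have hp : ∀ {g}, g ∈ C.fixG (span K {e, f}) → ∀ v, P.B e (C.act g v) = P.B e v ∧
      P.B f (C.act g v) = P.B f v := fun {g} hg v =>
    ⟨by rw [← C.B_act g e v, (hF.1 hg).1], by rw [← C.B_act g f v, (hF.1 hg).2]⟩
  have mp : ∀ y, P.Sing y → P.B e y = 0 → P.B f y = 0 → P.B p y ≠ 0 →
      ∃ u ∈ H ⊓ C.fixG (span K {e, f}), C.act u (P.B p y • p') = y ∧ C.act u p = p :=
    fun y a1 a2 a3 a4 => by
      obtain ⟨a, c, t, -, b1, b2⟩ := C.exists_T_map k.h₂ a1 a4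
      exact ⟨_, hT p a c t k.ee k.fe (b2 e k.ee k.ef a2) (b2 f k.fe k.ff a3), b1, C.T_self t⟩
  have k1 : ∀ g ∈ C.fixG (span K {e, f}), C.act g p = p → g ∈ H := fun g hg h1 => by
    have a1 : P.B p (C.act g p') = 1 := by rw [← k.h₂.ef, ← C.B_act g p p', h1]
    obtain ⟨u, hu, a2, a3⟩ := mp _ (C.sing_act g k.h₂.sf) ((hp hg _).1.trans k.ef)
      ((hp hg _).2.trans k.ff) (by rw [a1]; exact one_ne_zero)
    rw [a1, one_smul] at a2
    have b0 := mul_mem (inv_mem (mem_inf.1 hu).2) hg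
    have b1 : C.act (u⁻¹ * g) p = p := by rw [C.mul_apply, h1, C.inv_apply_eq a3]
    have b2 : C.act (u⁻¹ * g) p' = p' := by rw [C.mul_apply, C.inv_apply_eq a2]
    have b3 : u⁻¹ * g = 1 := by
      generalize u⁻¹ * g = s at b0 b1 b2
      have c1 := hn (C.act s n) ((hp b0 _).1.trans en) ((hp b0 _).2.trans fn)
        (by rw [← pn, ← C.B_act s p n, b1]) (by rw [← pn', ← C.B_act s p' n, b2])
      generalize P.B n (C.act s n) = μ at c1
      have c2 : ∀ x, C.act s x = P.qrefl n (μ - 1) x := fun x => by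
        rw [PQ.qrefl_apply]
        conv_lhs => rw [dec x, map_add, map_add, map_add, map_add, map_smul, map_smul, map_smul,
          map_smul, map_smul, b1, b2, c1, (hF.1 b0).1, (hF.1 b0).2]
        conv_rhs => enter [1]; rw [dec x]
        module
      have c3 := h.det s
      rw [show (C.act s).toLinearMap = _ from LinearMap.ext c2, P.det_qrefl, nn] at c3
      exact C.ext fun x => by
        rw [c2, PQ.qrefl_apply, show μ - 1 = 0 by linear_combination c3, C.one_apply]; simp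
    rw [← inv_mul_eq_one.1 b3]
    exact (mem_inf.1 hu).1
  have k0 : ∀ c : K, c ≠ 0 → ∃ j ∈ H ⊓ C.fixG (span K {e, f}), C.act j p = c • p' := fun c hc => by
    obtain ⟨s, hs⟩ := h.herm.norm_surj (-σ c + σ (-σ c)) (by simp [h.σσ, add_comm])
    have t : TOk P p' (s • n) (-σ c) := h.tok.2 ⟨k.h₂.sf.self_eq, by simp [pn'], by
      rw [P.B_smul_left, P.B_smul_right, nn, mul_one, hs]⟩
    have m := hT _ _ _ t k.ef k.ff (by simp [en]) (by simp [fn])
    have h1 : P.B p (C.act (C.T p' (s • n) (-σ c)) p) = c := by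
      rw [C.T_f t k.h₂.symm (by simp [pn])]
      simp [pn, k.h₂.ef, k.h₂.se.self_eq, h.σσ]
    obtain ⟨u, hu, h2, -⟩ := mp _ (C.sing_act _ k.h₂.se) ((hp (mem_inf.1 m).2 _).1.trans k.ee)
      ((hp (mem_inf.1 m).2 _).2.trans k.fe) (h1.symm ▸ hc)
    exact ⟨u⁻¹ * _, mul_mem (inv_mem hu) m, by rw [C.mul_apply, C.inv_apply_eq h2, h1]⟩
  have k2 : ∀ g ∈ C.fixG (span K {e, f}), ∀ c : K, c ≠ 0 → C.act g p = c • p' → g ∈ H :=
    fun g hg c hc h1 => by
      obtain ⟨j, hj, a⟩ := k0 c hc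
      exact (mul_mem_cancel_left (inv_mem (mem_inf.1 hj).1)).1
        (k1 (j⁻¹ * g) (mul_mem (inv_mem (mem_inf.1 hj).2) hg) (by rw [C.mul_apply, h1, C.inv_apply_eq a]))
  intro g hg
  have e1 := (hp hg p).1.trans k.ee
  have e2 := (hp hg p).2.trans k.fe
  by_cases b : P.B p (C.act g p) = 0
  · obtain ⟨j, hj, h1⟩ := k0 1 one_ne_zero
    have h2 := dec (C.act g p)
    have h3 := (C.sing_act g k.h₂.se).self_eq
    rw [e1, e2, b, zero_smul, zero_smul, zero_smul, add_zero, add_zero, add_zero] at h2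
    rw [h2] at h3
    simp only [map_add, LinearMap.add_apply, P.B_smul_left, P.B_smul_right, k.h₂.se.self_eq, pn,
      h.B_comm pn, nn, mul_zero, add_zero, mul_one, mul_eq_zero, map_eq_zero, or_self] at h3
    rw [h3, zero_smul, zero_add] at h2
    exact (mul_mem_cancel_left (mem_inf.1 hj).1).1 (k2 (j * g) (mul_mem (mem_inf.1 hj).2 hg) (P.B p' (C.act g p)) (fun h0 => by
      rw [h0, zero_smul, (C.act g).map_eq_zero_iff] at h2
      exact h.hp_ne k.h₂ h2) (by rw [C.mul_apply, h2, map_smul, h1, one_smul, ← h2]))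
  · obtain ⟨u, hu, h1, -⟩ := mp _ (C.sing_act g k.h₂.se) e1 e2 b
    exact (mul_mem_cancel_left (inv_mem (mem_inf.1 hu).1)).1
      (k2 (u⁻¹ * g) (mul_mem (inv_mem (mem_inf.1 hu).2) hg) _ b (by rw [C.mul_apply, C.inv_apply_eq h1]))

theorem fix_two (h0 : e ≠ 0) (he : P.B e e = 0) {H : Subgroup S}
    (hH : ∀ s, C.act s e = e → IsPGroup 2 (zpowers s) → s ∈ H) : C.fixG (span K {e}) ≤ H := by
  obtain ⟨f, hf⟩ := h.exists_hp h0 he
  intro s hs
  obtain ⟨u, hu, a⟩ := h.fix_decomp hf (mem_fix_pt.1 hs)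
  refine (mul_mem_cancel_left (inv_mem (hH u (mem_fix_pt.1 (rad_le_fix _ hu))
    ((h.rad_two (ti_pt he)).to_le (zpowers_le.2 hu))))).1 (h.fix_gen5 hf ?_ a)
  intro p a c t a1 _ a3 _
  exact hH _ (C.T_fix t (h.B_comm a1) (h.B_comm a3))
    ((h.rad_two (ti_pt t.sing.self_eq)).to_le (zpowers_le.2 (h.T_mem_Q t)))

theorem fix_le (h0 : e ≠ 0) (he : P.B e e = 0) {H : Subgroup S}
    (hH : ∀ o μ, Odd (orderOf o) → σ μ * μ = 1 → C.act o e = μ • e → ∀ y, C.act y e = e →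
      o * y * o⁻¹ * y⁻¹ ∈ H) : C.fixG (span K {e}) ≤ H := by
  obtain ⟨μ, μ1, hμ⟩ := h.herm.exists_norm_one_ne_one
  have μ0 : μ ≠ 0 := by rintro rfl; simp at hμ
  have m1 : σ μ - 1 ≠ 0 := fun e => μ1 (by rwa [sub_eq_zero.1 e, one_mul] at hμ)
  have m2 : σ μ / μ - 1 ≠ 0 := fun e => μ1 (h.eq_one_of_sq (by
    rwa [(div_eq_one_iff_eq μ0).1 (sub_eq_zero.1 e)] at hμ))
  have hQ : Rad C (span K {e}) ≤ H := h.rad_le_of h0 he fun a aa ea a0 l => by
    obtain ⟨f, b, k⟩ := h.exists_hh' he aa ea h0 a0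
    obtain ⟨n, nn, en, fn, an, -, -⟩ := h.exists_n k
    obtain ⟨o, o1, o2, -, -, o3⟩ := h.exists_diag5 k.h₁ nn en fn μ0
    have t := h.tok_line k (l / (σ μ - 1))
    have := hH o μ o1 hμ o2 _ (C.T_self t)
    rw [C.T_conj o t, o2, map_smul, o3 a ea k.fe (h.B_comm an), C.T_smul_left t, C.T_inv t, mul_zero,
      smul_smul, C.T_mul (h.tok_line k _) (t.neg C), ← sub_eq_add_neg, ← sub_smul, ← sub_one_mul,
      mul_div_cancel₀ _ m1] at this
    simpa [aa] using this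
  obtain ⟨f, hf⟩ := h.exists_hp h0 he
  intro s hs
  obtain ⟨u, hu, a⟩ := h.fix_decomp hf (mem_fix_pt.1 hs)
  refine (mul_mem_cancel_left (inv_mem (hQ hu))).1 (h.fix_gen5 hf ?_ a)
  intro p a c t ep fp ea fa
  by_cases p0 : p = 0
  · subst p0
    rw [h.T_zero' _ t]
    exact one_mem _
  obtain ⟨p', hp', k'⟩ := C.exists_HP (h.hp_disj hf) t.sing p0 (CG.mem_perp_pair.2 ⟨ep, fp⟩)
  rw [CG.mem_perp_pair] at hp'
  have k : HH P e f p p' := ⟨hf, k', ep, hp'.1, fp, hp'.2⟩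
  obtain ⟨n, nn, en, fn, pn, pn', hn⟩ := h.exists_n k
  obtain ⟨o, o1, o2, -, o3, o4⟩ := h.exists_diag5 hf nn en fn μ0
  have pp := t.sing.self_eq
  have a1 : ∀ x : K, ∃ d, TOk P p (x • n) d ∧ C.T p (x • n) d ∈ H := fun x => by
    obtain ⟨d, t1⟩ := h.exists_tok (a := (x / (σ μ / μ - 1)) • n) pp (by simp [pn])
    have := hH o μ o1 hμ o2 _ (C.T_fix t1 (h.B_comm ep) (by simp [h.B_comm en]))
    have t2 := t1.act C o
    rw [C.T_conj o t1, C.T_inv t1] at this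
    rw [o4 p ep fp (h.B_comm pn), map_smul, o3] at this t2
    have t3 := t2.add (t1.neg C)
    rw [C.T_mul t2 (t1.neg C)] at this
    rw [smul_smul, ← sub_eq_add_neg, ← sub_smul, ← mul_sub_one, div_mul_cancel₀ _ m2] at this t3
    exact ⟨_, t3, this⟩
  have hZ : ∀ r, σ r = r → C.T p 0 r ∈ H := fun r hr => by
    obtain ⟨θ, hθ⟩ := h.exists_tr hr
    obtain ⟨d1, t1, m1⟩ := a1 1
    obtain ⟨d2, t2, m2⟩ := a1 θ
    have := mul_mem (mul_mem (mul_mem m1 m2) (inv_mem m1)) (inv_mem m2)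
    rw [← commutatorElement_def, C.T_commutator t1 t2] at this
    simp only [P.B_smul_left, P.B_smul_right, nn, map_one, mul_one, one_mul] at this
    rwa [h.sub_eq, add_comm, hθ] at this
  have e1 := h.dec5 k en fn pn pn' hn a
  rw [ea, fa, t.perp, zero_smul, zero_smul, zero_smul, add_zero, add_zero, add_zero] at e1
  generalize P.B n a = x at e1
  generalize P.B p' a = y at e1
  subst e1
  have t1 : TOk P p (x • n) c := h.tok.2 ⟨pp, by simp [pn], by
    rw [(h.tok.1 t).2.2]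
    simp only [P.B_add_left, P.B_add_right, P.B_smul_left, P.B_smul_right, pp, pn, h.B_comm pn,
      mul_zero, add_zero]⟩
  obtain ⟨-, t2, e2⟩ := h.T_shift t1 y
  obtain ⟨d, t3, m⟩ := a1 x
  rw [e2]
  exact h.T_mem_of hZ t2 t3 m

end Mod

end CfsgLib.U5
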