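import Cfsg.Agent.Lib.U5.Sym
import Cfsg.Agent.Lib.Spec.Zsig

/-! Semilinear involutions -/

set_option autoImplicit false
set_option linter.unusedSectionVars false

namespace CfsgLib.U5

open Subgroup Module CfsgLib.Forms CfsgLib.LieMult
open CfsgLib.HX (Std CO Two Mv Tr Heis NF Fus4 Has4 M2)
open Submodule (span)
open scoped commutatorElement Pointwise

universe u

variable {K : Type} [Field K] [Finite K] {σ : K →+* K} {V : Type} [AddCommGroup V] [Module K V]
  [FiniteDimensional K V] {P : PQ σ V} {S : Type} [Group S] [Finite S] {G : Type u} [Group G]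
  [Finite G] {C : CG P S} {φ : S →* G} {t : G}

theorem ppd_core {q n : ℕ} (hq : 1 < q) (hn : Odd n ∧ 3 ≤ n ∨ 4 ∣ n ∧ 0 < n) :
    ∃ r, r.Prime ∧ r ∣ q ^ n - 1 ∧ ¬ r ∣ q ∧ ¬ r ∣ q ^ 2 - 1 ∧
      ∀ i, (r : ℤ) ∣ (q : ℤ) ^ i - (-1) ^ i → Even i ∧ n ∣ i := by
  have h3 : 3 ≤ n ∧ n ≠ 6 := by
    rcases hn with ⟨⟨k, hk⟩, h⟩ | h <;> omega
  obtain ⟨r, hr, h1, h2⟩ := Spec.zsigmondy hq (n := n) (by omega) (by omega) (by omega)
  haveI : Fact r.Prime := ⟨hr⟩
  have hz : ∀ k, r ∣ q ^ k - 1 ↔ (q : ZMod r) ^ k = 1 := fun k => by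
    rw [← ZMod.natCast_eq_zero_iff, Nat.cast_sub (Nat.one_le_pow _ _ (by omega)), sub_eq_zero]
    simp
  have ho : orderOf (q : ZMod r) = n := (orderOf_eq_iff (by omega)).2
    ⟨(hz n).1 h1, fun k hk h0 e => h2 k h0 hk ((hz k).2 e)⟩
  refine ⟨r, hr, h1, fun e => ?_, h2 2 (by omega) (by omega), fun i hi => ?_⟩
  · have := (hz n).1 h1
    rw [(ZMod.natCast_eq_zero_iff _ _).2 e, zero_pow (by omega)] at this
    exact zero_ne_one this
  · have e1 : (q : ZMod r) ^ i = (-1) ^ i := by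
      have := (ZMod.intCast_zmod_eq_zero_iff_dvd _ r).2 hi
      push_cast at this
      exact sub_eq_zero.1 this
    have e2 : n ∣ 2 * i := by
      rw [← ho, orderOf_dvd_iff_pow_eq_one, mul_comm, pow_mul, e1, ← pow_mul, mul_comm, pow_mul]
      simp
    have e3 : Even i := by
      by_contra e
      have e4 := Nat.not_even_iff_odd.1 e
      rcases hn with ⟨hn, -⟩ | ⟨hn, -⟩
      · have e5 : n ∣ i := (Nat.coprime_two_right.2 hn).dvd_of_dvd_mul_left e2
        rw [← ho, orderOf_dvd_iff_pow_eq_one, e1, e4.neg_one_pow] at e5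
        have e6 : r ∣ 2 := (ZMod.natCast_eq_zero_iff 2 r).1 (by
          push_cast
          linear_combination -e5)
        obtain rfl := (Nat.prime_dvd_prime_iff_eq hr Nat.prime_two).1 e6
        have e7 := h2 1 one_pos (by omega)
        rw [pow_one] at e7
        have e8 : 2 ∣ q ^ n := (show 2 ∣ q by omega).trans (dvd_pow_self q (by omega))
        have e9 : 1 ≤ q ^ n := Nat.one_le_pow _ _ (by omega)
        omega
      · obtain ⟨k, hk⟩ := e4
        have := hn.trans e2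
        omega
    refine ⟨e3, ?_⟩
    rw [← ho, orderOf_dvd_iff_pow_eq_one, e1, e3.neg_one_pow]

theorem exists_notMem_pair {F W : Type*} [Field F] [AddCommGroup W] [Module F W]
    {U : Submodule F W} (h : 3 ≤ finrank F U) (x y : W) : ∃ z ∈ U, z ∉ span F {x, y} := by
  classical
  by_contra! k
  have h1 := Submodule.finrank_mono (show U ≤ span F ({x, y} : Finset W) from fun z hz => by simpa using k z hz)
  have h2 := finrank_span_finset_le_card (R := F) ({x, y} : Finset W)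
  have h3 : ({x, y} : Finset W).card ≤ 2 := Finset.card_le_two
  exact absurd (h.trans (h1.trans (h2.trans h3))) (by decide)

theorem exists_sub_finrank {F W : Type*} [Field F] [AddCommGroup W] [Module F W]
    [FiniteDimensional F W] (U : Submodule F W) {n : ℕ} (h : n ≤ finrank F U) :
    ∃ U' ≤ U, finrank F U' = n := by
  induction n with
  | zero => exact ⟨⊥, bot_le, finrank_bot _ _⟩
  | succ n ih =>
    obtain ⟨U', h1, h2⟩ := ih (by omega)
    obtain ⟨z, hz, hz'⟩ : ∃ z ∈ U, z ∉ U' := by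
      by_contra! k
      have := Submodule.finrank_mono (show U ≤ U' from k)
      omega
    exact ⟨U' ⊔ span F {z}, sup_le h1 ((Submodule.span_singleton_le_iff_mem _ _).2 hz),
      by rw [Submodule.finrank_sup_span_singleton hz', h2]⟩

variable (σ) in
/-- a `σ`-semilinear involution -/
structure SInv (γ : AV V) : Prop where
  semi : ∀ (c : K) (v : V), γ (c • v) = σ c • γ v
  sq : ∀ v, γ (γ v) = v

/-- the fixed vectors -/
def SInv.W {γ : AV V} (k : SInv σ γ) : Submodule (Fx σ) V where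
  carrier := {v | γ v = v}
  add_mem' {a b} ha hb := by
    change γ (a + b) = a + b
    rw [map_add, ha, hb]
  zero_mem' := map_zero γ
  smul_mem' c v hv := by
    change γ ((c : K) • v) = (c : K) • v
    rw [k.semi, hv, c.2]
    rfl

theorem Gr.sinv {α : RingAut K} {γ : AV V} (k : Gr P α γ) : SInv σ γ :=
  ⟨fun c v => by rw [k.semi, k.eq], k.sq⟩

/-- transvections in `SL(V)` -/
noncomputable def tv {f : Module.Dual K V} {a : V} (h : f a = 0) : SLV K V :=
  ⟨LinearEquiv.transvection h, LinearEquiv.transvection.det_eq_one h⟩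

theorem tv_app {f : Module.Dual K V} {a : V} (h : f a = 0) (v : V) :
    (tv h).1 v = v + f v • a := LinearEquiv.transvection.apply h v

theorem slv_ext {g g' : SLV K V} (e : ∀ v, g.1 v = g'.1 v) : g = g' :=
  Subtype.ext (LinearEquiv.ext e)

theorem slv_mul (g g' : SLV K V) (v : V) : (g * g').1 v = g.1 (g'.1 v) := rfl

theorem finite_slv : Finite (SLV K V) := by
  haveI : Finite V := Module.finite_of_finite K
  exact Finite.of_injective (fun g : SLV K V => (g.1 : V → V)) fun g g' e => slv_ext (congrFun e)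

namespace Mod

variable (h : Mod C) {α : RingAut K} {γ : AV V}
include h

theorem si_dec (k : SInv σ γ) {θ : K} (hθ : θ + σ θ = 1) (v : V) :
    ∃ a b, γ a = a ∧ γ b = b ∧ v = a + θ • b := by
  refine ⟨σ θ • v + θ • γ v, v + γ v, ?_, ?_, ?_⟩
  · rw [map_add, k.semi, k.semi, P.σσ, k.sq, add_comm]
  · rw [map_add, k.sq, add_comm]
  · linear_combination (norm := module) -hθ • v - h.two • (θ • γ v)

theorem si_rank (k : SInv σ γ) : finrank (Fx σ) k.W = finrank K V := by
  haveI : Finite V := Module.finite_of_finite K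
  obtain ⟨θ, hθ⟩ := h.herm.exists_trace_one
  have h1 : Nat.card (k.W × k.W) = Nat.card V :=
    Nat.card_eq_of_bijective (fun x => (x.1 : V) + θ • (x.2 : V)) ⟨fun x y e => by
      have e1 := congrArg γ e
      simp only [map_add, k.semi, show γ x.1 = x.1 from x.1.2, show γ x.2 = x.2 from x.2.2,
        show γ y.1 = y.1 from y.1.2, show γ y.2 = y.2 from y.2.2] at e e1
      have e2 : (x.2 : V) = y.2 := by
        linear_combination (norm := module) e + e1 - hθ • ((x.2 : V) - y.2) -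
          h.two • ((x.1 : V) - y.1)
      rw [e2, add_left_inj] at e
      exact Prod.ext (Subtype.ext e) (Subtype.ext e2), fun v => by
      obtain ⟨a, b, ha, hb, rfl⟩ := h.si_dec k hθ v
      exact ⟨(⟨a, ha⟩, ⟨b, hb⟩), rfl⟩⟩
  rw [Nat.card_prod, Module.natCard_eq_pow_finrank (K := Fx σ),
    Module.natCard_eq_pow_finrank (K := K) (V := V), h.card_K, ← pow_add, ← pow_mul] at h1
  have := Nat.pow_right_injective (Finite.one_lt_card (α := Fx σ)) h1
  omega

theorem si_span (k : SInv σ γ) {s : Set V} (hs : ∀ c ∈ s, γ c = c) {a : V} (ha : γ a = a)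
    (e : a ∈ span K s) : a ∈ span (Fx σ) s := by
  have h1 : ∀ v ∈ span K s, ∀ c : K, c • v + γ (c • v) ∈ span (Fx σ) s := by
    intro v hv
    induction hv using Submodule.span_induction with
    | mem v hv =>
      intro c
      rw [k.semi, hs v hv, ← add_smul]
      exact Submodule.smul_mem _ (⟨c + σ c, show σ _ = c + σ c by
        rw [map_add, P.σσ, add_comm]⟩ : Fx σ) (Submodule.subset_span hv)
    | zero => intro c; simp
    | add v w _ _ h1 h2 =>
      intro c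
      rw [smul_add, map_add, add_add_add_comm]
      exact add_mem (h1 c) (h2 c)
    | smul d v _ h1 => intro c; rw [smul_smul]; exact h1 _
  obtain ⟨θ, hθ⟩ := h.herm.exists_trace_one
  have := h1 a e θ
  rwa [k.semi, ha, ← add_smul, hθ, one_smul] at this

theorem gr_B (k : Gr P α γ) {a : V} (ha : γ a = a) (v : V) : P.B a (γ v) = σ (P.B a v) := by
  rw [← k.eq, ← k.B_eq, ha]

theorem z_app1 {a : V} (ha : P.B a a = 0) (v : V) : C.act (C.T a 0 1) v = v + P.B a v • a := by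
  rw [h.T_app (h.tok0 ha (map_one σ))]
  simp

theorem gr_z (k : Gr P α γ) {a : V} (ha : γ a = a) (h0 : P.B a a = 0) : C.T a 0 1 ∈ Cg C γ :=
  fun v => by rw [h.z_app1 h0, h.z_app1 h0, map_add, k.sinv.semi, ha, h.gr_B k ha]

theorem gr_sym (k : Gr P α γ) : ∃ (β : LinearMap.BilinForm (Fx σ) k.sinv.W)
    (ρ : Cg C γ →* (k.sinv.W ≃ₗ[Fx σ] k.sinv.W)) (τ : k.sinv.W → Cg C γ), SymD β ρ τ ∧
    (∀ a b, (β a b : K) = P.B a b) ∧ ∀ a, β a a = 0 → (τ a : S) = C.T a 0 1 := by
  classical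
  obtain ⟨θ, hθ⟩ := h.herm.exists_trace_one
  have hF : ∀ a b : k.sinv.W, σ (P.B a b) = P.B a b := fun a b => by
    rw [← h.gr_B k a.2, show γ b = b from b.2]
  let β : LinearMap.BilinForm (Fx σ) k.sinv.W := LinearMap.mk₂ (Fx σ)
    (fun a b => ⟨P.B a b, hF a b⟩) (fun a b c => Subtype.ext (P.B_add_left _ _ _))
    (fun c a b => Subtype.ext ((P.B_smul_left (c : K) _ _).trans (by rw [c.2]; rfl)))
    (fun a b c => Subtype.ext (P.B_add_right _ _ _))
    (fun c a b => Subtype.ext (P.B_smul_right (c : K) _ _))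
  have hβ : ∀ a b, (β a b : K) = P.B a b := fun _ _ => rfl
  have hm : ∀ (g : Cg C γ) (a : k.sinv.W), C.act g a ∈ k.sinv.W := fun g a => by
    change γ _ = _
    rw [← g.2, show γ a = a from a.2]
  let ρ : Cg C γ →* (k.sinv.W ≃ₗ[Fx σ] k.sinv.W) :=
    { toFun := fun g =>
        { toFun := fun a => ⟨C.act g a, hm g a⟩
          invFun := fun a => ⟨C.act (g⁻¹ : Cg C γ) a, hm g⁻¹ a⟩
          map_add' := fun a b => Subtype.ext (map_add _ _ _)
          map_smul' := fun c a => Subtype.ext ((C.act g).map_smul (c : K) a)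
          left_inv := fun a => Subtype.ext (C.inv_apply _ _)
          right_inv := fun a => Subtype.ext (C.apply_inv _ _) }
      map_one' := LinearEquiv.ext fun a => Subtype.ext (C.one_apply _)
      map_mul' := fun g g' => LinearEquiv.ext fun a => Subtype.ext (C.mul_apply _ _ _) }
  let τ : k.sinv.W → Cg C γ := fun a =>
    if h0 : P.B a a = 0 then ⟨C.T a 0 1, h.gr_z k a.2 h0⟩ else 1
  have hτ : ∀ a, β a a = 0 → (τ a : S) = C.T a 0 1 := fun a ha => by
    simp only [τ, dif_pos (show P.B a a = 0 from congrArg Subtype.val ha)]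
  refine ⟨β, ρ, τ, ⟨Subtype.ext h.two, fun v w => Subtype.ext ?_, fun v hv => Subtype.ext ?_,
    (injective_iff_map_eq_one ρ).2 fun g hg => Subtype.ext (C.ext fun v => ?_),
    fun a ha v => Subtype.ext ?_, by rw [h.si_rank]; exact h.d4,
    by rw [h.si_rank]; exact h.d5⟩, hβ, hτ⟩
  · rw [hβ, hβ, ← h.conj, hF]
  · refine C.nondeg _ fun w => ?_
    obtain ⟨a, b, ha, hb, rfl⟩ := h.si_dec k.sinv hθ w
    rw [P.B_add_right, P.B_smul_right, ← hβ v ⟨a, ha⟩, ← hβ v ⟨b, hb⟩, hv, hv]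
    simp
  · have e : ∀ a, γ a = a → C.act g a = a := fun a ha =>
      congrArg Subtype.val (LinearEquiv.congr_fun hg ⟨a, ha⟩)
    obtain ⟨a, b, ha, hb, rfl⟩ := h.si_dec k.sinv hθ v
    rw [map_add, map_smul, e a ha, e b hb]
    exact (C.one_apply _).symm
  · change C.act (τ a) v = _
    rw [hτ a ha, h.z_app1 (congrArg Subtype.val ha)]
    rfl

theorem gr_T (k : Gr P α γ) : ∃ e a w, γ e = e ∧ γ a = a ∧ γ w = w ∧ P.B e e = 0 ∧ P.B a a = 0 ∧ P.B e a = 0 ∧
    e ≠ 0 ∧ a ∉ span K {e} ∧ P.B w w = 1 ∧ P.B e w = 0 ∧ P.B a w = 0 ∧ C.T e a 1 ∈ Od (Cg C γ) := by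
  haveI : Finite V := Module.finite_of_finite K
  obtain ⟨β, ρ, τ, hs, hβ, hτ⟩ := h.gr_sym k
  obtain ⟨e, a, w, h1, h2, h3, h4, h5, w1, w2, w3, h6⟩ := hs.exists_T
  have k1 : P.B e e = 0 := (hβ _ _).symm.trans (congrArg Subtype.val h1)
  have k2 : P.B a a = 0 := (hβ _ _).symm.trans (congrArg Subtype.val h2)
  have k3 : P.B e a = 0 := (hβ _ _).symm.trans (congrArg Subtype.val h3)
  have k4 : P.B a e = 0 := P.B_eq_zero_comm.1 k3
  have k5 := hs.add_iso h2 h1
  refine ⟨e, a, w, e.2, a.2, w.2, k1, k2, k3, fun k => h4 (Subtype.ext k), fun k' => h5 ?_,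
    (hβ _ _).symm.trans (congrArg Subtype.val w1), (hβ _ _).symm.trans (congrArg Subtype.val w2),
    (hβ _ _).symm.trans (congrArg Subtype.val w3), ?_⟩
  · obtain ⟨c, hc⟩ := Submodule.mem_span_singleton.1
      (h.si_span k.sinv (by rintro _ rfl; exact e.2) a.2 k')
    exact Submodule.mem_span_singleton.2 ⟨c, Subtype.ext hc⟩
  · have := Od_mono (H' := Cg C γ) (by rintro _ ⟨g, -, rfl⟩; exact g.2)
      (map_Od (Cg C γ).subtype ⊤ ⟨_, h6, rfl⟩)
    convert this using 1
    simp only [coe_subtype, coe_mul, hτ _ h2, hτ _ k5]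
    refine C.ext fun v => ?_
    rw [C.mul_apply, h.z_app1 ((hβ _ _).symm.trans (congrArg Subtype.val k5)),
      h.z_app1 k2, h.T_app (h.tok1 k1 k2 k3 (map_one σ))]
    simp only [Submodule.coe_add, map_add, map_smul, LinearMap.add_apply, k1, k2, k3, k4, map_one,
      smul_eq_mul]
    linear_combination (norm := module) -h.two • (P.B a v • (a : V))

theorem gr_big' (k : Gr P α γ)
    (hw : (∀ v, γ v = v → P.B v v = 0) ∨ ∃ w, γ w = w ∧ (∀ v, γ v = v → P.B v v = P.B w v ^ 2) ∧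
      P.B w w ≠ 0) :
    Nat.card (Fx σ) ^ (4 * (finrank K V / 4)) - 1 ∣ Nat.card (Od2 (Cg C γ)) := by
  haveI : Finite V := Module.finite_of_finite K
  obtain ⟨β, ρ, τ, hs, hβ, hτ⟩ := h.gr_sym k
  have d4 := h.d4
  refine (hs.big ?_ ⟨2 * (finrank K V / 4), by omega⟩ (by omega) (by rw [h.si_rank]; omega)).trans
    (card_Od2_dvd (Cg C γ).subtype (subtype_injective _) fun g => g.2)
  rcases hw with hw | ⟨w, h1, h2, h3⟩
  · exact Or.inl fun v => Subtype.ext ((hβ _ _).trans (hw v v.2))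
  · exact Or.inr ⟨⟨w, h1⟩, fun v => Subtype.ext (by
      rw [SubmonoidClass.coe_pow, hβ, hβ]; exact h2 v v.2),
      fun e => h3 ((hβ ⟨w, h1⟩ ⟨w, h1⟩).symm.trans (congrArg Subtype.val e))⟩

theorem gr_big (k : Gr P α γ) : ∃ j ∈ Od (Cg C γ), j * j = 1 ∧ ∃ γ' : AV V,
    (∀ v, γ' v = C.act j (γ v)) ∧ Gr P α γ' ∧
      Nat.card (Fx σ) ^ (4 * (finrank K V / 4)) - 1 ∣ Nat.card (Od2 (Cg C γ')) := by
  haveI : Finite V := Module.finite_of_finite K
  obtain ⟨β, ρ, τ, hs, hβ, hτ⟩ := h.gr_sym k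
  obtain ⟨w, h1, h2⟩ := hs.exists_w
  have h3 : ∀ v, γ v = v → P.B v v = P.B w v ^ 2 := fun v hv => by
    have := congrArg Subtype.val (h1 ⟨v, hv⟩)
    rwa [SubmonoidClass.coe_pow, hβ, hβ] at this
  by_cases hw : β w w = 0
  · have hw' : P.B w w = 0 := (hβ _ _).symm.trans (congrArg Subtype.val hw)
    have hj := h.gr_z k w.2 hw'
    have j2 : C.T w 0 1 * C.T w 0 1 = 1 := by
      rw [← hτ w hw]
      exact congrArg Subtype.val (hs.tau_sq hw)
    have k' : Gr P α (γ.trans ((C.act (C.T w 0 1)).restrictScalars ℤ)) :=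
      ⟨⟨fun c v => by simp [k.semi c v], fun a b => by simp [C.B_act, k.B_eq]⟩, k.eq, fun v => by
        change C.act _ (γ (C.act _ (γ v))) = v
        rw [← hj, k.sq, ← C.mul_apply, j2, C.one_apply]⟩
    refine ⟨C.T w 0 1, ?_, j2, _, fun v => rfl, k', h.gr_big' k' (Or.inl fun v hv => ?_)⟩
    · rw [← hτ w hw]
      exact Od_mono (H' := Cg C γ) (by rintro _ ⟨g, -, rfl⟩; exact g.2)
        (map_Od (Cg C γ).subtype ⊤ ⟨_, h2 hw, rfl⟩)
    · have e1 : P.B (γ v) v = P.B w v ^ 2 := by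
        obtain ⟨θ, hθ⟩ := h.herm.exists_trace_one
        obtain ⟨a, b, ha, hb, rfl⟩ := h.si_dec k.sinv hθ v
        have e2 : P.B b a = P.B a b := by rw [← h.conj, ← h.gr_B k ha, hb]
        simp only [map_add, k.sinv.semi, ha, hb, LinearMap.add_apply, P.B_smul_left, P.σσ,
          map_smul, smul_eq_mul, h3 a ha, h3 b hb, e2]
        linear_combination (θ * P.B a b - θ * P.B w a * P.B w b) * h.two
      change C.act _ (γ v) = v at hv
      rw [h.z_app1 hw', h.gr_B k w.2] at hv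
      have e2 := congrArg (fun x => P.B x v) hv
      simp only [P.B_add_left, P.B_smul_left, P.σσ, e1] at e2
      linear_combination -e2 + P.B w v ^ 2 * h.two
  · exact ⟨1, one_mem _, one_mul _, γ, fun v => (C.one_apply _).symm, k,
      h.gr_big' k (Or.inr ⟨w, w.2, h3, fun e => hw (Subtype.ext ((hβ _ _).trans e))⟩)⟩

theorem exists_lam (k : SInv σ γ) {s : Set V} (hs : ∀ c ∈ s, γ c = c) {a : V} (ha : γ a = a)
    (e : a ∉ span (Fx σ) s) : ∃ f : Module.Dual K V, (∀ v, f (γ v) = σ (f v)) ∧ f a = 1 ∧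
      ∀ c ∈ s, f c = 0 := by
  obtain ⟨θ, hθ⟩ := h.herm.exists_trace_one
  obtain ⟨g, h1, h2⟩ := (span K s).exists_dual_map_eq_bot_of_notMem
    (fun e' => e (h.si_span k hs ha e')) inferInstance
  have h3 : ∀ c ∈ s, g c = 0 := fun c hc =>
    (Submodule.mem_bot K).1 (h2 ▸ Submodule.mem_map_of_mem (Submodule.subset_span hc))
  refine ⟨{ toFun := fun v => θ / g a * g v + σ (θ / g a * g (γ v))
            map_add' := fun v w => by simp only [map_add, mul_add]; ring
            map_smul' := fun c v => by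
              simp only [k.semi, map_smul, smul_eq_mul, map_mul, P.σσ, RingHom.id_apply]
              ring }, fun v => ?_, ?_, fun c hc => ?_⟩
  · simp only [LinearMap.coe_mk, AddHom.coe_mk, k.sq, map_add, P.σσ, add_comm]
  · simp only [LinearMap.coe_mk, AddHom.coe_mk, ha, div_mul_cancel₀ _ h1, hθ]
  · simp [hs c hc, h3 c hc]

theorem tv_sq {f : Module.Dual K V} {a : V} (e : f a = 0) : tv e * tv e = 1 := slv_ext fun v => by
  simp only [slv_mul, tv_app, map_add, map_smul, e, smul_eq_mul, OneMemClass.coe_one,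
    LinearEquiv.coe_one, id_eq]
  linear_combination (norm := module) h.two • (f v • a)

theorem tv_od (k : SInv σ γ) {H : Subgroup (SLV K V)}
    (hH : ∀ g : SLV K V, (∀ v, g.1 (γ v) = γ (g.1 v)) → g ∈ H) {f : Module.Dual K V}
    (hf : ∀ v, f (γ v) = σ (f v)) {b c : V} (hb : γ b = b) (hc : γ c = c) (h1 : f b = 1)
    (h0 : f c = 0) : tv h0 ∈ Od H := by
  have hm : ∀ {f : Module.Dual K V} {a : V} (e : f a = 0), (∀ v, f (γ v) = σ (f v)) → γ a = a →
      tv e ∈ H := fun e hf ha => hH _ fun v => by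
    rw [tv_app, tv_app, map_add, k.semi, ha, hf]
  obtain ⟨z, hz, hz'⟩ := exists_notMem_pair (U := k.W) (by rw [h.si_rank]; have := h.d4; omega) c b
  replace hz : γ z = z := hz
  have hfz : σ (f z) = f z := by rw [← hf, hz]
  have ha : γ (z - f z • b) = z - f z • b := by rw [map_sub, k.semi, hz, hb, hfz]
  have fa : f (z - f z • b) = 0 := by simp [h1]
  obtain ⟨μ, hμ, k1, k2⟩ := h.exists_lam k (s := {c, b}) (by rintro _ (rfl | rfl) <;> assumption) ha
    (fun e => hz' (by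
      have := add_mem e (Submodule.smul_mem _ (⟨f z, hfz⟩ : Fx σ)
        (Submodule.subset_span (Set.mem_insert_of_mem c rfl)))
      rwa [show (⟨f z, hfz⟩ : Fx σ) • b = f z • b from rfl, sub_add_cancel] at this))
  generalize z - f z • b = a at ha fa k1
  have μb : μ b = 0 := k2 b (by simp)
  have μc : μ c = 0 := k2 c (by simp)
  have key : ∀ {a : V} (e : f a = 0), γ a = a → μ a = 1 → tv e * tv μb ∈ Od H :=
    fun {a} e ha e1 => braid_mem_Od (hm e hf ha) (hm μb hμ hb) (h.tv_sq _) (h.tv_sq _)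
      (slv_ext fun v => by
        simp only [slv_mul, tv_app, map_add, map_smul, e, e1, h1, μb, smul_eq_mul]
        linear_combination (norm := module) h.two • (f v • a) - h.two • (μ v • b))
  have fac : f (a + c) = 0 := by rw [map_add, fa, h0, add_zero]
  have e1 : tv fac = tv h0 * tv fa := slv_ext fun v => by
    simp only [slv_mul, tv_app, map_add, map_smul, fa, smul_eq_mul]
    module
  have := mul_mem (key fac (by rw [map_add, ha, hc]) (by rw [map_add, k1, μc, add_zero]))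
    (inv_mem (key fa ha k1))
  rwa [e1, mul_assoc (tv h0), mul_inv_cancel_right] at this

/-- field type in `SL(V)` -/
theorem fld_big (k : Semi α γ) (hα : ∀ c, α c = σ c) (h2 : ∀ v, γ (γ v) = v) {H : Subgroup (SLV K V)}
    (hH : ∀ g : SLV K V, (∀ v, g.1 (γ v) = γ (g.1 v)) → g ∈ H) :
    ∃ n, Odd n ∧ 3 ≤ n ∧ finrank K V < 2 * n ∧ Nat.card (Fx σ) ^ n - 1 ∣ Nat.card (Od2 H) := by
  haveI : Finite V := Module.finite_of_finite K
  haveI := finite_slv (K := K) (V := V)
  have k' : SInv σ γ := ⟨fun c v => by rw [k, hα], h2⟩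
  have d4 := h.d4
  obtain ⟨n, h1, h3⟩ : ∃ n, 2 * n + 1 ≤ finrank K V ∧ finrank K V ≤ 2 * n + 2 :=
    ⟨(finrank K V - 1) / 2, by omega⟩
  obtain ⟨U, hU, hn⟩ := exists_sub_finrank k'.W (n := 2 * n + 1) (by rw [h.si_rank]; exact h1)
  refine ⟨2 * n + 1, ⟨n, rfl⟩, by omega, by omega, ?_⟩
  let X : Set (SLV K V) := {g | ∃ (f : Module.Dual K V) (a : V) (e : f a = 0),
    (∀ v, f (γ v) = σ (f v)) ∧ a ∈ U ∧ (∃ b, γ b = b ∧ f b = 1) ∧ g = tv e}
  have step : ∀ x ∈ U, x ≠ 0 → ∀ z ∈ U, z ∉ span (Fx σ) {x} → ∃ g ∈ closure X, g • x = z := by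
    intro x hx x0 z hz e
    obtain ⟨f, k1, k2, k3⟩ := h.exists_lam k' (s := {z - x})
      (by rintro _ rfl; exact hU (U.sub_mem hz hx)) (hU hx) (fun e' => e (by
        obtain ⟨c, hc⟩ := Submodule.mem_span_singleton.1 e'
        have c0 : c ≠ 0 := by
          rintro rfl
          exact x0 (by rw [← hc, zero_smul])
        exact Submodule.mem_span_singleton.2 ⟨c⁻¹ + 1, by
          rw [add_smul, one_smul, ← eq_sub_iff_add_eq, inv_smul_eq_iff₀ c0, hc]⟩))
    refine ⟨tv (k3 _ rfl), subset_closure ⟨f, _, _, k1, U.sub_mem hz hx, ⟨x, hU hx, k2⟩, rfl⟩, ?_⟩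
    change (tv _).1 x = z
    rw [tv_app, k2, one_smul, add_sub_cancel]
  have h4 := card_dvd_of_trans (X := X) (U := (U : Set V) \ {0}) (by
    rintro _ ⟨f, a, e, k1, k2, -, rfl⟩ v ⟨hv, v0⟩
    change (tv e).1 v ∈ _
    refine ⟨?_, fun e' => v0 ((tv e).1.map_eq_zero_iff.1 e')⟩
    rw [tv_app]
    exact U.add_mem hv (U.smul_mem (⟨f v, show σ _ = f v by
      rw [← k1, show γ v = v from hU hv]⟩ : Fx σ) k2)) (fun x hx y hy => by
      obtain ⟨z, hz, hz'⟩ := exists_notMem_pair (U := U) (by omega) x y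
      obtain ⟨g, hg, e1⟩ := step x hx.1 hx.2 z hz fun e =>
        hz' (Submodule.span_mono (by simp) e)
      obtain ⟨g', hg', e2⟩ := step y hy.1 hy.2 z hz fun e =>
        hz' (Submodule.span_mono (by simp) e)
      exact ⟨g'⁻¹ * g, mul_mem (inv_mem hg') hg, by rw [mul_smul, e1, ← e2, inv_smul_smul]⟩) (by
      obtain ⟨a, ha, a0⟩ := Submodule.exists_mem_ne_zero_of_ne_bot (p := U) (by
        rintro rfl
        rw [finrank_bot] at hn
        omega)
      exact ⟨a, ha, a0⟩)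
  rw [ncard_ne_zero_sub, hn] at h4
  refine h4.trans (card_dvd_of_le (closure_mono ?_))
  rintro _ ⟨f, a, e, k1, k2, ⟨b, k3, k4⟩, rfl⟩
  exact ⟨h.tv_sq e, h.tv_od k' hH k1 k3 (hU k2) k4 e⟩

theorem sym_sym (β : LinearMap.BilinForm K V) (hs : ∀ v v', β v v' = β v' v)
    (hn : ∀ v, (∀ v', β v v' = 0) → v = 0) : ∃ (M : Subgroup (SLV K V)) (τ : V → M),
    (∀ g ∈ M, ∀ v v', β (g.1 v) (g.1 v') = β v v') ∧
      SymD β ((SLV K V).subtype.comp M.subtype) τ := by
  classical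
  let M : Subgroup (SLV K V) :=
    { carrier := {g | ∀ v v', β (g.1 v) (g.1 v') = β v v'}
      one_mem' := fun _ _ => rfl
      mul_mem' := fun {a b} ha hb v v' => by rw [slv_mul, slv_mul, ha, hb]
      inv_mem' := fun {a} ha v v' => by rw [← ha, ← slv_mul, ← slv_mul, mul_inv_cancel]; rfl }
  have hm : ∀ {a : V} (e : β a a = 0), tv e ∈ M := fun {a} e v v' => by
    simp only [tv_app, map_add, map_smul, LinearMap.add_apply, LinearMap.smul_apply, e,
      smul_eq_mul, hs v a]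
    linear_combination (β a v * β a v') * h.two
  refine ⟨M, fun a => if e : β a a = 0 then ⟨tv e, hm e⟩ else 1, fun g hg => hg, h.two, hs, hn,
    (subtype_injective _).comp (subtype_injective _), fun a ha v => ?_, h.d4, h.d5⟩
  rw [dif_pos ha]
  exact tv_app ha v

/-- graph type in `SL(V)` -/
theorem sym_big (β : LinearMap.BilinForm K V) (hs : ∀ v v', β v v' = β v' v)
    (hn : ∀ v, (∀ v', β v v' = 0) → v = 0) : ∃ j : SLV K V, j * j = 1 ∧
      (∀ H : Subgroup (SLV K V), (∀ g : SLV K V, (∀ v v', β (g.1 v) (g.1 v') = β v v') → g ∈ H) →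
        j ∈ Od H) ∧ ∃ n, 4 ∣ n ∧ finrank K V < n ∧ ∀ H : Subgroup (SLV K V),
      (∀ g : SLV K V, (∀ v v', β (j.1 (g.1 v)) (g.1 v') = β (j.1 v) v') → g ∈ H) →
        Nat.card (Fx σ) ^ n - 1 ∣ Nat.card (Od2 H) := by
  haveI := finite_slv (K := K) (V := V)
  have d4 := h.d4
  have big : ∀ β : LinearMap.BilinForm K V, (∀ v v', β v v' = β v' v) →
      (∀ v, (∀ v', β v v' = 0) → v = 0) →
      ((∀ v, β v v = 0) ∨ ∃ w, (∀ v, β v v = β w v ^ 2) ∧ β w w ≠ 0) → ∀ H : Subgroup (SLV K V),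
      (∀ g : SLV K V, (∀ v v', β (g.1 v) (g.1 v') = β v v') → g ∈ H) →
        Nat.card (Fx σ) ^ (4 * (finrank K V / 2)) - 1 ∣ Nat.card (Od2 H) := by
    intro β hs hn hw H hH
    obtain ⟨M, τ, h1, h2⟩ := h.sym_sym β hs hn
    have := h2.big hw (n := 2 * (finrank K V / 2)) (even_two_mul _) (by omega) (by omega)
    rw [h.card_K, ← pow_mul, ← mul_assoc] at this
    exact this.trans (card_Od2_dvd M.subtype (subtype_injective _) fun g => hH _ (h1 _ g.2))
  obtain ⟨M, τ, h1, h2⟩ := h.sym_sym β hs hn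
  obtain ⟨w, hw, h3⟩ := h2.exists_w
  by_cases hww : β w w = 0
  · have hj : ∀ v, (τ w).1.1 v = v + β w v • w := h2.tau w hww
    have j2 : (τ w).1 * (τ w).1 = 1 := congrArg Subtype.val (h2.tau_sq hww)
    refine ⟨τ w, j2, fun H hH => Od_mono (by rintro _ ⟨g, -, rfl⟩; exact hH _ (h1 _ g.2))
      (map_Od M.subtype ⊤ ⟨_, h3 hww, rfl⟩), 4 * (finrank K V / 2), dvd_mul_right _ _, by omega,
      big (β ∘ₗ (τ w).1.1.toLinearMap) (fun v v' => ?_) (fun v hv => ?_) (Or.inl fun v => ?_)⟩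
    · simp only [LinearMap.comp_apply, LinearEquiv.coe_coe, hj, map_add, map_smul,
        LinearMap.add_apply, LinearMap.smul_apply, smul_eq_mul, hs v v']
      ring
    · exact (τ w).1.1.map_eq_zero_iff.1 (hn _ hv)
    · simp only [LinearMap.comp_apply, LinearEquiv.coe_coe, hj, map_add, map_smul,
        LinearMap.add_apply, LinearMap.smul_apply, smul_eq_mul, hw v]
      linear_combination β w v ^ 2 * h.two
  · exact ⟨1, one_mul _, fun H _ => one_mem _, 4 * (finrank K V / 2), dvd_mul_right _ _, by omega,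
      big β hs hn (Or.inr ⟨w, hw, hww⟩)⟩

theorem ppdA {n : ℕ} (hn : Odd n ∧ 3 ≤ n ∧ finrank K V < 2 * n ∨ 4 ∣ n ∧ finrank K V < n) :
    ∃ r, r.Prime ∧ r ∣ Nat.card (Fx σ) ^ n - 1 ∧ ¬ r ∣ Nat.card S ∧ ¬ r ∣ Nat.card K - 1 := by
  obtain ⟨r, hr, h1, h2, h3, h4⟩ := ppd_core (Finite.one_lt_card (α := Fx σ)) (n := n)
    (hn.imp (fun e => ⟨e.1, e.2.1⟩) fun e => ⟨e.1, by omega⟩)
  refine ⟨r, hr, h1, fun e => ?_, by rwa [h.card_K]⟩
  obtain ⟨N, hN⟩ := h.card
  have hr' := Nat.prime_iff_prime_int.1 hr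
  rcases hr'.dvd_or_dvd ((Int.natCast_dvd_natCast.2 e).trans hN) with e1 | e1
  · exact h2 (Int.natCast_dvd_natCast.1 (hr'.dvd_of_dvd_pow e1))
  · obtain ⟨i, hi, e2⟩ := hr'.exists_mem_finset_dvd e1
    obtain ⟨e3, e4⟩ := h4 i e2
    rw [Finset.mem_Icc] at hi
    rcases hn with ⟨k1, -, k2⟩ | ⟨-, k2⟩
    · have := Nat.le_of_dvd hi.1
        ((Nat.coprime_two_left.2 k1).mul_dvd_of_dvd_of_dvd e3.two_dvd e4)
      omega
    · have := Nat.le_of_dvd hi.1 e4
      omega

theorem ppdB {n : ℕ} (hn : 4 ∣ n) (h1 : finrank K V < 2 * n) : ∃ r a : ℕ, r.Prime ∧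
    r ^ a ∣ Nat.card (Fx σ) ^ n - 1 ∧ ¬ r ^ (2 * a) ∣ Nat.card S ∧ ¬ r ∣ Nat.card K - 1 := by
  have hq := Finite.one_lt_card (α := Fx σ)
  obtain ⟨r, hr, k1, h2, h3, h4⟩ := ppd_core hq (n := n) (Or.inr ⟨hn, by omega⟩)
  have hq' : 1 < Nat.card (Fx σ) ^ n := Nat.one_lt_pow (by omega) hq
  obtain ⟨a, m, hm, e⟩ := Nat.exists_eq_pow_mul_and_not_dvd
    (show Nat.card (Fx σ) ^ n - 1 ≠ 0 by omega) r hr.ne_one
  refine ⟨r, a, hr, ⟨m, e⟩, fun e1 => ?_, by rwa [h.card_K]⟩
  obtain ⟨N, hN⟩ := h.card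
  have hr' := Nat.prime_iff_prime_int.1 hr
  have e2 : (r : ℤ) ^ (2 * a) ∣ _ := (by exact_mod_cast e1 : (r : ℤ) ^ (2 * a) ∣ Nat.card S).trans
    (hN.trans (mul_dvd_mul_left _ (Finset.prod_dvd_prod_of_subset _
      (insert n ((Finset.Icc 1 (finrank K V)).erase n)) _ (Finset.subset_insert_iff.2 le_rfl))))
  rw [Finset.prod_insert (Finset.notMem_erase _ _), mul_left_comm] at e2
  have e3 := IsCoprime.dvd_of_dvd_mul_right (IsCoprime.pow_left
    (hr'.irreducible.coprime_iff_not_dvd.2 fun e3 => by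
      rcases hr'.dvd_or_dvd e3 with e4 | e4
      · exact h2 (Int.natCast_dvd_natCast.1 (hr'.dvd_of_dvd_pow e4))
      · obtain ⟨i, hi, e5⟩ := hr'.exists_mem_finset_dvd e4
        obtain ⟨-, c, rfl⟩ := h4 i e5
        rw [Finset.mem_erase, Finset.mem_Icc] at hi
        have : c < 2 := by
          by_contra! k
          have := Nat.mul_le_mul_left n k
          omega
        interval_cases c <;> omega)) e2
  rw [(even_iff_two_dvd.2 ((by decide : 2 ∣ 4).trans hn)).neg_one_pow] at e3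
  have e4 : r ^ (2 * a) ∣ r ^ a * m := by
    rw [← e, ← Int.natCast_dvd_natCast, Nat.cast_sub hq'.le]
    exact_mod_cast e3
  rw [two_mul, pow_add] at e4
  have a0 : a ≠ 0 := by
    rintro rfl
    rw [e, pow_zero, one_mul] at k1
    exact hm k1
  exact hm ((dvd_pow_self r a0).trans (Nat.dvd_of_mul_dvd_mul_left (pow_pos hr.pos a) e4))

end Mod

end CfsgLib.U5
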