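import Cfsg.Agent.Lib.U5.Top
import Cfsg.Agent.Lib.U5.Gr
import Cfsg.Agent.Lib.ClAut.PSL
import Cfsg.Agent.Lib.Classical.SLBasic

/-! Field case: the normaliser of the linear group -/

set_option autoImplicit false
set_option linter.unusedSectionVars false

namespace CfsgLib.U5

open Subgroup Module CfsgLib.Forms CfsgLib.LieMult
open CfsgLib.HX (Std CO Two Mv Tr Heis NF Fus4 Has4 M2)
open Submodule (span)
open scoped commutatorElement Pointwise

universe u

variable {K : Type} [Field K] [Finite K] {σ : K →+* K} {V : Type} [AddCommGroup V] [Module K V]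
  [FiniteDimensional K V] {P : PQ σ V} {S : Type} [Group S] [Finite S] {G : Type u} [Group G]
  [Finite G] {C : CG P S} {φ : S →* G} {t : G}

theorem fa_det (g : SLV K V) : LinearMap.det g.1.toLinearMap = 1 := by
  rw [← LinearEquiv.coe_det, MonoidHom.mem_ker.1 g.2, Units.val_one]

theorem fa_mk {u : V →ₗ[K] V} (hu : LinearMap.det u = 1) : ∃ g : SLV K V, g.1.toLinearMap = u := by
  refine ⟨⟨LinearMap.equivOfIsUnitDet (f := u) (hu ▸ isUnit_one), ?_⟩, LinearMap.coe_equivOfIsUnitDet (hu ▸ isUnit_one)⟩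
  rw [MonoidHom.mem_ker, ← Units.val_inj, LinearEquiv.coe_det, LinearMap.coe_equivOfIsUnitDet, hu,
    Units.val_one]

variable (K V) in
/-- the natural representation -/
noncomputable def faRho : SLV K V →* Module.End K V where
  toFun g := g.1.toLinearMap
  map_one' := rfl
  map_mul' _ _ := rfl

theorem faRho_app (g : SLV K V) (v : V) : faRho K V g v = g.1 v := rfl

theorem fa_linRep : ClAut.LinRep (faRho K V) :=
  ⟨fun _ _ e => slv_ext fun v => LinearMap.congr_fun e v, fun _ hu => fa_mk hu⟩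

theorem fa_equiv {ι : Type} [Fintype ι] [DecidableEq ι] (b : Basis ι K V) :
    ∃ E : Matrix.SpecialLinearGroup ι K ≃* SLV K V, ∀ A, (E A).1.toLinearMap = Matrix.toLin b b A :=
  ⟨(Matrix.SpecialLinearGroup.toLin_equiv b).trans
    ⟨⟨fun u => ⟨u.1, u.2⟩, fun u => ⟨u.1, u.2⟩, fun _ => rfl, fun _ => rfl⟩, fun _ _ => rfl⟩, fun _ => rfl⟩

theorem fa_inv_app (g : SLV K V) (v : V) : (g⁻¹).1 (g.1 v) = v := g.1.symm_apply_apply v

theorem fa_app_inv (g : SLV K V) (v : V) : g.1 ((g⁻¹).1 v) = v := g.1.apply_symm_apply v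

theorem fa_inv_eq {g : SLV K V} {v v' : V} (e : g.1 v = v') : (g⁻¹).1 v' = v := e ▸ fa_inv_app g v

/-- generation by transvections -/
theorem fa_gen (H : Subgroup (SLV K V)) (hH : ∀ (f : Dual K V) (a : V) (e : f a = 0), tv e ∈ H) :
    H = ⊤ := by
  obtain ⟨E, hE⟩ := fa_equiv (finBasis K V)
  set b := finBasis K V
  have := Classical.sl_eq_top_of_transvection_mem (H.comap E.toMonoidHom) fun i j hij c => by
    have e : (c • b.coord j) (b i) = 0 := by simp [hij]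
    rw [mem_comap]
    convert hH _ _ e
    refine Subtype.ext (LinearEquiv.toLinearMap_injective (b.ext fun k => ?_))
    change (E _).1.toLinearMap (b k) = (tv e).1 (b k)
    rw [hE, tv_app, Matrix.SpecialLinearGroup.transvection_coe, map_add, Matrix.toLin_one, LinearMap.add_apply,
      Matrix.toLin_self, Finset.sum_eq_single i (fun l _ hl => by simp [hl.symm]) (by simp)]
    by_cases hk : j = k
    · simp [hk]
    · simp [hk, Ne.symm hk]
  refine top_le_iff.1 fun g _ => ?_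
  obtain ⟨A, rfl⟩ := E.surjective g
  exact (this ▸ mem_top A : A ∈ H.comap E.toMonoidHom)

theorem fa_perf (h3 : 3 ≤ finrank K V) : (⊤ : Subgroup (SLV K V)) ≤ ⁅(⊤ : Subgroup (SLV K V)), ⊤⁆ := by
  obtain ⟨E, -⟩ := fa_equiv (finBasis K V)
  have := congrArg (Subgroup.map E.toMonoidHom)
    (Classical.sl_commutator_eq_top (ι := Fin (finrank K V)) (F := K) (by simpa))
  rw [commutator_def, map_commutator, map_top_of_surjective _ E.surjective] at this
  exact this.ge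

theorem exists_equiv_SLV : Nonempty (SLV K V ≃* Matrix.SpecialLinearGroup (Fin (finrank K V)) K) := by
  obtain ⟨E, -⟩ := fa_equiv (finBasis K V)
  exact ⟨E.symm⟩

theorem Mod.SLV_simp (h : Mod C) (N : Subgroup (SLV K V)) (hN : N.Normal) :
    N ≤ center (SLV K V) ∨ N = ⊤ := by
  obtain ⟨E, -⟩ := fa_equiv (finBasis K V)
  have h3 : 3 ≤ finrank K V := by have := h.d4; omega
  have := Classical.psl_isSimpleGroup (ι := Fin (finrank K V)) (F := K) (by simpa)
  have hM := hN.comap E.toMonoidHom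
  rcases (hM.map (QuotientGroup.mk' (center _)) (QuotientGroup.mk'_surjective _)).eq_bot_or_eq_top with e | e
  · refine .inl fun g hg => ?_
    obtain ⟨A, rfl⟩ := E.surjective g
    refine (MulEquivClass.apply_mem_center_iff E).2 ?_
    have := (Subgroup.map_eq_bot_iff _).1 e (show A ∈ N.comap E.toMonoidHom from hg)
    rwa [QuotientGroup.ker_mk'] at this
  · refine .inr (top_le_iff.1 ((fa_perf h3).trans (commutator_le.2 fun a _ b _ => ?_)))
    obtain ⟨A, rfl⟩ := E.surjective a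
    obtain ⟨x, hx, e⟩ := e.ge (mem_top (QuotientGroup.mk A))
    obtain ⟨z, hz, rfl⟩ : ∃ z ∈ center _, A = x * z := ⟨_, QuotientGroup.eq.1 e, by simp⟩
    have hz' := (MulEquivClass.apply_mem_center_iff E).2 hz
    rw [map_mul, commutatorElement_def, mul_assoc (E x) (E z) b, ← mem_center_iff.1 hz', mul_inv_rev]
    simpa [mul_assoc] using mul_mem (show E x ∈ N from hx) (hN.conj_mem _ (inv_mem (show E x ∈ N from hx)) b)

theorem mem_center_SLV {g : SLV K V} : g ∈ center (SLV K V) ↔ ∃ l : K, ∀ v, g.1 v = l • v := by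
  refine ⟨fun k => ?_, fun ⟨l, hl⟩ => ClAut.mem_center_of_scalar (faRho K V) fa_linRep.inj hl⟩
  have : (⟨g.1, g.2⟩ : SpecialLinearGroup K V) ∈ center (SpecialLinearGroup K V) :=
    mem_center_iff.2 fun u => Subtype.ext (congrArg Subtype.val (mem_center_iff.1 k ⟨u.1, u.2⟩))
  obtain ⟨r, -, hr⟩ := SpecialLinearGroup.mem_center_iff.1 this
  exact ⟨r, fun v => LinearMap.congr_fun hr v⟩

theorem Mod.fa_dual_tv (h : Mod C) {a y : V} (e : P.B y a = 0) (e' : P.B a y = 0) (v v' : V) :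
    P.B ((tv e).1 v) ((tv e').1 v') = P.B v v' := by
  rw [tv_app, tv_app, P.B_add_left, P.B_add_right, P.B_add_right, P.B_smul_left, P.B_smul_left,
    P.B_smul_right, P.B_smul_right, e', h.conj]
  linear_combination (P.B v y * P.B a v') * h.two

theorem Mod.fa_B_ext (h : Mod C) {v v' : V} (e : ∀ w, P.B w v = P.B w v') : v = v' :=
  sub_eq_zero.1 (C.nondeg.right _ fun w => by rw [P.B_sub_right, e, sub_self])

theorem Mod.fa_dual_symm (h : Mod C) {g g' : SLV K V} (e : ∀ v v', P.B (g.1 v) (g'.1 v') = P.B v v')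
    (v v' : V) : P.B (g'.1 v) (g.1 v') = P.B v v' := by
  rw [← h.conj, e, h.conj]

theorem Mod.fa_dual_uniq (h : Mod C) {g g' g'' : SLV K V} (e : ∀ v v', P.B (g.1 v) (g'.1 v') = P.B v v')
    (e' : ∀ v v', P.B (g.1 v) (g''.1 v') = P.B v v') : g' = g'' :=
  slv_ext fun v => h.fa_B_ext fun w => by
    obtain ⟨w, rfl⟩ := g.1.surjective w
    rw [e, e']

theorem Mod.exists_dual (h : Mod C) (g : SLV K V) :
    ∃ g' : SLV K V, ∀ v v', P.B (g.1 v) (g'.1 v') = P.B v v' := by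
  let H : Subgroup (SLV K V) :=
    { carrier := {g | ∃ g' : SLV K V, ∀ v v', P.B (g.1 v) (g'.1 v') = P.B v v'}
      one_mem' := ⟨1, fun _ _ => rfl⟩
      mul_mem' := by
        rintro a b ⟨a', ha⟩ ⟨b', hb⟩
        exact ⟨a' * b', fun v v' => by rw [slv_mul, slv_mul, ha, hb]⟩
      inv_mem' := by
        rintro a ⟨a', ha⟩
        exact ⟨a'⁻¹, fun v v' => by rw [← ha, fa_app_inv, fa_app_inv]⟩ }
  have : H = ⊤ := fa_gen H fun f a e => by
    obtain ⟨y, rfl⟩ := P.exists_B_eq C.nondeg f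
    exact ⟨_, h.fa_dual_tv e (h.B_comm e)⟩
  exact (this ▸ mem_top g : g ∈ H)

theorem Mod.exists_incl (h : Mod C) (s : S) : ∃ g : SLV K V, (g : V ≃ₗ[K] V) = C.act s := by
  refine ⟨⟨C.act s, ?_⟩, rfl⟩
  rw [MonoidHom.mem_ker, ← Units.val_inj, LinearEquiv.coe_det, h.det, Units.val_one]

theorem Mod.fa_exists_delta (h : Mod C) : ∃ δ : SLV K V →* SLV K V,
    (∀ g v v', P.B (g.1 v) ((δ g).1 v') = P.B v v') ∧ ∀ g, δ (δ g) = g := by
  choose d hd using h.exists_dual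
  exact ⟨MonoidHom.mk' d fun a b => h.fa_dual_uniq (hd _) fun v v' => by rw [slv_mul, slv_mul, hd, hd], hd,
    fun g => h.fa_dual_uniq (hd _) (h.fa_dual_symm (hd g))⟩

theorem Semi.fa_mul {α α' : RingAut K} {γ γ' : AV V} (k : Semi α γ) (k' : Semi α' γ') :
    Semi (α * α') (γ * γ') := fun c v => by
  change γ (γ' (c • v)) = α (α' c) • γ (γ' v)
  rw [k', k]

theorem Semi.fa_inv {α : RingAut K} {γ : AV V} (k : Semi α γ) : Semi α⁻¹ γ⁻¹ := fun c v => γ.injective (by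
  change γ (γ.symm (c • v)) = γ (α.symm c • γ.symm v)
  rw [k]; simp)

theorem Semi.fa_symm {α : RingAut K} {γ : AV V} (k : Semi α γ) (c : K) (v : V) :
    γ.symm (c • v) = α.symm c • γ.symm v := k.fa_inv c v

/-- the semilinear image of a transvection -/
theorem Semi.fa_tv {α : RingAut K} {γ : AV V} (k : Semi α γ) {f : Dual K V} {a : V} (e : f a = 0) :
    ∃ (f' : Dual K V) (e' : f' (γ a) = 0), (∀ v, f' (γ v) = α (f v)) ∧
      ∀ v, (tv e').1 (γ v) = γ ((tv e).1 v) := by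
  let f' : Dual K V :=
    { toFun := fun v => α (f (γ.symm v))
      map_add' := fun v w => by rw [map_add, map_add, map_add]
      map_smul' := fun c v => by rw [k.fa_symm, map_smul, smul_eq_mul, map_mul]; simp }
  have h1 : ∀ v, f' (γ v) = α (f v) := fun v => by
    change α (f (γ.symm (γ v))) = _
    rw [γ.symm_apply_apply]
  exact ⟨f', by rw [h1, e, map_zero], h1, fun v => by rw [tv_app, tv_app, h1, map_add, k]⟩

theorem Semi.fa_conj {α : RingAut K} {γ : AV V} (k : Semi α γ) (s : SLV K V) :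
    ∃ s' : SLV K V, ∀ v, s'.1 (γ v) = γ (s.1 v) := by
  let H : Subgroup (SLV K V) :=
    { carrier := {s | ∃ s' : SLV K V, ∀ v, s'.1 (γ v) = γ (s.1 v)}
      one_mem' := ⟨1, fun _ => rfl⟩
      mul_mem' := by
        rintro a b ⟨a', ha⟩ ⟨b', hb⟩
        exact ⟨a' * b', fun v => by rw [slv_mul, slv_mul, hb, ha]⟩
      inv_mem' := by
        rintro a ⟨a', ha⟩
        exact ⟨a'⁻¹, fun v => fa_inv_eq (by rw [ha, fa_app_inv])⟩ }
  have : H = ⊤ := fa_gen H fun f a e => (k.fa_tv e).elim fun _ ⟨_, _, h⟩ => ⟨_, h⟩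
  exact (this ▸ mem_top s : s ∈ H)

/-- a semilinear map commuting with `SL(V)` is a scalar -/
theorem Semi.fa_scalar {β : RingAut K} {δ : AV V} (k : Semi β δ) (h2 : 2 ≤ finrank K V)
    (hc : ∀ (s : SLV K V) v, s.1 (δ v) = δ (s.1 v)) : β = 1 ∧ ∃ μ : K, μ ≠ 0 ∧ ∀ v, δ v = μ • v := by
  have : Nontrivial V := Module.nontrivial_of_finrank_pos (R := K) (by omega)
  obtain ⟨a, ha⟩ := exists_ne (0 : V)
  obtain ⟨f, hf, e⟩ := ClAut.exists_dual_zero h2 ha
  obtain ⟨v, hv⟩ := ClAut.exists_apply_one hf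
  have h1 := hc (tv e) v
  rw [tv_app, tv_app, hv, one_smul, map_add, add_right_inj] at h1
  generalize f (δ v) = μ at h1
  have h3 : ∀ {x y : V}, ClAut.Ind K x y → δ x = μ • x → δ y = μ • y := fun hi hx => by
    obtain ⟨g, rfl⟩ := (fa_linRep (K := K) (V := V)).exists_map hi
    rw [faRho_app, ← hc, hx, map_smul]
  obtain ⟨w, hw⟩ := ClAut.exists_ind_of_finrank h2 ha
  have h4 : ∀ x, δ x = μ • x := fun x => by
    rcases ClAut.ind_or_smul (F := K) ha x with hi | ⟨c, rfl⟩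
    · exact h3 hi h1.symm
    by_cases hc0 : c = 0
    · simp [hc0]
    exact h3 (x := w) (by simpa using (hw.smul hc0 one_ne_zero).symm) (h3 hw h1.symm)
  have h5 : μ ≠ 0 := fun e => ha (δ.injective (by rw [h4, e, zero_smul, map_zero]))
  refine ⟨RingEquiv.ext fun c => ?_, μ, h5, h4⟩
  have := k c a
  rw [h4, h4, smul_smul, smul_smul, mul_comm] at this
  exact (mul_right_cancel₀ h5 (smul_left_injective K ha this)).symm

/-- the dual of a semilinear map -/
theorem Mod.fa_dualS (h : Mod C) {α : RingAut K} {γ : AV V} (k : Semi α γ) :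
    ∃ γ', Semi α γ' ∧ ∀ v v', P.B (γ v) (γ' v') = α (P.B v v') := by
  have h1 : ∀ v', ∃ u, ∀ v, P.B (γ v) u = α (P.B v v') := fun v' => by
    let f : Dual K V :=
      { toFun := fun v => α (P.B v' (γ.symm v))
        map_add' := fun v w => by rw [map_add, map_add, map_add]
        map_smul' := fun c v => by rw [k.fa_symm, map_smul, smul_eq_mul, map_mul]; simp }
    obtain ⟨u, hu⟩ := P.exists_B_eq C.nondeg f
    refine ⟨u, fun v => ?_⟩
    rw [← h.conj, hu, ← h.conj v', h.aut_comm]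
    change σ (α (P.B v' (γ.symm (γ v)))) = _
    rw [γ.symm_apply_apply]
  choose d hd using h1
  have hu : ∀ {u u'}, (∀ v, P.B (γ v) u = P.B (γ v) u') → u = u' := fun e => h.fa_B_ext fun w => by
    obtain ⟨w, rfl⟩ := γ.surjective w
    exact e w
  let d' : V →+ V := AddMonoidHom.mk' d fun a b => hu fun v => by
    rw [P.B_add_right, hd, hd, hd, P.B_add_right, map_add]
  have : Finite V := Module.finite_of_finite K
  have hi : Function.Injective d' := (injective_iff_map_eq_zero d').2 fun a ha =>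
    C.nondeg.right _ fun v => α.injective (by rw [← hd, show d a = 0 from ha, map_zero, map_zero])
  refine ⟨(AddEquiv.ofBijective d' (Finite.injective_iff_bijective.1 hi)).toIntLinearEquiv,
    fun c v => hu fun w => ?_, fun v v' => hd v' v⟩
  change P.B (γ w) (d _) = P.B (γ w) (α c • d v)
  rw [P.B_smul_right, hd, hd, P.B_smul_right, map_mul]

theorem Mod.fa_char (h : Mod C) : CharP K 2 := CharTwo.of_one_ne_zero_of_two_eq_zero one_ne_zero h.two

theorem Mod.fa_cp (h : Mod C) : ClAut.CenterPrime 2 (SLV K V) :=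
  have := h.fa_char
  fa_linRep.centerPrime (by have := h.d4; omega)

theorem Mod.fa_tv_unip (h : Mod C) {f : Dual K V} {a : V} (e : f a = 0) : ClAut.Unip 2 (tv e) :=
  ⟨1, by rw [pow_one, pow_two, h.tv_sq]⟩

theorem Mod.fa_center_ne (h : Mod C) : center (SLV K V) ≠ ⊤ := fun e => by
  obtain ⟨p, f, k⟩ := h.exists_pair
  obtain ⟨a1, -, a3⟩ := h.hp_iff.1 k
  have := congrArg (fun g : SLV K V => g.1 f) (h.fa_cp _ (e ▸ mem_top _) (h.fa_tv_unip a1))
  simp only [tv_app, a3, one_smul] at this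
  exact U5.hp_ne k (by simpa using this)

namespace DblF

variable {y : V → K → G} {c : K} {ψ : SLV K V →* G} (h : DblF C φ t y c ψ) {g g' : G}
  {α α' : RingAut K} {γ γ' : AV V}
include h

theorem fa_mod : Mod C := h.toMod

theorem fa_t2 : t * t = 1 := h.t2

theorem fa_tinv : t⁻¹ = t := inv_eq_of_mul_eq_one_right h.t2

theorem fa_d2 : 2 ≤ finrank K V := by have := h.fa_mod.d4; omega

theorem fa_d3 : 3 ≤ finrank K V := by have := h.fa_mod.d4; omega

theorem fa_odd : Odd (Nat.card (centralizer (ψ.range : Set G))) := h.eqG ▸ h.toHL.cent_odd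

theorem fa_tN : t ∈ normalizer (ψ.range : Set G) := h.eqG ▸ h.toHL.t_norm

theorem fa_mem_center {s : SLV K V} (hs : ψ s ∈ centralizer (ψ.range : Set G)) : s ∈ center (SLV K V) := by
  have hn : ((centralizer (ψ.range : Set G)).comap ψ).Normal := ⟨fun a ha b => by
    rw [mem_comap, map_mul, map_mul, map_inv, mem_centralizer_iff.1 ha (ψ b) ⟨b, rfl⟩, mul_inv_cancel_right]
    exact ha⟩
  refine (h.fa_mod.SLV_simp _ hn).resolve_right (fun e => h.fa_mod.fa_center_ne (top_le_iff.1 ?_)) hs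
  refine (fa_perf h.fa_d3).trans (commutator_le.2 fun a _ b _ => h.kerψ ?_)
  rw [MonoidHom.mem_ker, map_commutatorElement, commutatorElement_eq_one_iff_mul_comm]
  exact mem_centralizer_iff.1 (e ▸ mem_top b : b ∈ (centralizer (ψ.range : Set G)).comap ψ) _ ⟨a, rfl⟩

omit h in
theorem fa_cent_of_center {s : SLV K V} (hs : s ∈ center (SLV K V)) : ψ s ∈ centralizer (ψ.range : Set G) := by
  rintro _ ⟨a, rfl⟩
  rw [← map_mul, ← map_mul, mem_center_iff.1 hs]

theorem fa_inj {a b : SLV K V} (ha : ClAut.Unip 2 a) (hb : ClAut.Unip 2 b) (e : ψ a = ψ b) : a = b :=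
  ClAut.unip_eq_of_center h.fa_mod.fa_cp ha hb
    (h.kerψ (by rw [MonoidHom.mem_ker, map_mul, map_inv, e, inv_mul_cancel]))

theorem fa_act_of (d : SLV K V → SLV K V) (hd : ∀ s, ψ (d s) = g * ψ s * g⁻¹) (k : Semi α γ)
    (hk : ∀ s, ∃ l : K, ∀ v, (d s).1 (γ v) = l • γ (s.1 v)) : ActL ψ g α γ := by
  choose e he using k.fa_conj
  have hu : ∀ s s' : SLV K V, (∀ v, s'.1 (γ v) = γ (s.1 v)) → s' = e s := fun s s' k => slv_ext fun v => by
    obtain ⟨v, rfl⟩ := γ.surjective v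
    rw [k, he]
  let e' : SLV K V →* SLV K V := MonoidHom.mk' e fun a b => (hu _ _ fun v => by
    rw [slv_mul, slv_mul, he, he]).symm
  have h3 : ∀ s, ∃ z ∈ center (SLV K V), g * ψ s * g⁻¹ = ψ (e s * z) := fun s => by
    refine ⟨(e s)⁻¹ * d s, mem_center_SLV.2 ((hk s).imp fun l hl v => ?_), by rw [mul_inv_cancel_left, hd]⟩
    obtain ⟨v, rfl⟩ := γ.surjective v
    rw [slv_mul, hl, map_smul, ← he, fa_inv_app]
  have h4 : (⊤ : Subgroup (SLV K V)) ≤ ((MulAut.conj g).toMonoidHom.comp ψ).eqLocus (ψ.comp e') := by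
    refine (fa_perf h.fa_d3).trans (commutator_le.2 fun a _ b _ => ?_)
    obtain ⟨z, hz, e1⟩ := h3 a
    obtain ⟨z', hz', e2⟩ := h3 b
    change ((MulAut.conj g).toMonoidHom.comp ψ) _ = (ψ.comp e') _
    rw [map_commutatorElement, map_commutatorElement]
    change ⁅g * ψ a * g⁻¹, g * ψ b * g⁻¹⁆ = ⁅ψ (e a), ψ (e b)⁆
    rw [e1, e2, ← map_commutatorElement, ← map_commutatorElement]
    congr 1
    have c1 := mem_center_iff.1 hz
    have c2 := mem_center_iff.1 hz'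
    simp only [commutatorElement_def, mul_inv_rev]
    rw [show e a * z * (e b * z') * (z⁻¹ * (e a)⁻¹) * (z'⁻¹ * (e b)⁻¹) =
      e a * (z * e b * z⁻¹) * (z * z' * z⁻¹) * (e a)⁻¹ * z'⁻¹ * (e b)⁻¹ by group, ← c1, ← c1,
      mul_inv_cancel_right, mul_inv_cancel_right, mul_assoc _ z', ← c2]
    group
  exact ⟨k, fun s s' k' => by rw [hu s s' k']; exact h4 (mem_top s)⟩

theorem act_t (k : ActL ψ g α γ) : ∃ γ', ActL ψ (t * g * t⁻¹) α γ' ∧
    ∀ v v', P.B (γ v) (γ' v') = α (P.B v v') := by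
  obtain ⟨γ', k1, k2⟩ := h.fa_mod.fa_dualS k.semi
  refine ⟨γ', ⟨k1, fun s s' e => ?_⟩, k2⟩
  obtain ⟨s₁, h1⟩ := h.fa_mod.exists_dual s
  obtain ⟨s₂, h2⟩ := h.fa_mod.exists_dual s'
  have h3 := k.conj s₁ s₂ fun v => by
    refine sub_eq_zero.1 (C.nondeg _ fun w => ?_)
    obtain ⟨w, rfl⟩ := s'.1.surjective w
    obtain ⟨w, rfl⟩ := γ'.surjective w
    rw [P.B_sub_left, h.fa_mod.fa_dual_symm h2, e, k2, k2, h.fa_mod.fa_dual_symm h1, sub_self]
  rw [← h.tc _ _ (h.fa_mod.fa_dual_symm h2), ← h3, ← h.tc _ _ h1, mul_inv_rev, mul_inv_rev, inv_inv]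
  simp only [h.fa_tinv, mul_assoc]

theorem exists_act (hg : g ∈ normalizer (ψ.range : Set G)) :
    ∃ α γ, ActL ψ g α γ ∨ ActL ψ (g * t) α γ := by
  have := finite_slv (K := K) (V := V)
  have := h.fa_mod.fa_char
  have h1 : ∀ s, ∃ s', ψ s' = g * ψ s * g⁻¹ := fun s => (mem_normalizer_iff.1 hg _).1 ⟨s, rfl⟩
  choose d hc using h1
  have h2 : ∀ s, d s ∈ center (SLV K V) ↔ s ∈ center (SLV K V) := fun s => by
    refine ⟨fun k => h.fa_mem_center ?_, fun k => h.fa_mem_center ?_⟩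
    · rintro _ ⟨a, rfl⟩
      have := fa_cent_of_center (ψ := ψ) k _ ⟨d a, rfl⟩
      rw [hc, hc] at this
      simpa using this
    · rintro _ ⟨a, rfl⟩
      obtain ⟨b, hb⟩ := (mem_normalizer_iff.1 (inv_mem hg) _).1 ⟨a, rfl⟩
      have := fa_cent_of_center (ψ := ψ) k _ ⟨b, rfl⟩
      rw [hc, show ψ a = g * ψ b * g⁻¹ by rw [hb]; group]
      simpa using this
  let θ₀ : SLV K V →* SLV K V ⧸ center (SLV K V) :=
    MonoidHom.mk' (fun s => (d s : SLV K V ⧸ center (SLV K V))) fun a b => by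
      rw [← QuotientGroup.mk_mul, QuotientGroup.eq]
      refine h.kerψ ?_
      simp only [MonoidHom.mem_ker, map_mul, map_inv, hc]
      group
  let θ : SLV K V ⧸ center (SLV K V) →* SLV K V ⧸ center (SLV K V) := QuotientGroup.lift _ θ₀ fun s hs =>
    (QuotientGroup.eq_one_iff _).2 ((h2 s).2 hs)
  have hθ : Function.Injective θ := (injective_iff_map_eq_one θ).2 fun a ha => by
    obtain ⟨a, rfl⟩ := QuotientGroup.mk_surjective a
    exact (QuotientGroup.eq_one_iff _).2 ((h2 a).1 ((QuotientGroup.eq_one_iff _).1 ha))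
  let Θ := MulEquiv.ofBijective θ (Finite.injective_iff_bijective.1 hθ)
  have hR : ∀ s, ClAut.Rel Θ s (d s) := fun s => rfl
  rcases ClAut.all_piL_or_all_piD (p := 2) fa_linRep h.fa_d2 fa_linRep h.fa_d2 Θ with hall | hall
  · obtain ⟨α, γ, k, hk⟩ := ClAut.semilinear_of_piL fa_linRep h.fa_d2 fa_linRep rfl hall
    exact ⟨α, γ.toIntLinearEquiv, .inl (h.fa_act_of d hc k fun s => hk s _ (hR s))⟩
  obtain ⟨δ, d1, d2⟩ := h.fa_mod.fa_exists_delta
  have hL : ClAut.LinRep ((faRho K V).comp δ) :=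
    ⟨fa_linRep.inj.comp (Function.LeftInverse.injective d2), fun u hu =>
      (fa_mk hu).elim fun a ha => ⟨δ a, by rw [MonoidHom.comp_apply, d2]; exact ha⟩⟩
  obtain ⟨α, γ, k, hk⟩ := ClAut.semilinear_of_piL (p := 2) (α := Θ) fa_linRep h.fa_d2 hL rfl fun v hv => by
    obtain ⟨f, -, hf, h3⟩ := hall v hv
    obtain ⟨w, rfl⟩ := P.exists_B_eq C.nondeg f
    refine ⟨w, hv, fun e => hf (by rw [e, map_zero]), fun a a' k1 k2 k3 => ?_⟩
    obtain ⟨u, hu, e, k4⟩ := h3 a a' k1 k2 k3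
    obtain rfl : a' = tv e := slv_ext fun v => by rw [tv_app]; exact k4 v
    refine ⟨P.B u, fun e' => hu (C.nondeg _ fun v => by rw [e']; rfl), h.fa_mod.B_comm e, fun v => ?_⟩
    rw [MonoidHom.comp_apply, h.fa_mod.fa_dual_uniq (d1 _) (h.fa_mod.fa_dual_tv e (h.fa_mod.B_comm e))]
    exact tv_app (h.fa_mod.B_comm e) v
  obtain ⟨γ', k', -⟩ := h.act_t (h.fa_act_of (g := t * g) (γ := γ.toIntLinearEquiv) (fun s => δ (d s))
    (fun s => by rw [← h.tc _ _ (d1 _), hc]; group) k fun s => hk s _ (hR s))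
  refine ⟨α, γ', .inr ?_⟩
  rwa [← mul_assoc, h.fa_t2, one_mul, h.fa_tinv] at k'

theorem act_mul (k : ActL ψ g α γ) (k' : ActL ψ g' α' γ') : ActL ψ (g * g') (α * α') (γ * γ') := by
  refine ⟨k.semi.fa_mul k'.semi, fun s s'' e => ?_⟩
  obtain ⟨s', e'⟩ := k'.semi.fa_conj s
  rw [← k.conj s' s'' fun v => ?_, ← k'.conj s s' e']
  · group
  · obtain ⟨v, rfl⟩ := γ'.surjective v
    rw [e']
    exact e v

theorem act_inv (k : ActL ψ g α γ) : ActL ψ g⁻¹ α⁻¹ γ⁻¹ := by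
  refine ⟨k.semi.fa_inv, fun s s' e => ?_⟩
  rw [← k.conj s' s fun v => ?_]
  · group
  · have := e (γ v)
    change s'.1 (γ.symm (γ v)) = γ.symm _ at this
    rw [γ.symm_apply_apply] at this
    rw [this, γ.apply_symm_apply]

theorem act_self (l : SLV K V) : ActL ψ (ψ l) 1 (l.1.restrictScalars ℤ) := by
  refine ⟨fun c v => map_smul l.1 c v, fun s s' e => ?_⟩
  have : s' * l = l * s := slv_ext e
  rw [← map_mul, ← this, map_mul, mul_inv_cancel_right]

theorem act_smul (k : ActL ψ g α γ) {μ : K} (hμ : μ ≠ 0) :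
    ∃ γ', ActL ψ g α γ' ∧ ∀ v, γ' v = μ • γ v := by
  refine ⟨(LinearEquiv.smulOfNeZero K V μ hμ).restrictScalars ℤ * γ, ⟨fun c v => ?_,
    fun s s' e => k.conj s s' fun v => smul_right_injective V hμ ?_⟩, fun v => rfl⟩
  · change μ • γ (c • v) = α c • μ • γ v
    rw [k.semi, smul_comm]
  · exact (map_smul s'.1 μ (γ v)).symm.trans (e v)

theorem act_unique (k : ActL ψ g α γ) (k' : ActL ψ g α' γ') :
    α = α' ∧ ∃ μ : K, μ ≠ 0 ∧ ∀ v, γ' v = μ • γ v := by
  have k1 := h.act_mul (h.act_inv k) k'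
  let H : Subgroup (SLV K V) :=
    { carrier := {s | ∀ v, s.1 ((γ⁻¹ * γ') v) = (γ⁻¹ * γ') (s.1 v)}
      one_mem' := fun _ => rfl
      mul_mem' := fun ha hb v => by rw [slv_mul, slv_mul, hb, ha]
      inv_mem' := fun ha v => fa_inv_eq (by rw [ha, fa_app_inv]) }
  have h1 : H = ⊤ := fa_gen H fun f a e => by
    obtain ⟨f', e', -, t2⟩ := k1.semi.fa_tv e
    have e1 := k1.conj _ _ t2
    rw [inv_mul_cancel, one_mul, inv_one, mul_one] at e1
    rw [← h.fa_inj (h.fa_mod.fa_tv_unip e) (h.fa_mod.fa_tv_unip e') e1] at t2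
    exact t2
  obtain ⟨h2, μ, h3, h4⟩ := k1.semi.fa_scalar h.fa_d2 fun s => (h1 ▸ mem_top s : s ∈ H)
  refine ⟨inv_mul_eq_one.1 h2, α μ, (map_ne_zero α).2 h3, fun v => ?_⟩
  rw [← k.semi, ← h4]
  exact (γ.apply_symm_apply _).symm

theorem not_act_t : ¬ ActL ψ t α γ := by
  intro k
  have m := h.fa_mod
  obtain ⟨e, f, hf⟩ := m.exists_pair
  obtain ⟨e', f', hh⟩ := m.exists_hh hf
  obtain ⟨a1, -, a3⟩ := m.hp_iff.1 hf
  have key : ∀ w, P.B e w = 0 → ∃ l : K, w = l • γ e := fun w hw => by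
    obtain ⟨f₁, e₁, -, t2⟩ := k.semi.fa_tv (m.B_comm hw)
    have e1 := (h.tc _ _ (m.fa_dual_tv (m.B_comm hw) hw)).symm.trans (k.conj _ _ t2)
    have e2 := congrArg (fun g : SLV K V => g.1 f) (h.fa_inj (m.fa_tv_unip _) (m.fa_tv_unip _) e1)
    simp only [tv_app, a3, one_smul, add_right_inj] at e2
    exact ⟨_, e2⟩
  obtain ⟨l, hl⟩ := key e a1
  obtain ⟨l', hl'⟩ := key e' hh.ee
  have h1 := m.B_comm hh.ef
  have h2 := (m.hp_iff.1 hh.h₂).2.2
  rw [← m.conj] at h2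
  rw [hl, P.B_smul_right, mul_eq_zero] at h1
  rcases h1 with rfl | h1
  · exact U5.hp_ne hf (by rw [hl, zero_smul])
  · rw [hl', P.B_smul_right, h1, mul_zero, map_zero] at h2
    exact zero_ne_one h2

theorem exists_conj (k : Semi α γ) (s : SLV K V) : ∃ s' : SLV K V, ∀ v, s'.1 (γ v) = γ (s.1 v) := by
  exact k.fa_conj s

theorem fa_act_mem (k : ActL ψ g α γ) : g ∈ normalizer (ψ.range : Set G) := by
  refine norm_of_le ?_
  rintro _ ⟨s, rfl⟩
  obtain ⟨s', e⟩ := k.semi.fa_conj s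
  exact ⟨s', (k.conj s s' e).symm⟩

theorem fa_act_cent (hg : g ∈ centralizer (ψ.range : Set G)) : ActL ψ g 1 1 := by
  refine ⟨fun _ _ => rfl, fun s s' e => ?_⟩
  rw [slv_ext (g := s') (g' := s) e, ← hg _ ⟨s, rfl⟩, mul_inv_cancel_right]

theorem fa_act_pow (k : ActL ψ g α γ) (n : ℕ) : ActL ψ (g ^ n) (α ^ n) (γ ^ n) := by
  induction n with
  | zero => simpa only [pow_zero] using h.fa_act_cent (one_mem _)
  | succ n ih => simpa only [pow_succ] using h.act_mul ih k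

theorem fa_cent_of_act (k : ActL ψ g α γ) {l : SLV K V} (e : ∀ v, γ v = l.1 v) :
    (ψ l)⁻¹ * g ∈ centralizer (ψ.range : Set G) := by
  rintro _ ⟨s, rfl⟩
  have := k.conj s (l * s * l⁻¹) fun v => by
    rw [e, e, slv_mul, slv_mul, fa_inv_app]
  rw [map_mul, map_mul, map_inv] at this
  rw [show ψ s * ((ψ l)⁻¹ * g) = (ψ l)⁻¹ * (ψ l * ψ s * (ψ l)⁻¹) * g by group, ← this]
  group

theorem lin_odd (k : ActL ψ g 1 γ) : ∃ m, Odd m ∧ g ^ m ∈ ψ.range := by
  have k1 := h.fa_act_pow k (Nat.card Kˣ)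
  rw [one_pow] at k1
  obtain ⟨l, hl⟩ := fa_mk (u := k1.semi.lin.toLinearMap) (by
    have : k1.semi.lin = k.semi.lin ^ Nat.card Kˣ := LinearEquiv.ext fun v => by
      rw [Semi.lin_apply, LinearEquiv.pow_apply, LinearEquiv.pow_apply]; rfl
    rw [this, ← LinearEquiv.coe_det, map_pow, pow_card_eq_one', Units.val_one])
  have h1 := h.fa_cent_of_act k1 (l := l) fun v => (LinearMap.congr_fun hl v).symm
  have c : Commute (ψ l) ((ψ l)⁻¹ * g ^ Nat.card Kˣ) := h1 _ ⟨l, rfl⟩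
  have h2 := c.mul_pow (orderOf ((ψ l)⁻¹ * g ^ Nat.card Kˣ))
  rw [mul_inv_cancel_left, pow_orderOf_eq_one, mul_one, ← pow_mul] at h2
  exact ⟨_, h.fa_mod.odd_cardU.mul (UFP.odd_orderOf h.fa_odd h1), h2 ▸ pow_mem (show ψ l ∈ ψ.range from ⟨l, rfl⟩) _⟩

theorem inj_two {H : Subgroup (SLV K V)} (h2 : IsPGroup 2 H) {s s' : SLV K V} (hs : s ∈ H)
    (hs' : s' ∈ H) (e : ψ s = ψ s') : s = s' := by
  exact h.fa_inj ((h2 ⟨s, hs⟩).imp fun _ k => congrArg Subtype.val k)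
    ((h2 ⟨s', hs'⟩).imp fun _ k => congrArg Subtype.val k) e

theorem dvd_card {H : Subgroup (SLV K V)} {r : ℕ} (hr : r.Prime) (h1 : r ∣ Nat.card H)
    (h2 : ¬ r ∣ Nat.card K - 1) : r ∣ Nat.card (H.map ψ) := by
  have := finite_slv (K := K) (V := V)
  have := Fact.mk hr
  obtain ⟨s, hs⟩ := exists_prime_orderOf_dvd_card' r h1
  rw [← Subgroup.orderOf_coe] at hs
  have h3 : ψ s ≠ 1 := fun e => by
    obtain ⟨l, hl⟩ := mem_center_SLV.1 (h.kerψ e)
    have h4 : ∀ n v, ((s : SLV K V) ^ n).1 v = l ^ n • v := fun n v => by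
      induction n with
      | zero => rw [pow_zero, pow_zero, one_smul]; rfl
      | succ n ih => rw [pow_succ', slv_mul, ih, hl, smul_smul, pow_succ']
    obtain ⟨p, f, k⟩ := h.fa_mod.exists_pair
    have l0 : l ≠ 0 := fun e => U5.hp_ne k ((s : SLV K V).1.injective (by rw [hl, e, zero_smul, map_zero]))
    refine h2 (hs ▸ orderOf_dvd_of_pow_eq_one (slv_ext fun v => ?_))
    have := Fintype.ofFinite K
    rw [h4, Nat.card_eq_fintype_card, FiniteField.pow_card_sub_one_eq_one l l0, one_smul]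
    rfl
  rw [← orderOf_eq_prime (x := ψ s) (p := r) (by rw [← map_pow, ← hs, pow_orderOf_eq_one, map_one]) h3]
  exact Subgroup.orderOf_dvd_natCard _ ⟨s, s.2, rfl⟩

theorem fa_dec (hg : g ∈ normalizer (ψ.range : Set G)) :
    ∃ u g₁ α γ, (u = 1 ∨ u = t) ∧ g = g₁ * u ∧ ActL ψ g₁ α γ := by
  obtain ⟨α, γ, k | k⟩ := h.exists_act hg
  · exact ⟨1, g, α, γ, .inl rfl, (mul_one g).symm, k⟩
  · exact ⟨t, g * t, α, γ, .inr rfl, by rw [mul_assoc, h.fa_t2, mul_one], k⟩

theorem fa_act_u {u : G} (hu : u = 1 ∨ u = t) (k : ActL ψ g α γ) : ∃ γ', ActL ψ (u * g * u⁻¹) α γ' := by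
  rcases hu with rfl | rfl
  · exact ⟨γ, by simpa using k⟩
  · exact (h.act_t k).imp fun _ k => k.1

theorem fa_comm {a b : G} (ha : a ∈ normalizer (ψ.range : Set G)) (hb : b ∈ normalizer (ψ.range : Set G)) :
    ∃ γ, ActL ψ (a * b * a⁻¹ * b⁻¹) 1 γ := by
  obtain ⟨u, a, α, γ, hu, rfl, k⟩ := h.fa_dec ha
  obtain ⟨w, b, β, δ, hw, rfl, k'⟩ := h.fa_dec hb
  obtain ⟨γ₁, k1⟩ := h.fa_act_u hu k'
  obtain ⟨γ₂, k2⟩ := h.fa_act_u hw (h.act_inv k)
  have k3 := h.act_mul (h.act_mul (h.act_mul k k1) k2) (h.act_inv k')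
  have c : u * w = w * u := by rcases hu with rfl | rfl <;> rcases hw with rfl | rfl <;> simp
  have := h.fa_mod.aut_cyc
  have e : α * β * α⁻¹ * β⁻¹ = 1 := by
    rw [(IsCyclic.commutative.is_comm.comm α β :), mul_inv_cancel_right, mul_inv_cancel]
  rw [e] at k3
  refine ⟨γ * γ₁ * γ₂ * δ⁻¹, ?_⟩
  convert k3 using 1
  calc _ = a * (u * b * u⁻¹) * (u * w * u⁻¹) * a⁻¹ * w⁻¹ * b⁻¹ := by group
    _ = _ := by rw [c]; group

/-- the linear elements -/
theorem exists_lin : ∃ N : Subgroup G, (∀ g, g ∈ N ↔ ∃ γ, ActL ψ g 1 γ) ∧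
    N ≤ normalizer (ψ.range : Set G) ∧ ∀ a ∈ normalizer (ψ.range : Set G),
      ∀ b ∈ normalizer (ψ.range : Set G), a * b * a⁻¹ * b⁻¹ ∈ N := by
  refine ⟨{ carrier := {g | ∃ γ, ActL ψ g 1 γ}
            one_mem' := ⟨1, h.fa_act_cent (one_mem _)⟩
            mul_mem' := fun ⟨_, k⟩ ⟨_, k'⟩ => ⟨_, by simpa only [mul_one] using h.act_mul k k'⟩
            inv_mem' := fun ⟨_, k⟩ => ⟨_, by simpa only [inv_one] using h.act_inv k⟩ },
    fun _ => Iff.rfl, fun _ ⟨_, k⟩ => h.fa_act_mem k, fun a ha b hb => h.fa_comm ha hb⟩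

/-- the four types of involutions -/
theorem invol (hg : g ∈ normalizer (ψ.range : Set G)) (g2 : g * g = 1) :
    g ∈ ψ.range ∨ (∃ γ, ActL ψ (g * t) 1 γ) ∨
    (∃ α γ, ActL ψ g α γ ∧ (∀ c, α c = σ c) ∧ ∀ v, γ (γ v) = v) ∨
    ∃ β : LinearMap.BilinForm K V, (∀ v v', β v v' = β v' v) ∧ (∀ v, (∀ v', β v v' = 0) → v = 0) ∧
      ∀ s s' : SLV K V, (∀ v v', β (s.1 v) (s'.1 v') = β v v') → g * ψ s * g⁻¹ = ψ s' := by
  have m := h.fa_mod
  obtain ⟨e, f, hf⟩ := m.exists_pair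
  obtain ⟨α, γ, k | k⟩ := h.exists_act hg
  · have k2 := h.act_mul k k
    rw [g2] at k2
    obtain ⟨h1, μ, h2, h3⟩ := h.act_unique (h.fa_act_cent (one_mem _)) k2
    rcases m.aut_sq h1.symm with rfl | h4
    · obtain ⟨n, ⟨n, rfl⟩, h6⟩ := h.lin_odd k
      rw [pow_succ, pow_mul, pow_two, g2, one_pow, one_mul] at h6
      exact .inl h6
    have h5 : ∀ v, γ (γ v) = μ • v := h3
    have h6 : σ μ = μ := by
      refine smul_left_injective K (γ.map_ne_zero_iff.2 (U5.hp_ne hf)) ?_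
      change σ μ • γ e = μ • γ e
      rw [← h4, ← k.semi, ← h5, h5]
    obtain ⟨l, hl⟩ := m.herm.norm_surj μ⁻¹ (by rw [map_inv₀, h6])
    have l0 : l ≠ 0 := fun e => inv_ne_zero h2 (by rw [← hl, e, mul_zero])
    obtain ⟨γ', k', h7⟩ := h.act_smul k l0
    refine .inr (.inr (.inl ⟨α, γ', k', h4, fun v => ?_⟩))
    rw [h7, h7, k.semi, h5, h4, smul_smul, smul_smul, mul_comm l, hl, inv_mul_cancel₀ h2, one_smul]
  have gi : g⁻¹ = g := inv_eq_of_mul_eq_one_right g2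
  obtain ⟨γ₀, k0⟩ := h.fa_comm hg h.fa_tN
  rw [gi, h.fa_tinv, mul_assoc] at k0
  rcases m.aut_sq (h.act_unique (h.act_mul k k) k0).1 with rfl | h4
  · exact .inr (.inl ⟨γ, k⟩)
  have h5 : ∀ c, α.symm c = σ c := fun c => α.injective (by rw [α.apply_symm_apply, h4, m.σσ])
  let β : LinearMap.BilinForm K V := LinearMap.mk₂ K (fun v v' => P.B (γ.symm v') v)
    (fun _ _ _ => P.B_add_right ..) (fun _ _ _ => P.B_smul_right ..)
    (fun _ _ _ => by rw [map_add, P.B_add_left])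
    fun c v v' => by rw [k.semi.fa_symm, h5, P.B_smul_left, m.σσ, smul_eq_mul]
  have hβ : ∀ v v', β v v' = P.B (γ.symm v') v := fun _ _ => rfl
  obtain ⟨γ', k', h6⟩ := h.act_t k
  have k1 := h.act_inv k
  rw [mul_inv_rev, gi, h.fa_tinv] at k1
  rw [← mul_assoc, mul_inv_cancel_right] at k'
  obtain ⟨-, μ, -, h7⟩ := h.act_unique k1 k'
  have h8 : ∀ v v', β v v' = σ μ * β v' v := fun v v' => by
    have := h6 (γ.symm v') v
    rw [γ.apply_symm_apply, h7, P.B_smul_right, h4] at this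
    rw [hβ, hβ, ← m.σσ (P.B (γ.symm v') v), ← this, map_mul, m.conj]
    rfl
  have h9 : σ μ = 1 := m.eq_one_of_sq (by
    have := h8 f (γ e)
    rw [h8 (γ e), hβ, γ.symm_apply_apply, (m.hp_iff.1 hf).2.2] at this
    simpa using this.symm)
  refine .inr (.inr (.inr ⟨β, fun v v' => by rw [h8, h9, one_mul], fun v hv => C.nondeg.right _ fun w => ?_,
    fun s s' hs => ?_⟩))
  · rw [← γ.symm_apply_apply w]
    exact hv _
  obtain ⟨s'', e''⟩ := k.semi.fa_inv.fa_conj s'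
  have e1 := k.conj s'' s' fun v => by
    have := e'' (γ v)
    change s''.1 (γ.symm (γ v)) = γ.symm _ at this
    rw [γ.symm_apply_apply] at this
    rw [this, γ.apply_symm_apply]
  rw [← e1, ← h.tc s s'' (m.fa_dual_symm fun v v' => ?_)]
  · simp only [mul_inv_rev, h.fa_tinv, mul_assoc]
    rw [← mul_assoc t t, ← mul_assoc t t, h.fa_t2, one_mul, one_mul]
  · obtain ⟨v, rfl⟩ := γ.symm.surjective v
    exact (congrArg (P.B · _) (e'' v)).trans (hs v' v)

end DblF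

end CfsgLib.U5
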