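import Cfsg.Agent.Lib.U5.Aut

/-! The Sylow subgroup of a flag -/

set_option autoImplicit false
set_option linter.unusedSectionVars false

namespace CfsgLib.U5

open Subgroup Module CfsgLib.Forms CfsgLib.LieMult
open CfsgLib.HX (Std CO Two Mv Tr Heis NF Fus4 Has4 M2)
open Submodule (span)
open scoped commutatorElement Pointwise

universe u

variable {K : Type} [Field K] [Finite K] {σ : K →+* K} {V : Type} [AddCommGroup V] [Module K V]
  [FiniteDimensional K V] {P : PQ σ V} {S : Type} [Group S] [Finite S] {G : Type u} [Group G]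
  [Finite G] {C : CG P S} {φ : S →* G} {t : G}

section
variable {m : ℕ} (b : Basis (Fin m) K V)

theorem mem_flag {i : ℕ} {v : V} : v ∈ flag b i ↔ ∀ j : Fin m, i ≤ j → b.repr v j = 0 := by
  rw [flag, b.mem_span_image]
  exact ⟨fun h j hj => by_contra fun h0 => absurd (h (Finsupp.mem_support_iff.2 h0)) (not_lt.2 hj),
    fun h j hj => not_le.1 fun h0 => Finsupp.mem_support_iff.1 hj (h j h0)⟩

theorem b_mem_flag {i : ℕ} {j : Fin m} (h : (j : ℕ) < i) : b j ∈ flag b i := Submodule.subset_span ⟨j, h, rfl⟩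

theorem flag_mono {i j : ℕ} (h : i ≤ j) : flag b i ≤ flag b j := fun _ hv =>
  (mem_flag b).2 fun l hl => (mem_flag b).1 hv l (h.trans hl)

theorem flag_zero : flag b 0 = ⊥ := eq_bot_iff.2 fun _ hv =>
  b.repr.map_eq_zero_iff.1 (Finsupp.ext fun j => (mem_flag b).1 hv j (Nat.zero_le _))

theorem flag_top {i : ℕ} (h : m ≤ i) : flag b i = ⊤ := eq_top_iff.2 fun _ _ =>
  (mem_flag b).2 fun j hj => absurd (j.2.trans_le h) (not_lt.2 hj)

theorem sub_mem_flag {j : Fin m} {v : V} (hv : v ∈ flag b (j + 1)) : v - b.repr v j • b j ∈ flag b j :=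
  (mem_flag b).2 fun l hl => by
    rcases hl.lt_or_eq with h | h
    · simp [(mem_flag b).1 hv l h, Finsupp.single_eq_of_ne (Fin.ne_of_gt h)]
    · simp [Fin.ext h]

theorem mem_of_map_mem {g : V ≃ₗ[K] V} {M : Submodule K V} (h : ∀ v ∈ M, g v ∈ M) {v : V} (hv : g v ∈ M) : v ∈ M := by
  have h1 : M.map g.toLinearMap = M := Submodule.eq_of_le_of_finrank_eq (by
    rintro _ ⟨w, hw, rfl⟩
    exact h w hw) (g.finrank_map_eq M)
  obtain ⟨w, hw, e⟩ := h1.ge hv
  exact g.injective e ▸ hw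

theorem mem_Nh {k : ℕ} {n : V →ₗ[K] V} : n ∈ Nh b k ↔ ∀ i, ∀ v ∈ flag b i, n v ∈ flag b (i - k) := by
  refine ⟨fun h i v hv => ?_, fun h i j hj => (mem_flag b).1 (h _ _ (b_mem_flag b j.1.lt_succ_self)) i (by omega)⟩
  refine Submodule.mem_comap.1 ((Submodule.span_le (p := (flag b (i - k)).comap n)).2 ?_ hv)
  rintro _ ⟨j, hj, rfl⟩
  exact (mem_flag b).2 fun l hl => h l j (by have : (j : ℕ) < i := hj; omega)

theorem Nh_anti {k l : ℕ} (h : k ≤ l) : Nh b l ≤ Nh b k := by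
  exact fun _ hn i j hj => hn i j (by omega)

theorem Nh_mul {k l : ℕ} {n n' : V →ₗ[K] V} (h : n ∈ Nh b k) (h' : n' ∈ Nh b l) :
    n * n' ∈ Nh b (k + l) := by
  refine (mem_Nh b).2 fun i v hv => ?_
  have := (mem_Nh b).1 h _ _ ((mem_Nh b).1 h' i v hv)
  rwa [Nat.sub_sub, add_comm] at this

theorem Nh_top : Nh b m = ⊥ := by
  refine eq_bot_iff.2 fun n hn => b.ext fun j => b.repr.map_eq_zero_iff.1 (Finsupp.ext fun i => hn i j ?_)
  omega

theorem map_mem_flag {k : ℕ} {g : V ≃ₗ[K] V} (h : g.toLinearMap - LinearMap.id ∈ Nh b k) (i : ℕ) :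
    ∀ v ∈ flag b i, g v ∈ flag b i := fun v hv => by
  simpa using add_mem (flag_mono b (Nat.sub_le _ _) ((mem_Nh b).1 h i v hv)) hv

theorem mem_Ub {s : S} : s ∈ Ub C b ↔ nu C s ∈ Nh b 1 := by
  refine ⟨fun h => (mem_Nh b).2 fun i v hv => ?_, fun h i => ⟨fun v => ⟨mem_of_map_mem (map_mem_flag b h i),
    map_mem_flag b h i v⟩, (mem_Nh b).1 h (i + 1)⟩⟩
  rcases i with _ | i
  · rw [flag_zero, Submodule.mem_bot] at hv
    rw [hv, map_zero]
    exact zero_mem _
  · exact (h i).2 v hv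

theorem mem_Mh {k : ℕ} (hk : 0 < k) {g : SLV K V} :
    g ∈ Mh b k ↔ g.1.toLinearMap - LinearMap.id ∈ Nh b k := by
  refine ⟨fun h => ?_, fun h => subset_closure h⟩
  induction h using closure_induction with
  | mem _ h => exact h
  | one => exact fun i j _ => by simp
  | mul x y _ _ hx hy =>
    have := add_mem (add_mem (Nh_anti b (Nat.le_add_left _ _) (Nh_mul b hx hy)) hx) hy
    convert this using 1
    ext v
    simp only [Subgroup.coe_mul, LinearMap.sub_apply, LinearEquiv.coe_coe, LinearMap.add_apply,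
      LinearEquiv.mul_apply, LinearMap.id_apply, Module.End.mul_apply, map_sub]
    abel
  | inv x _ hx =>
    refine (mem_Nh b).2 fun i v hv => mem_of_map_mem (map_mem_flag b hx _) ?_
    simpa using neg_mem ((mem_Nh b).1 hx i v hv)

theorem exists_Mh (h2 : (2 : K) = 0) {n : V →ₗ[K] V} (hn : n ∈ Nh b 1) :
    ∃ g : SLV K V, g.1.toLinearMap = LinearMap.id + n := by
  have hd : LinearMap.det (LinearMap.id + n) = 1 := by
    rw [← LinearMap.det_toMatrix b, Matrix.det_of_isUpperTriangular fun i j hij => by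
      have : (j : ℕ) < i := hij
      simp [LinearMap.toMatrix_apply, hn i j (by omega), Finsupp.single_eq_of_ne (show i ≠ j from Fin.ne_of_gt hij)]]
    exact Finset.prod_eq_one fun i _ => by simp [LinearMap.toMatrix_apply, hn i i (by omega)]
  refine ⟨⟨LinearMap.equivOfDetNeZero _ (hd ▸ one_ne_zero), Units.ext ?_⟩, rfl⟩
  rw [LinearEquiv.coe_det]
  exact hd

theorem Mh_two (h2 : (2 : K) = 0) : IsPGroup 2 (Mh b 1) := by
  rintro ⟨g, hg⟩
  have key : ∀ j : ℕ, g ^ 2 ^ j ∈ Mh b (j + 1) := fun j => by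
    induction j with
    | zero => simpa using hg
    | succ j ih =>
      rw [mem_Mh b (by omega)] at ih ⊢
      have := Nh_anti b (show j + 1 + 1 ≤ _ by omega) (Nh_mul b ih ih)
      convert this using 1
      ext v
      have e : ∀ w : V, w + w = 0 := fun w => by rw [← two_smul K, h2, zero_smul]
      simp only [pow_succ, pow_mul, pow_zero, one_mul, Subgroup.coe_mul, LinearMap.sub_apply, LinearEquiv.coe_coe,
        LinearEquiv.mul_apply, LinearMap.id_apply, Module.End.mul_apply, map_sub]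
      linear_combination (norm := abel1) e ((g ^ 2 ^ j).1 v) - e v
  refine ⟨m, Subtype.ext (Subtype.ext (LinearEquiv.toLinearMap_injective (sub_eq_zero.1 ?_)))⟩
  exact (Nh_top b).le (Nh_anti b (Nat.le_succ m) ((mem_Mh b (by omega)).1 (key m)))

theorem Ub_le_fix : Ub C b ≤ C.fixG (flag b 1) := fun _ hs v hv =>
  sub_eq_zero.1 ((flag_zero b).le ((hs 0).2 v hv))

theorem exists_fixed_quot (h2 : (2 : K) = 0) {H : Subgroup (V ≃ₗ[K] V)} (hH : IsPGroup 2 H) {M : Submodule K V}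
    (h1 : ∀ g ∈ H, ∀ v ∈ M, g v ∈ M) {x : V} (hx : x ∉ M) : ∃ v, v ∉ M ∧ ∀ g ∈ H, g v - v ∈ M := by
  have : Finite (V ⧸ M) := Module.finite_of_finite K
  let _ : MulAction H (V ⧸ M) :=
    { smul := fun g => M.mapQ M g.1.toLinearMap (h1 g g.2)
      one_smul := fun q => by obtain ⟨v, rfl⟩ := M.mkQ_surjective q; rfl
      mul_smul := fun g g' q => by obtain ⟨v, rfl⟩ := M.mkQ_surjective q; rfl }
  obtain ⟨q, hq, hq'⟩ := hH.exists_fixed_point_of_prime_dvd_card_of_fixed_point (V ⧸ M) (a := 0) (by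
    rw [← addOrderOf_eq_prime (x := M.mkQ x) (p := 2) (by rw [← ofNat_smul_eq_nsmul K, h2, zero_smul])
      fun e => hx ((Submodule.Quotient.mk_eq_zero M).1 e)]
    exact addOrderOf_dvd_natCard _) fun g => map_zero (M.mapQ M g.1.toLinearMap (h1 g g.2))
  obtain ⟨v, rfl⟩ := M.mkQ_surjective q
  exact ⟨v, fun e => hq' ((Submodule.Quotient.mk_eq_zero M).2 e).symm,
    fun g hg => (Submodule.Quotient.eq M).1 (hq ⟨g, hg⟩)⟩

end

namespace Mod

section
variable (h : Mod C) {e f e' f' a : V} {c : K}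
include h

theorem T_mem_fix_iff (k : TOk P e a c) (h0 : e ≠ 0) {U : Submodule K V} (he : e ∈ U) :
    C.T e a c ∈ C.fixG (P.perp U) ↔ a ∈ U := by
  refine ⟨fun h1 => (P.perp_perp C.nondeg U).le (P.mem_perp'.2 fun v hv => ?_),
    fun ha v hv => C.T_fix k (P.mem_perp.1 hv e he) (P.mem_perp.1 hv a ha)⟩
  have := h1 v hv
  rw [C.T_perp k (P.mem_perp.1 hv e he), add_eq_left] at this
  exact (smul_eq_zero.1 this).resolve_right h0

theorem fix_of_comm (hf : HP P e f) {s : S} (hs : C.act s e = e) (ha : P.B e a = 0)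
    (hc : ∀ (l c : K), TOk P e (l • a) c → s * C.T e (l • a) c = C.T e (l • a) c * s) : C.act s a = a := by
  have key : ∀ l : K, l • (C.act s a - a) = (σ l * (P.B a f - P.B (C.act s a) f)) • e := fun l => by
    obtain ⟨c, k⟩ := h.exists_tok hf.se.self_eq (show P.B e (l • a) = 0 by simp [ha])
    have h1 := C.T_conj s k
    have k' := k.act C s
    rw [hc l c k, mul_inv_cancel_right] at h1
    rw [hs] at h1 k'
    have h2 := h.T_app k f
    rw [h1, h.T_app k', hf.ef, map_smul, P.B_smul_left, P.B_smul_left] at h2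
    linear_combination (norm := module) h2
  obtain ⟨t, ht⟩ := h.herm.exists_ne_conj
  have h1 := key 1
  have h2 := key t
  rw [one_smul, map_one, one_mul] at h1
  rw [h1, smul_smul] at h2
  have h3 := smul_left_injective K (fun e0 => by simpa [e0] using hf.ef : e ≠ 0) h2
  rw [(mul_eq_mul_right_iff.1 h3).resolve_left ht.symm, zero_smul] at h1
  exact sub_eq_zero.1 h1

theorem comm_T (k : TOk P e a c) {s : S} (hs : C.act s e = e) :
    ∃ d, TOk P e (C.act s a - a) d ∧ ⁅s, C.T e a c⁆ = C.T e (C.act s a - a) d := by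
  have k' := k.act C s
  rw [hs] at k'
  rw [commutatorElement_def, C.T_conj s k, hs, C.T_inv k, C.T_mul k' (k.neg C), sub_eq_add_neg]
  exact ⟨_, k'.add (k.neg C), rfl⟩

theorem mem_Q (k : HH P e f e' f') {x : S} {l : K} (l0 : l ≠ 0) (xe : C.act x e = e) (xe' : nu C x e' = l • e)
    (x2 : ∀ v, P.B e v = 0 → C.act x (C.act x v) = v)
    (hc : ∀ a d, TOk P e' a d → P.B e a = 0 → ∀ v, P.B e v = 0 →
      C.act (x * (C.T e' a d * x * (C.T e' a d)⁻¹)) v = C.act (C.T e' a d * x * (C.T e' a d)⁻¹ * x) v)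
    {u : V} (hu : P.B e u = 0) : nu C x u ∈ span K {e} := by
  have hn : ∀ v, nu C x v = C.act x v - v := fun _ => rfl
  have hn' : ∀ v, C.act x v = v + nu C x v := fun v => by rw [hn, add_sub_cancel]
  have ne : nu C x e = 0 := by rw [hn, xe, sub_self]
  have adj : ∀ u v, P.B e v = 0 → P.B (nu C x u) v = P.B u (nu C x v) := fun u v hv => by
    rw [hn, hn, P.B_sub_left, P.B_sub_right, ← C.B_act x u (C.act x v), x2 v hv]
  have p1 : ∀ v, P.B e (nu C x v) = 0 := fun v => by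
    rw [hn, P.B_sub_right, ← C.B_act x e v, xe, sub_self]
  have nn : ∀ v, P.B e v = 0 → nu C x (nu C x v) = 0 := fun v hv => by
    rw [hn, hn, map_sub, x2 v hv]
    linear_combination (norm := module) h.vadd_self v - h.vadd_self (C.act x v)
  have ee := k.h₁.se.self_eq
  have e'e := P.B_eq_zero_comm.1 k.ee
  obtain ⟨n, hn0⟩ : ∃ n, n = nu C x := ⟨_, rfl⟩
  rw [← hn0] at hn' ne adj p1 nn xe' ⊢
  obtain ⟨a, ha⟩ : ∃ a, a = n f := ⟨_, rfl⟩
  have ea : P.B e a = 0 := ha ▸ p1 f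
  have e'a : P.B e' a = σ l := by rw [← h.conj, ha, adj _ _ k.ee, xe', map_smul, k.h₁.fe, smul_eq_mul, mul_one]
  have na : ∀ v, P.B e v = 0 → P.B (n a) v = 0 := fun v hv => by
    rw [adj _ _ hv, ha, adj _ _ (p1 v), nn v hv, map_zero]
  have q0 : ∀ w, P.B e w = 0 → P.B e' w = 0 → P.B f w = 0 → P.B (n w) w = 0 := fun w w1 w2 w3 => by
    have r0 : ∀ d, TOk P e' w d → ∀ u, P.B e u = 0 → P.B (n (C.act (C.T e' w d) a)) u = l * P.B (n w) u :=
      fun d kd u hu => by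
        rw [h.T_app kd, n.map_add, n.map_add, n.map_smul, n.map_smul, xe']
        simp only [P.B_add_left, P.B_smul_left, na u hu, hu, e'a, P.σσ, mul_zero, zero_add]
    obtain ⟨d, kd⟩ := h.exists_tok k.h₂.se.self_eq w2
    have kd' := kd.neg C
    have gi := C.T_inv kd
    rw [neg_eq_of_add_eq_zero_left (h.vadd_self w)] at kd' gi
    have ge : C.act (C.T e' w d) e = e := C.T_fix kd e'e (P.B_eq_zero_comm.1 w1)
    have gf : C.act (C.T e' w d) f = f := C.T_fix kd (P.B_eq_zero_comm.1 k.fe) (P.B_eq_zero_comm.1 w3)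
    have r1 := r0 d kd
    have r2 := r0 _ kd'
    have r3 := h.T_app kd f'
    have r4 := hc w d kd w1
    rw [← gi] at r2
    generalize C.T e' w d = g at *
    have g1 : ∀ v, P.B e (C.act g v) = P.B e v := fun v => by rw [← C.B_act g e v, ge]
    have g2 : ∀ v, P.B f (C.act g v) = P.B f v := fun v => by rw [← C.B_act g f v, gf]
    have r5 := r4 (C.act g f') ((g1 _).trans k.ef)
    simp only [C.mul_apply, hn', map_add, C.inv_apply, C.apply_inv] at r5
    have r6 : n (C.act g (n f')) = C.act g (n (C.act g⁻¹ (n (C.act g f')))) := by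
      linear_combination (norm := module) r5
    have r7 := congrArg (P.B f) r6
    rw [g2, ← adj _ _ ((g1 _).trans (p1 _)), ← adj _ _ (by rw [← g1, C.apply_inv, p1]), ← ha, ← C.B_act_left,
      ← adj _ _ ((g1 _).trans k.ef), r1 _ ((g1 _).trans k.ef), ← C.B_act g⁻¹, C.inv_apply, ← adj _ _ k.ef,
      r2 _ k.ef, r3, k.h₂.ef, one_smul, map_add, map_add, map_smul, adj w e' k.ee, xe', map_smul,
      P.B_eq_zero_comm.1 w1] at r7
    simpa [l0] using r7
  have q1 : ∀ w, P.B e w = 0 → P.B e' w = 0 → P.B f w = 0 → ∀ w', P.B e w' = 0 → P.B e' w' = 0 →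
      P.B f w' = 0 → P.B (n w) w' = 0 := fun w w1 w2 w3 w' w4 w5 w6 => by
    by_contra h0
    obtain ⟨t, ht⟩ := h.herm.exists_trace_one
    have := q0 (w + (t / P.B (n w) w') • w') (by simp [w1, w4]) (by simp [w2, w5]) (by simp [w3, w6])
    rw [n.map_add, n.map_smul] at this
    simp only [P.B_add_right, P.B_smul_right, P.B_add_left, P.B_smul_left, q0 w w1 w2 w3, q0 w' w4 w5 w6,
      adj w' w w1, ← h.conj (n w) w', ← map_mul, div_mul_cancel₀ _ h0, mul_zero, zero_add, add_zero] at this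
    exact one_ne_zero (ht.symm.trans (by linear_combination this))
  have dec : ∀ u, P.B e u = 0 → ∃ (α β : K) (w : V), P.B e w = 0 ∧ P.B e' w = 0 ∧ P.B f w = 0 ∧
      u = w + α • a + β • e := fun u hu =>
    ⟨P.B e' u / σ l, P.B f (u - (P.B e' u / σ l) • a), u - (P.B e' u / σ l) • a -
      P.B f (u - (P.B e' u / σ l) • a) • e, by simp [hu, ea, ee],
      by simp [e'e, e'a, div_mul_cancel₀ _ ((map_ne_zero σ).2 l0)], by simp [k.h₁.fe], by abel⟩
  refine (P.perp_perp C.nondeg _).le (P.mem_perp'.2 fun v hv => ?_)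
  have hv' := P.mem_perp_span_singleton.1 hv
  obtain ⟨α, β, w, w1, w2, w3, rfl⟩ := dec u hu
  simp only [n.map_add, n.map_smul, ne, smul_zero, add_zero, P.B_add_left, P.B_smul_left, na v hv', mul_zero]
  obtain ⟨α, β, w', w4, w5, w6, rfl⟩ := dec v hv'
  rw [map_add, map_add, map_smul, map_smul, q1 w w1 w2 w3 w' w4 w5 w6, adj w a ea, ← h.conj, na w w1,
    P.B_eq_zero_comm.1 (p1 w)]
  simp

end

variable (h : Mod C) {b : Basis (Fin (finrank K V)) K V} (hb : Bas P b)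
include h hb

theorem B_rev (j : Fin (finrank K V)) (v : V) : P.B (b j.rev) v = b.repr v j := by
  have : P.B (b j.rev) = b.coord j := b.ext fun i => by
    rw [hb, Fin.rev_rev, b.coord_apply, b.repr_self, Finsupp.single_apply]
  rw [this, b.coord_apply]

theorem perp_flag {i : ℕ} (hi : i ≤ finrank K V) : P.perp (flag b i) = flag b (finrank K V - i) := by
  ext v
  rw [flag, P.mem_perp_span, mem_flag]
  refine ⟨fun h1 j hj => ?_, ?_⟩
  · rw [← h.B_rev hb]
    exact h1 _ ⟨j.rev, by have := j.2; simp only [Set.mem_ofPred_eq, Fin.val_rev]; omega, rfl⟩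
  · rintro h1 _ ⟨j, hj, rfl⟩
    have hj' : (j : ℕ) < i := hj
    rw [← j.rev_rev, h.B_rev hb]
    exact h1 _ (by rw [Fin.val_rev]; omega)

theorem exists_flag : ∃ e f e' f', HH P e f e' f' ∧ flag b 1 = span K {e} ∧ flag b 2 = span K {e, e'} := by
  have := h.d4
  have k : ∀ (i j : ℕ) (hi : i < finrank K V) (hj : j < finrank K V), P.B (b ⟨i, hi⟩) (b ⟨j, hj⟩) =
      if i + j + 1 = finrank K V then 1 else 0 := fun i j hi hj => by
    rw [hb]
    exact if_congr (by rw [Fin.ext_iff, Fin.val_rev]; dsimp only; omega) rfl rfl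
  refine ⟨b ⟨0, by omega⟩, b ⟨finrank K V - 1, by omega⟩, b ⟨1, by omega⟩, b ⟨finrank K V - 2, by omega⟩,
    ⟨h.hp_iff.2 ⟨?_, ?_, ?_⟩, h.hp_iff.2 ⟨?_, ?_, ?_⟩, ?_, ?_, ?_, ?_⟩, ?_, ?_⟩
  any_goals rw [k]; split_ifs <;> first | rfl | omega
  · rw [flag, ← Set.image_singleton]
    congr 2
    ext j
    simp [Fin.ext_iff]
  · rw [flag, ← Set.image_pair]
    congr 2
    ext j
    simp only [Set.mem_ofPred_eq, Set.mem_insert_iff, Set.mem_singleton_iff, Fin.ext_iff]
    omega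

theorem exists_adj {k : ℕ} {n : V →ₗ[K] V} (hn : n ∈ Nh b k) :
    ∃ n' ∈ Nh b k, ∀ v v', P.B (n v) v' = P.B v (n' v') := by
  let n' : V →ₗ[K] V := b.constr K fun j => ∑ i, P.B (n (b i.rev)) (b j) • b i
  have h1 : ∀ i j, b.repr (n' (b j)) i = P.B (n (b i.rev)) (b j) := fun i j => by
    simp [n', Finsupp.single_apply]
  refine ⟨n', fun i j hij => ?_, fun v v' => ?_⟩
  · rw [h1, ← h.conj, ← j.rev_rev, h.B_rev hb, hn _ _ (by
      have := j.2
      simp only [Fin.val_rev]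
      omega), map_zero]
  · have h2 : ∀ i, P.B (n (b i)) = P.B (b i) ∘ₗ n' := fun i => b.ext fun j => by
      rw [LinearMap.comp_apply, ← i.rev_rev, h.B_rev hb, h1]
    exact LinearMap.congr_fun (b.ext (f₁ := (P.B.flip v').comp n) (f₂ := P.B.flip (n' v'))
      fun i => LinearMap.congr_fun (h2 i) v') v

theorem Ub_two : IsPGroup 2 (Ub C b) := by
  exact uni_two h.two (flag_zero b) (flag_top b le_rfl)

theorem rad_le {r : ℕ} (hr : r ≤ finrank K V) : Rad C (flag b r) ≤ Ub C b := fun s hs =>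
  (mem_Ub b).2 ((mem_Nh b).2 fun i v hv => by
    change C.act s v - v ∈ _
    by_cases h1 : i ≤ r
    · rw [hs.1 v (flag_mono b h1 hv), sub_self]
      exact zero_mem _
    by_cases h2 : i ≤ finrank K V - r
    · exact flag_mono b (by omega) (hs.2 v (h.perp_flag hb hr ▸ flag_mono b h2 hv))
    · refine flag_mono b (by omega) ((h.perp_flag hb hr).le (P.mem_perp.2 fun w hw => ?_))
      rw [map_sub, ← hs.1 w hw, C.B_act, hs.1 w hw, sub_self])

theorem T_Nh {e a : V} {c : K} (k : TOk P e a c) {r r' l : ℕ} (he : e ∈ flag b r) (ha : a ∈ flag b r')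
    (h1 : r ≤ r') (h2 : r + r' + l ≤ finrank K V + 1) (h3 : r' ≤ finrank K V) : nu C (C.T e a c) ∈ Nh b l :=
  (mem_Nh b).2 fun i v hv => by
    change C.act _ v - v ∈ _
    rw [h.T_app k, add_assoc, add_sub_cancel_left]
    have k1 : ∀ {x : V} {j : ℕ}, x ∈ flag b j → j ≤ finrank K V → i ≤ finrank K V - j → P.B x v = 0 :=
      fun hx hj hi => P.mem_perp.1 ((h.perp_flag hb hj).ge (flag_mono b hi hv)) _ hx
    by_cases h4 : i ≤ finrank K V - r
    · rw [k1 he (by omega) h4, zero_smul, add_zero, mul_zero, add_zero]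
      by_cases h5 : i ≤ finrank K V - r'
      · rw [k1 ha h3 h5, zero_smul]
        exact zero_mem _
      · exact Submodule.smul_mem _ _ (flag_mono b (by omega) he)
    · exact flag_mono b (by omega) (add_mem (Submodule.smul_mem _ _ (flag_mono b h1 he)) (Submodule.smul_mem _ _ ha))

theorem exists_root {i j : Fin (finrank K V)} (hij : (j : ℕ) = i + 1) :
    ∃ u ∈ Ub C b, b.repr (nu C u (b j)) i ≠ 0 := by
  have hj := j.2
  have k0 : ∀ i : Fin (finrank K V), 2 * (i : ℕ) + 2 ≤ finrank K V → P.B (b i) (b i) = 0 := fun i hi => by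
    rw [hb, if_neg (by rw [Fin.ext_iff, Fin.val_rev]; omega)]
  have k1 : P.B (b j.rev) (b j) = 1 := by rw [hb, Fin.rev_rev, if_pos rfl]
  have k2 : P.B (b i) (b j.rev) = 0 := by rw [hb, if_neg (by rw [Fin.rev_inj, Fin.ext_iff]; omega)]
  have k3 : (j.rev : ℕ) = finrank K V - (j + 1) := Fin.val_rev _
  rcases lt_trichotomy i j.rev with h1 | h1 | h1
  · have h2 : (i : ℕ) < j.rev := h1
    obtain ⟨c, k⟩ := h.exists_tok (k0 i (by omega)) k2
    refine ⟨_, (mem_Ub b).2 (h.T_Nh hb k (b_mem_flag b i.1.lt_succ_self) (b_mem_flag b j.rev.1.lt_succ_self)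
      (by omega) (by omega) (by omega)), ?_⟩
    have : P.B (b i) (b j) = 0 := by rw [hb, if_neg (by rw [Fin.ext_iff, Fin.val_rev]; omega)]
    simp [nu, h.T_app k, k1, this]
  · have h2 : (i : ℕ) = j.rev := congrArg _ h1
    have k := h.tok0 (k0 i (by omega)) (map_one σ)
    refine ⟨_, (mem_Ub b).2 (h.T_Nh hb k (b_mem_flag b i.1.lt_succ_self) (r' := i + 1) (zero_mem _)
      le_rfl (by omega) (by omega)), ?_⟩
    simp [nu, h.T_app k, show P.B (b i) (b j) = 1 from h1 ▸ k1]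
  · have h2 : (j.rev : ℕ) < i := h1
    obtain ⟨c, k⟩ := h.exists_tok (k0 j.rev (by omega)) (P.B_eq_zero_comm.1 k2)
    refine ⟨_, (mem_Ub b).2 (h.T_Nh hb k (b_mem_flag b j.rev.1.lt_succ_self) (b_mem_flag b i.1.lt_succ_self)
      (by omega) (by omega) (by omega)), ?_⟩
    simp [nu, h.T_app k, k1, Finsupp.single_eq_of_ne h1.ne']

theorem mem_succ {i : ℕ} {v : V} (hv : ∀ u ∈ Ub C b, C.act u v - v ∈ flag b i) : v ∈ flag b (i + 1) := by
  have key : ∀ d, v ∈ flag b (i + 1 + d) → v ∈ flag b (i + 1) := fun d => by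
    induction d with
    | zero => exact id
    | succ d ih =>
      refine fun h1 => ih ?_
      by_cases h2 : finrank K V ≤ i + 1 + d
      · rw [flag_top b h2]
        trivial
      obtain ⟨u, hu, h3⟩ := h.exists_root hb (i := ⟨i + d, by omega⟩) (j := ⟨i + 1 + d, by omega⟩) (by dsimp only; omega)
      have h4 := sub_mem_flag b (j := ⟨i + 1 + d, by omega⟩) h1
      have h5 := (mem_flag b).1 ((mem_Nh b).1 ((mem_Ub b).1 hu) _ _ h4) ⟨i + d, by omega⟩ (by dsimp only; omega)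
      have h6 : b.repr (nu C u v) ⟨i + d, by omega⟩ = 0 := (mem_flag b).1 (hv u hu) _ (by dsimp only; omega)
      rw [map_sub, map_smul, map_sub, map_smul, Finsupp.sub_apply, h6, zero_sub, neg_eq_zero, Finsupp.smul_apply,
        smul_eq_mul] at h5
      rwa [(mul_eq_zero.1 h5).resolve_right h3, zero_smul, sub_zero] at h4
  exact key (finrank K V) (by rw [flag_top b (by omega)]; trivial)

theorem rad_le_Ub : Rad C (flag b 1) ≤ Ub C b ∧ Rad C (flag b 2) ≤ Ub C b := by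
  have := h.d4
  exact ⟨h.rad_le hb (by omega), h.rad_le hb (by omega)⟩

theorem Ub_le_stb (i : ℕ) : Ub C b ≤ Stb C (flag b i) := by
  exact fun s hs => (hs i).1

/-- a 2-group of linear maps containing `Ub` is unitriangular -/
theorem syl_flag {H : Subgroup (V ≃ₗ[K] V)} (h2 : IsPGroup 2 H) (hU : ∀ s ∈ Ub C b, C.act s ∈ H)
    {g : V ≃ₗ[K] V} (hg : g ∈ H) : g.toLinearMap - LinearMap.id ∈ Nh b 1 := by
  have key : ∀ i, ∀ g ∈ H, ∀ v ∈ flag b i, g v - v ∈ flag b (i - 1) := fun i => by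
    induction i with
    | zero =>
      intro g _ v hv
      rw [flag_zero, Submodule.mem_bot] at hv
      rw [hv, map_zero, sub_zero]
      exact zero_mem _
    | succ i ih =>
      have h1 : ∀ g ∈ H, ∀ v ∈ flag b i, g v ∈ flag b i := fun g hg v hv => by
        simpa using add_mem (flag_mono b (Nat.sub_le _ _) (ih g hg v hv)) hv
      intro g hg w hw
      by_cases hi : finrank K V ≤ i
      · rw [Nat.add_sub_cancel, flag_top b hi]
        trivial
      obtain ⟨v, hv, hv'⟩ := exists_fixed_quot h.two h2 h1 (x := b ⟨i, by omega⟩)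
        fun hx => by simpa using (mem_flag b).1 hx ⟨i, by omega⟩ le_rfl
      have h3 := sub_mem_flag b (j := ⟨i, by omega⟩) (h.mem_succ hb fun u hu => hv' _ (hU u hu))
      have h4 := sub_mem_flag b (j := ⟨i, by omega⟩) hw
      have h5 : b.repr v ⟨i, by omega⟩ ≠ 0 := fun e => hv (by simpa [e] using h3)
      generalize b.repr v ⟨i, by omega⟩ = x at h3 h5
      generalize b.repr w ⟨i, by omega⟩ = y at h4
      have h6 : w - (y / x) • v ∈ flag b i := by
        convert sub_mem h4 (Submodule.smul_mem _ (y / x) h3) using 1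
        rw [smul_sub, smul_smul, div_mul_cancel₀ _ h5]
        abel
      rw [Nat.add_sub_cancel]
      convert add_mem (sub_mem (h1 g hg _ h6) h6) (Submodule.smul_mem _ (y / x) (hv' g hg)) using 1
      rw [map_sub, map_smul, smul_sub]
      abel
  exact (mem_Nh b).2 fun i => key i g hg

theorem Ub_max {H : Subgroup S} (h2 : IsPGroup 2 H) (hU : Ub C b ≤ H) : H = Ub C b := by
  exact le_antisymm (fun s hs => (mem_Ub b).2 (h.syl_flag hb (h2.map C.act)
    (fun u hu => mem_map_of_mem _ (hU hu)) (mem_map_of_mem _ hs))) hU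

theorem ti_flag {r : ℕ} (hr : 2 * r ≤ finrank K V) : TI P (flag b r) :=
  (flag_mono b (by omega)).trans (h.perp_flag hb (by omega)).ge

theorem Ub_cent : Ub C b ⊓ centralizer (Ub C b : Set S) = C.fixG (P.perp (flag b 1)) := by
  obtain ⟨e, f, e', f', k, h1, -⟩ := h.exists_flag hb
  have := h.d4
  have ti := h.ti_flag hb (r := 1) (by omega)
  refine le_antisymm (fun s hs v hv => ?_) fun s hs => ⟨(h.rad_le_Ub hb).1 (h.E_le_rad ti hs),
    centralizer_le (Ub_le_fix (C := C) b) (h.E_cent ti hs)⟩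
  rw [h1, P.mem_perp_span_singleton] at hv
  exact h.fix_of_comm k.h₁ (Ub_le_fix b hs.1 e (h1.ge (Submodule.mem_span_singleton_self e))) hv
    fun l c kc => (hs.2 _ ((h.rad_le_Ub hb).1 (h1 ▸ (h.mem_rad_pt (h.hp_ne k.h₁) k.h₁.se.self_eq).2 ⟨_, _, kc, rfl⟩))).symm

/-- the subgroups used for the product case are characteristic -/
theorem char_Ub (θ : MulAut (Ub C b)) (s : Ub C b) :
    ((s : S) ∈ Rad C (flag b 1) → (θ s : S) ∈ Rad C (flag b 1)) ∧
    ((s : S) ∈ Rad C (flag b 2) → (θ s : S) ∈ Rad C (flag b 2)) ∧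
    ((s : S) ∈ Rad C (flag b 1) ⊓ C.fixG (P.perp (flag b 2)) →
      (θ s : S) ∈ Rad C (flag b 1) ⊓ C.fixG (P.perp (flag b 2))) := by
  obtain ⟨e, f, e', f', k, hf, hf2⟩ := h.exists_flag hb
  have := h.d4
  have e0 := h.hp_ne k.h₁
  have ee := k.h₁.se.self_eq
  have me : e ∈ flag b 1 := hf.ge (Submodule.mem_span_singleton_self e)
  have me2 : e ∈ flag b 2 := flag_mono b one_le_two me
  have me' : e' ∈ flag b 2 := hf2.ge (Submodule.subset_span (by simp))
  have xe : ∀ x : Ub C b, C.act x e = e := fun x => Ub_le_fix b x.2 e me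
  have hQ : ∀ {s}, s ∈ Rad C (flag b 1) ↔ ∃ a c, TOk P e a c ∧ s = C.T e a c := hf ▸ h.mem_rad_pt e0 ee
  have hT : ∀ {a c}, TOk P e a c → C.T e a c ∈ Ub C b := fun kc => (h.rad_le_Ub hb).1 (hQ.2 ⟨_, _, kc, rfl⟩)
  have hQ' : ∀ x : Ub C b, (∀ a, P.B e a = 0 → C.act x a - a ∈ flag b 1) → (x : S) ∈ Rad C (flag b 1) :=
    fun x hx => ⟨Ub_le_fix b x.2, fun v hv => hx v (P.mem_perp.1 hv e me)⟩
  have hZ : ∀ x : Ub C b, x ∈ center (Ub C b) ↔ (x : S) ∈ C.fixG (P.perp (flag b 1)) := fun x => by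
    rw [← h.Ub_cent hb, mem_center_iff]
    exact ⟨fun hx => ⟨x.2, fun g hg => congrArg Subtype.val (hx ⟨g, hg⟩)⟩, fun hx g => Subtype.ext (hx.2 g g.2)⟩
  have hA : ∀ x : Ub C b, x ∈ Subgroup.upperCentralSeries (Ub C b) 2 ↔
      (x : S) ∈ Rad C (flag b 1) ⊓ C.fixG (P.perp (flag b 2)) := fun x => by
    simp only [Subgroup.mem_upperCentralSeries_succ_iff (n := 1), Subgroup.upperCentralSeries_one]
    refine ⟨fun hx => ?_, fun hx g => ?_⟩
    · have h1 := hQ' x fun a ha => by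
        obtain ⟨c, kc⟩ := h.exists_tok ee ha
        obtain ⟨d, kd, hd⟩ := h.comm_T kc (xe x)
        exact (h.T_mem_fix_iff kd e0 me).1 (hd ▸ (hZ _).1 (hx ⟨_, hT kc⟩))
      obtain ⟨a, c, kc, hs⟩ := hQ.1 h1
      refine ⟨h1, hs ▸ (h.T_mem_fix_iff kc e0 me2).2 (h.mem_succ hb fun u hu => ?_)⟩
      obtain ⟨d, kd, hd⟩ := h.comm_T kc (xe ⟨u, hu⟩)
      refine (h.T_mem_fix_iff kd e0 me).1 (hd ▸ ?_)
      rw [← hs, ← commutatorElement_inv]
      exact inv_mem ((hZ _).1 (hx ⟨u, hu⟩))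
    · obtain ⟨a, c, kc, hs⟩ := hQ.1 hx.1
      obtain ⟨d, kd, hd⟩ := h.comm_T kc (xe g)
      rw [← commutatorElement_inv, inv_mem_iff, hZ]
      change ⁅(g : S), (x : S)⁆ ∈ _
      rw [hs, hd, h.T_mem_fix_iff kd e0 me]
      exact (g.2 1).2 a ((h.T_mem_fix_iff kc e0 me2).1 (hs ▸ hx.2))
  have hU : ∀ x : Ub C b, x ∈ centralizer (Subgroup.upperCentralSeries (Ub C b) 2 : Set (Ub C b)) ↔
      (x : S) ∈ C.fixG (flag b 2) := fun x => by
    refine ⟨fun hx v hv => h.fix_of_comm k.h₁ (xe x) (P.mem_perp.1 (h.ti_flag hb (by omega) hv) e me2)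
      fun l c kc => ?_, fun hx y hy => Subtype.ext
        (h.E_cent (h.ti_flag hb (by omega)) ((hA y).1 hy).2 _ hx).symm⟩
    exact (congrArg Subtype.val (hx ⟨_, hT kc⟩ ((hA _).2 ⟨hQ.2 ⟨_, _, kc, rfl⟩,
      (h.T_mem_fix_iff kc e0 me2).2 (Submodule.smul_mem _ _ hv)⟩))).symm
  have ch : ∀ (N : Subgroup (Ub C b)) [hN : N.Characteristic] (θ : MulAut (Ub C b)) (x : Ub C b),
      θ x ∈ N ↔ x ∈ N := fun N hN θ x => by
    conv_rhs => rw [← characteristic_iff_comap_eq.1 hN θ]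
    rfl
  have hX : ∀ x : Ub C b, (x : S) ∉ C.fixG (flag b 2) → ((x : S) ∈ Rad C (flag b 1) ↔
      x * x ∈ center (Ub C b) ∧ ∀ g, ⁅x, g * x * g⁻¹⁆ ∈ center (Ub C b)) := fun x hx => by
    refine ⟨fun h1 => ?_, fun ⟨h1, h2⟩ => hQ' x fun a ha => ?_⟩
    · obtain ⟨a, c, kc, hs⟩ := hQ.1 h1
      refine ⟨(hZ _).2 ?_, fun g => (hZ _).2 ?_⟩
      · rw [coe_mul, hs, C.T_mul kc kc, h.T_mem_fix_iff (kc.add kc) e0 me, h.vadd_self]
        exact zero_mem _
      · change ⁅(x : S), g * x * (g : S)⁻¹⁆ ∈ _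
        have kc' := kc.act C g
        rw [xe] at kc'
        obtain ⟨d, kd, hd⟩ := h.comm_T kc' (xe x)
        rw [hs, C.T_conj _ kc, xe, ← hs, hd, h.T_mem_fix_iff kd e0 me]
        exact h1.2 _ (hf ▸ P.mem_perp_span_singleton.2 kc'.perp)
    · obtain ⟨l, hl⟩ := Submodule.mem_span_singleton.1 (hf.le ((x.2 1).2 e' me'))
      have hp : ∀ {v}, P.B e v = 0 → v ∈ P.perp (flag b 1) := fun hv => hf ▸ P.mem_perp_span_singleton.2 hv
      refine hf.ge (h.mem_Q k (l := l) (fun l0 => hx fun v hv => ?_) (xe x) hl.symm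
        (fun v hv => (C.mul_apply _ _ _).symm.trans ((hZ _).1 h1 v (hp hv))) (fun a d kd ha v hv => ?_) ha)
      · rw [l0, zero_smul, eq_comm, sub_eq_zero] at hl
        obtain ⟨α, β, rfl⟩ := Submodule.mem_span_pair.1 (hf2.le hv)
        rw [map_add, map_smul, map_smul, xe, hl]
      · have h3 : C.T e' a d ∈ Ub C b := (mem_Ub b).2 (h.T_Nh hb kd me' ((h.perp_flag hb (i := 2) (by omega)).le
          (hf2 ▸ P.mem_perp_span.2 (by simp [ha, kd.perp]))) (by omega) (by omega) (by omega))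
        have h4 := (hZ _).1 (h2 ⟨_, h3⟩) _ (((⟨_, h3⟩ * x * ⟨_, h3⟩⁻¹ * x : Ub C b).2 _).1 v |>.2
          ((h.perp_flag hb (by omega)).le (hp hv)) |> (h.perp_flag hb (by omega)).ge)
        rw [← C.mul_apply] at h4
        refine Eq.trans ?_ h4
        congr 2
        simp [commutatorElement_def, mul_assoc]
  have hQθ : ∀ (θ : MulAut (Ub C b)) (x : Ub C b), (x : S) ∈ Rad C (flag b 1) → (θ x : S) ∈ Rad C (flag b 1) :=
    fun θ => by
      have h1 : ∀ x : Ub C b, (x : S) ∉ C.fixG (flag b 2) → (x : S) ∈ Rad C (flag b 1) →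
          (θ x : S) ∈ Rad C (flag b 1) := fun x hx hx' => by
        obtain ⟨h1, h2⟩ := (hX x hx).1 hx'
        refine (hX _ (by rwa [← hU, ch, hU])).2 ⟨by rwa [← map_mul, ch], fun g => ?_⟩
        rw [← θ.apply_symm_apply g, ← map_inv, ← map_mul, ← map_mul, ← map_commutatorElement, ch]
        exact h2 _
      intro x hx
      by_cases h2 : (x : S) ∈ C.fixG (flag b 2)
      swap
      · exact h1 x h2 hx
      obtain ⟨c, kc⟩ := h.exists_tok ee k.ef
      have h3 : C.T e f' c ∉ C.fixG (flag b 2) := fun h3 => by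
        simpa [C.T_perp kc k.ee, k.h₂.fe, e0] using h3 e' me'
      have h4 := hQ.2 ⟨_, _, kc, rfl⟩
      have h5 := mul_mem (h1 (x * ⟨_, hT kc⟩) (fun h5 => h3 ((mul_mem_cancel_left h2).1 h5)) (mul_mem hx h4))
        (inv_mem (h1 ⟨_, hT kc⟩ h3 h4))
      simpa using h5
  have hR : ∀ x : Ub C b, (x : S) ∈ Rad C (flag b 2) ↔ (x : S) ∈ C.fixG (flag b 2) ∧ ∀ q : Ub C b,
      (q : S) ∈ Rad C (flag b 1) → (q : S) ∈ C.fixG (flag b 2) → ⁅x, q⁆ ∈ Subgroup.upperCentralSeries (Ub C b) 2 := fun x => by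
    refine and_congr_right fun _ => ⟨fun h1 q h2 h3 => (hA _).2 ?_, fun h1 v hv => ?_⟩
    · obtain ⟨a, c, kc, hs⟩ := hQ.1 h2
      obtain ⟨d, kd, hd⟩ := h.comm_T kc (xe x)
      change ⁅(x : S), (q : S)⁆ ∈ _
      rw [hs, hd]
      refine ⟨hQ.2 ⟨_, _, kd, rfl⟩, (h.T_mem_fix_iff kd e0 me2).2 (h1 a ?_)⟩
      exact (h.T_mem_fix_iff kc e0 (h.ti_flag hb (by omega) me2)).1 (by rwa [P.perp_perp C.nondeg, ← hs])
    · obtain ⟨c, kc⟩ := h.exists_tok ee (P.mem_perp.1 hv e me2)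
      obtain ⟨d, kd, hd⟩ := h.comm_T kc (xe x)
      refine (h.T_mem_fix_iff kd e0 me2).1 (hd ▸ ((hA _).1 (h1 ⟨_, hT kc⟩ (hQ.2 ⟨_, _, kc, rfl⟩) ?_)).2)
      rw [← P.perp_perp C.nondeg (flag b 2)]
      exact (h.T_mem_fix_iff kc e0 (h.ti_flag hb (by omega) me2)).2 hv
  refine ⟨hQθ θ s, fun hs => ?_, fun hs => by rwa [← hA, ch, hA]⟩
  obtain ⟨h1, h2⟩ := (hR s).1 hs
  refine (hR _).2 ⟨by rwa [← hU, ch, hU], fun q h3 h4 => ?_⟩
  rw [← θ.apply_symm_apply q, ← map_commutatorElement, ch]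
  exact h2 _ (hQθ θ.symm q h3) (by rwa [← hU, ch, hU])

/-- a nontrivial normal subgroup of `Ub` is contained in the centre or contains it -/
theorem normal_Ub {J : Subgroup S} (h1 : J ≤ Ub C b) (h2 : Ub C b ≤ normalizer (J : Set S)) :
    J ≤ C.fixG (P.perp (flag b 1)) ∨ C.fixG (P.perp (flag b 1)) ≤ J := by
  obtain ⟨e, f, e', f', k, hf, -⟩ := h.exists_flag hb
  have e0 := h.hp_ne k.h₁
  have ee := k.h₁.se.self_eq
  have me : e ∈ flag b 1 := hf.ge (Submodule.mem_span_singleton_self e)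
  have hT : ∀ {a c}, TOk P e a c → C.T e a c ∈ Ub C b := fun kc =>
    (h.rad_le_Ub hb).1 (hf ▸ (h.mem_rad_pt e0 ee).2 ⟨_, _, kc, rfl⟩)
  have hc : ∀ s ∈ J, ∀ {a c}, TOk P e a c → ⁅s, C.T e a c⁆ ∈ J := fun s hs a c kc => by
    rw [commutatorElement_def, mul_assoc, mul_assoc, ← mul_assoc (C.T e a c)]
    exact mul_mem hs ((mem_normalizer_iff.1 (h2 (hT kc)) _).1 (inv_mem hs))
  refine or_iff_not_imp_left.2 fun h3 => ?_
  obtain ⟨a, c, kc, ha, hJ⟩ : ∃ a c, TOk P e a c ∧ a ∉ flag b 1 ∧ C.T e a c ∈ J := by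
    obtain ⟨s, hs, hs'⟩ := SetLike.not_le_iff_exists.1 h3
    by_cases h4 : ∀ a, P.B e a = 0 → C.act s a - a ∈ flag b 1
    · obtain ⟨a, c, kc, rfl⟩ := (h.mem_rad_pt e0 ee).1 (hf ▸ ⟨Ub_le_fix b (h1 hs), fun v hv =>
        h4 v (P.mem_perp.1 hv e me)⟩ : s ∈ Rad C (span K {e}))
      exact ⟨a, c, kc, fun ha => hs' ((h.T_mem_fix_iff kc e0 me).2 ha), hs⟩
    · push Not at h4
      obtain ⟨a, ha, ha'⟩ := h4
      obtain ⟨c, kc⟩ := h.exists_tok ee ha
      obtain ⟨d, kd, hd⟩ := h.comm_T kc (Ub_le_fix b (h1 hs) e me)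
      exact ⟨_, d, kd, ha', hd ▸ hc s hs kc⟩
  intro s hs
  obtain ⟨r, hr, rfl⟩ := (h.mem_E_pt ee).1 (hf ▸ hs)
  obtain ⟨t, ht⟩ := h.herm.exists_trace_one
  obtain ⟨w, w1, w2⟩ := P.exists_dual_vec C.nondeg _ ha
  obtain ⟨d, kd⟩ := h.exists_tok ee (show P.B e ((r * t) • w) = 0 by simp [P.B_eq_zero_comm.1 (w2 e me)])
  have := hc _ hJ kd
  rw [C.T_commutator kc kd, P.B_smul_left, P.B_smul_right, ← h.conj w a, w1, map_one, map_mul, hr] at this
  convert this using 2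
  linear_combination -r * ht + h.add_self (r * t)

end Mod

end CfsgLib.U5
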