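import Cfsg.Agent.Lib.U5.FldA
import Cfsg.Agent.Lib.U5.Syl

/-! Field case: the chain -/

set_option autoImplicit false
set_option linter.unusedSectionVars false

namespace CfsgLib.U5

open Subgroup Module CfsgLib.Forms CfsgLib.LieMult
open CfsgLib.HX (Std CO Two Mv Tr Heis NF Fus4 Has4 M2)
open Submodule (span)
open scoped commutatorElement Pointwise

universe u

variable {K : Type} [Field K] [Finite K] {σ : K →+* K} {V : Type} [AddCommGroup V] [Module K V]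
  [FiniteDimensional K V] {P : PQ σ V} {S : Type} [Group S] [Finite S] {G : Type u} [Group G]
  [Finite G] {C : CG P S} {φ : S →* G} {t : G}

section
variable {m : ℕ} (b : Basis (Fin m) K V) {k : ℕ} {g g' : SLV K V}

theorem fb_mem (hk : 0 < k) : g ∈ Mh b k ↔ faRho K V g - 1 ∈ Nh b k := mem_Mh b hk

theorem fb_anti {l : ℕ} (h : k ≤ l) : Mh b l ≤ Mh b k :=
  closure_mono fun _ hg => Nh_anti b h hg

theorem fb_zero (hg : g ∈ Mh b 1) : faRho K V g ∈ Nh b 0 :=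
  (mem_Nh b).2 (map_mem_flag b ((mem_Mh b one_pos).1 hg))

theorem fb_div (hk : 0 < k) (hg : g' ∈ Mh b 1) : g * g'⁻¹ ∈ Mh b k ↔ faRho K V g - faRho K V g' ∈ Nh b k := by
  rw [fb_mem b hk]
  refine ⟨fun e => ?_, fun e => ?_⟩
  · have := Nh_mul b e (fb_zero b hg)
    rwa [sub_mul, ← map_mul, inv_mul_cancel_right, one_mul] at this
  · have := Nh_mul b e (fb_zero b (inv_mem hg))
    rwa [sub_mul, ← map_mul, ← map_mul, mul_inv_cancel, map_one] at this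

theorem fb_comm (hk : 0 < k) (hg : g ∈ Mh b 1) (hg' : g' ∈ Mh b 1) : g * g' * g⁻¹ * g'⁻¹ ∈ Mh b k ↔
    (faRho K V g - 1) * (faRho K V g' - 1) - (faRho K V g' - 1) * (faRho K V g - 1) ∈ Nh b k := by
  rw [mul_assoc, ← mul_inv_rev, fb_div b hk (mul_mem hg' hg), map_mul, map_mul]
  congr! 1
  noncomm_ring

theorem fb_mk (h2 : (2 : K) = 0) (hk : 0 < k) {n : Module.End K V} (hn : n ∈ Nh b k) :
    ∃ g ∈ Mh b k, faRho K V g - 1 = n := by
  obtain ⟨g, hg⟩ := exists_Mh b h2 (Nh_anti b hk hn)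
  have : faRho K V g - 1 = n := sub_eq_iff_eq_add'.2 hg
  exact ⟨g, (fb_mem b hk).2 (this ▸ hn), this⟩

theorem fb_unip (h2 : (2 : K) = 0) (hg : g ∈ Mh b 1) : ClAut.Unip 2 g :=
  (Mh_two b h2 ⟨g, hg⟩).imp fun _ k => congrArg Subtype.val k

theorem fb_unip_conj {γ : AV V} (hg : ClAut.Unip 2 g) (e : ∀ v, g'.1 (γ v) = γ (g.1 v)) : ClAut.Unip 2 g' := by
  have key : ∀ n v, (g' ^ n).1 (γ v) = γ ((g ^ n).1 v) := fun n => by
    induction n with
    | zero => exact fun _ => rfl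
    | succ n ih => exact fun v => by rw [pow_succ, pow_succ, slv_mul, slv_mul, e, ih]
  refine hg.imp fun j hj => slv_ext fun v => ?_
  obtain ⟨v, rfl⟩ := γ.surjective v
  rw [key, hj]
  rfl

end

theorem Mod.fb_add (h : Mod C) (n : Module.End K V) : n + n = 0 := LinearMap.ext fun _ => h.vadd_self _

/-- decomposition into self-adjoint maps -/
theorem Mod.fb_dec (h : Mod C) {b : Basis (Fin (finrank K V)) K V} (hb : Bas P b) {k : ℕ} {n : Module.End K V}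
    (hn : n ∈ Nh b k) : ∃ p ∈ Nh b k, ∃ p' ∈ Nh b k, ∃ l : K, (∀ v v', P.B (p v) v' = P.B v (p v')) ∧
      (∀ v v', P.B (p' v) v' = P.B v (p' v')) ∧ n = l • p + p' := by
  obtain ⟨n', h1, h2⟩ := h.exists_adj hb hn
  have h3 : ∀ v v', P.B (n' v) v' = P.B v (n v') := fun v v' => by rw [← h.conj, ← h2, h.conj]
  obtain ⟨θ, hθ⟩ := h.exists_tr (map_one σ)
  refine ⟨n + n', add_mem hn h1, θ • n + σ θ • n', add_mem (Submodule.smul_mem _ _ hn) (Submodule.smul_mem _ _ h1),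
    σ θ, fun v v' => ?_, fun v v' => ?_, ?_⟩
  · rw [LinearMap.add_apply, LinearMap.add_apply, P.B_add_left, P.B_add_right, h2, h3, add_comm]
  · simp only [LinearMap.add_apply, LinearMap.smul_apply, P.B_add_left, P.B_add_right, P.B_smul_left,
      P.B_smul_right, h2, h3, h.σσ, add_comm]
  · rw [smul_add, add_add_add_comm, h.fb_add, add_zero, ← add_smul, add_comm, hθ, one_smul]

namespace DblF

variable {y : V → K → G} {c : K} {ψ : SLV K V →* G} (h : DblF C φ t y c ψ)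
  {b : Basis (Fin (finrank K V)) K V} (hb : Bas P b)
include h hb

omit hb in
theorem fb_map {k : ℕ} (hk : 0 < k) {g : SLV K V} (hg : g ∈ Mh b 1) : ψ g ∈ (Mh b k).map ψ ↔ g ∈ Mh b k :=
  ⟨fun ⟨_, h1, h2⟩ => h.inj_two (Mh_two b h.fa_mod.two) (fb_anti b hk h1) hg h2 ▸ h1, fun e => ⟨g, e, rfl⟩⟩

omit hb in
theorem fb_tc {g g' : SLV K V} (e : ∀ v v', P.B ((faRho K V g - 1) v) v' = P.B v ((faRho K V g' - 1) v')) :
    t * ψ g * t⁻¹ = ψ g'⁻¹ := by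
  refine h.tc _ _ fun v v' => ?_
  have := e v ((g'⁻¹).1 v')
  simp only [LinearMap.sub_apply, Module.End.one_apply, faRho_app, fa_app_inv, P.B_sub_left, P.B_sub_right] at this
  exact sub_left_inj.1 this

theorem fb_adj {k : ℕ} (hk : 0 < k) {g : SLV K V} (hg : g ∈ Mh b k) :
    ∃ g' ∈ Mh b k, ∀ v v', P.B ((faRho K V g - 1) v) v' = P.B v ((faRho K V g' - 1) v') := by
  obtain ⟨n, h1, h2⟩ := h.fa_mod.exists_adj hb ((fb_mem b hk).1 hg)
  obtain ⟨g', h3, rfl⟩ := fb_mk b h.fa_mod.two hk h1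
  exact ⟨g', h3, h2⟩

theorem fb_tn {k : ℕ} (hk : 0 < k) : t ∈ normalizer ((Mh b k).map ψ : Set G) := by
  refine norm_of_le ?_
  rintro _ ⟨g, hg, rfl⟩
  obtain ⟨g', h1, h2⟩ := h.fb_adj hb hk hg
  exact ⟨_, inv_mem h1, (h.fb_tc h2).symm⟩

omit hb in
theorem fb_fix {k : ℕ} (hk : 0 < k) {g g' : SLV K V} (hg : g ∈ Mh b k) (hg' : g' ∈ Mh b k)
    (e : ∀ v v', P.B ((faRho K V g - 1) v) v' = P.B v ((faRho K V g' - 1) v')) :
    t * ψ g * t⁻¹ * (ψ g)⁻¹ ∈ (Mh b (k + 1)).map ψ ↔ faRho K V g - 1 + (faRho K V g' - 1) ∈ Nh b (k + 1) := by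
  rw [h.fb_tc e, ← map_inv, ← map_mul, ← mul_inv_rev, map_inv, inv_mem_iff,
    h.fb_map k.succ_pos (fb_anti b hk (mul_mem hg hg')), fb_mem b k.succ_pos, map_mul,
    ← Submodule.add_mem_iff_right _ (Nh_anti b (Nat.add_le_add_left hk k)
      (Nh_mul b ((fb_mem b hk).1 hg) ((fb_mem b hk).1 hg')))
      (y := faRho K V g - 1 + (faRho K V g' - 1))]
  congr! 1
  noncomm_ring

omit hb in
theorem fb_sa {k : ℕ} (hk : 0 < k) {p : Module.End K V} (hp : p ∈ Nh b k)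
    (e : ∀ v v', P.B (p v) v' = P.B v (p v')) : ∃ g ∈ Mh b k, faRho K V g - 1 = p ∧ t * ψ g * t⁻¹ = (ψ g)⁻¹ ∧
      t * ψ g * t⁻¹ * (ψ g)⁻¹ ∈ (Mh b (k + 1)).map ψ := by
  obtain ⟨g, h1, rfl⟩ := fb_mk b h.fa_mod.two hk hp
  exact ⟨g, h1, rfl, by rw [h.fb_tc e, map_inv], (h.fb_fix hk h1 h1 e).2 (h.fa_mod.fb_add _ ▸ zero_mem _)⟩

theorem chain : UFP.Chain t ((Mh b 1).map ψ) (finrank K V - 1)
    fun i => (Mh b (finrank K V - i)).map ψ := by
  have d4 := h.fa_mod.d4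
  have two := h.fa_mod.two
  have hk : ∀ i < finrank K V - 1, ∃ k, 0 < k ∧ finrank K V - (i + 1) = k ∧ finrank K V - i = k + 1 :=
    fun i hi => ⟨_, by omega, rfl, by omega⟩
  refine ⟨?_, by rw [show finrank K V - (finrank K V - 1) = 1 by omega],
    fun i _ => map_mono (fb_anti b (by omega)), fun i hi => h.fb_tn hb (by omega), fun i hi => ?_,
    fun i hi => ?_, fun i hi => ?_⟩
  · refine eq_bot_iff.2 ?_
    rintro _ ⟨g, hg, rfl⟩
    have := (Nh_top b).le ((fb_mem b (by omega)).1 hg)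
    rw [fa_linRep.inj ((sub_eq_zero.1 this).trans (map_one _).symm), map_one]
    exact one_mem _
  all_goals obtain ⟨k, k0, e1, e2⟩ := hk i hi
  all_goals simp only [e1, e2]
  · rintro _ ⟨u, hu, rfl⟩ _ ⟨g, hg, rfl⟩
    refine ⟨u * g * u⁻¹ * g⁻¹, (fb_comm b k.succ_pos hu (fb_anti b k0 hg)).2 (sub_mem ?_ ?_), by simp⟩
    · exact Nh_anti b (by omega) (Nh_mul b ((fb_mem b one_pos).1 hu) ((fb_mem b k0).1 hg))
    · exact Nh_mul b ((fb_mem b k0).1 hg) ((fb_mem b one_pos).1 hu)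
  · rintro _ ⟨g, hg, rfl⟩
    refine ⟨g * g, (fb_mem b k.succ_pos).2 ?_, map_mul ..⟩
    have := add_mem (Nh_anti b (Nat.add_le_add_left k0 k) (Nh_mul b ((fb_mem b k0).1 hg) ((fb_mem b k0).1 hg)))
      (h.fa_mod.fb_add (faRho K V g - 1) ▸ zero_mem _)
    convert this using 1
    rw [map_mul]
    noncomm_ring
  · rintro _ ⟨g, hg, rfl⟩ e
    obtain ⟨g', h1, h2⟩ := h.fb_adj hb k0 hg
    rw [h.fb_fix k0 hg h1 h2] at e
    obtain ⟨θ, hθ⟩ := h.fa_mod.exists_tr (map_one σ)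
    obtain ⟨a, a1, a2⟩ := fb_mk b two k0 (Submodule.smul_mem _ θ ((fb_mem b k0).1 hg))
    obtain ⟨a', a3, a4⟩ := fb_mk b two k0 (Submodule.smul_mem _ (σ θ) ((fb_mem b k0).1 h1))
    refine ⟨_, ⟨a, a1, rfl⟩, g * (a * a')⁻¹, (fb_div b k.succ_pos (fb_anti b k0 (mul_mem a1 a3))).2 ?_, ?_⟩
    · have := sub_mem (Submodule.smul_mem _ (σ θ) e)
        (Nh_anti b (Nat.add_le_add_left k0 k) (Nh_mul b ((fb_mem b k0).1 a1) ((fb_mem b k0).1 a3)))
      convert this using 1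
      have e1 : faRho K V g - 1 = (faRho K V a - 1) + σ θ • (faRho K V g - 1) := by
        rw [a2, ← add_smul, hθ, one_smul]
      have e2 := h.fa_mod.fb_add (faRho K V a' - 1)
      rw [map_mul, smul_add, ← a4]
      generalize σ θ • (faRho K V g - 1) = w at e1
      rw [sub_eq_iff_eq_add.1 e1]
      linear_combination (norm := noncomm_ring) -e2
    · rw [h.fb_tc (g' := a') fun v v' => by
        rw [a2, a4, LinearMap.smul_apply, LinearMap.smul_apply, P.B_smul_left, P.B_smul_right, h2]]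
      simp

theorem lin : ∀ i < finrank K V - 1, ∀ j < i, ∀ u ∈ (Mh b 1).map ψ,
    (∀ g ∈ (Mh b (finrank K V - (i + 1))).map ψ, t * g * t⁻¹ * g⁻¹ ∈ (Mh b (finrank K V - i)).map ψ →
      u * g * u⁻¹ * g⁻¹ ∈ (Mh b (finrank K V - j)).map ψ) →
    ∀ g ∈ (Mh b (finrank K V - (i + 1))).map ψ, u * g * u⁻¹ * g⁻¹ ∈ (Mh b (finrank K V - j)).map ψ := by
  intro i hi j hj
  obtain ⟨k, k0, e1, e2⟩ : ∃ k, 0 < k ∧ finrank K V - (i + 1) = k ∧ finrank K V - i = k + 1 :=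
    ⟨_, by omega, rfl, by omega⟩
  have l0 : 0 < finrank K V - j := by omega
  rw [e1, e2]
  generalize finrank K V - j = l at l0
  rintro _ ⟨u, hu, rfl⟩ hc _ ⟨g, hg, rfl⟩
  have key : ∀ g ∈ Mh b k, ψ u * ψ g * (ψ u)⁻¹ * (ψ g)⁻¹ ∈ (Mh b l).map ψ ↔
      (faRho K V u - 1) * (faRho K V g - 1) - (faRho K V g - 1) * (faRho K V u - 1) ∈ Nh b l := fun g hg => by
    have hg1 := fb_anti b k0 hg
    rw [← fb_comm b l0 hu hg1, ← h.fb_map l0 (mul_mem (mul_mem (mul_mem hu hg1) (inv_mem hu)) (inv_mem hg1))]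
    simp only [map_mul, map_inv]
  obtain ⟨p, p1, p', p2, r, p3, p4, e⟩ := h.fa_mod.fb_dec hb ((fb_mem b k0).1 hg)
  obtain ⟨a, a1, rfl, -, a2⟩ := h.fb_sa k0 p1 p3
  obtain ⟨a', a3, rfl, -, a4⟩ := h.fb_sa k0 p2 p4
  have := add_mem (Submodule.smul_mem _ r ((key a a1).1 (hc _ ⟨a, a1, rfl⟩ a2))) ((key a' a3).1 (hc _ ⟨a', a3, rfl⟩ a4))
  rw [key g hg, e]
  convert this using 1
  rw [mul_add, add_mul, mul_smul_comm, smul_mul_assoc, smul_sub r (_ * _)]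
  abel

theorem lin2 : ∀ i < finrank K V - 1, ∀ n ∈ normalizer (ψ.range : Set G),
    (∀ g ∈ (Mh b (finrank K V - (i + 1))).map ψ, t * g * t⁻¹ * g⁻¹ ∈ (Mh b (finrank K V - i)).map ψ →
      g * n = n * g) →
    ∀ g ∈ (Mh b (finrank K V - (i + 1))).map ψ, n * g * n⁻¹ ∈ (Mh b (finrank K V - (i + 1))).map ψ := by
  intro i hi n hn
  obtain ⟨k, k0, e1, e2⟩ : ∃ k, 0 < k ∧ finrank K V - (i + 1) = k ∧ finrank K V - i = k + 1 :=
    ⟨_, by omega, rfl, by omega⟩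
  rw [e1, e2]
  intro hc
  have two := h.fa_mod.two
  obtain ⟨u, n, α, γ, hu, rfl, kk⟩ := h.fa_dec hn
  have key : ∀ p ∈ Nh b k, (∀ v v', P.B (p v) v' = P.B v (p v')) → ∃ q ∈ Nh b k, ∀ v, q (γ v) = γ (p v) := by
    intro p p1 p2
    obtain ⟨a, a1, rfl, a2, a3⟩ := h.fb_sa k0 p1 p2
    obtain ⟨a', e⟩ := kk.semi.fa_conj a
    have c1 := hc _ ⟨a, a1, rfl⟩ a3
    have c2 : ψ a' ∈ (Mh b k).map ψ := by
      rw [← kk.conj a a' e]
      rcases hu with rfl | rfl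
      · rw [mul_one] at c1
        rw [← c1, mul_inv_cancel_right]
        exact ⟨a, a1, rfl⟩
      · rw [show n * ψ a * n⁻¹ = (n * u * (u⁻¹ * (ψ a)⁻¹ * u⁻¹⁻¹) * (n * u)⁻¹)⁻¹ by group, h.fa_tinv, ← a2,
          show u * (u * ψ a * u⁻¹) * u⁻¹ = (u * u) * ψ a * (u * u)⁻¹ by group, h.fa_t2, one_mul, inv_one, mul_one,
          ← c1, mul_inv_cancel_right]
        exact inv_mem ⟨a, a1, rfl⟩
    obtain ⟨a'', c3, c4⟩ := c2
    obtain rfl := h.fa_inj (fb_unip b two (fb_anti b k0 c3)) (fb_unip_conj (fb_unip b two (fb_anti b k0 a1)) e) c4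
    exact ⟨_, (fb_mem b k0).1 c3, fun v => by
      simp only [LinearMap.sub_apply, Module.End.one_apply, faRho_app, map_sub, e]⟩
  have k2 : ∀ x ∈ (Mh b k).map ψ, n * x * n⁻¹ ∈ (Mh b k).map ψ := by
    rintro _ ⟨g, hg, rfl⟩
    obtain ⟨p, p1, p', p2, r, p3, p4, e⟩ := h.fa_mod.fb_dec hb ((fb_mem b k0).1 hg)
    obtain ⟨q, q1, q2⟩ := key p p1 p3
    obtain ⟨q', q3, q4⟩ := key p' p2 p4
    obtain ⟨g', g1, g2⟩ := fb_mk b two k0 (add_mem (Submodule.smul_mem _ (α r) q1) q3)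
    refine ⟨g', g1, (kk.conj g g' fun v => ?_).symm⟩
    have e1 := LinearMap.congr_fun g2 (γ v)
    have e2 := congrArg γ (LinearMap.congr_fun e v)
    simp only [LinearMap.sub_apply, Module.End.one_apply, faRho_app, LinearMap.add_apply, LinearMap.smul_apply,
      map_sub, map_add, kk.semi r, q2, q4] at e1 e2
    exact sub_left_inj.1 (e1.trans e2.symm)
  intro x hx
  rw [show n * u * x * (n * u)⁻¹ = n * (u * x * u⁻¹) * n⁻¹ by group]
  refine k2 _ ?_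
  rcases hu with rfl | rfl
  · simpa using hx
  · exact UFP.conj_mem (h.fb_tn hb k0) hx

theorem inf_eq {H : Subgroup G} (h2 : IsPGroup 2 H) (hU : (Mh b 1).map ψ ≤ H) :
    H ⊓ ψ.range = (Mh b 1).map ψ := by
  have := finite_slv (K := K) (V := V)
  refine le_antisymm ?_ (le_inf hU (map_le_range _ _))
  have h1 : Mh b 1 ≤ H.comap ψ := map_le_iff_le_comap.1 hU
  obtain ⟨Q, hQ⟩ := ((Mh_two b h.fa_mod.two).comap_subtype (K := H.comap ψ)).exists_le_sylow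
  have h3 : IsPGroup 2 ((H.comap ψ).map ψ) := h2.to_le (map_comap_le _ _)
  have h4 := (Q.mapSurjective (ψ.subgroupMap_surjective (H.comap ψ))).is_maximal' (h3.to_subgroup ⊤) le_top
  rintro _ ⟨hx, s, rfl⟩
  obtain ⟨q, hq, e⟩ := h4.le (mem_top (⟨ψ s, s, hx, rfl⟩ : (H.comap ψ).map ψ))
  refine ⟨q, (mem_Mh b one_pos).2 (h.fa_mod.syl_flag hb
    (H := (Q.1.map (H.comap ψ).subtype).map (SLV K V).subtype) ((Q.2.map _).map _) (fun s hs => ?_)
    ⟨q, ⟨q, hq, rfl⟩, rfl⟩), congrArg Subtype.val e⟩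
  obtain ⟨g, hg⟩ := h.fa_mod.exists_incl s
  have h5 : g ∈ Mh b 1 := (mem_Mh b one_pos).2 (hg ▸ (mem_Ub b).1 hs)
  exact ⟨g, ⟨⟨g, h1 h5⟩, hQ h5, rfl⟩, hg⟩

theorem Ub_le : (Ub C b).map φ ≤ (Mh b 1).map ψ ⊓ centralizer {t} := by
  rintro _ ⟨s, hs, rfl⟩
  obtain ⟨g, hg⟩ := h.fa_mod.exists_incl s
  exact ⟨⟨g, (mem_Mh b one_pos).2 (hg ▸ (mem_Ub b).1 hs), h.ext s g hg⟩,
    UFP.mem_cent1.2 (h.tC _ ⟨s, rfl⟩).symm⟩

end DblF

end CfsgLib.U5
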