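import Cfsg.Agent.Lib.U5.TopQ
import Cfsg.Agent.Lib.U5.FldA

/-! Field case: the hat of the radical of a point -/

set_option autoImplicit false
set_option linter.unusedSectionVars false

namespace CfsgLib.U5

open Subgroup Module CfsgLib.Forms CfsgLib.LieMult
open CfsgLib.HX (Std CO Two Mv Tr Heis NF Fus4 Has4 M2)
open Submodule (span)
open scoped commutatorElement Pointwise

universe u

variable {K : Type} [Field K] [Finite K] {σ : K →+* K} {V : Type} [AddCommGroup V] [Module K V]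
  [FiniteDimensional K V] {P : PQ σ V} {S : Type} [Group S] [Finite S] {G : Type u} [Group G]
  [Finite G] {C : CG P S} {φ : S →* G} {t : G}

namespace FQ

variable (P) in
/-- the transvection `v ↦ v + B r v • p` -/
noncomputable def tr (p r : V) : SLV K V := by
  classical exact if h : P.B r p = 0 then tv h else 1

theorem tr_eq {p r : V} (k : P.B r p = 0) : tr P p r = tv k := by
  rw [tr, dif_pos k]

theorem tr_app {p r : V} (k : P.B r p = 0) (v : V) : (tr P p r).1 v = v + P.B r v • p := by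
  rw [tr_eq k, tv_app]

variable (P) in
/-- the elements of the hat of the radical -/
structure Is (e r a : V) (g : SLV K V) : Prop where
  hr : P.B e r = 0
  ha : P.B e a = 0
  app : ∀ v, g.1 v = v + P.B r v • e + P.B e v • a

variable {e r a r' a' p p' : V} {g g' : SLV K V}

theorem Is.ext (k : Is P e r a g) (k' : Is P e r a g') : g = g' :=
  slv_ext fun v => by rw [k.app, k'.app]

theorem Is.congr (k : Is P e r a g) (e1 : r = r') (e2 : a = a') : Is P e r' a' g := e1 ▸ e2 ▸ k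

variable (h : Mod C)
include h

theorem tr_sq (k : P.B r p = 0) : tr P p r * tr P p r = 1 := by
  rw [tr_eq k, h.tv_sq]

theorem tr_inv (k : P.B r p = 0) : (tr P p r)⁻¹ = tr P p r :=
  inv_eq_of_mul_eq_one_right (tr_sq h k)

omit h in
theorem tr_add_right (k : P.B r p = 0) (k' : P.B r' p = 0) : tr P p (r + r') = tr P p r * tr P p r' :=
  slv_ext fun v => by
    rw [slv_mul, tr_app k, tr_app k', tr_app (by rw [P.B_add_left, k, k', add_zero]), P.B_add_left,
      P.B_add_right, P.B_smul_right, k]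
    module

omit h in
theorem tr_add_left (k : P.B r p = 0) (k' : P.B r p' = 0) : tr P (p + p') r = tr P p r * tr P p' r :=
  slv_ext fun v => by
    rw [slv_mul, tr_app k, tr_app k', tr_app (by rw [P.B_add_right, k, k', add_zero]),
      P.B_add_right, P.B_smul_right, k']
    module

omit h in
theorem tr_smul (k : P.B r p = 0) (l : K) : tr P p (l • r) = tr P (σ l • p) r :=
  slv_ext fun v => by
    rw [tr_app (by rw [P.B_smul_left, k, mul_zero]), tr_app (by rw [P.B_smul_right, k, mul_zero]),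
      P.B_smul_left]
    module

theorem tr_conj (k : P.B r p = 0) (k' : P.B r' p' = 0) :
    tr P p' r' * tr P p r * tr P p' r' = tr P (p + P.B r' p • p') (r + P.B p' r • r') :=
  slv_ext fun v => by
    have h2 := h.two
    have k1 : P.B (r + P.B p' r • r') (p + P.B r' p • p') = 0 := by
      simp only [P.B_add_left, P.B_add_right, P.B_smul_left, P.B_smul_right, k, k', h.conj]
      linear_combination (P.B r' p * P.B r p') * h2
    rw [slv_mul, slv_mul, tr_app k1, tr_app k', tr_app k, tr_app k']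
    simp only [P.B_add_left, P.B_add_right, P.B_smul_left, P.B_smul_right, k, k', h.conj]
    match_scalars <;> grind

theorem Is.mul (he : P.B e e = 0) (k : Is P e r a g) (k' : Is P e r' a' g') :
    Is P e (r + r' + P.B a' r • e) (a + a') (g * g') := by
  refine ⟨?_, ?_, fun v => ?_⟩
  · simp only [P.B_add_right, P.B_smul_right, k.hr, k'.hr, he, mul_zero, add_zero]
  · simp only [P.B_add_right, k.ha, k'.ha, add_zero]
  · rw [slv_mul, k.app, k'.app]
    simp only [P.B_add_left, P.B_add_right, P.B_smul_left, P.B_smul_right, he, k'.ha, h.B_comm k.hr, h.conj]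
    module

theorem Is.inv (he : P.B e e = 0) (k : Is P e r a g) : Is P e (r + P.B a r • e) a g⁻¹ := by
  refine ⟨?_, k.ha, fun v => fa_inv_eq ?_⟩
  · simp only [P.B_add_right, P.B_smul_right, k.hr, he, mul_zero, add_zero]
  · have h2 := h.two
    rw [k.app]
    simp only [P.B_add_left, P.B_add_right, P.B_smul_left, P.B_smul_right, he, k.ha, h.B_comm k.hr, h.conj]
    match_scalars <;> grind

theorem is_tr1 (k : P.B e r = 0) : Is P e r 0 (tr P e r) :=
  ⟨k, map_zero _, fun v => by rw [tr_app (h.B_comm k), smul_zero, add_zero]⟩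

omit h in
theorem is_tr2 (k : P.B e a = 0) : Is P e 0 a (tr P a e) :=
  ⟨map_zero _, k, fun v => by rw [tr_app k, map_zero, LinearMap.zero_apply, zero_smul, add_zero]⟩

theorem is_T {c : K} (k : TOk P e a c) (hg : (g : V ≃ₗ[K] V) = C.act (C.T e a c)) :
    Is P e (a + c • e) a g := by
  obtain ⟨k1, k2, -⟩ := h.tok.1 k
  refine ⟨by rw [P.B_add_right, P.B_smul_right, k1, k2, mul_zero, add_zero], k2, fun v => ?_⟩
  rw [hg, h.T_app k, P.B_add_left, P.B_smul_left]

theorem Is.eq (he : P.B e e = 0) (k : Is P e r a g) : g = tr P e (r + P.B a r • e) * tr P a e := by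
  have k1 := (k.inv h he).hr
  refine k.ext (((is_tr1 h k1).mul h he (is_tr2 k.ha)).congr ?_ (zero_add a))
  rw [P.B_add_right, P.B_smul_right, h.B_comm k.ha, mul_zero, add_zero, add_zero, add_assoc, h.vadd_self,
    add_zero]

theorem Is.conj (k : Is P e r a g) (k0 : P.B r' p = 0) (k1 : P.B e p = 0) (k2 : P.B e r' = 0) :
    Is P e (r + P.B p r • r') (a + P.B r' a • p) (tr P p r' * g * tr P p r') := by
  refine ⟨?_, ?_, fun v => ?_⟩
  · simp only [P.B_add_right, P.B_smul_right, k.hr, k2, mul_zero, add_zero]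
  · simp only [P.B_add_right, P.B_smul_right, k.ha, k1, mul_zero, add_zero]
  · have h2 := h.two
    rw [slv_mul, slv_mul, tr_app k0, k.app, tr_app k0]
    simp only [P.B_add_left, P.B_add_right, P.B_smul_left, P.B_smul_right, k0, k1, h.B_comm k2, h.conj]
    match_scalars <;> grind

/-- the hat of the radical in `SL(V)` -/
def QL (he : P.B e e = 0) : Subgroup (SLV K V) where
  carrier := {g | ∃ r a, Is P e r a g}
  one_mem' := ⟨0, 0, map_zero _, map_zero _, fun v => by simp⟩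
  mul_mem' := fun ⟨_, _, k⟩ ⟨_, _, k'⟩ => ⟨_, _, k.mul h he k'⟩
  inv_mem' := fun ⟨_, _, k⟩ => ⟨_, _, k.inv h he⟩

theorem QL_two (he : P.B e e = 0) : IsPGroup 2 (QL h he) := by
  rintro ⟨g, r, a, k⟩
  refine ⟨2, Subtype.ext ?_⟩
  have k1 : P.B e (P.B a r • e) = 0 := by rw [P.B_smul_right, he, mul_zero]
  have e1 : g * g = tr P e (P.B a r • e) :=
    ((k.mul h he k).congr (by rw [h.vadd_self, zero_add]) (h.vadd_self a)).ext (is_tr1 h k1)
  change g ^ 2 ^ 2 = 1
  rw [show 2 ^ 2 = 2 * 2 from rfl, pow_mul, pow_two g, e1, pow_two, tr_sq h (h.B_comm k1)]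

/-- a subgroup normalised by the transvections of `e^⊥` -/
theorem tr_mem {H : Subgroup (SLV K V)} (h0 : e ≠ 0) (he : P.B e e = 0)
    (hN : ∀ p r, P.B r p = 0 → P.B e p = 0 → P.B e r = 0 → ∀ g ∈ H, tr P p r * g * tr P p r ∈ H)
    (hp : P.B p p = 0) (ep : P.B e p = 0) (h1 : p ∉ span K {e}) (hH : tr P p p ∈ H)
    (er : P.B e r = 0) (pr : P.B p r = 0) : tr P p r ∈ H ∧ tr P r p ∈ H := by
  obtain ⟨f, p', k⟩ := h.exists_hh' he hp ep h0 h1
  obtain ⟨n, nn, en, -, pn, pn', -⟩ := h.exists_n k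
  have a1 : P.B p' p = 1 := k.h₂.fe
  have b1 : ∀ r, P.B e r = 0 → P.B p r = 0 → P.B p' r = 0 → tr P p r ∈ H ∧ tr P r p ∈ H := fun r e1 e2 e3 => by
    have c1 := hN p' r (h.B_comm e3) k.ef e1 _ hH
    have c2 := hN r p' e3 e1 k.ef _ hH
    rw [tr_conj h hp (h.B_comm e3), h.B_comm e2, a1, zero_smul, add_zero, one_smul,
      tr_add_right hp (h.B_comm e2)] at c1
    rw [tr_conj h hp e3, h.B_comm e2, a1, zero_smul, add_zero, one_smul, tr_add_left hp e2] at c2
    exact ⟨(H.mul_mem_cancel_left hH).1 c1, (H.mul_mem_cancel_left hH).1 c2⟩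
  have b2 : ∀ l : K, tr P p (l • p) ∈ H := fun l => by
    have z : ∀ {x : V}, P.B x n = 0 → P.B x (l • n) = 0 := fun e => by rw [P.B_smul_right, e, mul_zero]
    have c0 := (b1 _ (z en) (z pn) (z pn')).1
    have c1 := hN n p pn en ep _ c0
    rw [tr_conj h (h.B_comm (z pn)) pn, hp, zero_smul, add_zero, P.B_smul_right, nn, mul_one,
      tr_add_right (h.B_comm (z pn)) (by rw [P.B_smul_left, hp, mul_zero])] at c1
    exact (H.mul_mem_cancel_left c0).1 c1
  have e2 : P.B p (r + P.B p' r • p) = 0 := by rw [P.B_add_right, P.B_smul_right, pr, hp, mul_zero, add_zero]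
  obtain ⟨c1, c2⟩ := b1 (r + P.B p' r • p) (by rw [P.B_add_right, P.B_smul_right, er, ep, mul_zero, add_zero]) e2
    (by rw [P.B_add_right, P.B_smul_right, a1, mul_one, h.add_self])
  rw [tr_add_right (h.B_comm pr) (by rw [P.B_smul_left, hp, mul_zero])] at c1
  rw [tr_add_left pr (by rw [P.B_smul_right, hp, mul_zero]), ← h.σσ (P.B p' r), ← tr_smul hp] at c2
  exact ⟨(H.mul_mem_cancel_right (b2 _)).1 c1, (H.mul_mem_cancel_right (b2 _)).1 c2⟩

/-- generation of the hat -/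
theorem QL_le {H : Subgroup (SLV K V)} (h0 : e ≠ 0) (he : P.B e e = 0)
    (hH : ∀ a, P.B a a = 0 → P.B e a = 0 → a ∉ span K {e} → ∀ (l : K) b c, TOk P e b c →
      ∀ g : SLV K V, (g : V ≃ₗ[K] V) = C.act (C.T e b c) → tr P a (l • a) * g * tr P a (l • a) ∈ H) :
    QL h he ≤ H := by
  obtain ⟨f, hf⟩ := h.exists_hp h0 he
  obtain ⟨e', f', k⟩ := h.exists_hh hf
  have hT : ∀ a, P.B e a = 0 → ∃ c, ∃ g ∈ H, Is P e (a + c • e) a g := fun a ea => by
    obtain ⟨c, kc⟩ := h.exists_tok he ea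
    obtain ⟨g, hg⟩ := h.exists_incl (C.T e a c)
    have := hH e' (h.hp_iff.1 k.h₂).1 k.ee (top_not_mem k) 0 a c kc g hg
    rw [show tr P e' ((0 : K) • e') = 1 from slv_ext fun v => by
      rw [tr_app (by simp)]; simp, one_mul, mul_one] at this
    exact ⟨c, g, this, is_T h kc hg⟩
  let A : AddSubgroup V :=
    { carrier := {r | P.B e r = 0 ∧ tr P e r ∈ H}
      zero_mem' := ⟨map_zero _, by
        rw [show tr P e 0 = 1 from slv_ext fun v => by rw [tr_app (by simp)]; simp]; exact one_mem _⟩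
      add_mem' := fun k1 k2 => ⟨by rw [P.B_add_right, k1.1, k2.1, add_zero], by
        rw [tr_add_right (h.B_comm k1.1) (h.B_comm k2.1)]; exact mul_mem k1.2 k2.2⟩
      neg_mem' := fun k1 => by rwa [h.vneg_eq] }
  have hA : ∀ {r g}, Is P e r 0 g → g ∈ H → r ∈ A := fun k1 k2 => ⟨k1.hr, k1.ext (is_tr1 h k1.hr) ▸ k2⟩
  have s1 : ∀ a, P.B a a = 0 → P.B e a = 0 → a ∉ span K {e} → ∃ x : K, a + x • e ∈ A := fun a aa ea h1 => by
    obtain ⟨f₁, b, k1⟩ := h.exists_hh' he aa ea h0 h1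
    obtain ⟨l, hl⟩ := h.exists_tr (map_one σ)
    have t1 : TOk P e b 0 := h.tok1 he (h.hp_iff.1 k1.h₂).2.1 k1.ef (map_zero σ)
    obtain ⟨g, hg⟩ := h.exists_incl (C.T e b 0)
    have i1 := (is_T h t1 hg).conj h (p := a) (r' := l • a) (by rw [P.B_smul_left, aa, mul_zero]) ea
      (by rw [P.B_smul_right, ea, mul_zero])
    obtain ⟨c, g', m, i2⟩ := hT _ i1.ha
    have i3 := i1.mul h he i2
    rw [h.vadd_self, zero_smul, add_zero] at i3
    generalize P.B (b + P.B (l • a) b • a) _ = z at i3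
    refine ⟨c + z, hA (i3.congr ?_ rfl) (mul_mem (hH a aa ea h1 l b 0 t1 g hg) m)⟩
    have h2 := h.two
    rw [P.B_smul_left, k1.h₂.ef]
    match_scalars <;> grind
  have s2 : ∀ l : K, l • e ∈ A := fun l => by
    obtain ⟨x, h1, h2⟩ := s1 e' (h.hp_iff.1 k.h₂).1 k.ee (top_not_mem k)
    obtain ⟨c, g, m, i⟩ := hT (σ l • f') (by rw [P.B_smul_right, k.ef, mul_zero])
    have i1 := ((is_tr1 h h1).mul h he i).mul h he (i.mul h he (is_tr1 h h1) |>.inv h he)
    refine hA (i1.congr ?_ (by rw [zero_add, add_zero, h.vadd_self]))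
      (mul_mem (mul_mem h2 m) (inv_mem (mul_mem m h2)))
    have h2 := h.two
    simp only [P.B_add_left, P.B_add_right, P.B_smul_left, P.B_smul_right, he, k.h₂.fe, h.B_comm k.ef, h.σσ,
      map_zero, LinearMap.zero_apply]
    match_scalars <;> grind
  have s3 : ∀ r, P.B e r = 0 → r ∈ A := fun r er => by
    refine (AddSubgroup.closure_le A).2 (fun a ha => ?_) (h.iso_span (ti_pt he)
      (by rw [finrank_span_singleton h0, h.d5]; decide) (P.mem_perp_span_singleton.2 er))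
    by_cases h1 : a ∈ span K {e}
    · obtain ⟨l, rfl⟩ := Submodule.mem_span_singleton.1 h1
      exact s2 l
    · obtain ⟨x, hx⟩ := s1 a ha.2 (P.mem_perp_span_singleton.1 ha.1) h1
      exact (A.add_mem_cancel_right (s2 x)).1 hx
  rintro g ⟨r, a, i⟩
  obtain ⟨c, g', m, i'⟩ := hT a i.ha
  have i1 := i.mul h he i'
  rw [h.vadd_self] at i1
  exact (H.mul_mem_cancel_right m).1 (i1.ext (is_tr1 h i1.hr) ▸ (s3 _ i1.hr).2)

end FQ

theorem DblF.qt {y : V → K → G} {c : K} {ψ : SLV K V →* G} (h : DblF C φ t y c ψ) {e : V} (h0 : e ≠ 0)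
    (he : P.B e e = 0) : ∃ Qt, QT C φ t y e Qt := by
  have m := h.fa_mod
  have hle : Rg C φ (span K {e}) ≤ (FQ.QL m he).map ψ := by
    rintro _ ⟨s, hs, rfl⟩
    obtain ⟨a, c, k, rfl⟩ := (m.mem_rad_pt h0 he).1 hs
    obtain ⟨g, hg⟩ := m.exists_incl (C.T e a c)
    exact ⟨g, ⟨_, _, FQ.is_T m k hg⟩, h.ext _ _ hg⟩
  have tt : ∀ {p r : V}, P.B r p = 0 → t * ψ (FQ.tr P p r) * t⁻¹ = ψ (FQ.tr P r p) := fun k => by
    rw [FQ.tr_eq k, FQ.tr_eq (m.B_comm k)]
    exact h.tc _ _ (m.fa_dual_tv _ _)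
  refine ⟨(FQ.QL m he).map ψ, (FQ.QL_two m he).map ψ, hle, norm_of_le ?_, ?_, ?_, fun H hH => ?_,
    fun W _ n1 c1 c2 _ => ?_⟩
  · rintro _ ⟨g, ⟨r, a, k⟩, rfl⟩
    have k1 := (k.inv m he).hr
    refine ⟨_, mul_mem ⟨_, _, FQ.is_tr2 k1⟩ ⟨_, _, FQ.is_tr1 m k.ha⟩, ?_⟩
    rw [map_mul, ← tt (m.B_comm k1), ← tt k.ha]
    conv_rhs => rw [k.eq m he, map_mul]
    group
  · rintro ⟨g, -, hg⟩
    exact h.not_act_t (hg ▸ h.act_self g)
  · rintro _ ⟨s, hs, rfl⟩
    obtain ⟨g, hg⟩ := m.exists_incl s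
    obtain ⟨μ, hμ⟩ := Submodule.mem_span_singleton.1 ((hs e).2 (Submodule.mem_span_singleton_self e))
    have μ0 : σ μ ≠ 0 := (map_ne_zero σ).2 fun e1 =>
      h0 ((C.act s).injective (by rw [← hμ, e1, zero_smul, map_zero]))
    have b : ∀ {v}, P.B e v = 0 → P.B e (σ μ • C.act s v) = 0 := fun {v} k => by
      rw [P.B_smul_right, ← P.B_smul_left, hμ, C.B_act, k]
    refine norm_of_le ?_
    rintro _ ⟨q, ⟨r, a, k⟩, rfl⟩
    refine ⟨g * q * g⁻¹, ⟨_, _, b k.hr, b k.ha, fun v => ?_⟩, by rw [map_mul, map_mul, map_inv, h.ext _ _ hg]⟩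
    obtain ⟨v, rfl⟩ := g.1.surjective v
    rw [slv_mul, slv_mul, fa_inv_app, k.app, hg, map_add, map_add, map_smul, map_smul, P.B_smul_left, m.σσ,
      C.B_act, ← C.B_act s e, ← hμ, P.B_smul_left]
    module
  · refine map_le_iff_le_comap.2 (FQ.QL_le m h0 he fun a aa ea h1 l b d k g hg => ?_)
    have k0 : P.B (l • a) a = 0 := by rw [P.B_smul_left, aa, mul_zero]
    have := hH a aa ea h1 (ψ (FQ.tr P a (l • a))) ?_ (φ (C.T e b d)) ⟨_, m.T_mem_Q k, rfl⟩
    · rwa [← map_inv, FQ.tr_inv m k0, ← h.ext _ _ hg, ← map_mul, ← map_mul] at this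
    rintro _ ⟨s, hs, rfl⟩
    obtain ⟨u, hu⟩ := m.exists_incl s
    have e1 : C.act s a = a := hs.1 a (Submodule.subset_span (by simp))
    rw [← h.ext _ _ hu, ← map_mul, ← map_mul]
    refine congrArg ψ (slv_ext fun v => ?_)
    rw [slv_mul, slv_mul, FQ.tr_app k0, FQ.tr_app k0, hu, map_add, map_smul, e1, P.B_smul_left, P.B_smul_left,
      ← C.B_act s a v, e1]
  · have hN : ∀ p r, P.B r p = 0 → P.B e p = 0 → P.B e r = 0 → ∀ g ∈ (centralizer (W : Set G)).comap ψ,
        FQ.tr P p r * g * FQ.tr P p r ∈ (centralizer (W : Set G)).comap ψ := fun p r k ep er g hg => by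
      have n2 : ψ (FQ.tr P p r) ∈ normalizer (W : Set G) := n1 (norm_of_le (by
        rintro _ ⟨q, ⟨r', a, i⟩, rfl⟩
        exact ⟨_, ⟨_, _, i.conj m k ep er⟩, by rw [← map_inv, FQ.tr_inv m k, map_mul, map_mul]⟩))
      intro w hw
      have e1 := hg _ ((mem_normalizer_iff.1 (inv_mem n2) w).1 hw)
      rw [map_mul, map_mul]
      nth_rewrite 2 4 [← FQ.tr_inv m k]
      rw [map_inv]
      calc _ = ψ (FQ.tr P p r) * (((ψ (FQ.tr P p r))⁻¹ * w * (ψ (FQ.tr P p r))⁻¹⁻¹) * ψ g) *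
          (ψ (FQ.tr P p r))⁻¹ := by group
        _ = _ := by rw [e1]; group
    obtain ⟨f, hf⟩ := m.exists_hp h0 he
    rintro _ ⟨s, hs, rfl⟩
    obtain ⟨u, hu, h1⟩ := m.fix_decomp hf (mem_fix_pt.1 hs)
    rw [← mul_inv_cancel_left u s, map_mul]
    refine mul_mem (c1 (hle ⟨u, hu, rfl⟩)) (m.fix_gen5 hf (H := (centralizer (W : Set G)).comap φ)
      (fun p a d k ep fp ea _ => ?_) h1)
    by_cases p0 : p = 0
    · subst p0
      rw [m.T_zero' a k]
      exact one_mem _
    obtain ⟨pp, pa, -⟩ := m.tok.1 k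
    have h2 : p ∉ span K {e} := fun h2 => by
      obtain ⟨l, rfl⟩ := Submodule.mem_span_singleton.1 h2
      rw [P.B_smul_right, hf.fe, mul_one] at fp
      exact p0 (by rw [fp, zero_smul])
    have h3 : FQ.tr P p p ∈ (centralizer (W : Set G)).comap ψ := by
      rw [mem_comap, h.ext (C.T p 0 1) _ (LinearEquiv.ext fun v => by
        rw [FQ.tr_app pp, m.z_app pp (map_one σ), one_mul])]
      exact c2 p 1 pp ep (map_one σ)
    obtain ⟨g, hg⟩ := m.exists_incl (C.T p a d)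
    have i := FQ.is_T m k hg
    rw [mem_comap, ← h.ext _ _ hg, ← mem_comap, i.eq m pp]
    refine mul_mem (FQ.tr_mem m h0 he hN pp ep h2 h3 ?_ (i.inv m pp).hr).1 (FQ.tr_mem m h0 he hN pp ep h2 h3 ea pa).2
    simp only [P.B_add_right, P.B_smul_right, ea, ep, mul_zero, add_zero]

end CfsgLib.U5
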