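import Cfsg.Agent.Lib.U5.TopR

/-! Odd subgroups normalised by a Sylow subgroup -/

set_option autoImplicit false
set_option linter.unusedSectionVars false

namespace CfsgLib.U5

open Subgroup Module CfsgLib.Forms CfsgLib.LieMult
open CfsgLib.HX (Std CO Two Mv Tr Heis NF Fus4 Has4 M2)
open Submodule (span)
open scoped commutatorElement Pointwise

universe u

variable {K : Type} [Field K] [Finite K] {σ : K →+* K} {V : Type} [AddCommGroup V] [Module K V]
  [FiniteDimensional K V] {P : PQ σ V} {S : Type} [Group S] [Finite S] {G : Type u} [Group G]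
  [Finite G] {C : CG P S} {φ : S →* G} {t : G}

/-- `UFP.UWData` with the centralising of the `R i` as a hypothesis -/
structure UWD (G1 : Subgroup G) (t : G) (U0 L Zh : Subgroup G) (X : Set G) {ι : Type}
    (R P : ι → Subgroup G) : Prop where
  ne : Nonempty ι
  hat : ∀ x ∈ X, UFP.Hat t U0 x
  LC : L ≤ centralizer {t}
  UP : ∀ i, U0 ≤ P i
  PL : ∀ i, P i ≤ L
  gen : L ≤ ⨆ i, P i
  genX : ∀ K : Subgroup G, L ≤ normalizer (K : Set G) → (∀ x ∈ X, x ∈ K) → L ≤ K
  RP : ∀ i, R i ≤ P i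
  cen : ∀ W : Subgroup G, Odd (Nat.card W) → t ∈ normalizer (W : Set G) → U0 ≤ normalizer (W : Set G) →
    ∀ i, ∀ w ∈ W, t * w * t⁻¹ = w⁻¹ → w ∈ centralizer (R i : Set G)
  Rp : ∀ i, IsPGroup 2 (R i)
  PR : ∀ i, P i ≤ normalizer (R i : Set G)
  tR : ∀ i, t ∉ R i
  iso : ∀ i, UFP.Iso G1 t (R i)
  ZR : ∀ i, Zh ≤ centralizer (R i : Set G)
  tZ : ∀ z ∈ Zh, t⁻¹ * (z * t * z⁻¹) ∈ closure X
  fin : ∀ V : Subgroup G, L ≤ centralizer (V : Set G) → Zh ≤ normalizer (V : Set G) → V ≤ G1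

theorem tu_norm {E : Subgroup G} (h : E ≤ centralizer {t}) : t ∈ normalizer (E : Set G) :=
  centralizer_le_normalizer _ (UFP.mem_cent.2 fun _ hr => (UFP.mem_cent1.1 (h hr)).symm)

theorem tu_hat {U0 W : Subgroup G} (t2 : t * t = 1) (hU : U0 ≤ centralizer {t}) (h1 : Odd (Nat.card W))
    (h2 : t ∈ normalizer (W : Set G)) (h3 : U0 ≤ normalizer (W : Set G)) :
    closure {g | UFP.Hat t U0 g} ≤ centralizer (W : Set G) :=
  (closure_le _).2 fun _ hx => UFP.mem_cent.2 fun _ hw =>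
    (UFP.mem_cent1.1 (UFP.Hat.cent hx t2 hU h1 h2 h3 hw)).symm

open UFP in
theorem UWD.uw {G1 U0 L Zh : Subgroup G} {X : Set G} {ι : Type}
    {R P : ι → Subgroup G} (d : UWD G1 t U0 L Zh X R P) (h : U G1 t) : UW G1 t U0 := by
  obtain ⟨i0⟩ := d.ne
  have hU : U0 ≤ centralizer {t} := (d.UP i0).trans ((d.PL i0).trans d.LC)
  have tR : ∀ i, t ∈ normalizer (R i : Set G) := fun i => tu_norm ((d.RP i).trans ((d.PL i).trans d.LC))
  have inv : ∀ W : Subgroup G, Odd (Nat.card W) → t ∈ normalizer (W : Set G) →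
      U0 ≤ normalizer (W : Set G) → ∀ i, ∀ w ∈ W, t * w * t⁻¹ = w⁻¹ → w ∈ OC (R i) :=
    fun W h1 h2 h3 i w hw hi => h.mem_OC (d.Rp i) (tR i) (d.tR i) (d.iso i)
      (d.cen W h1 h2 h3 i w hw hi) (odd_orderOf h1 hw) hi
  have nO : ∀ i, U0 ≤ normalizer (OC (R i) : Set G) := fun i =>
    (d.UP i).trans ((d.PR i).trans (norm_le_norm_OC _))
  have cO : ∀ i, closure X ≤ centralizer (OC (R i) : Set G) := fun i =>
    (closure_mono d.hat).trans (tu_hat h.sq hU (OC_odd _) (norm_le_norm_OC _ (tR i)) (nO i))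
  obtain ⟨V, hV⟩ : ∃ V, V = closure {w | w ∈ OC (R i0) ∧ t * w * t⁻¹ = w⁻¹} := ⟨_, rfl⟩
  have VO : V ≤ OC (R i0) := hV ▸ (closure_le _).2 fun w hw => hw.1
  have mV : ∀ i, ∀ w ∈ OC (R i), t * w * t⁻¹ = w⁻¹ → w ∈ V := fun i w hw hi =>
    hV ▸ subset_closure ⟨inv _ (OC_odd _) (norm_le_norm_OC _ (tR i)) (nO i) i0 w hw hi, hi⟩
  have nV : ∀ g : G, (∀ w ∈ OC (R i0), t * w * t⁻¹ = w⁻¹ → g * w * g⁻¹ ∈ V) →
      g ∈ normalizer (V : Set G) := by
    intro g hg
    refine mem_normalizer_fintype fun v hv => ?_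
    have : V ≤ V.comap (MulAut.conj g).toMonoidHom := by
      conv_lhs => rw [hV]
      exact (closure_le _).2 fun w hw => hg w hw.1 hw.2
    exact this hv
  have LV : L ≤ normalizer (V : Set G) := by
    refine d.gen.trans (iSup_le fun i p hp => nV p fun w hw hi => mV i _ ?_ ?_)
    · exact conj_mem (norm_le_norm_OC _ (d.PR i hp))
        (inv _ (OC_odd _) (norm_le_norm_OC _ (tR i0)) (nO i0) i w hw hi)
    · have := mem_cent1.1 (d.LC (d.PL i hp))
      rw [show t * (p * w * p⁻¹) * t⁻¹ = t * p * w * (t * p)⁻¹ by group, this,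
        show p * t * w * (p * t)⁻¹ = p * (t * w * t⁻¹) * p⁻¹ by group, hi]
      group
  have LC : L ≤ centralizer (V : Set G) :=
    d.genX _ (LV.trans (Core.normalizer_le_normalizer_centralizer _)) fun x hx =>
      centralizer_le VO (cO i0 (subset_closure hx))
  have ZV : Zh ≤ normalizer (V : Set G) := by
    intro z hz
    refine nV z fun w hw hi => ?_
    have m1 := conj_mem (cent_le_norm_OC _ (d.ZR i0 hz)) hw
    refine mV i0 _ m1 ?_
    have m2 := mem_cent.1 (cO i0 (d.tZ z hz)) _ m1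
    calc t * (z * w * z⁻¹) * t⁻¹
        = t * (z * w * z⁻¹ * (t⁻¹ * (z * t * z⁻¹))) * (z * t * z⁻¹)⁻¹ := by group
      _ = z * (t * w * t⁻¹) * z⁻¹ := by rw [m2]; group
      _ = _ := by rw [hi]; group
  intro W h1 h2 h3
  exact le_of_inv h.sq h1 h2 (fun w hw => h.centralizer_le (mem_cent1.1 hw.2).symm)
    fun w hw hi => d.fin V LC ZV (mV i0 w (inv W h1 h2 h3 i0 w hw hi) hi)

namespace HL

variable {y : V → K → G} (h : HL C φ t y) {Gs : Subgroup G} {e a : V}
include h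

theorem tu_LC : φ.range ≤ centralizer {t} := by
  rintro _ ⟨l, rfl⟩
  exact UFP.mem_cent1.2 (h.tφ l).symm

theorem tu_iso (hG : SLE.Glob Gs t) (hL : φ.range ≤ Gs) (ht : t ∉ Gs) {U : Submodule K V} (hU : TI P U)
    {R : Subgroup S} (hR : R ≤ C.fixG U) (k : TD φ.range (R.map φ) (Eg C φ U) t) {G₁ : Subgroup G} :
    UFP.Iso G₁ t (R.map φ) :=
  k.iso_of hG hL ht fun _ ha =>
    let ⟨g, g1, g2, g3, g4⟩ := h.top_hat hU ha
    ⟨g, h.G0_le_Gs hG hL g1, g2, h.G0_co g1, centralizer_le (map_mono hR) g3, g4⟩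

section
variable (h0 : e ≠ 0) (he : P.B e e = 0) (ha : P.B a a = 0) (hea : P.B e a = 0) (h1 : a ∉ span K {e})
include h0 he ha hea h1

omit h h0 h1 in
theorem tu_ti : TI P (span K {e, a}) := ti_span.2 (by simp [he, ha, hea, P.B_eq_zero_comm.1 hea])

theorem tu_Q : Rg C φ (span K {e}) ≤
    closure {g | UFP.Hat t (Rg C φ (span K {e}) ⊔ Rg C φ (span K {e, a})) g} := fun g hg => by
  obtain ⟨b, d, hd, rfl⟩ := (h.mem_Q h0 he).1 hg
  have m1 := Submodule.mem_span_singleton_self (R := K) e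
  have p : ∀ b, P.B e b = 0 → b ∈ P.perp (span K {e}) := fun b hb v hv => by
    obtain ⟨l, rfl⟩ := Submodule.mem_span_singleton.1 hv
    simp [hb]
  exact h.top_x_mem (ti_pt he) (by have := h.d4; rw [finrank_span_singleton h0]; omega) m1
    (fun a ha d hd => mem_sup_left (mem_map_of_mem φ (h.T_mem_rad (ti_pt he) hd m1 ha)))
    (fun _ => ⟨a, p a hea, ha, h1⟩) (p b hd.perp) d hd

/-- odd groups normalised by `t` and the two radicals -/
theorem tu_cen {W : Subgroup G} (w1 : Odd (Nat.card W)) (w2 : t ∈ normalizer (W : Set G))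
    (w3 : Rg C φ (span K {e}) ⊔ Rg C φ (span K {e, a}) ≤ normalizer (W : Set G)) :
    Rg C φ (span K {e}) ⊔ Eg C φ (span K {e, a}) ≤ centralizer (W : Set G) := by
  have t2 := tu_ti he ha hea
  refine le_trans (sup_le (h.tu_Q h0 he ha hea h1) (map_le_iff_le_comap.2 ((h.E_eq t2).le.trans
    ((closure_le _).2 ?_)))) (tu_hat h.t2 ((sup_le (map_le_range _ _) (map_le_range _ _)).trans h.tu_LC) w1 w2 w3)
  rintro _ ⟨p, hp, r, hr, rfl⟩
  have pp := top_orth t2 hp hp
  change φ _ ∈ Subgroup.closure _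
  by_cases p0 : p = 0
  · subst p0
    rw [h.top_T_zero (h.tok0 pp hr), map_one]; exact one_mem _
  obtain ⟨b, b1, b3⟩ : ∃ b ∈ span K {e, a}, b ∉ span K {p} := by
    by_cases c : e ∈ span K {p}
    · exact ⟨a, Submodule.subset_span (by simp), fun c' =>
        h1 (eq_span_singleton_of_mem_of_finrank_eq_one (finrank_span_singleton p0) c h0 ▸ c')⟩
    · exact ⟨e, Submodule.subset_span (by simp), c⟩
  have b2 := top_orth t2 b1 b1
  have b4 := top_orth t2 hp b1
  have k := fun d hd => subset_closure (k := {g | UFP.Hat t (Rg C φ (span K {e}) ⊔ Rg C φ (span K {e, a})) g})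
    (h.top_hat_x p0 pp b2 b4 b3 (fun d hd => mem_sup_right (mem_map_of_mem φ (h.T_mem_rad t2 hd hp (t2 b1))))
      (d := d) hd)
  have := mul_mem (k 0 (map_zero σ)) (k r hr)
  rwa [x, x, ← map_mul, C.T_mul (h.tok1 pp b2 b4 (map_zero σ)) (h.tok1 pp b2 b4 hr), h.vadd_self, b2,
    zero_add, add_zero] at this

omit h h0 h1 in
theorem tu_stb : Rg C φ (span K {e}) ⊔ Rg C φ (span K {e, a}) ≤
    (Stb C (span K {e}) ⊓ Stb C (span K {e, a})).map φ :=
  have le : span K {e} ≤ span K {e, a} := Submodule.span_mono (by simp)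
  sup_le (map_mono (le_inf (top_rad_le_stb (ti_pt he) le_rfl) (top_rad_le_stb (tu_ti he ha hea) le)))
    (map_mono (le_inf ((rad_le_fix _).trans ((top_fix_anti le).trans (fix_le_stb _)))
      (top_rad_le_stb (tu_ti he ha hea) le_rfl)))

theorem tu_cen' {E : Subgroup G} (w2 : t ∈ normalizer (E : Set G))
    (w3 : (Stb C (span K {e}) ⊓ Stb C (span K {e, a})).map φ ≤ normalizer (E : Set G)) :
    Rg C φ (span K {e}) ⊔ Eg C φ (span K {e, a}) ≤ centralizer (UFP.OC E : Set G) :=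
  h.tu_cen h0 he ha hea h1 (UFP.OC_odd E) (UFP.norm_le_norm_OC E w2)
    ((tu_stb he ha hea).trans (w3.trans (UFP.norm_le_norm_OC E)))

theorem tu_line (hG : SLE.Glob Gs t) (hL : φ.range ≤ Gs) (ht : t ∉ Gs) {G₁ : Subgroup G} (hu : UFP.U G₁ t) {δ : G}
    (ho : Odd (orderOf δ)) (hc : δ ∈ centralizer ((Rg C φ (span K {e}) ⊔ Eg C φ (span K {e, a}) : Subgroup G) : Set G))
    (hi : t * δ * t⁻¹ = δ⁻¹) {g q : G} (hg : g ∈ centralizer (Rg C φ (span K {e, a}) : Set G))
    (hq : q ∈ Rg C φ (span K {e})) : g * q * g⁻¹ ∈ centralizer {δ} := by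
  have t2 := tu_ti he ha hea
  have le := h.R0_le (e := e) t2
  have tn := tu_norm ((map_le_range φ (R0 C e (span K {e, a}))).trans h.tu_LC)
  have m := hu.mem_OC (((h.rad_two t2).to_le le).map φ) tn (fun k => h.t_not_mem (map_le_range _ _ k))
    (h.tu_iso hG hL ht t2 (le.trans (rad_le_fix _)) (h.td0 h.two' t2 (by
      rw [Submodule.span_insert, Submodule.finrank_sup_span_singleton h1, finrank_span_singleton h0])
      (Submodule.subset_span (by simp)) h0))
    (centralizer_le (by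
      rw [R0, Subgroup.map_sup]
      exact sup_le_sup (map_mono inf_le_left) le_rfl) hc) ho hi
  have c := h.tu_cen' h0 he ha hea h1 tn ((map_mono fun s hs => Core.normalizer_inf_le_normalizer_sup _ _
    ⟨UFP.norm_inf (h.stb_norm _ (mem_inf.1 hs).1).1.2 (h.stb_norm _ (mem_inf.1 hs).2).1.2,
      (h.stb_norm _ (mem_inf.1 hs).2).2⟩).trans (le_normalizer_map φ))
  exact UFP.mem_cent1.2 (UFP.mem_cent.1 (UFP.conj_mem (Core.normalizer_le_normalizer_centralizer _
    (UFP.cent_le_norm_OC _ (centralizer_le (map_mono le) hg))) (c (mem_sup_left hq))) δ m)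

end

/-- the inverted odd elements of `C(Q_e)` -/
theorem tu_inv (hG : SLE.Glob Gs t) (hL : φ.range ≤ Gs) (ht : t ∉ Gs) {G₁ : Subgroup G} (hu : UFP.U G₁ t)
    (h0 : e ≠ 0) (he : P.B e e = 0) {Qt : Subgroup G} (hQ : QT C φ t y e Qt) {δ : G} (ho : Odd (orderOf δ))
    (hc : δ ∈ centralizer (Rg C φ (span K {e}) : Set G)) (hi : t * δ * t⁻¹ = δ⁻¹) :
    δ ∈ centralizer (Yg C φ (span K {e}) : Set G) := by
  have t1 := ti_pt he
  have is : UFP.Iso G₁ t (Rg C φ (span K {e})) := h.tu_iso hG hL ht t1 (rad_le_fix _)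
    (h.td h.two' t1 fun e0 => h0 (by simpa using e0))
  have tn := tu_norm ((map_le_range φ (Rad C (span K {e}))).trans h.tu_LC)
  have m := hu.mem_OC ((h.rad_two t1).map φ) tn (fun k => h.t_not_mem (map_le_range _ _ k)) is hc ho hi
  have c1 : Qt ≤ centralizer {δ} := hQ.gen _ fun a ha hea h1 g hg q hq =>
    h.tu_line h0 he ha hea h1 hG hL ht hu ho (le_centralizer_iff.1 (h.tu_cen' h0 he ha hea h1 tn
      ((map_mono fun s hs => (h.stb_norm _ (mem_inf.1 hs).1).1.2).trans (le_normalizer_map φ))) m) hi hg hq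
  have m2 := hu.mem_OC hQ.two hQ.tn hQ.tm (fun m m1 m2 P p1 p2 p3 p4 =>
    hQ.le (is m m1 (centralizer_le hQ.le m2) P p1 (hQ.le.trans p2) p3 p4))
    (UFP.mem_cent.2 fun q hq => (UFP.mem_cent1.1 (c1 hq)).symm) ho hi
  have c2 := le_centralizer_iff.1 (UFP.OC_le Qt)
  refine le_centralizer_iff.1 (hQ.fin _ (UFP.OC_odd Qt) (UFP.norm_le_norm_OC Qt) c2 (fun p s hp hep hs => ?_)
    fun w hw => ?_) m2
  · by_cases h1 : p ∈ span K {e}
    · exact c2 (hQ.le (mem_map_of_mem φ (h.T_mem_rad t1 (h.tok0 hp hs) h1 (zero_mem _))))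
    · exact h.tu_cen' h0 he hp hep h1 hQ.tn ((map_mono inf_le_left).trans hQ.nrm) (mem_sup_right
        (mem_map_of_mem φ (h.T_mem_E (tu_ti he hp hep) (h.tok0 hp hs) (Submodule.subset_span (by simp)) (zero_mem _))))
  · have wo := UFP.odd_orderOf (UFP.OC_odd Qt) hw.1
    have wt := (UFP.mem_cent1.1 hw.2).symm
    obtain ⟨r, hr, c, hc, e1⟩ := h.cQ h0 he (h.cN wt) (centralizer_le hQ.le (UFP.OC_le Qt hw.1))
    refine UFP.mem_cent.2 fun g hg => h.G0_co hg w (zpowers_le.2 ?_ (UFP.mem_zpowers_two_pow wo 1)) wt wo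
    rw [e1, pow_one, (show Commute (z C φ e r) c from hc _ ⟨_, rfl⟩).mul_pow, pow_two, h.z_sq he hr, one_mul]
    exact pow_mem hc 2

end HL

theorem HL.uw {y : V → K → G} (h : HL C φ t y) {Gs : Subgroup G} (hG : SLE.Glob Gs t) (hL : φ.range ≤ Gs)
    (ht : t ∉ Gs) (hu : UFP.U (normalizer (G0 C φ y : Set G)) t) {e e' : V} (he : P.B e e = 0)
    (he' : P.B e' e' = 0) (hee : P.B e e' = 0) (h0 : e ≠ 0) (h1 : e' ∉ span K {e}) {Qt : Subgroup G}
    (hQ : QT C φ t y e Qt) :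
    UFP.UW (normalizer (G0 C φ y : Set G)) t (Rg C φ (span K {e}) ⊔ Rg C φ (span K {e, e'})) := by
  obtain ⟨f, f', k⟩ := h.exists_hh' he he' hee h0 h1
  have hee' := P.B_eq_zero_comm.1 hee
  have m1 : e ∈ span K {e} := Submodule.mem_span_singleton_self e
  have m2 : e ∈ span K {e, e'} := Submodule.subset_span (by simp)
  have m3 : e' ∈ span K {e, e'} := Submodule.subset_span (by simp)
  have t1 : TI P (span K {e}) := ti_pt he
  have t2 : TI P (span K {e, e'}) := k.ti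
  have le : span K {e} ≤ span K {e, e'} := Submodule.span_mono (by simp)
  let U : Bool → Submodule K V := fun i => cond i (span K {e, e'}) (span K {e})
  have tU : ∀ i, TI P (U i) := Bool.forall_bool.2 ⟨t1, t2⟩
  have mU : ∀ i, e ∈ U i := Bool.forall_bool.2 ⟨m1, m2⟩
  have r1 := h.tu_Q h0 he he' hee h1
  have cen := fun W w1 w2 w3 w hw => h.tu_inv hG hL ht hu h0 he hQ (δ := w) (UFP.odd_orderOf (W := W) w1 hw)
    (le_centralizer_iff.1 (le_sup_left.trans (h.tu_cen h0 he he' hee h1 w1 w2 w3)) hw)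
  set U0 := Rg C φ (span K {e}) ⊔ Rg C φ (span K {e, e'})
  have hz : ∀ r, σ r = r → z C φ e r ∈ closure {g | UFP.Hat t U0 g} := fun r hr =>
    r1 ((h.mem_Q h0 he).2 ⟨0, r, h.tok0 he hr, rfl⟩)
  have hY : ∀ i, Rg C φ (U i) ≤ Yg C φ (span K {e}) := fun i =>
    map_mono ((rad_le_fix _).trans (top_fix_anti ((Submodule.span_singleton_le_iff_mem _ _).2 (mU i))))
  refine UWD.uw (L := φ.range) (Zh := Zh C φ y e) (X := {g | UFP.Hat t U0 g}) (R := fun i => Rg C φ (U i))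
    (P := fun i => (Stb C (U i)).map φ) ⟨⟨true⟩, fun _ e => e, ?_, ?_, fun i => map_le_range _ _, ?_,
      fun H hH e1 => ?_, fun i => map_mono (top_rad_le_stb (tU i) le_rfl),
      fun W w1 w2 w3 i w hw hi => centralizer_le (hY i) (cen W w1 w2 w3 w hw hi),
      fun i => (h.rad_two (tU i)).map φ,
      fun i => (map_mono ((h.stb_norm _).trans (inf_le_left.trans inf_le_right))).trans (le_normalizer_map φ),
      fun i e => h.t_not_mem (map_le_range _ _ e), fun i => h.tu_iso hG hL ht (tU i) (rad_le_fix _)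
        (h.td h.two' (tU i) fun e0 => h0 (by simpa [e0] using mU i)),
      fun i => (h.Zh_cY he).trans (centralizer_le (hY i)), fun g hg => ?_,
      UFP.fin_of (fun H hH e1 => le_sup_right.trans ((h.G0_eq h0 he).ge.trans (h.G0_le ((h.G0_eq h0 he).le.trans hH) e1)))
        (by rw [← h.G0_eq h0 he]; exact centralizer_le_normalizer _)⟩ hu
  · exact h.tu_LC
  · exact Bool.forall_bool.2 ⟨sup_le (map_mono (top_rad_le_stb t1 le_rfl))
      (map_mono ((rad_le_fix _).trans ((top_fix_anti le).trans (fix_le_stb _)))),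
      sup_le (map_mono (top_rad_le_stb t2 le)) (map_mono (top_rad_le_stb t2 le_rfl))⟩
  · have fx : ∀ s, C.act s e = e → φ s ∈ ⨆ i, (Stb C (U i)).map φ := fun s hs =>
      mem_iSup_of_mem false ⟨s, fix_le_stb _ fun v hv => by
        obtain ⟨l, rfl⟩ := Submodule.mem_span_singleton.1 hv
        rw [map_smul, hs], rfl⟩
    have t3 : TI P (span K {e'}) := ti_span.2 (by simp [he'])
    rintro _ ⟨l, rfl⟩
    refine (h.gen_line k (H := (⨆ i, (Stb C (U i)).map φ).comap φ) (fun p s hp hep hs => fx _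
      (C.T_fix (h.tok0 hp hs) (P.B_eq_zero_comm.1 hep) (by simp))) (fun l => fx _ (C.T_self (h.tok1 he ?_ ?_
        (map_zero σ)))) fun l => mem_iSup_of_mem true ⟨_, top_rad_le_stb t2
          ((Submodule.span_singleton_le_iff_mem _ _).2 m3) ((h.mem_rad_pt (top_ne k.h₂) he').2
            ⟨_, _, h.tok1 he' ?_ ?_ (map_zero σ), rfl⟩), rfl⟩).ge (mem_top l)
    · simp [(h.hp_iff.1 k.h₂).2.1]
    · simp [k.ef]
    · simp [(h.hp_iff.1 k.h₁).2.1]
    · simp [P.B_eq_zero_comm.1 k.fe]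
  · rcases h.le_or_cent (H := H ⊓ φ.range) (fun g hg => UFP.norm_inf (hH hg) (le_normalizer hg))
      (inf_le_right.trans le_normalizer) with e2 | e2
    · exact e2.trans inf_le_left
    · refine absurd ?_ (h.top_z_ne h0 he)
      have k1 := h.tok0 he (map_one σ)
      rw [z, h.inj2 (UFP.pgroup_zpowers_of_sq (by rw [C.T_mul k1 k1]; simp [h.add_self, C.T_zero k1.sing]))
        (e2 ⟨(closure_le H).2 e1 (hz 1 (map_one σ)), _, rfl⟩), map_one]
  · obtain ⟨s, r, hs, hr, rfl⟩ := (h.mem_Zh he).1 hg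
    rw [h.zy_t he hs hr, inv_mul_cancel_left]
    exact hz r hr

end CfsgLib.U5
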