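import Cfsg.Agent.Lib.U5.FldB
import Cfsg.Agent.Lib.U5.FldQ
import Cfsg.Agent.Lib.U5.TopU

/-! Field case: the identification -/

set_option autoImplicit false
set_option linter.unusedSectionVars false

namespace CfsgLib.U5

open Subgroup Module CfsgLib.Forms CfsgLib.LieMult
open CfsgLib.HX (Std CO Two Mv Tr Heis NF Fus4 Has4 M2)
open Submodule (span)
open scoped commutatorElement Pointwise

universe u

variable {K : Type} [Field K] [Finite K] {σ : K →+* K} {V : Type} [AddCommGroup V] [Module K V]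
  [FiniteDimensional K V] {P : PQ σ V} {S : Type} [Group S] [Finite S] {G : Type u} [Group G]
  [Finite G] {C : CG P S} {φ : S →* G} {t : G}

namespace DblF

variable {y : V → K → G} {c : K} {ψ : SLV K V →* G} (h : DblF C φ t y c ψ) {Gs : Subgroup G}
include h

omit h in
theorem fc_Od {H : Subgroup (SLV K V)} {M : Subgroup G} (hH : H.map ψ ≤ M) {j : SLV K V} (hj : j ∈ Od H) :
    ψ j ∈ Od M :=
  have := finite_slv (K := K) (V := V)
  Od_mono hH (map_Od ψ H ⟨j, hj, rfl⟩)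

/-- the centraliser of a conjugate of `t` is small -/
theorem fc_small {g : G} {n : ℕ} (hn : Odd n ∧ 3 ≤ n ∧ finrank K V < 2 * n ∨ 4 ∣ n ∧ finrank K V < n)
    (hd : Nat.card (Fx σ) ^ n - 1 ∣ Nat.card (Od2 ((centralizer {g * t * g⁻¹}).comap ψ))) : False := by
  obtain ⟨r, r1, r2, r3, r4⟩ := h.fa_mod.ppdA hn
  refine r3 ((h.dvd_card r1 (r2.trans hd) r4).trans ((card_dvd_of_le ?_).trans
    (card_range_dvd ((MulAut.conj g).toMonoidHom.comp φ))))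
  refine le_trans (map_le_iff_le_comap.2 ((closure_le _).2 fun a ha => ?_)) (h.toSit.cj g).Od2_le
  exact subset_closure ⟨by rw [← map_mul, ha.1, map_one], fc_Od (map_comap_le _ _) ha.2⟩

theorem fc_U1 {b : Basis (Fin (finrank K V)) K V} : (Mh b 1).map ψ ≤ normalizer (ψ.range : Set G) :=
  (map_le_range _ _).trans le_normalizer

theorem fc_syl {b : Basis (Fin (finrank K V)) K V} (hb : Bas P b) : ∃ T : Subgroup G,
    (Mh b 1).map ψ ⊔ zpowers t ≤ T ∧ T ≤ normalizer (ψ.range : Set G) ∧ IsPGroup 2 T ∧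
      ∀ Q ≤ normalizer (ψ.range : Set G), IsPGroup 2 Q → ∃ g ∈ normalizer (ψ.range : Set G), ∀ p ∈ Q, g * p * g⁻¹ ∈ T :=
  SLE.exists_syl (IsPGroup.to_sup_of_normal_left' ((Mh_two b h.fa_mod.two).map ψ)
    (UFP.pgroup_zpowers_of_sq h.fa_t2) (zpowers_le.2 (h.chain hb).tU)) (sup_le h.fc_U1 (zpowers_le.2 h.fa_tN))

theorem native {g : G} (hg : g * t * g⁻¹ ∈ normalizer (ψ.range : Set G))
    (h1 : g * t * g⁻¹ ∉ ψ.range) : g ∈ normalizer (ψ.range : Set G) := by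
  have s2 : g * t * g⁻¹ * (g * t * g⁻¹) = 1 := by
    rw [show g * t * g⁻¹ * (g * t * g⁻¹) = g * (t * t) * g⁻¹ by group, h.fa_t2]; group
  rcases h.invol hg s2 with k | ⟨γ, k⟩ | ⟨α, γ, k, k1, k2⟩ | ⟨β, k1, k2, k⟩
  · exact absurd k h1
  · obtain ⟨b, hb⟩ := h.fa_mod.exists_bas
    obtain ⟨T, t1, -, t2, t3⟩ := h.fc_syl hb
    obtain ⟨n, hn, e⟩ := t3 _ (zpowers_le.2 hg) (UFP.pgroup_zpowers_of_sq s2)
    have e1 := mul_mem (e _ (mem_zpowers _)) (t1 (mem_sup_right (mem_zpowers t)))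
    obtain ⟨γ', k'⟩ := h.fa_comm hn hg
    have k2 := h.act_mul k' k
    rw [← mul_assoc, inv_mul_cancel_right, mul_one] at k2
    obtain ⟨m, m1, m2⟩ := h.lin_odd k2
    have e2 := (h.inf_eq hb t2 (le_sup_left.trans t1)).le ⟨e1, SLE.mem_of_odd_pow (SLE.pg_zpowers t2 e1) m1 m2⟩
    obtain ⟨u, hu, e3⟩ := (h.chain hb).conj h.fa_t2 e2 (by
      rw [mul_assoc _ t t, h.fa_t2, mul_one, show n * (g * t * g⁻¹) * n⁻¹ * (n * (g * t * g⁻¹) * n⁻¹) =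
        n * (g * t * g⁻¹ * (g * t * g⁻¹)) * n⁻¹ by group, s2, mul_one, mul_inv_cancel])
    rw [mul_assoc _ t t, h.fa_t2, mul_one] at e3
    have h7 := h.toHL.cent_le (g := u⁻¹ * n * g) (by
      calc _ = u⁻¹ * (n * (g * t * g⁻¹) * n⁻¹) * n * g := by group
        _ = _ := by rw [e3]; group)
    rw [← h.eqG] at h7
    exact (Subgroup.mul_mem_cancel_left _ (mul_mem (inv_mem (h.fc_U1 hu)) hn)).1 h7
  · obtain ⟨n, n1, n2, n3, n4⟩ := h.fa_mod.fld_big k.semi k1 k2 (H := (centralizer {g * t * g⁻¹}).comap ψ)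
      fun a ha => UFP.mem_cent1.2 (mul_inv_eq_iff_eq_mul.1 (k.conj a a ha))
    exact (h.fc_small (.inl ⟨n1, n2, n3⟩) n4).elim
  · obtain ⟨j, j2, j1, n, n1, n2, n3⟩ := h.fa_mod.sym_big β k1 k2
    obtain ⟨g', e⟩ := h.toHL.conj_mul (fc_Od (map_comap_le _ _) (j1 ((centralizer {g * t * g⁻¹}).comap ψ)
      fun a ha => UFP.mem_cent1.2 (mul_inv_eq_iff_eq_mul.1 (k a a ha)))) (by rw [← map_mul, j2, map_one])
    refine (h.fc_small (g := g') (.inr ⟨n1, n2⟩) (n3 _ fun a ha => UFP.mem_cent1.2 ?_)).elim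
    have := k (j * a * j⁻¹) a fun v v' => by rw [slv_mul, slv_mul, ha, fa_app_inv]
    rw [map_mul, map_mul, map_inv] at this
    rw [e]
    calc _ = (g * t * g⁻¹ * (ψ j * ψ a * (ψ j)⁻¹) * (g * t * g⁻¹)⁻¹) * (g * t * g⁻¹ * ψ j) := by group
      _ = _ := by rw [this]

theorem not_mem (hG : SLE.Glob Gs t) : t ∉ Gs := by
  obtain ⟨N, n1, n2, n3⟩ := h.exists_lin
  obtain ⟨A, _, _, l, -, hl⟩ := SLE.exists_two_hom n2 n3
  refine hG.not_mem (UFP.not_mem_commutator h.fa_t2 h.fa_tN l (fun e => ?_) fun x hx e => h.native hx fun ⟨s, e'⟩ =>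
    e ((hl _).2 ⟨1, odd_one, (n1 _).2 ⟨_, by rw [pow_one]; exact e' ▸ h.act_self s⟩⟩))
  obtain ⟨m, m1, m2⟩ := (hl _).1 e
  obtain ⟨γ, k⟩ := (n1 t).1 (SLE.mem_of_odd_pow (UFP.pgroup_zpowers_of_sq h.fa_t2) m1 m2)
  exact h.not_act_t k

theorem fc_le (hG : SLE.Glob Gs t) (hL : φ.range ≤ Gs) : ψ.range ≤ Gs := h.eqG ▸ h.toHL.G0_le_Gs hG hL

theorem isU (hG : SLE.Glob Gs t) (hL : φ.range ≤ Gs) : UFP.U (normalizer (ψ.range : Set G)) t := by
  exact ⟨h.fa_t2, h.fa_tN, fun x hx => h.native hx fun e => h.not_mem hG (by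
    simpa [mul_assoc] using hG.nrm.conj_mem _ (h.fc_le hG hL e) x⁻¹)⟩

theorem fc_sylow (hG : SLE.Glob Gs t) (hL : φ.range ≤ Gs) {b : Basis (Fin (finrank K V)) K V} (hb : Bas P b) :
    ∀ Q ≤ normalizer (ψ.range : Set G), IsPGroup 2 Q →
      ∃ x ∈ normalizer (ψ.range : Set G), ∀ p ∈ Q, x * p * x⁻¹ ∈ (Mh b 1).map ψ ⊔ zpowers t := by
  have ht := h.not_mem hG
  have h0 := h.fc_le hG hL
  obtain ⟨N, n1, n2, n3⟩ := h.exists_lin
  obtain ⟨A, _, _, l, hA, hl⟩ := SLE.exists_two_hom n2 n3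
  obtain ⟨T, h1, h2, hT, h3⟩ := h.fc_syl hb
  have key : ∀ x : normalizer (ψ.range : Set G), l x = 1 → ∃ m, Odd m ∧ (x : G) ^ m ∈ ψ.range := fun x e => by
    obtain ⟨m, m1, m2⟩ := (hl x).1 e
    obtain ⟨γ, k⟩ := (n1 _).1 m2
    obtain ⟨m', m3, m4⟩ := h.lin_odd k
    exact ⟨m * m', m1.mul m3, by rwa [pow_mul]⟩
  have h4 := (h.chain hb).syl (h.isU hG hL) (hG.index ht) ht hG.perf h3 h2 (h1 (mem_sup_right (mem_zpowers t)))
    h.fc_U1 l hA (fun x e => (key x e).elim fun m hm => hG.mem_of_odd hm.1 (h0 hm.2))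
    (fun x ⟨s, _, e⟩ => (hl x).2 ⟨1, odd_one, (n1 _).2 ⟨_, by rw [pow_one]; exact e ▸ h.act_self s⟩⟩)
    fun x e1 e2 => (key x e2).elim fun m hm => (h.inf_eq hb hT (le_sup_left.trans h1)).le
      ⟨e1, SLE.mem_of_odd_pow (SLE.pg_zpowers hT e1) hm.1 hm.2⟩
  exact fun Q p1 p2 => (h3 Q p1 p2).imp fun x hx => ⟨hx.1, fun p hp => h4 (hx.2 p hp)⟩

/-- **IV** -/
theorem eq (hG : SLE.Glob Gs t) (hL : φ.range ≤ Gs) : ψ.range = Gs := by
  have hu := h.isU hG hL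
  have ht := h.not_mem hG
  have m := h.fa_mod
  obtain ⟨b, hb⟩ := m.exists_bas
  obtain ⟨e, f, e', f', k, e1, e2⟩ := m.exists_flag hb
  obtain ⟨Qt, hQ⟩ := h.qt (top_ne k.h₁) (m.hp_iff.1 k.h₁).1
  have uw := h.toHL.uw hG hL ht (h.eqG ▸ hu) (m.hp_iff.1 k.h₁).1 (m.hp_iff.1 k.h₂).1 k.ee (top_ne k.h₁)
    (top_not_mem k) hQ
  rw [← h.eqG, ← e1, ← e2] at uw
  have D : UFP.FldData (normalizer (ψ.range : Set G)) Gs t ((Mh b 1).map ψ) (finrank K V - 1)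
      fun i => (Mh b (finrank K V - i)).map ψ :=
    ⟨h.chain hb, h.fc_U1, (map_le_range _ _).trans (h.fc_le hG hL), h.fc_sylow hG hL hb, h.lin hb, h.lin2 hb,
      uw.mono ((sup_le (map_mono (m.rad_le_Ub hb).1) (map_mono (m.rad_le_Ub hb).2)).trans (h.Ub_le hb))⟩
  exact h.eqG.trans (h.toHL.eq_Gs hG hL fun u h2 h3 => h.eqG ▸ D.mem hu (hG.index ht) ht h2 h3)

end DblF

end CfsgLib.U5
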