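import Cfsg.Agent.Lib.U5.Odd
import Cfsg.Agent.Lib.Tech.SylowIn

/-! Conjugates of the involution in the root group -/

set_option autoImplicit false
set_option linter.unusedSectionVars false

namespace CfsgLib.U5

open Subgroup Module CfsgLib.Forms CfsgLib.LieMult
open CfsgLib.HX (Std CO Two Mv Tr Heis NF Fus4 Has4 M2)
open Submodule (span)
open scoped commutatorElement Pointwise

universe u

variable {K : Type} [Field K] [Finite K] {σ : K →+* K} {V : Type} [AddCommGroup V] [Module K V]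
  [FiniteDimensional K V] {P : PQ σ V} {S : Type} [Group S] [Finite S] {G : Type u} [Group G]
  [Finite G] {C : CG P S} {φ : S →* G} {t : G}

namespace FA

open Tech (IsSylowIn)

theorem mem_fix {e : V} {s : S} : s ∈ C.fixG (span K {e}) ↔ C.act s e = e :=
  ⟨fun k => k e (Submodule.mem_span_singleton_self e), fun k v hv => by
    obtain ⟨l, rfl⟩ := Submodule.mem_span_singleton.1 hv
    rw [map_smul, k]⟩

theorem ti {e : V} (he : P.B e e = 0) : TI P (span K {e}) := ti_span.2 (by simpa using he)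

theorem span_eq {e p : V} (h0 : p ≠ 0) (hp : p ∈ span K {e}) : span K {p} = span K {e} := by
  obtain ⟨l, rfl⟩ := Submodule.mem_span_singleton.1 hp
  exact Submodule.span_singleton_smul_eq (IsUnit.mk0 l (left_ne_zero_of_smul h0)) e

theorem two_zp {x : G} (hx : x * x = 1) : IsPGroup 2 (zpowers x) :=
  Tech.isPGroup_zpowers_of_pow (k := 1) (by rw [pow_one, pow_two, hx])

theorem T_mod (h : Mod C) {e a b : V} {c d : K} (h0 : e ≠ 0) (k : TOk P e a c) (k' : TOk P e b d)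
    (e1 : C.T e a c = C.T e b d) : a - b ∈ span K {e} := by
  obtain ⟨f, hf⟩ := h.exists_hp h0 (h.tok.1 k).1
  have := h.T_app k f
  rw [e1, h.T_app k' f, hf.ef, one_smul, one_smul] at this
  refine Submodule.mem_span_singleton.2 ⟨(P.B b f + σ d * 1) - (P.B a f + σ c * 1), ?_⟩
  rw [sub_smul]
  linear_combination (norm := abel) this

theorem irr (h : Mod C) {e a : V} (h0 : e ≠ 0) (he : P.B e e = 0) {U : Submodule K V} (h1 : e ∈ U)
    (h2 : ∀ s, C.act s e = e → ∀ v ∈ U, C.act s v ∈ U) (ha : a ∈ U) (hea : P.B e a = 0)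
    (h3 : a ∉ span K {e}) {v : V} (hv : P.B e v = 0) : v ∈ U := by
  have sp : ∀ v, P.B e v = 0 → v ∈ AddSubgroup.closure {a | a ∈ P.perp (span K {e}) ∧ P.B a a = 0} :=
    fun v hv => h.iso_span (ti he) (by rw [finrank_span_singleton h0]; have := h.d4; omega)
      (P.mem_perp_span_singleton.2 hv)
  obtain ⟨b, hb, eb, ba⟩ : ∃ b, P.B b b = 0 ∧ P.B e b = 0 ∧ P.B b a ≠ 0 := by
    by_contra! hc
    refine h3 (P.perp_perp C.nondeg (span K {e}) ▸ fun w hw => ?_)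
    refine AddSubgroup.closure_induction (p := fun w _ => P.B w a = 0) (fun b hb => ?_) (by simp)
      (fun x y _ _ hx hy => by rw [P.B_add_left, hx, hy, add_zero])
      (fun x _ hx => by simp [hx]) (sp w (P.mem_perp_span_singleton.1 hw))
    exact hc b hb.2 (P.mem_perp_span_singleton.1 hb.1)
  have k := h.tok0 hb (map_one σ)
  have bU : b ∈ U := by
    have := U.sub_mem (h2 _ (C.T_fix k (P.B_eq_zero_comm.1 eb) (by simp)) a ha) ha
    rw [h.T_app k] at this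
    simp only [map_zero, LinearMap.zero_apply, map_one, one_mul, zero_add, smul_zero, add_zero,
      add_sub_cancel_left] at this
    exact (U.smul_mem_iff ba).1 this
  have be : b ∉ span K {e} := fun hc => by
    obtain ⟨l, rfl⟩ := Submodule.mem_span_singleton.1 hc
    exact ba (by rw [P.B_smul_left, hea, mul_zero])
  refine (AddSubgroup.closure_le U.toAddSubgroup).2 (fun b' hb' => ?_) (sp v hv)
  by_cases c : b' ∈ span K {e}
  · exact (Submodule.span_singleton_le_iff_mem e U).2 h1 c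
  obtain ⟨s, μ, hμ, s1, s2⟩ := h.trans_line h0 he hb hb'.2 eb (P.mem_perp_span_singleton.1 hb'.1) be c
  exact (U.smul_mem_iff (ne_zero_of_norm hμ)).1 (s2 ▸ h2 s s1 b bU)

variable (h : Emb C φ) {e : V}
include h

theorem stb_of {s : S} (he : P.B e e = 0) (h0 : e ≠ 0) {r : K} (hr : σ r = r)
    (e1 : φ s * z C φ e 1 * (φ s)⁻¹ = z C φ e r) : s ∈ Stb C (span K {e}) :=
  h.fix_of_z (h.act_self s) he (map_one σ) hr
    (fun k => ((h.z_eq_one he (map_one σ)).1 k).elim h0 one_ne_zero) e1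

theorem z_mem (he : P.B e e = 0) {r : K} (hr : σ r = r) : z C φ e r ∈ Eg C φ (span K {e}) :=
  (h.mem_Z he).2 ⟨r, hr, rfl⟩

theorem ZQ (he : P.B e e = 0) : Eg C φ (span K {e}) ≤ Rg C φ (span K {e}) :=
  map_mono (h.E_le_rad (ti he))

omit h in
theorem QY : Rg C φ (span K {e}) ≤ Yg C φ (span K {e}) := map_mono (rad_le_fix _)

theorem Yz (he : P.B e e = 0) {y x : G} (hy : y ∈ Yg C φ (span K {e}))
    (hx : x ∈ Eg C φ (span K {e})) : Commute y x := by
  obtain ⟨y, hy, rfl⟩ := hy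
  obtain ⟨x, hx, rfl⟩ := hx
  exact Commute.map (h.E_cent (ti he) hx y hy) φ

theorem YQ {y : G} (hy : y ∈ Yg C φ (span K {e})) : y ∈ normalizer (Rg C φ (span K {e}) : Set G) := by
  obtain ⟨y, hy, rfl⟩ := hy
  exact (h.act_norm (h.act_self y) (fix_le_stb _ hy)).2.1

theorem Y_two (h0 : e ≠ 0) (he : P.B e e = 0) {H : Subgroup G}
    (hH : ∀ y ∈ Yg C φ (span K {e}), IsPGroup 2 (zpowers y) → y ∈ H) : Yg C φ (span K {e}) ≤ H :=
  map_le_iff_le_comap.2 (h.toMod.fix_two h0 he fun s h1 h2 => hH _ ⟨s, mem_fix.2 h1, rfl⟩ (by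
    rw [← MonoidHom.map_zpowers]; exact h2.map φ))

theorem Y_od (h0 : e ≠ 0) (he : P.B e e = 0) {s : G} (hs : ∀ l, Commute l (C.T e 0 1) → Commute (φ l) s) :
    Yg C φ (span K {e}) ≤ Od (centralizer {s}) :=
  (map_mono (h.toMod.fix_od h0 he)).trans ((map_Od φ _).trans (Od_mono (by
    rintro _ ⟨l, hl, rfl⟩
    exact mem_centralizer_singleton_iff.2 (hs l (mem_centralizer_singleton_iff.1 hl)))))

theorem Y_cent (h0 : e ≠ 0) {c : G} (hy : c ∈ Yg C φ (span K {e}))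
    (hc : c ∈ centralizer (φ.range : Set G)) : c = 1 := by
  obtain ⟨y, hy, rfl⟩ := hy
  obtain ⟨l, hl⟩ := h.toMod.mem_center.1 (h.mem_center hc)
  have := hl e
  rw [mem_fix.1 hy] at this
  have l1 : l = 1 := by
    by_contra n
    exact h0 ((smul_eq_zero.1 (show (1 - l) • e = 0 by rw [sub_smul, one_smul, ← this, sub_self])).resolve_left
      (sub_ne_zero.2 (Ne.symm n)))
  rw [show y = 1 from C.ext fun v => by rw [hl, l1, one_smul, C.one_apply], map_one]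

theorem card_Y (h0 : e ≠ 0) : Nat.card (Yg C φ (span K {e})) = Nat.card (C.fixG (span K {e})) :=
  (Nat.card_congr (Equiv.ofBijective (φ.subgroupMap (C.fixG (span K {e}))) ⟨fun a b k => Subtype.ext
    (h.inj_fix h0 ((mem_fix.1 a.2).trans (mem_fix.1 b.2).symm) (congrArg Subtype.val k)),
    φ.subgroupMap_surjective _⟩)).symm

theorem syl_pt {T : Subgroup S} (hT : IsSylowIn 2 T ⊤) : ∃ p, p ≠ 0 ∧ P.B p p = 0 ∧
    Rad C (span K {p}) ≤ T ∧ T ≤ C.fixG (span K {p}) := by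
  obtain ⟨p, p0, hp, hn⟩ := h.fix_pt (hT.pgroup.map φ) ((map_le_range φ T).trans le_normalizer)
  have h1 : T ≤ C.fixG (span K {p}) := fun s hs => by
    obtain ⟨r, hr, e1⟩ := (h.mem_Z hp).1 (Tech.conj_mem_of_mem_normalizer (hn (mem_map_of_mem φ hs))
      (z_mem h hp (map_one σ)))
    exact mem_fix.2 (h.mem_fix_of_two (Tech.isPGroup_zpowers_of_mem hT.pgroup hs)
      ((stb_of h hp p0 hr e1 p).2 (Submodule.mem_span_singleton_self p)))
  exact ⟨p, p0, hp, (hT.of_le h1 le_top).le_of_le_normalizer (h.rad_two (ti hp)) (rad_le_fix _)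
    fun s hs => (h.stb_norm _ (fix_le_stb _ hs)).1.2, h1⟩

theorem map_syl {T : Subgroup S} (hT : IsSylowIn 2 T ⊤) :
    IsSylowIn 2 (T.map φ) φ.range ∧ Nat.card (T.map φ) = Nat.card T := by
  refine ⟨⟨map_le_range φ T, hT.pgroup.map φ, fun k => hT.not_dvd (k.trans ?_)⟩,
    (Nat.card_congr (Equiv.ofBijective (φ.subgroupMap T) ⟨fun a b k => Subtype.ext
      (h.inj_two hT.pgroup a.2 b.2 (congrArg Subtype.val k)), φ.subgroupMap_surjective _⟩)).symm⟩
  rw [relIndex_top_right, ← index_comap]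
  exact index_dvd_of_le (le_comap_map φ T)

theorem Z_le {φ' : S →* G} (h' : Emb C φ') {p : V} (he : P.B e e = 0) (p0 : p ≠ 0) (hp : P.B p p = 0)
    {T T' : Subgroup S} (h2 : IsPGroup 2 T') (e1 : T.map φ = T'.map φ') (a1 : Rad C (span K {e}) ≤ T)
    (a2 : T ≤ C.fixG (span K {e})) (b1 : Rad C (span K {p}) ≤ T') :
    Eg C φ (span K {e}) ≤ Eg C φ' (span K {p}) := fun x hx => by
  obtain ⟨u, hu, e2⟩ : x ∈ T'.map φ' := e1 ▸ map_mono a1 (ZQ h he hx)
  obtain ⟨r, hr, c, hc, e3⟩ := h'.cQ p0 hp (g := x) (le_normalizer ⟨u, e2⟩) fun q hq =>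
    (Yz h he (map_mono a2 (e1 ▸ map_mono b1 hq : q ∈ T.map φ)) hx).eq
  have m : C.T p 0 r ∈ T' := b1 (h.E_le_rad (ti hp) ((h.mem_E_pt hp).2 ⟨r, hr, rfl⟩))
  have := h'.inj2 (Tech.isPGroup_zpowers_of_mem h2 (mul_mem (inv_mem m) hu)) (by
    rwa [map_mul, map_inv, e2, e3, show φ' (C.T p 0 r) = z C φ' p r from rfl, inv_mul_cancel_left])
  rw [← e2, ← inv_mul_eq_one.1 this]
  exact z_mem h' hp hr

theorem Y_le (h0 : e ≠ 0) (he : P.B e e = 0) {y : G} (h1 : y ∈ φ.range) (h2 : IsPGroup 2 (zpowers y))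
    (h3 : Commute y (z C φ e 1)) : y ∈ Yg C φ (span K {e}) := by
  obtain ⟨s, s2, -, rfl⟩ := h.exists_two h1 h2
  exact mem_map_of_mem φ (mem_fix.2 (h.mem_fix_of_two s2 ((stb_of h he h0 (map_one σ)
    (by rw [h3.eq, mul_inv_cancel_right]) e).2 (Submodule.mem_span_singleton_self e))))

theorem Q_comm (h0 : e ≠ 0) (he : P.B e e = 0) {a b : G} (ha : a ∈ Rg C φ (span K {e}))
    (hb : b ∈ Rg C φ (span K {e})) : a * b * a⁻¹ * b⁻¹ ∈ Eg C φ (span K {e}) := by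
  obtain ⟨a, c, k, rfl⟩ := (h.mem_Q h0 he).1 ha
  obtain ⟨b, d, k', rfl⟩ := (h.mem_Q h0 he).1 hb
  refine (h.mem_Z he).2 ⟨P.B b a - P.B a b, ?_, ?_⟩
  · rw [map_sub, h.conj, h.conj]
    linear_combination h.add_self (P.B a b) - h.add_self (P.B b a)
  · rw [z, ← C.T_commutator k k', map_commutatorElement]; rfl

theorem le_Q (h0 : e ≠ 0) (he : P.B e e = 0) {H : Subgroup G} (h1 : H ≤ Yg C φ (span K {e}))
    (h2 : Yg C φ (span K {e}) ≤ normalizer (H : Set G))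
    (h3 : ∀ a ∈ H, ∀ b ∈ H, a * b * a⁻¹ * b⁻¹ ∈ Eg C φ (span K {e})) : H ≤ Rg C φ (span K {e}) := by
  by_cases c : H ⊓ Rg C φ (span K {e}) ≤ Eg C φ (span K {e})
  · intro k hk
    obtain ⟨q, hq, c, hc, e1⟩ := h.cV h0 he (g := k) (le_normalizer (map_le_range φ _ (h1 hk)))
      fun q hq => c ⟨by
        simpa [mul_assoc] using H.mul_mem hk (Tech.conj_mem_of_mem_normalizer (h2 (QY hq)) (H.inv_mem hk)),
        (Rg C φ _).mul_mem (Tech.conj_mem_of_mem_normalizer (YQ h (h1 hk)) hq) ((Rg C φ _).inv_mem hq)⟩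
    rwa [e1, Y_cent h h0 (c := c) (by
      rw [eq_inv_mul_of_mul_eq e1.symm]; exact (Yg C φ _).mul_mem (inv_mem (QY hq)) (h1 hk)) hc, mul_one]
  obtain ⟨q, ⟨q1, q2⟩, q3⟩ := SetLike.not_le_iff_exists.1 c
  obtain ⟨a, d, k, rfl⟩ := (h.mem_Q h0 he).1 q2
  have ae : a ∉ span K {e} := fun hc => by
    obtain ⟨l, rfl⟩ := Submodule.mem_span_singleton.1 hc
    have k0 : TOk P e 0 d := h.tok.2 ⟨he, by simp, by
      rw [(h.tok.1 k).2.2, P.B_smul_left, P.B_smul_right, he]; simp⟩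
    obtain ⟨-, k1, e1⟩ := h.T_shift k0 l
    rw [zero_add] at e1
    have := (h.tok.1 k1).2.2
    refine q3 ((h.mem_Z he).2 ⟨_, ?_, congrArg φ e1⟩)
    simp only [map_zero] at this
    linear_combination this - h.add_self (d + l + σ l)
  let U : Submodule K V :=
    { carrier := {v | ∀ s, C.act s e = e → φ s ∈ H → C.act s v - v ∈ span K {e}}
      add_mem' := fun {a b} ha hb s s1 s2 => by
        rw [map_add, add_sub_add_comm]; exact add_mem (ha s s1 s2) (hb s s1 s2)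
      zero_mem' := fun s _ _ => by simp
      smul_mem' := fun l a ha s s1 s2 => by
        rw [map_smul, ← smul_sub]; exact Submodule.smul_mem _ l (ha s s1 s2) }
  have hU : ∀ v, P.B e v = 0 → v ∈ U := fun v hv => by
    refine irr h.toMod h0 he (U := U) (fun s s1 _ => by simp [s1]) (fun y hy v hv s s1 s2 => ?_)
      (a := a) (fun s s1 s2 => ?_) k.perp ae hv
    · have := (fix_le_stb _ (mem_fix.2 hy) _).2 (hv (y⁻¹ * s * y)
        (by rw [C.mul_apply, C.mul_apply, hy, s1, C.inv_apply_eq hy]) (by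
          rw [map_mul, map_mul, map_inv]
          exact Tech.conj_mem_of_mem_normalizer' (h2 (mem_map_of_mem φ (mem_fix.2 hy))) s2))
      rwa [map_sub, C.mul_apply, C.mul_apply, C.apply_inv] at this
    · obtain ⟨r, hr, e1⟩ := (h.mem_Z he).1 (h3 _ s2 _ q1)
      have k1 := k.act C s
      have k0 := h.tok0 he hr
      rw [h.x_conj s k, s1, mul_inv_eq_iff_eq_mul, x, x, z, ← map_mul, C.T_mul k0 k] at e1
      rw [s1] at k1
      have k2 := k0.add k
      simpa using T_mod h.toMod h0 k1 k2 (h.inj_fix h0 ((C.T_self k1).trans (C.T_self k2).symm) e1)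
  intro k hk
  obtain ⟨s, hs, rfl⟩ := h1 hk
  exact mem_map_of_mem φ ⟨hs, fun v hv => hU v (P.mem_perp_span_singleton.1 hv) s (mem_fix.1 hs) hk⟩

omit h in
theorem cj_map (g : G) (H : Subgroup S) :
    H.map ((MulAut.conj g).toMonoidHom.comp φ) = Tech.cj g (H.map φ) := (map_map _ _ _).symm

theorem cj_pt (l : S) (h0 : e ≠ 0) (he : P.B e e = 0) :
    Tech.cj (φ l) (Eg C φ (span K {e})) ≤ Eg C φ (span K {C.act l e}) ∧
    Tech.cj (φ l) (Yg C φ (span K {e})) ≤ Yg C φ (span K {C.act l e}) ∧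
    Tech.cj (φ l) (Rg C φ (span K {e})) ≤ Rg C φ (span K {C.act l e}) := by
  have he' : P.B (C.act l e) (C.act l e) = 0 := by rw [C.B_act, he]
  refine ⟨Tech.cj_le_iff.2 fun x hx => ?_, Tech.cj_le_iff.2 ?_, Tech.cj_le_iff.2 fun x hx => ?_⟩
  · obtain ⟨r, hr, rfl⟩ := (h.mem_Z he).1 hx
    exact h.z_conj l he hr ▸ z_mem h he' hr
  · rintro _ ⟨s, hs, rfl⟩
    exact ⟨l * s * l⁻¹, mem_fix.2 (by rw [C.mul_apply, C.inv_apply, C.mul_apply, mem_fix.1 hs]), by simp⟩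
  · obtain ⟨a, c, k, rfl⟩ := (h.mem_Q h0 he).1 hx
    exact (h.mem_Q (by simpa using h0) he').2 ⟨_, _, k.act C l, h.x_conj l k⟩

end FA

open FA

namespace Sit

variable (h : Sit C φ t) {e : V}
include h

theorem same_root {φ' : S →* G} {s : G} (h' : Sit C φ' s) (h0 : e ≠ 0) (he : P.B e e = 0)
    (hs : ∀ l, Commute l (C.T e 0 1) → Commute (φ l) s) : ∃ p, p ≠ 0 ∧ P.B p p = 0 ∧
      Eg C φ' (span K {p}) = Eg C φ (span K {e}) ∧ Yg C φ' (span K {p}) = Yg C φ (span K {e}) ∧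
      Rg C φ' (span K {p}) = Rg C φ (span K {e}) := by
  have YL : Yg C φ (span K {e}) ≤ φ'.range :=
    Y_two h.toEmb h0 he fun y hy y2 => h'.mem_of_Od (Y_od h.toEmb h0 he hs hy) y2
  obtain ⟨T, hT, a1⟩ := Tech.exists_isSylowIn_ge (h.rad_two (ti he)) le_top
  obtain ⟨e', e0, -, -, a2⟩ := syl_pt h.toEmb hT
  rw [span_eq e0 (h.rad_fix_pt h0 he fun s hs => by
    rw [mem_fix.1 (a2 (a1 hs))]; exact Submodule.mem_span_singleton_self e')] at a2
  obtain ⟨b1, b2⟩ := map_syl h'.toEmb hT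
  obtain ⟨_, ⟨l, rfl⟩, e1⟩ := b1.exists_cj_eq (b1.of_card_le (hT.pgroup.map φ) ((map_mono a2).trans YL)
    (b2.trans (map_syl h.toEmb hT).2.symm).le)
  have hT' := hT.cj_of_mem (mem_top l)
  replace e1 : T.map φ = (Tech.cj l T).map φ' := by
    rw [← e1, map_map, ← cj_map]; congr 1; ext; simp
  obtain ⟨p, p0, hp, c1, c2⟩ := syl_pt h.toEmb hT'
  have eZ : Eg C φ' (span K {p}) = Eg C φ (span K {e}) := le_antisymm
    (Z_le h'.toEmb h.toEmb hp h0 he hT.pgroup e1.symm c1 c2 a1)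
    (Z_le h.toEmb h'.toEmb he p0 hp hT'.pgroup e1 a1 a2 c1)
  have eY : Yg C φ' (span K {p}) = Yg C φ (span K {e}) := by
    refine (eq_of_le_of_card_ge (Y_two h.toEmb h0 he fun y hy y2 => Y_le h'.toEmb p0 hp (YL hy) y2
      (Yz h.toEmb he hy (eZ ▸ z_mem h'.toEmb hp (map_one σ)))) ?_).symm
    obtain ⟨u, rfl⟩ := h.toMod.trans p0 hp h0 he
    rw [card_Y h'.toEmb p0, ← card_Y h.toEmb p0, ← Tech.card_cj (φ u)]
    exact card_le_of_le (cj_pt h.toEmb u p0 hp).2.1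
  exact ⟨p, p0, hp, eZ, eY, le_antisymm
    (le_Q h.toEmb h0 he (eY ▸ QY) (eY ▸ fun _ => YQ h'.toEmb) (eZ ▸ fun _ a _ b => Q_comm h'.toEmb p0 hp a b))
    (le_Q h'.toEmb p0 hp (eY ▸ QY) (eY ▸ fun _ => YQ h.toEmb) (eZ ▸ fun _ a _ b => Q_comm h.toEmb h0 he a b))⟩

theorem ne_z (g : G) {p : V} {r : K} (hp : P.B p p = 0) (hr : σ r = r) :
    g * t * g⁻¹ ≠ z C φ p r := fun e1 => by
  have h' := h.cj g
  obtain ⟨p0, r0⟩ := not_or.1 fun k => h'.t1 (e1.trans ((h.z_eq_one hp hr).2 k))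
  obtain ⟨d, hd, d1, -⟩ := h.exists_sqrt r
  have d0 : d ≠ 0 := fun k => r0 (by rw [← hd, k, mul_zero])
  have hp' : P.B (d • p) (d • p) = 0 := by rw [P.B_smul_left, P.B_smul_right, hp, mul_zero, mul_zero]
  have e2 : g * t * g⁻¹ = z C φ (d • p) 1 := by
    rw [e1, h.z_smul hp (map_one σ), d1 hr, hd, mul_one]
  exact h'.t_not_mem (h'.mem_of_Od (Y_od h.toEmb (smul_ne_zero d0 p0) hp' (fun l hl => e2 ▸ hl.map φ)
    (e2 ▸ QY (ZQ h.toEmb hp' (z_mem h.toEmb hp' (map_one σ))))) (two_zp h'.t2))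

theorem nfu (h0 : e ≠ 0) (he : P.B e e = 0) (h1 : ∀ g, g * t * g⁻¹ ≠ t * z C φ e 1) :
    NFU C φ t := fun g p r hp hr => ⟨fun e1 => by
  by_contra n
  obtain ⟨p0, r0⟩ := not_or.1 (mt (h.z_eq_one hp hr).2 n)
  obtain ⟨d, hd, d1, -⟩ := h.exists_sqrt r
  have d0 : d ≠ 0 := fun k => r0 (by rw [← hd, k, mul_zero])
  have hp' : P.B (d • p) (d • p) = 0 := by rw [P.B_smul_left, P.B_smul_right, hp, mul_zero, mul_zero]
  obtain ⟨l, hl⟩ := h.toMod.trans (smul_ne_zero d0 p0) hp' h0 he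
  refine h1 (φ l * g) ?_
  rw [← hl, ← h.z_conj l hp' (map_one σ), h.z_smul hp (map_one σ), d1 hr, hd, mul_one]
  calc _ = φ l * (g * t * g⁻¹) * (φ l)⁻¹ := by group
    _ = _ := by rw [e1, ← mul_assoc, (h.tφ l).eq]; group, h.ne_z g hp hr⟩

theorem trans (h0 : e ≠ 0) (he : P.B e e = 0) {g : G} (hg : g * t * g⁻¹ = t * z C φ e 1) :
    ∃ g', g' * t * g'⁻¹ = t * z C φ e 1 ∧ g' ∈ normalizer (Yg C φ (span K {e}) : Set G) ∧
      g' ∈ normalizer (Rg C φ (span K {e}) : Set G) ∧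
      g' ∈ normalizer (Eg C φ (span K {e}) : Set G) := by
  obtain ⟨p, p0, hp, e1, e2, e3⟩ := h.same_root (h.cj g) h0 he fun l hl =>
    hg ▸ (h.tφ l).mul_right (hl.map φ)
  obtain ⟨l, rfl⟩ := h.toMod.trans h0 he p0 hp
  obtain ⟨a1, a2, a3⟩ := cj_pt h.toEmb l h0 he
  refine ⟨g * φ l, ?_, Tech.mem_normalizer_of_cj_le ?_, Tech.mem_normalizer_of_cj_le ?_,
    Tech.mem_normalizer_of_cj_le ?_⟩
  · rw [← hg, mul_assoc g, (h.tφ l).eq]; group
  · rw [Tech.cj_mul]; exact (Tech.cj_mono g a2).trans ((cj_map g _).symm.trans e2).le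
  · rw [Tech.cj_mul]; exact (Tech.cj_mono g a3).trans ((cj_map g _).symm.trans e3).le
  · rw [Tech.cj_mul]; exact (Tech.cj_mono g a1).trans ((cj_map g _).symm.trans e1).le

end Sit

theorem NFU.cj (n : NFU C φ t) (g : G) :
    NFU C ((MulAut.conj g).toMonoidHom.comp φ) (g * t * g⁻¹) := fun k p r hp hr => by
  have e1 : z C ((MulAut.conj g).toMonoidHom.comp φ) p r = g * z C φ p r * g⁻¹ := rfl
  obtain ⟨a, b⟩ := n (g⁻¹ * k * g) p r hp hr
  rw [e1]
  have e3 : g⁻¹ * k * g * t * (g⁻¹ * k * g)⁻¹ = g⁻¹ * (k * (g * t * g⁻¹) * k⁻¹) * g := by group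
  exact ⟨fun e2 => by rw [a (by rw [e3, e2]; group), mul_one, mul_inv_cancel],
    fun e2 => b (by rw [e3, e2]; group)⟩

end CfsgLib.U5
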