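import Cfsg.Agent.Lib.U5.Inv

/-! The double centraliser of an involution of rank at least two -/

set_option autoImplicit false
set_option linter.unusedSectionVars false

namespace CfsgLib.U5

open Subgroup Module CfsgLib.Forms CfsgLib.LieMult
open CfsgLib.HX (Std CO Two Mv Tr Heis NF Fus4 Has4 M2)
open Submodule (span)
open scoped commutatorElement Pointwise

universe u

variable {K : Type} [Field K] [Finite K] {σ : K →+* K} {V : Type} [AddCommGroup V] [Module K V]
  [FiniteDimensional K V] {P : PQ σ V} {S : Type} [Group S] [Finite S] {G : Type u} [Group G]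
  [Finite G] {C : CG P S} {φ : S →* G} {t : G}

namespace IB

theorem tri {Γ A : Type*} [Group Γ] [Finite Γ] [Group A] [IsCyclic A] (χ : Γ →* A) {H : Subgroup Γ}
    (hH : ∀ g, χ g = 1 → g ∈ H) {a b : Γ} (ha : a * a ∈ H) (hb : b * b ∈ H) :
    a ∈ H ∨ b ∈ H ∨ a * b ∈ H := by
  classical
  have cm : ∀ x y : A, x * y = y * x := fun x y => (IsCyclic.isMulCommutative (α := A)).is_comm.comm x y
  have : H.Normal := ⟨fun n hn g => by
    have := H.mul_mem (hH (g * n * g⁻¹ * n⁻¹) (by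
      rw [map_mul, map_mul, map_mul, cm (χ g), map_inv, map_inv]; group)) hn
    rwa [inv_mul_cancel_right] at this⟩
  have : IsCyclic (Γ ⧸ χ.ker) := isCyclic_of_surjective (QuotientGroup.quotientKerEquivRange χ).symm
    (QuotientGroup.quotientKerEquivRange χ).symm.surjective
  have : IsCyclic (Γ ⧸ H) := isCyclic_of_surjective
    (QuotientGroup.map χ.ker H (MonoidHom.id Γ) fun g hg => hH g hg) fun q => by
      obtain ⟨g, rfl⟩ := QuotientGroup.mk_surjective q
      exact ⟨g, rfl⟩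
  have : Fintype (Γ ⧸ H) := Fintype.ofFinite _
  by_contra hc
  push Not at hc
  obtain ⟨h1, h2, h3⟩ := hc
  have e1 : (a : Γ ⧸ H) ≠ 1 := fun e => h1 ((QuotientGroup.eq_one_iff _).1 e)
  have e2 : (b : Γ ⧸ H) ≠ 1 := fun e => h2 ((QuotientGroup.eq_one_iff _).1 e)
  have s1 : (a : Γ ⧸ H) ^ 2 = 1 := by
    rw [sq, ← QuotientGroup.mk_mul]; exact (QuotientGroup.eq_one_iff _).2 ha
  have s2 : (b : Γ ⧸ H) ^ 2 = 1 := by
    rw [sq, ← QuotientGroup.mk_mul]; exact (QuotientGroup.eq_one_iff _).2 hb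
  have e3 : (a : Γ ⧸ H) ≠ b := fun e => h3 ((QuotientGroup.eq_one_iff _).1 (by
    rw [QuotientGroup.mk_mul, e, ← sq, s2]))
  have := (Finset.card_le_card (s := {1, (a : Γ ⧸ H), (b : Γ ⧸ H)}) (by
    intro y hy
    simp only [Finset.mem_insert, Finset.mem_singleton] at hy
    rcases hy with rfl | rfl | rfl <;> simp [s1, s2])).trans
    (IsCyclic.card_pow_eq_one_le (α := Γ ⧸ H) (n := 2) (by norm_num))
  rw [Finset.card_insert_of_notMem (by simp [e1.symm, e2.symm]), Finset.card_pair e3] at this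
  omega

theorem two_of_four {S : Type*} [Group S] [Finite S] {a b : S} (ha : a * a = 1) (hb : b * b = 1)
    (h : (a * b) ^ 4 = 1) : IsPGroup 2 (closure {a, b}) := by
  have hc : IsPGroup 2 (zpowers (a * b)) := by
    rintro ⟨_, n, rfl⟩
    exact ⟨2, Subtype.ext (by
      show ((a * b) ^ n) ^ 2 ^ 2 = 1
      rw [← zpow_natCast, ← zpow_mul, mul_comm, zpow_mul, zpow_natCast, show 2 ^ 2 = 4 from rfl, h,
        one_zpow])⟩
  refine (UFP.pgroup_sup_of_inv ha (UFP.inv_of_sq ha hb).1 hc).to_le ((closure_le _).2 ?_)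
  rintro y (rfl | rfl)
  · exact mem_sup_right (mem_zpowers _)
  · have := mul_mem (mem_sup_right (S := zpowers (a * y)) (mem_zpowers a))
      (mem_sup_left (T := zpowers a) (mem_zpowers (a * y)))
    rwa [← mul_assoc, ha, one_mul] at this

theorem nu_app (s : S) (a : V) : C.act s a = a + nu C s a := by simp [nu]

section
variable (h : Mod C) {s : S} (s2 : s * s = 1)
include h s2

theorem nu_nu (a : V) : nu C s (nu C s a) = 0 := by
  have e : C.act s (C.act s a) = a := by rw [← C.mul_apply, s2, C.one_apply]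
  rw [nu_app, nu_app s a, map_add] at e
  have := h.vadd_self (nu C s a)
  linear_combination (norm := module) e - this

theorem B_nu (a b : V) : P.B (nu C s a) b = P.B a (nu C s b) := by
  have e := C.B_act_left s a b
  rw [inv_eq_of_mul_eq_one_right s2, nu_app, nu_app s b, P.B_add_left, P.B_add_right] at e
  exact add_left_cancel e

theorem mem_range {y : V} (hy : ∀ b, nu C s b = 0 → P.B b y = 0) : ∃ a, y = nu C s a := by
  by_contra hc
  obtain ⟨a, a1, a2⟩ := P.exists_dual_vec C.nondeg (LinearMap.range (nu C s)) (u := y)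
    (fun ⟨a, e⟩ => hc ⟨a, e.symm⟩)
  rw [hy a (C.nondeg _ fun w => by rw [B_nu h s2, a2 _ ⟨w, rfl⟩])] at a1
  exact zero_ne_one a1

end

/-- the chosen vectors -/
structure Dat (C : CG P S) (j : S) (u u' : V) : Prop extends Mod C where
  j2 : j * j = 1
  uu : P.B u u = 0
  up : P.B u (nu C j u) = 0
  pu : P.B (nu C j u) u' = 1

theorem exists_dat (h : Mod C) {j : S} (j2 : j * j = 1)
    (hr : 2 ≤ finrank K (LinearMap.range (nu C j))) : ∃ u u', Dat C j u u' := by
  classical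
  obtain ⟨v, hv, h0, hj⟩ := h.invol_prod j2
  obtain ⟨f, f0, f1⟩ := h.exists_partners hv h0
  have hN : ∀ i, nu C j (f i) = v i := fun i => by
    have := hj (f i)
    rw [nu_app] at this
    rw [add_left_cancel this]
    simp [f1]
  have f2 : ∀ i k, P.B (f i) (v k) = if k = i then 1 else 0 := fun i k => by
    rw [← h.conj, f1]; split_ifs <;> simp
  have ne : (⟨0, by omega⟩ : Fin (finrank K (LinearMap.range (nu C j)))) ≠ ⟨1, by omega⟩ := by
    simp
  refine ⟨f ⟨0, by omega⟩ + f ⟨1, by omega⟩, f ⟨0, by omega⟩, h, j2, ?_, ?_, ?_⟩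
  · simp [f0]
  · simp only [map_add, hN, LinearMap.add_apply, f2, ne, ne.symm, if_true, if_false, add_zero,
      zero_add]
    exact h.add_self 1
  · simp only [map_add, hN, LinearMap.add_apply, f1, ne.symm, if_true, if_false, add_zero]

variable {j : S} {u u' : V}

local notation "N" => nu C j
local notation "p" => nu C j u

/-- the action on the image of `j - 1` -/
def Ac (C : CG P S) (j : S) (u : V) (g : S) (v : V) (l : K) : Prop :=
  P.B (nu C j u) v = 0 ∧ ∀ a, C.act g (nu C j a) = nu C j a + P.B (nu C j u) a • nu C j v +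
    (P.B v (nu C j a) + l * P.B (nu C j u) a) • nu C j u

/-- the parameters of the elements of `W` -/
def Pr (C : CG P S) (j : S) (u : V) (s : S) (l : K) (b : V) (d : K) : Prop :=
  σ l = l ∧ σ d = d ∧ P.B (nu C j u) b = 0 ∧ ∀ a, C.act s a = a + l • nu C j a +
    (P.B b (nu C j a) + d * P.B (nu C j u) a) • nu C j u + P.B (nu C j u) a • nu C j b

namespace Dat
variable (D : Dat C j u u')
include D

theorem NN (a : V) : N (N a) = 0 := nu_nu D.toMod D.j2 a
theorem BN (a b : V) : P.B (N a) b = P.B a (N b) := B_nu D.toMod D.j2 a b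
theorem BNN (a b : V) : P.B (N a) (N b) = 0 := by rw [D.BN, D.NN, map_zero]
theorem pu0 : P.B p u = 0 := by rw [D.BN, D.up]
theorem up' : P.B u' p = 1 := by rw [← D.conj, D.pu, map_one]
theorem uN (a : V) : P.B u (N a) = P.B p a := (D.BN u a).symm
theorem p0 : p ≠ 0 := fun e => by
  have := D.pu
  rw [e, map_zero, LinearMap.zero_apply] at this
  exact zero_ne_one this
theorem herm' (a : V) : σ (P.B a (N a)) = P.B a (N a) := by rw [D.conj, D.BN]
theorem perp_p {v : V} (hv : P.B p v = 0) : P.B v p = 0 := by rw [← D.conj, hv, map_zero]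

theorem comm_iff {g : S} : g ∈ centralizer {j} ↔ ∀ a, C.act g (N a) = N (C.act g a) := by
  rw [mem_centralizer_singleton_iff]
  constructor
  · intro e a
    have := congrArg (fun s => C.act s a) e
    simp only [C.mul_apply] at this
    rw [nu_app j a, nu_app j (C.act g a), map_add] at this
    exact add_left_cancel this
  · intro e
    exact C.ext fun a => by rw [C.mul_apply, C.mul_apply, nu_app j a, nu_app j (C.act g a), map_add, e]

theorem Ac_p {g : S} {v : V} {l : K} (k : Ac C j u g v l) : C.act g p = p := by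
  rw [k.2, D.pu0, D.perp_p k.1]; simp

theorem Ac_mul {g g' : S} {v v' : V} {l l' : K} (k : Ac C j u g v l) (k' : Ac C j u g' v' l') :
    Ac C j u (g * g') (v + v') (l + l' + P.B v (N v')) := by
  refine ⟨by rw [map_add, k.1, k'.1, add_zero], fun a => ?_⟩
  rw [C.mul_apply, k'.2, map_add, map_add, map_smul, map_smul, D.Ac_p k, k.2 a, k.2 v', k'.1]
  simp only [map_add, LinearMap.add_apply]
  module

theorem Ac_zero {g : S} (e : ∀ a, C.act g (N a) = N a) : Ac C j u g 0 0 :=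
  ⟨map_zero _, fun a => by simp [e]⟩

theorem Ac_sq {g : S} {v : V} {l : K} (k : Ac C j u g v l) : Ac C j u (g * g) 0 (P.B v (N v)) := by
  have := D.Ac_mul k k
  rwa [D.vadd_self, D.add_self, zero_add] at this

end Dat

/-- membership in `Γ` -/
def InG (C : CG P S) (j : S) (u : V) (g : S) : Prop :=
  g ∈ centralizer {j} ∧ (∃ v l, Ac C j u g v l) ∧
    ∀ b, nu C j b = 0 → ∃ a, C.act g b = b + nu C j a

namespace Dat
variable (D : Dat C j u u')
include D

theorem InG_one : InG C j u 1 :=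
  ⟨one_mem _, ⟨0, 0, D.Ac_zero fun _ => C.one_apply _⟩, fun _ _ => ⟨0, by simp⟩⟩

theorem InG_mul {g g' : S} (k : InG C j u g) (k' : InG C j u g') : InG C j u (g * g') := by
  obtain ⟨c, ⟨v, l, a⟩, m⟩ := k
  obtain ⟨c', ⟨v', l', a'⟩, m'⟩ := k'
  refine ⟨mul_mem c c', ⟨_, _, D.Ac_mul a a'⟩, fun b hb => ?_⟩
  obtain ⟨y, e⟩ := m b hb
  obtain ⟨y', e'⟩ := m' b hb
  exact ⟨y + C.act g y', by rw [C.mul_apply, e', map_add, e, D.comm_iff.1 c, map_add, add_assoc]⟩

theorem InG_pow {g : S} (k : InG C j u g) (n : ℕ) : InG C j u (g ^ n) := by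
  induction n with
  | zero => rw [pow_zero]; exact D.InG_one
  | succ n ih => rw [pow_succ]; exact D.InG_mul ih k

theorem pow16 {g : S} (k : InG C j u g) : g ^ 16 = 1 := by
  obtain ⟨v, l, a⟩ := k.2.1
  have a4 := D.Ac_sq (D.Ac_sq a)
  have k4 := D.InG_pow k 4
  rw [show g * g * (g * g) = g ^ 4 by simp only [pow_succ, pow_zero, one_mul, mul_assoc]] at a4
  rw [show g ^ 16 = g ^ 4 * g ^ 4 * (g ^ 4 * g ^ 4) by group]
  generalize g ^ 4 = s at a4 k4
  have f : ∀ a, C.act s (N a) = N a := fun a => by rw [a4.2]; simp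
  have e2 : ∀ a, ∃ y, C.act (s * s) a = a + N y := fun a => by
    obtain ⟨y, e⟩ := k4.2.2 (C.act s a - a) (by rw [map_sub, ← D.comm_iff.1 k4.1, f, sub_self])
    rw [map_sub] at e
    refine ⟨y, ?_⟩
    have := D.vadd_self (C.act s a - a)
    rw [C.mul_apply]
    linear_combination (norm := module) e + this
  refine C.ext fun a => ?_
  obtain ⟨y, e⟩ := e2 a
  rw [C.mul_apply, e, map_add, e, C.mul_apply, f, f, add_assoc, D.vadd_self, add_zero, C.one_apply]

/-- the group `Γ` -/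
def Gam : Subgroup S where
  carrier := {g | InG C j u g}
  one_mem' := D.InG_one
  mul_mem' := D.InG_mul
  inv_mem' {g} k := by
    rw [inv_eq_of_mul_eq_one_right (b := g ^ 15) (by rw [← pow_succ', D.pow16 k])]
    exact D.InG_pow k 15

theorem Gam_two : IsPGroup 2 D.Gam := fun g => ⟨4, Subtype.ext (D.pow16 g.2)⟩

theorem j_mem : j ∈ D.Gam :=
  ⟨mem_centralizer_singleton_iff.2 rfl, ⟨0, 0, D.Ac_zero fun a => by rw [nu_app, D.NN, add_zero]⟩,
    fun b _ => ⟨b, nu_app j b⟩⟩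

theorem T_mem {a b : V} {c : K} (k : TOk P (N a) b c) (hb : N b = 0) : C.T (N a) b c ∈ D.Gam := by
  have f : ∀ w, C.act (C.T (N a) b c) (N w) = N w := fun w => by
    rw [D.T_app k, D.BNN, ← D.BN b, hb]; simp
  refine ⟨D.comm_iff.2 fun w => ?_, ⟨0, 0, D.Ac_zero f⟩, fun b' hb' => ?_⟩
  · rw [f, D.T_app k]; simp [D.NN, hb]
  · refine ⟨(P.B b b' + σ c * P.B (N a) b') • a, ?_⟩
    rw [D.T_app k, map_smul, D.BN a b', hb']; simp

theorem tokd (l : K) : TOk P p (l • u) 0 :=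
  D.tok1 (D.BNN _ _) (by simp [D.uu]) (by simp [D.pu0]) (map_zero _)

theorem d_app (l : K) (a : V) : C.act (C.T p (l • u) 0) a =
    a + (σ l * P.B u a) • p + (P.B p a * l) • u := by
  rw [D.T_app (D.tokd l)]; simp [smul_smul]

theorem d_sq (l : K) : C.T p (l • u) 0 * C.T p (l • u) 0 = 1 := by
  rw [C.T_mul (D.tokd l) (D.tokd l), D.vadd_self]
  simpa [D.uu] using C.T_zero (D.tokd l).sing

theorem d_Ac (l : K) : Ac C j u (C.T p (l • u) 0) 0 (σ l) :=
  ⟨map_zero _, fun a => by rw [D.d_app, D.BNN, D.uN]; simp⟩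

theorem d_mem {l : K} (hl : σ l = l) : C.T p (l • u) 0 ∈ D.Gam := by
  refine ⟨D.comm_iff.2 fun w => ?_, ⟨_, _, D.d_Ac l⟩, fun b hb => ⟨(σ l * P.B u b) • u, ?_⟩⟩
  · rw [D.d_app, D.d_app, D.BNN, D.uN]; simp [D.NN, hl, mul_comm]
  · rw [D.d_app, D.BN u b, hb]; simp

theorem exists_g {v : V} (hv : P.B p v = 0) : ∃ g ∈ D.Gam, ∃ l, Ac C j u g v l := by
  obtain ⟨θ, hθ⟩ := D.herm.exists_trace_one
  have hv' := D.perp_p hv
  obtain ⟨l, hl⟩ : ∃ l, l + σ l = P.B v (N v) :=
    ⟨θ * P.B v (N v), by rw [map_mul, D.herm', ← add_mul, hθ, one_mul]⟩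
  obtain ⟨c, k1⟩ := D.exists_tok (e := p) (a := v + l • u) (D.BNN _ _) (by simp [hv, D.pu0])
  have k2 : TOk P (N v) u 0 := D.tok1 (D.BNN _ _) D.uu (by rw [D.BN, hv']) (map_zero _)
  have A : Ac C j u (C.T p (v + l • u) c * C.T (N v) u 0) v l := ⟨hv, fun a => by
    rw [C.mul_apply, D.T_app k2, D.T_app k1]
    simp only [map_add, map_smul, map_smulₛₗ, LinearMap.add_apply, LinearMap.smul_apply, D.BNN, D.uN,
      hv, ← hl, smul_eq_mul]
    have := D.two
    match_scalars <;> grind⟩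
  refine ⟨_, ⟨D.comm_iff.2 fun a => ?_, ⟨v, l, A⟩, fun b hb => ?_⟩, l, A⟩
  · rw [A.2, C.mul_apply, D.T_app k2, D.T_app k1]
    simp only [map_add, map_smul, D.NN, D.BNN, D.pu0, D.BN v a, smul_eq_mul]
    module
  · have e1 : P.B (N v) b = 0 := by rw [D.BN, hb, map_zero]
    have e2 : P.B p b = 0 := by rw [D.BN, hb, map_zero]
    refine ⟨P.B u b • v + P.B (v + l • u) (b + P.B u b • N v) • u, ?_⟩
    rw [C.mul_apply, D.T_app k2, D.T_app k1]
    simp only [map_add, map_smul, D.BNN, e1, e2, smul_eq_mul, mul_zero, zero_smul, add_zero]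
    module

theorem Pr_mul {s s' : S} {l l' d d' : K} {b b' : V} (k : Pr C j u s l b d)
    (k' : Pr C j u s' l' b' d') : Pr C j u (s * s') (l + l') (b + b') (d + d') := by
  refine ⟨by rw [map_add, k.1, k'.1], by rw [map_add, k.2.1, k'.2.1],
    by rw [map_add, k.2.2.1, k'.2.2.1, add_zero], fun a => ?_⟩
  rw [C.mul_apply, k'.2.2.2, k.2.2.2]
  simp only [map_add, map_smul, D.NN, D.BNN, map_zero, LinearMap.add_apply, smul_eq_mul]
  module

theorem Pr_sq {s : S} {l d : K} {b : V} (k : Pr C j u s l b d) : s * s = 1 :=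
  C.ext fun a => by
    rw [(D.Pr_mul k k).2.2.2, D.add_self, D.add_self, D.vadd_self, C.one_apply]; simp

/-- the groups `W` and `Z` -/
def Wg (z : Prop) : Subgroup S where
  carrier := {s | ∃ l b d, (z → l = 0) ∧ Pr C j u s l b d}
  one_mem' := ⟨0, 0, 0, fun _ => rfl, map_zero _, map_zero _, map_zero _, fun a => by simp⟩
  mul_mem' := by
    rintro s s' ⟨l, b, d, z1, k⟩ ⟨l', b', d', z2, k'⟩
    exact ⟨_, _, _, fun hz => by rw [z1 hz, z2 hz, add_zero], D.Pr_mul k k'⟩
  inv_mem' := by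
    rintro s ⟨l, b, d, z1, k⟩
    rw [inv_eq_of_mul_eq_one_right (D.Pr_sq k)]
    exact ⟨l, b, d, z1, k⟩

theorem Pr_j : Pr C j u j 1 0 0 :=
  ⟨map_one _, map_zero _, map_zero _, fun a => by rw [nu_app]; simp⟩

theorem Pr_nu {s : S} {l d : K} {b : V} (k : Pr C j u s l b d) (a : V) : nu C s a =
    l • N a + (P.B b (N a) + d * P.B p a) • p + P.B p a • N b := by
  have := k.2.2.2 a
  rw [nu_app, add_assoc, add_assoc] at this
  rw [add_left_cancel this, add_assoc]

theorem Pr_u {s : S} {l d : K} {b : V} (k : Pr C j u s l b d) : nu C s u = l • p := by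
  rw [D.Pr_nu k, D.pu0, D.perp_p k.2.2.1]; simp

theorem j_not : j ∉ D.Wg True := by
  rintro ⟨l, b, d, z, k⟩
  have := D.Pr_u k
  rw [z trivial, zero_smul] at this
  exact D.p0 this

theorem Pr_conj {s : S} {l d : K} {b : V} (k : Pr C j u s l b d) (hl : l ≠ 0) : IsConj j s := by
  refine D.invol_conj D.j2 (D.Pr_sq k) ?_
  have e : LinearMap.ker (N) = LinearMap.ker (nu C s) := by
    ext a
    rw [LinearMap.mem_ker, LinearMap.mem_ker, D.Pr_nu k]
    constructor
    · intro e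
      rw [D.BN u a, e]; simp
    · intro e
      have e1 := congrArg (P.B u) e
      have e2 := congrArg (P.B b) e
      simp only [map_add, map_smul, D.uN, D.pu0, k.2.2.1, D.perp_p k.2.2.1, smul_eq_mul, mul_zero,
        add_zero, map_zero] at e1 e2
      have e3 := (mul_eq_zero.1 e1).resolve_left hl
      rw [e3, zero_mul, add_zero] at e2
      rw [e3, (mul_eq_zero.1 e2).resolve_left hl] at e
      simpa [hl] using e
  have h1 := (N).finrank_range_add_finrank_ker
  have h2 := (nu C s).finrank_range_add_finrank_ker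
  rw [e] at h1
  omega

/-- `k` normalises the image of `j - 1` -/
theorem two_kj {k : S} (k2 : k * k = 1) (hk : ∀ a, ∃ y, C.act k (N a) = N y) :
    IsPGroup 2 (closure {k, j}) := by
  refine two_of_four k2 D.j2 ?_
  have kk : ∀ a, C.act k (C.act k a) = a := fun a => by rw [← C.mul_apply, k2, C.one_apply]
  have e : ∀ a, C.act (k * j * (k * j)) a = a + N a + C.act k (N (C.act k a)) := fun a => by
    obtain ⟨y, hy⟩ := hk a
    simp only [C.mul_apply]
    rw [nu_app j a, nu_app j (C.act k _)]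
    simp only [map_add, kk, hy, D.NN, add_zero]
    rw [← hy, kk]
  rw [show (k * j) ^ 4 = k * j * (k * j) * (k * j * (k * j)) by
    simp only [pow_succ, pow_zero, one_mul, mul_assoc]]
  refine C.ext fun a => ?_
  obtain ⟨y, hy⟩ := hk a
  obtain ⟨y', hy'⟩ := hk (C.act k a)
  obtain ⟨y'', hy''⟩ := hk y'
  rw [C.mul_apply, e a, hy', e, C.one_apply]
  simp only [map_add, hy, hy', hy'', D.NN, add_zero]
  linear_combination (norm := module) D.vadd_self (N a) + D.vadd_self (N y')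

theorem first : ∃ k, (∀ s ∈ D.Wg True, Commute k s) ∧ ¬ Commute k j ∧
    IsPGroup 2 (closure {k, j}) := by
  obtain ⟨l, hl⟩ := D.herm.exists_ne_conj
  refine ⟨C.T p (l • u) 0, ?_, fun e => hl ?_, D.two_kj (D.d_sq l) fun a => ?_⟩
  · rintro s ⟨_, b, d, z, k⟩
    refine C.ext fun a => ?_
    rw [C.mul_apply, C.mul_apply, k.2.2.2, k.2.2.2, z trivial, D.d_app, D.d_app]
    simp only [map_add, map_smul, D.NN, D.BNN, D.uN, D.pu0, k.2.2.1, D.perp_p k.2.2.1, map_zero,
      smul_eq_mul]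
    module
  · have := D.comm_iff.1 (mem_centralizer_singleton_iff.2 e.eq) u'
    rw [D.d_app, D.d_app, D.BNN, D.uN, D.pu] at this
    simp only [map_add, map_smul, D.NN, zero_mul, zero_smul, add_zero, smul_zero, mul_one, one_mul,
      add_right_inj] at this
    exact smul_left_injective K D.p0 this
  · exact ⟨a + (σ l * P.B u (N a)) • u, by rw [D.d_app, D.BNN]; simp⟩

theorem second {s : S} (hs : s ∈ D.Wg True) (s1 : s ≠ 1) :
    ∃ k, Commute k (j * s) ∧ ¬ Commute k j ∧ IsPGroup 2 (closure {k, j}) := by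
  obtain ⟨l, b, d, z, k⟩ := hs
  obtain rfl := z trivial
  have k' := D.Pr_mul D.Pr_j k
  rw [add_zero, zero_add, zero_add] at k'
  have j2 := D.Pr_sq k'
  have hu := D.Pr_u k'
  rw [one_smul] at hu
  have hN : ∀ a, ∃ y, nu C (j * s) a = N y := fun a =>
    ⟨a + (P.B b (N a) + d * P.B p a) • u + P.B p a • b, by rw [D.Pr_nu k']; simp⟩
  have hp : ∀ a, nu C (j * s) (N a) = 0 := fun a => by rw [D.Pr_nu k', D.NN, D.BNN]; simp
  obtain ⟨θ, hθ⟩ := D.herm.exists_trace_one
  have D' : Dat C (j * s) u u' := ⟨D.toMod, j2, D.uu, by rw [hu, D.up], by rw [hu, D.pu]⟩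
  obtain ⟨u3, a1, a2⟩ : ∃ u3, P.B p u3 = 1 ∧ P.B u3 (nu C (j * s) u3) = 0 := by
    refine ⟨u' + (θ * P.B u' (nu C (j * s) u')) • u, by simp [D.pu, D.pu0], ?_⟩
    have e1 := D'.uN u'
    rw [hu, D.pu] at e1
    simp only [map_add, map_smul, map_smulₛₗ, LinearMap.add_apply, LinearMap.smul_apply, hu, e1,
      D.up, D.up', smul_eq_mul, map_mul, D'.herm']
    have := D.two
    grind
  obtain ⟨u2, b1, b2, b3⟩ : ∃ u2, P.B p u2 = 1 ∧ P.B u2 (nu C (j * s) u2) = 0 ∧ P.B u2 u2 = 0 := by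
    obtain ⟨y, hy⟩ := hN u3
    have a3 : P.B u3 p = 1 := by rw [← D.conj, a1, map_one]
    refine ⟨u3 + (θ * P.B u3 u3) • p, by simp [a1, D.BNN], ?_, ?_⟩
    · rw [map_add (nu C (j * s)), map_smul, hp, smul_zero, add_zero, P.B_add_left, a2, hy]
      simp [D.BNN]
    · simp only [map_add, map_smul, map_smulₛₗ, LinearMap.add_apply, LinearMap.smul_apply, a1, a3,
        D.BNN, smul_eq_mul, map_mul, D.conj]
      have := D.two
      grind
  have b4 : P.B u2 p = 1 := by rw [← D.conj, b1, map_one]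
  have tk : TOk P (nu C (j * s) u2) u2 0 := D.tok1 (D'.BNN _ _) b3 (by rw [D'.BN, b2]) (map_zero _)
  have ka : ∀ a, C.act (C.T (nu C (j * s) u2) u2 0) a =
      a + P.B u2 a • nu C (j * s) u2 + P.B u2 (nu C (j * s) a) • u2 := fun a => by
    rw [D.T_app tk, D'.BN]; simp
  have kc : Commute (C.T (nu C (j * s) u2) u2 0) (j * s) :=
    mem_centralizer_singleton_iff.1 (D'.comm_iff.2 fun a => by
      rw [ka, ka, D'.NN]; simp [D'.NN])
  obtain ⟨y, hy⟩ := hN u2
  refine ⟨_, kc, fun e => s1 ?_, D.two_kj ?_ fun a => ?_⟩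
  · have e1 : Commute (C.T (nu C (j * s) u2) u2 0) s := by
      have := e.mul_right kc
      rwa [← mul_assoc, D.j2, one_mul] at this
    have e2 := congrArg (fun g => C.act g u) e1.eq
    have su : C.act s u = u := by rw [nu_app, D.Pr_u k]; simp
    simp only [C.mul_apply] at e2
    rw [su, nu_app s (C.act _ _), left_eq_add, ka, hu, b4, one_smul, hy, map_add, map_add, map_smul,
      D.Pr_u k, D.Pr_nu k (N y), D.Pr_nu k u2, D.NN, D.BNN, b1] at e2
    simp only [map_zero, smul_zero, zero_smul, mul_zero, add_zero, zero_add, mul_one,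
      one_smul] at e2
    have e3 : N b = (P.B b (N u2) + d) • p := by
      have := D.vadd_self (N b)
      have := D.vadd_self ((P.B b (N u2) + d) • p)
      grind
    have e4 : ∀ a, P.B b (N a) = (σ (P.B b (N u2)) + d) * P.B p a := fun a => by
      rw [← D.BN b a, e3, P.B_smul_left, map_add, k.2.1]
    have e5 := e4 u2
    rw [b1, mul_one] at e5
    refine C.ext fun a => ?_
    rw [k.2.2.2, C.one_apply, e4 a, e3, smul_smul]
    have := D.two
    match_scalars <;> grind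
  · rw [C.T_mul tk tk, D.vadd_self]
    simpa [b3] using C.T_zero tk.sing
  · exact ⟨a + P.B u2 (N a) • y, by rw [ka, hp, hy]; simp⟩

theorem ind {c1 c2 c3 c4 : K} (e : c1 • p + c2 • N u' = c3 • p + c4 • N u') :
    c1 = c3 ∧ c2 = c4 := by
  have e1 := congrArg (P.B u) e
  simp only [map_add, map_smul, D.uN, D.pu0, D.pu, smul_eq_mul, mul_zero, zero_add, mul_one] at e1
  rw [e1] at e
  exact ⟨smul_left_injective K D.p0 (add_right_cancel e), e1⟩

theorem tokz (a : V) : TOk P (N a) 0 1 := D.tok0 (D.BNN _ _) (map_one _)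

theorem z_sq (a : V) : C.T (N a) 0 1 * C.T (N a) 0 1 = 1 := by
  rw [C.T_mul (D.tokz a) (D.tokz a), D.add_self]
  simpa using C.T_zero (D.tokz a).sing

theorem not_gr {α : RingAut K} {γ : AV V} (k : Gr P α γ)
    (hγ : ∀ a, N a ≠ 0 → γ (N a) ∈ span K {N a}) : False := by
  obtain ⟨ω, hω⟩ := D.herm.exists_ne_conj
  have ω0 : ω ≠ 0 := by rintro rfl; exact hω (map_zero _)
  have nz : ∀ c : K, ∀ c' : K, c' ≠ 0 → N (c • u + c' • u') ≠ 0 := fun c c' h e =>
    h (D.ind (c1 := c) (c2 := c') (c3 := 0) (c4 := 0) (by simpa using e)).2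
  obtain ⟨m1, e1⟩ := Submodule.mem_span_singleton.1 (hγ u D.p0)
  obtain ⟨m2, e2⟩ := Submodule.mem_span_singleton.1 (hγ _ (nz 0 1 one_ne_zero))
  obtain ⟨m3, e3⟩ := Submodule.mem_span_singleton.1 (hγ _ (nz 1 1 one_ne_zero))
  obtain ⟨m4, e4⟩ := Submodule.mem_span_singleton.1 (hγ _ (nz 1 ω ω0))
  simp only [zero_smul, one_smul, zero_add, map_add, map_smul, k.semi ω, k.eq] at e2 e3 e4
  rw [← e1, ← e2, smul_add] at e3 e4
  rw [smul_smul, smul_smul] at e4
  obtain ⟨a1, a2⟩ := D.ind e3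
  obtain ⟨a3, a4⟩ := D.ind e4
  have m0 : m1 ≠ 0 := by
    rintro rfl
    rw [zero_smul, eq_comm, map_eq_zero_iff γ γ.injective] at e1
    exact D.p0 e1
  refine hω (mul_right_cancel₀ m0 ?_)
  rw [← a1, a2, ← a4, a3, ← a1, a2, mul_comm]

section
variable {k : S} (k2 : k * k = 1) {A : Type} [Group A] [IsCyclic A] (χ : D.Gam →* A)
  (h1 : ∀ g, χ g = 1 → Commute k g) (h2 : ∀ g, g * g = 1 → χ g = 1)
include k2 h1 h2

theorem inv_comm {g : S} (hg : g ∈ D.Gam) (g2 : g * g = 1) : Commute k g :=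
  h1 ⟨g, hg⟩ (h2 _ (Subtype.ext g2))

theorem fix_I (a : V) : C.act k (N a) = N a := by
  by_cases a0 : N a = 0
  · rw [a0, map_zero]
  obtain ⟨w, hw⟩ : ∃ w, P.B (N a) w ≠ 0 := by
    by_contra hc
    push Not at hc
    exact a0 (C.nondeg _ hc)
  have e := congrArg (fun g => C.act g w)
    (D.inv_comm k2 χ h1 h2 (D.T_mem (D.tokz a) (map_zero _)) (D.z_sq a)).eq
  simp only [C.mul_apply, D.T_app (D.tokz a), map_add, map_smul, map_zero, LinearMap.zero_apply,
    map_one, zero_add, one_mul, smul_zero, add_zero, add_right_inj] at e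
  have e1 : C.act k (N a) = ((P.B (N a) w)⁻¹ * P.B (N a) (C.act k w)) • N a := by
    rw [mul_smul, ← e, inv_smul_smul₀ hw]
  have e2 : C.act k (C.act k (N a)) = N a := by rw [← C.mul_apply, k2, C.one_apply]
  rw [e1, map_smul, e1, smul_smul] at e2
  rw [e1, D.eq_one_of_sq (smul_left_injective K a0 (e2.trans (one_smul K _).symm)), one_smul]

theorem tri' {a b : S} (ha : a ∈ D.Gam) (hb : b ∈ D.Gam) (a2 : Commute k (a * a))
    (b2 : Commute k (b * b)) : Commute k a ∨ Commute k b ∨ Commute k (a * b) := by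
  have e : ∀ g : D.Gam, g ∈ (centralizer {k}).subgroupOf D.Gam ↔ Commute k g := fun g => by
    rw [mem_subgroupOf, mem_centralizer_singleton_iff]; exact eq_comm
  simpa only [e, Subgroup.coe_mul] using tri χ (H := (centralizer {k}).subgroupOf D.Gam)
    (fun g hg => (e g).2 (h1 g hg)) (a := ⟨a, ha⟩) (b := ⟨b, hb⟩) ((e _).2 a2) ((e _).2 b2)

theorem exists_om : ∃ ω : K, ω ≠ 0 ∧ 1 + ω ≠ 0 := by
  obtain ⟨ω, hω⟩ := D.herm.exists_ne_conj
  refine ⟨ω, by rintro rfl; exact hω (map_zero _), fun e => hω ?_⟩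
  have : ω = 1 := by have := D.add_self 1; grind
  rw [this, map_one]

theorem fix_ker' {a w b : V} (hw : P.B (N a) w = 1) (hb : N b = 0) :
    ∃ m : K, C.act k b - b = m • N a := by
  have ab : P.B (N a) b = 0 := by rw [D.BN, hb, map_zero]
  have tk : ∀ l : K, ∃ c, TOk P (N a) (l • b) c := fun l =>
    D.exists_tok (D.BNN _ _) (by rw [map_smul, ab, smul_zero])
  have mm : ∀ (l c : K), TOk P (N a) (l • b) c → C.T (N a) (l • b) c ∈ D.Gam := fun l c t =>
    D.T_mem t (by rw [map_smul, hb, smul_zero])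
  have sq : ∀ (l c : K), TOk P (N a) (l • b) c →
      Commute k (C.T (N a) (l • b) c * C.T (N a) (l • b) c) := fun l c t => by
    have t2 := t.add t
    refine D.inv_comm k2 χ h1 h2 (mul_mem (mm l c t) (mm l c t)) ?_
    rw [C.T_mul t t, C.T_mul t2 t2, D.vadd_self (l • b), D.add_self (_ + _ + _)]
    simpa using C.T_zero t.sing
  have key : ∀ (l c : K), l ≠ 0 → TOk P (N a) (l • b) c → Commute k (C.T (N a) (l • b) c) →
      ∃ m : K, C.act k b - b = m • N a := fun l c l0 t cm => by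
    have e := congrArg (fun g => C.act g w) cm.eq
    have e1 : P.B (N a) (C.act k w) = 1 := by
      rw [← D.fix_I k2 χ h1 h2 a, C.B_act, hw]
    simp only [C.mul_apply, D.T_app t, map_add, map_smul, D.fix_I k2 χ h1 h2, hw, e1, one_smul,
      mul_one] at e
    refine ⟨l⁻¹ * (P.B (l • b) (C.act k w) - P.B (l • b) w), ?_⟩
    rw [mul_smul, eq_inv_smul_iff₀ l0, smul_sub, sub_smul]
    rw [add_smul, add_smul] at e
    linear_combination (norm := module) e
  obtain ⟨ω, ω0, ω1⟩ := D.exists_om k2 χ h1 h2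
  obtain ⟨c, t⟩ := tk 1
  obtain ⟨c', t'⟩ := tk ω
  rcases D.tri' k2 χ h1 h2 (mm _ _ t) (mm _ _ t') (sq _ _ t) (sq _ _ t') with e | e | e
  · exact key _ _ one_ne_zero t e
  · exact key _ _ ω0 t' e
  · have t2 := t.add t'
    rw [C.T_mul t t'] at e
    rw [← add_smul] at t2 e
    exact key _ _ ω1 t2 e

theorem fix_ker {b : V} (hb : N b = 0) : nu C k b = 0 := by
  obtain ⟨m, e⟩ := D.fix_ker' k2 χ h1 h2 D.pu hb
  obtain ⟨m', e'⟩ := D.fix_ker' k2 χ h1 h2 (a := u') (w := u) (by rw [D.BN, D.up']) hb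
  have := (D.ind (c1 := m) (c2 := 0) (c3 := 0) (c4 := m') (by simp [← e, ← e'])).1
  rw [this, zero_smul, nu_app, add_sub_cancel_left] at e
  exact e

theorem nu_range (a : V) : ∃ y, nu C k a = N y :=
  mem_range D.toMod D.j2 fun b hb => by
    rw [← B_nu D.toMod k2, D.fix_ker k2 χ h1 h2 hb, map_zero, LinearMap.zero_apply]

theorem comm_of_Ac {g g' : S} {v : V} {l : K} (hg : g ∈ D.Gam) (hg' : g' ∈ D.Gam)
    (a : Ac C j u g v l) (a' : Ac C j u g' v l) (c : Commute k g') : Commute k g := by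
  have m := D.comm_iff.1 (mul_mem (inv_mem hg'.1) hg.1)
  have f : ∀ w, C.act (g'⁻¹ * g) (N w) = N w := fun w => by
    rw [C.mul_apply, a.2, ← a'.2, C.inv_apply]
  have : Commute k (g'⁻¹ * g) := C.ext fun w => by
    obtain ⟨y, hy⟩ := D.nu_range k2 χ h1 h2 w
    have := D.fix_ker k2 χ h1 h2 (b := C.act (g'⁻¹ * g) w - w) (by rw [map_sub, ← m, f, sub_self])
    rw [map_sub, sub_eq_zero] at this
    rw [C.mul_apply k, C.mul_apply _ k, nu_app k w, nu_app k, this, map_add, hy, f]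
  simpa using c.mul_right this

theorem exists_comm {v : V} (hv : P.B p v = 0) :
    ∃ μ : K, μ ≠ 0 ∧ ∃ g ∈ D.Gam, ∃ l, Ac C j u g (μ • v) l ∧ Commute k g := by
  have sq : ∀ g ∈ D.Gam, ∀ w l, Ac C j u g w l → Commute k (g * g) := fun g hg w l a => by
    have a2 := D.d_Ac (P.B w (N w))
    rw [D.herm'] at a2
    exact D.comm_of_Ac k2 χ h1 h2 (mul_mem hg hg) (D.d_mem (D.herm' w)) (D.Ac_sq a) a2
      (D.inv_comm k2 χ h1 h2 (D.d_mem (D.herm' w)) (D.d_sq _))
  obtain ⟨ω, ω0, ω1⟩ := D.exists_om k2 χ h1 h2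
  obtain ⟨g, hg, l, a⟩ := D.exists_g (v := (1 : K) • v) (by rw [one_smul, hv])
  obtain ⟨g', hg', l', a'⟩ := D.exists_g (v := ω • v) (by rw [map_smul, hv, smul_zero])
  rcases D.tri' k2 χ h1 h2 hg hg' (sq _ hg _ _ a) (sq _ hg' _ _ a') with e | e | e
  · exact ⟨1, one_ne_zero, g, hg, l, a, e⟩
  · exact ⟨ω, ω0, g', hg', l', a', e⟩
  · have := D.Ac_mul a a'
    rw [← add_smul] at this
    exact ⟨1 + ω, ω1, _, mul_mem hg hg', _, this, e⟩

theorem mem_W : k ∈ D.Wg False := by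
  have D0 : ∀ g, Commute k g → ∀ a, C.act g (nu C k a) = nu C k (C.act g a) := fun g c a => by
    have := congrArg (fun s => C.act s a) c.eq
    simp only [C.mul_apply] at this
    rw [nu_app k a, nu_app k (C.act g a), map_add] at this
    exact (add_left_cancel this).symm
  have kN : ∀ a, nu C k (N a) = 0 := fun a => D.fix_ker k2 χ h1 h2 (D.NN a)
  obtain ⟨y, hy⟩ := D.nu_range k2 χ h1 h2 u'
  have e0 : nu C k u = P.B p y • p := by
    have := D0 _ (D.inv_comm k2 χ h1 h2 (D.d_mem (map_one σ)) (D.d_sq 1)) u'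
    rw [D.d_app, D.d_app, map_add, map_add, map_smul, map_smul, kN, hy, D.BNN, D.uN, D.pu] at this
    simpa using this.symm
  have l0 : σ (P.B p y) = P.B p y := by
    have := B_nu D.toMod k2 u u'
    rwa [e0, hy, D.uN, P.B_smul_left, D.pu, mul_one] at this
  obtain ⟨M, hM⟩ : ∃ M : V →ₗ[K] V, M = nu C k + P.B p y • N := ⟨_, rfl⟩
  have Ma : ∀ a, M a = nu C k a + P.B p y • N a := fun a => by rw [hM]; rfl
  have Mu : M u = 0 := by rw [Ma, e0, D.vadd_self]
  have Mb : ∀ b, N b = 0 → M b = 0 := fun b hb => by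
    rw [Ma, hb, D.fix_ker k2 χ h1 h2 hb]; simp
  have BM : ∀ a b, P.B (M a) b = P.B a (M b) := fun a b => by
    rw [Ma, Ma, P.B_add_left, P.B_add_right, P.B_smul_left, P.B_smul_right, l0, D.BN a b,
      B_nu D.toMod k2]
  obtain ⟨b, hb⟩ : ∃ b, M u' = N b := ⟨y + P.B p y • u', by rw [Ma, hy]; simp⟩
  have pb : P.B p b = 0 := by rw [← D.uN, ← hb, ← BM, Mu]; simp
  have Mv : ∀ v, P.B p v = 0 → M v = P.B b (N v) • p := fun v hv => by
    obtain ⟨μ, μ0, g, hg, l, a, c⟩ := D.exists_comm k2 χ h1 h2 hv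
    have cg := D.comm_iff.1 hg.1
    have e1 : C.act g (M u') = M (C.act g u') := by rw [Ma, Ma, map_add, map_smul, D0 g c, cg]
    have e2 := Mb (C.act g u' - (u' + μ • v + (P.B (μ • v) (N u') + l) • u)) (by
      rw [map_sub, ← cg, a.2, D.pu]; simp)
    rw [map_sub, sub_eq_zero, ← e1, map_add, map_add, map_smul, map_smul, Mu, hb, a.2, pb] at e2
    simp only [zero_smul, mul_zero, add_zero, smul_zero, add_right_inj] at e2
    have e3 : M v = (μ⁻¹ * P.B (μ • v) (N b)) • p := by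
      rw [mul_smul, e2, inv_smul_smul₀ μ0]
    have e4 := BM u' v
    rw [hb, D.BN, e3, P.B_smul_right, D.up', mul_one] at e4
    rw [e3, e4]
  refine ⟨P.B p y, b, P.B b (N u'), False.elim, l0, ?_, pb, fun a => ?_⟩
  · rw [D.conj, ← D.BN b, ← hb, BM, D.BN, hb]
  · have e1 := Mv (a + P.B p a • u') (by
      rw [map_add, map_smul, D.pu, smul_eq_mul, mul_one, D.add_self])
    rw [map_add, map_smul, hb, Ma, map_add, map_smul, map_add, map_smul, smul_eq_mul] at e1
    have e2 := D.vadd_self (P.B p y • N a)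
    have e3 := D.vadd_self (P.B p a • N b)
    rw [nu_app, mul_comm]
    linear_combination (norm := module) e1 - e2 - e3

end

end Dat

end IB

theorem Emb.inv_data (h : Emb C φ) {j : S} (j2 : j * j = 1)
    (hr : 2 ≤ finrank K (LinearMap.range (nu C j))) : ∃ Γ W Z : Subgroup S, IsPGroup 2 Γ ∧
      Γ ≤ centralizer {j} ∧ j ∈ Γ ∧ Z ≤ W ∧ j ∈ W ∧ j ∉ Z ∧ (∀ s ∈ W, s * s = 1) ∧
      (∀ s ∈ W, s ∉ Z → IsConj j s) ∧ (Small σ → ∀ s ∈ W, s ∈ Z ∨ j * s ∈ Z) ∧
      (∀ u ∈ normalizer (φ.range : Set G), u * u = 1 →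
        ∀ (A : Type) [Group A] [IsCyclic A] (χ : Γ →* A), (∀ g, χ g = 1 → Commute u (φ g)) →
          (∀ g, g * g = 1 → χ g = 1) → ∃ s ∈ W, (φ s)⁻¹ * u ∈ centralizer (φ.range : Set G)) ∧
      (∃ k, (∀ s ∈ Z, Commute k s) ∧ ¬ Commute k j ∧ IsPGroup 2 (closure {k, j})) ∧
      ∀ s ∈ Z, s ≠ 1 → ∃ k, Commute k (j * s) ∧ ¬ Commute k j ∧ IsPGroup 2 (closure {k, j}) := by
  obtain ⟨u, u', D⟩ := IB.exists_dat h.toMod j2 hr
  refine ⟨D.Gam, D.Wg False, D.Wg True, D.Gam_two, fun g hg => hg.1, D.j_mem,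
    fun s ⟨l, b, d, _, k⟩ => ⟨l, b, d, False.elim, k⟩, ⟨1, 0, 0, False.elim, D.Pr_j⟩, D.j_not,
    fun s ⟨l, b, d, _, k⟩ => D.Pr_sq k,
    fun s ⟨l, b, d, _, k⟩ hs => D.Pr_conj k fun e => hs ⟨l, b, d, fun _ => e, k⟩,
    fun hS s ⟨l, b, d, _, k⟩ => ?_, fun x hx x2 A _ _ χ h1 h2 => ?_, D.first,
    fun s hs s1 => D.second hs s1⟩
  · rcases hS l k.1 with e | e
    · exact Or.inl ⟨l, b, d, fun _ => e, k⟩
    · exact Or.inr ⟨_, _, _, fun _ => by rw [e, D.add_self], D.Pr_mul D.Pr_j k⟩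
  rcases h.invol hx x2 with ⟨k, k2, hk⟩ | ⟨α, γ, k, k'⟩
  · refine ⟨k, D.mem_W k2 χ (fun g hg => ?_) h2, hk⟩
    have c1 : Commute (φ k) (φ g) := by
      have c : Commute ((φ k)⁻¹ * x) (φ g) := (mem_centralizer_iff.1 hk _ ⟨g, rfl⟩).symm
      have := (h1 g hg).mul_left c.inv_left
      simpa using this
    have z1 : k⁻¹ * (g * k * (g : S)⁻¹) ∈ center S := h.ker (by
      rw [MonoidHom.mem_ker, map_mul, map_mul, map_mul, ← c1.eq]; simp)
    obtain ⟨ζ, hζ⟩ : ∃ ζ, ζ = k⁻¹ * (g * k * (g : S)⁻¹) := ⟨_, rfl⟩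
    rw [← hζ] at z1
    have e : g * k * (g : S)⁻¹ = k * ζ := by rw [hζ]; group
    have z2 : ζ * ζ = 1 := by
      calc ζ * ζ = k * (k * ζ) * ζ := by rw [← mul_assoc, k2, one_mul]
        _ = k * (ζ * k) * ζ := by rw [mem_center_iff.1 z1 k]
        _ = k * ζ * (k * ζ) := by group
        _ = 1 := by rw [← e, show g * k * (g : S)⁻¹ * (g * k * (g : S)⁻¹) = g * (k * k) * (g : S)⁻¹
            by group, k2]; group
    obtain ⟨l, hl⟩ := h.toMod.mem_center.1 z1
    have l1 : l = 1 := D.eq_one_of_sq (smul_left_injective K D.p0 (by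
      show (l * l) • nu C j u = (1 : K) • nu C j u
      rw [mul_smul, ← hl, ← hl, ← C.mul_apply, z2, C.one_apply, one_smul]))
    have : ζ = 1 := C.ext fun v => by rw [hl, l1, one_smul, C.one_apply]
    rw [this, mul_one, mul_inv_eq_iff_eq_mul] at e
    exact e.symm
  · refine (D.not_gr k' fun a a0 => ?_).elim
    have c := h1 ⟨_, D.T_mem (D.tokz a) (map_zero _)⟩ (h2 _ (Subtype.ext (D.z_sq a)))
    have e := h.act_z k (D.BNN a a) (map_one σ)
    rw [map_one, show x * z C φ (nu C j a) 1 = z C φ (nu C j a) 1 * x from c.eq,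
      mul_inv_cancel_right] at e
    refine h.z_eq_z (D.BNN a a) (by rw [k.B_eq, D.BNN, map_zero]) (map_one σ) (map_one σ) e ?_
    rw [Ne, h.z_eq_one (D.BNN a a) (map_one σ)]
    simp [a0]

end CfsgLib.U5
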