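import Cfsg.Agent.Lib.U5.FusA
import Cfsg.Agent.Lib.U5.InvB
import Cfsg.Agent.Lib.U5.Gr

/-! Fusion -/

set_option autoImplicit false
set_option linter.unusedSectionVars false

namespace CfsgLib.U5

open Subgroup Module CfsgLib.Forms CfsgLib.LieMult
open CfsgLib.HX (Std CO Two Mv Tr Heis NF Fus4 Has4 M2)
open Submodule (span)
open scoped commutatorElement Pointwise

universe u

variable {K : Type} [Field K] [Finite K] {σ : K →+* K} {V : Type} [AddCommGroup V] [Module K V]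
  [FiniteDimensional K V] {P : PQ σ V} {S : Type} [Group S] [Finite S] {G : Type u} [Group G]
  [Finite G] {C : CG P S} {φ : S →* G} {t : G}

open FA

namespace Sit

variable (h : Sit C φ t)
include h

theorem fb_two {H : Subgroup S} (h2 : IsPGroup 2 H) : IsPGroup 2 (zpowers t ⊔ H.map φ : Subgroup G) :=
  IsPGroup.to_sup_of_normal_right' (two_zp h.t2) (h2.map φ) (zpowers_le.2
    (Tech.mem_normalizer_of_forall (by
      rintro _ ⟨s, hs, rfl⟩
      rw [← (h.tφ s).eq, mul_inv_cancel_right]; exact mem_map_of_mem φ hs)))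

theorem exists_comm {Gs : Subgroup G} (hG : SLE.Glob Gs t) (hL : φ.range ≤ Gs) :
    ∃ g, g * t * g⁻¹ ≠ t ∧ Commute (g * t * g⁻¹) t := by
  by_contra! h0
  have := hG.simple
  have := hG.nrm
  have hO : Cfsg.pPrimeCore 2 G = ⊥ := by
    rcases ((inferInstance : (Cfsg.pPrimeCore 2 G).Normal).subgroupOf Gs).eq_bot_or_eq_top with e | e
    · rw [eq_bot_iff, ← hG.cen]
      intro x hx y hy
      have : y * x * y⁻¹ * x⁻¹ ∈ Cfsg.pPrimeCore 2 G ⊓ Gs :=
        mem_inf.2 ⟨mul_mem (Normal.conj_mem inferInstance x hx y) (inv_mem hx), by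
          have := hG.nrm.conj_mem _ (inv_mem hy) x
          simpa [mul_assoc] using mul_mem hy this⟩
      rw [subgroupOf_eq_bot, disjoint_iff] at e
      rw [e, mem_bot, mul_inv_eq_one, mul_inv_eq_iff_eq_mul] at this
      exact this
    · obtain ⟨a, -, b, -, k⟩ := h.exists_hp_perp (U := ⊥) disjoint_bot_left (by
        have := h.d4; rw [finrank_bot]; omega)
      have a2 := (h.hp_iff.1 k).1
      have h1 := (Core.odd_card_oddCore G).of_dvd_nat
        (orderOf_dvd_natCard _ (subgroupOf_eq_top.1 e (hL (⟨_, rfl⟩ : z C φ a 1 ∈ φ.range))))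
      rw [Invol.orderOf_eq_two (fun c => ((h.z_eq_one a2 (map_one σ)).1 c).elim
        (fun c => by simpa [c] using k.ef) one_ne_zero) (h.z_sq a2 (map_one σ))] at h1
      exact absurd h1 (by decide)
  have := ZStar.zstar_center hO (t := t) ⟨Invol.orderOf_eq_two h.t1 h.t2, fun g hg => by
    by_contra e
    exact h0 g e hg.symm⟩
  have h1 : t ∈ centralizer (Gs : Set G) := fun y _ => mem_center_iff.1 this y
  rw [hG.cen] at h1
  exact h.t1 h1

theorem exists_inner {g : G} (h1 : g * t * g⁻¹ ≠ t) (h2 : Commute (g * t * g⁻¹) t) :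
    ∃ g' j, j * j = 1 ∧ j ≠ 1 ∧ (g' * t * g'⁻¹ = φ j ∨ g' * t * g'⁻¹ = t * φ j) := by
  have h' := h.cj g
  rcases h.invol (h.cN h2) h'.t2 with ⟨l, l2, hl⟩ | ⟨α, γ, k, gr⟩
  · have k := h.inner h2 h'.t2 l2 hl
    refine ⟨g, l, l2, ?_, k⟩
    rintro rfl
    rw [map_one, mul_one] at k
    exact k.elim h'.t1 h1
  obtain ⟨e, a, w, γe, γa, γw, he, ha, hea, e0, ae, ww, ew, aw, od⟩ := h.gr_T gr
  have k1 : TOk P e a 1 := h.tok1 he ha hea (map_one σ)
  have T2 : C.T e a 1 * C.T e a 1 = 1 := by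
    rw [C.T_mul k1 k1, h.vadd_self, h.add_self, ha, add_zero, C.T_zero k1.sing]
  have x2 : x C φ e a 1 * x C φ e a 1 = 1 := by rw [x, ← map_mul, T2, map_one]
  obtain ⟨j, -, j1, j2⟩ := h'.exists_two (h'.mem_of_Od (g := x C φ e a 1) (Od_mono (by
    rintro _ ⟨s, hs, rfl⟩
    exact mem_centralizer_singleton_iff.2 (h.comm_of_act k hs).eq.symm)
      (map_Od φ _ (mem_map_of_mem φ od))) (two_zp x2)) (two_zp x2)
  rw [Invol.orderOf_eq_two (fun c => ?_) x2] at j1
  · obtain ⟨θ, hθ⟩ := h.herm.exists_trace_one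
    have hθ' : σ θ = θ + 1 := by linear_combination hθ - h.add_self θ
    have k2 : TOk P e (θ • a + w) θ := h.tok.2 ⟨he, by simp [hea, ew], by simp [ha, aw, h.B_comm aw, ww, hθ]⟩
    have e1 := (h.act_x k k2).2
    have e2 : x C φ e (θ • a + w) θ * x C φ e a 1 = x C φ e ((θ + 1) • a + w) (θ + 1) := by
      rw [x, x, x, ← map_mul, C.T_mul k2 k1]
      congr 2
      · module
      · simp [ha, aw]
    rw [γe, map_add, k.semi, γa, γw, gr.eq, hθ', ← e2] at e1
    refine ⟨g⁻¹ * (x C φ e (θ • a + w) θ)⁻¹ * g, j, by rw [← pow_two, ← j1, pow_orderOf_eq_one],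
      fun c => by simp [c] at j1, .inr ?_⟩
    rw [← (h.tφ j).eq, show φ j = g⁻¹ * x C φ e a 1 * g by
      rw [← j2]; show _ = g⁻¹ * (g * φ j * g⁻¹) * g; group]
    have s2 := inv_eq_of_mul_eq_one_right h'.t2
    generalize x C φ e (θ • a + w) θ = u at e1
    calc _ = g⁻¹ * u⁻¹ * (g * t * g⁻¹ * u * (g * t * g⁻¹)⁻¹) * (g * t * g⁻¹) * g := by group
      _ = _ := by rw [e1]; group
  · have := h.inj2 (s := C.T e a 1) (two_zp T2) (by rw [show φ _ = 1 from c]; exact one_mem _)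
    obtain ⟨l, hl, -⟩ := (h.T_eq_one k1 e0).1 this
    exact ae (Submodule.mem_span_singleton.2 ⟨l, hl.symm⟩)

theorem iso2 (n : NFU C φ t) {e : V} (h0 : e ≠ 0) (he : P.B e e = 0) {H : Subgroup G}
    (h2 : IsPGroup 2 H) (ht : t ∈ H) (hz : H ≤ centralizer (Eg C φ (span K {e}) : Set G)) :
    H ≤ centralizer {t} := by
  obtain ⟨f, hf⟩ := h.exists_hp h0 he
  obtain ⟨π, β, lr, -⟩ := h.lr hf
  exact lr.iso2 (fun g r => ⟨fun k => Subtype.ext
    (((h.z_eq_one he r.2).1 ((n g e r he r.2).1 k)).resolve_left h0), (n g e r he r.2).2⟩) h2 ht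
    fun p hp s => (hz hp _ (z_mem h.toEmb he s.2)).symm

theorem fb_core {φ' : S →* G} {τ : G} {j : S} (h' : Sit C φ' (τ * φ j)) (n : NFU C φ' (τ * φ j))
    (hτ : τ = 1 ∨ τ = t) {k₀ : G} (hk : k₀ * (τ * φ j) * k₀⁻¹ = t) (j2 : j * j = 1)
    (hr : 2 ≤ finrank K (LinearMap.range (nu C j))) : False := by
  obtain ⟨Γ, W, Z, Γ2, Γj, -, ZW, jW, jZ, W2, Wc, Ws, Wu, ⟨k, k1, k2, k3⟩, k4⟩ := h.inv_data j2 hr
  have cτ : ∀ {x}, Commute x t → Commute x τ := fun c => by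
    rcases hτ with rfl | rfl
    exacts [Commute.one_right _, c]
  have ts : Commute t (τ * φ j) := (cτ (Commute.refl t)).mul_right (h.tφ j).symm
  have PN : zpowers t ⊔ Γ.map φ ≤ normalizer (φ'.range : Set G) :=
    sup_le (zpowers_le.2 (h'.cN ts)) (by
      rintro _ ⟨y, hy, rfl⟩
      exact h'.cN ((cτ (h.tφ y)).mul_right
        (Commute.map (mem_centralizer_singleton_iff.1 (Γj hy)) φ)))
  obtain ⟨p, p0, hp, PZ⟩ := h'.fix_pt (h.fb_two Γ2) PN
  obtain ⟨A, _, _, χ, χ1, χ2⟩ := h'.zc (h.fb_two Γ2) PN hp PZ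
  have zt : ∀ u ∈ Eg C φ' (span K {p}), Commute u t :=
    χ1 _ (χ2 ⟨t, mem_sup_left (mem_zpowers t)⟩ (Subtype.ext h.t2))
  have z2 : ∀ u ∈ Eg C φ' (span K {p}), u * u = 1 := fun u hu => by
    obtain ⟨r, hr, rfl⟩ := (h'.mem_Z hp).1 hu
    exact h'.z_sq hp hr
  have key : ∀ u ∈ Eg C φ' (span K {p}), ∃ w ∈ W, u = φ w ∨ u = t * φ w := fun u hu => by
    obtain ⟨w, hw, c⟩ := Wu u (h.cN (zt u hu)) (z2 u hu) A
      (χ.comp ((inclusion le_sup_right).comp (φ.subgroupMap Γ))) (fun y c => χ1 _ c u hu)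
      fun y c => χ2 _ (by rw [← map_mul, c, map_one])
    exact ⟨w, hw, h.inner (zt u hu) (z2 u hu) (W2 w hw) c⟩
  have N2 : ∀ u ∈ Eg C φ' (span K {p}), ∀ g, g * (τ * φ j) * g⁻¹ = τ * φ j * u → u = 1 :=
    fun u hu g c => by
      obtain ⟨r, hr, rfl⟩ := (h'.mem_Z hp).1 hu
      exact (n g p r hp hr).1 c
  have cw : ∀ w ∈ W, w ∉ Z → ∃ g, g * (τ * φ j) * g⁻¹ = τ * φ w := fun w hw c => by
    obtain ⟨l, rfl⟩ := isConj_iff.1 (Wc w hw c)
    exact ⟨φ l, by rw [← mul_assoc, (cτ (h.tφ l)).eq, map_mul, map_mul, map_inv]; group⟩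
  have hA : ∀ w ∈ W, φ w ∈ Eg C φ' (span K {p}) → j * w ∉ Z → φ w = 1 := fun w hw hu c => by
    obtain ⟨g, c⟩ := cw _ (mul_mem jW hw) c
    exact N2 _ hu g (by rw [c, map_mul, mul_assoc])
  have hB : ∀ w ∈ W, τ * φ w ∈ Eg C φ' (span K {p}) → w ∈ Z := fun w hw hu => by
    by_contra c
    obtain ⟨g, c⟩ := cw w hw c
    obtain ⟨r, hr, e⟩ := (h'.mem_Z hp).1 hu
    exact (n g p r hp hr).2 (c.trans e)
  have hC : ∀ w, φ w ∈ Eg C φ' (span K {p}) → w ∈ Z → φ w = 1 := fun w hu c =>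
    hA w (ZW c) hu fun c' => jZ ((mul_mem_cancel_right c).1 c')
  have Wcm : ∀ a ∈ W, ∀ b ∈ W, Commute a b := fun a ha b hb => by
    have := inv_eq_of_mul_eq_one_right (W2 _ (mul_mem ha hb))
    rw [mul_inv_rev, inv_eq_of_mul_eq_one_right (W2 a ha), inv_eq_of_mul_eq_one_right (W2 b hb)] at this
    exact this.symm
  have tt : ∀ a b : S, t * φ a * (t * φ b) = φ (a * b) := fun a b => by
    rw [mul_assoc, ← mul_assoc (φ a), (h.tφ a).eq, ← mul_assoc, ← mul_assoc, h.t2, one_mul, map_mul]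
  have nf : ∀ u ∈ Eg C φ' (span K {p}), u ≠ 1 → ∃ w ∈ W,
      u = t * φ w ∧ (τ = 1 ∨ w ∈ Z) ∨ u = φ w ∧ τ = t ∧ j * w ∈ Z := fun u hu u1 => by
    obtain ⟨w, hw, rfl | rfl⟩ := key u hu
    · refine ⟨w, hw, .inr ⟨rfl, hτ.resolve_left fun c => u1 (hC w hu (hB w hw (by rwa [c, one_mul]))),
        by_contra fun c => u1 (hA w hw hu c)⟩⟩
    · exact ⟨w, hw, .inl ⟨rfl, hτ.imp_right fun c => hB w hw (by rwa [c])⟩⟩
  have pr : ∀ u ∈ Eg C φ' (span K {p}), u ≠ 1 → ∀ v ∈ Eg C φ' (span K {p}), v ≠ 1 → u * v = 1 :=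
    fun u hu u1 v hv v1 => by
      have m := mul_mem hu hv
      obtain ⟨a, ha, ⟨rfl, a1⟩ | ⟨rfl, a1, a2⟩⟩ := nf u hu u1 <;>
        obtain ⟨b, hb, ⟨rfl, b1⟩ | ⟨rfl, b1, b2⟩⟩ := nf v hv v1
      · rw [tt] at m ⊢
        refine hC _ m (a1.elim (fun c => hB _ (mul_mem ha hb) (by rwa [c, one_mul])) fun c =>
          b1.elim (fun c => hB _ (mul_mem ha hb) (by rwa [c, one_mul])) (mul_mem c))
      · have a2 := a1.resolve_left fun c => h.t1 (b1 ▸ c)
        have := hB _ (mul_mem ha hb) (by rwa [b1, map_mul, ← mul_assoc])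
        exact absurd ((mul_mem_cancel_right ((mul_mem_cancel_left a2).1 this)).1 b2) jZ
      · have b2 := b1.resolve_left fun c => h.t1 (a1 ▸ c)
        have := hB _ (mul_mem ha hb) (by rwa [a1, map_mul, ← mul_assoc, ← (h.tφ a).eq, mul_assoc])
        exact absurd ((mul_mem_cancel_right ((mul_mem_cancel_right b2).1 this)).1 a2) jZ
      · rw [← map_mul] at m ⊢
        refine hC _ m ?_
        have := mul_mem a2 b2
        rwa [(Wcm j jW a ha).eq, mul_assoc, ← mul_assoc j, j2, one_mul] at this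
  have u0 := z_mem h'.toEmb hp (map_one σ)
  have u1 : z C φ' p 1 ≠ 1 := fun c => ((h'.z_eq_one hp (map_one σ)).1 c).elim p0 one_ne_zero
  have sm : Small σ := fun r hr => or_iff_not_imp_left.2 fun r0 => by
    have := pr _ (z_mem h'.toEmb hp hr) (fun c => ((h'.z_eq_one hp hr).1 c).elim p0 r0) _ u0 u1
    rw [← h'.z_add hp hr (map_one σ), h'.z_eq_one hp (by rw [map_add, hr, map_one])] at this
    linear_combination this.resolve_left p0 - h.add_self 1
  generalize z C φ' p 1 = u at u0 u1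
  obtain ⟨k, v, hv, c1, c2, c3, c4⟩ : ∃ k, ∃ v ∈ W, Commute k v ∧ ¬ Commute k j ∧
      IsPGroup 2 (closure {k, j}) ∧ (u = φ v ∨ u = t * φ v) := by
    have st : ∀ w ∈ W, j * w ∈ Z → (u = φ w ∨ u = t * φ w) → (w = j → τ * φ j * u = t) →
        ∃ k, ∃ v ∈ W, Commute k v ∧ ¬ Commute k j ∧ IsPGroup 2 (closure {k, j}) ∧
          (u = φ v ∨ u = t * φ v) := fun w hw c e1 e2 => by
      obtain ⟨k, a1, a2, a3⟩ := k4 _ c fun c => u1 (N2 u u0 k₀ (hk.trans (e2 (by
        rw [← inv_eq_of_mul_eq_one_right c, inv_eq_of_mul_eq_one_right j2])).symm))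
      exact ⟨k, w, hw, by rwa [← mul_assoc, j2, one_mul] at a1, a2, a3, e1⟩
    obtain ⟨w, hw, ⟨e1, a1⟩ | ⟨e1, a1, a2⟩⟩ := nf u u0 u1
    · by_cases c : w ∈ Z
      · exact ⟨k, w, hw, k1 w c, k2, k3, .inr e1⟩
      · exact st w hw ((Ws sm w hw).resolve_left c) (.inr e1) fun c' => by
          rw [e1, c', a1.resolve_right c, one_mul, ← mul_assoc, (h.tφ j).eq, mul_assoc, ← map_mul, j2,
            map_one, mul_one]
    · exact st w hw a2 (.inl e1) fun c' => by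
        rw [e1, c', a1, mul_assoc, ← map_mul, j2, map_one, mul_one]
  have cu : ∀ y, Commute y v → Commute (φ y) u := fun y c => by
    rcases c4 with rfl | rfl
    exacts [c.map φ, (h.tφ y).mul_right (c.map φ)]
  have mk : k ∈ closure {k, j} := subset_closure (by simp)
  have mj : j ∈ closure {k, j} := subset_closure (by simp)
  have := h'.iso2 n p0 hp (h.fb_two c3) (mul_mem (by
      rcases hτ with rfl | rfl
      exacts [one_mem _, mem_sup_left (mem_zpowers _)]) (mem_sup_right (mem_map_of_mem φ mj)))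
    (fun y hy x hx => by
      by_cases c : x = 1
      · rw [c, mul_one, one_mul]
      have e1 : x = u := by
        rw [← inv_eq_of_mul_eq_one_right (pr x hx c u u0 u1), inv_eq_of_mul_eq_one_right (z2 x hx)]
      refine e1 ▸ (mem_centralizer_singleton_iff.1 ((sup_le (zpowers_le.2 ?_) (map_le_iff_le_comap.2
        ((closure_le _).2 ?_)) : _ ≤ centralizer {u}) hy)).symm
      · exact mem_centralizer_singleton_iff.2 (zt u u0).symm
      · rintro y (rfl | rfl)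
        exacts [mem_centralizer_singleton_iff.2 (cu _ c1), mem_centralizer_singleton_iff.2 (cu _ (Wcm _ jW v hv))])
    (mem_sup_right (mem_map_of_mem φ mk))
  have c5 : Commute (φ k) (φ j) := by
    have := (cτ (h.tφ k)).inv_right.mul_right (mem_centralizer_singleton_iff.1 this)
    rwa [inv_mul_cancel_left] at this
  exact c2 (h.inj_two c3 (mul_mem mk mj) (mul_mem mj mk) (by rw [map_mul, map_mul, c5.eq]))

theorem not_inner (n : NFU C φ t) {g : G} {j : S} (j2 : j * j = 1) (j1 : j ≠ 1) :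
    ¬ (g * t * g⁻¹ = φ j ∨ g * t * g⁻¹ = t * φ j) := fun e => by
  have hr : 2 ≤ finrank K (LinearMap.range (nu C j)) := by
    by_contra c
    obtain ⟨p, hp, e1⟩ := h.invol_one j2 (by omega)
    have k := n g p 1 hp (map_one σ)
    rw [z, ← e1] at k
    exact e.elim k.2 fun e => j1 (h.inj2 (two_zp j2) (by rw [k.1 e]; exact one_mem _))
  have h' := h.cj g
  have n' := n.cj g
  have hk : g⁻¹ * (g * t * g⁻¹) * g⁻¹⁻¹ = t := by group
  rcases e with e | e
  · rw [e, ← one_mul (φ j)] at h' n' hk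
    exact h.fb_core h' n' (.inl rfl) hk j2 hr
  · rw [e] at h' n' hk
    exact h.fb_core h' n' (.inr rfl) hk j2 hr

/-- **I** -/
theorem fus {Gs : Subgroup G} (hG : SLE.Glob Gs t) (hL : φ.range ≤ Gs) {e : V} (h0 : e ≠ 0)
    (he : P.B e e = 0) : ∃ g, g * t * g⁻¹ = t * z C φ e 1 := by
  by_contra! h1
  obtain ⟨g, h2, h3⟩ := h.exists_comm hG hL
  obtain ⟨g', j, j2, j1, k⟩ := h.exists_inner h2 h3
  exact h.not_inner (h.nfu h0 he h1) j2 j1 k

end Sit

end CfsgLib.U5
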