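import Cfsg.Agent.Lib.U5.Defs

/-! The geometry of the Hermitian space -/

set_option autoImplicit false
set_option linter.unusedSectionVars false
set_option linter.unusedSimpArgs false

namespace CfsgLib.U5

open Subgroup Module CfsgLib.Forms CfsgLib.LieMult
open CfsgLib.HX (Std CO Two Mv Tr Heis NF Fus4 Has4 M2)
open Submodule (span)
open scoped commutatorElement Pointwise

universe u

variable {K : Type} [Field K] [Finite K] {σ : K →+* K} {V : Type} [AddCommGroup V] [Module K V]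
  [FiniteDimensional K V] {P : PQ σ V} {S : Type} [Group S] [Finite S] {G : Type u} [Group G]
  [Finite G] {C : CG P S} {φ : S →* G} {t : G}

namespace Mod

variable (h : Mod C)
include h

theorem add_self (c : K) : c + c = 0 := by
  linear_combination c * h.two

theorem vadd_self (v : V) : v + v = 0 := by
  rw [← two_smul K v, h.two, zero_smul]

theorem neg_eq (c : K) : -c = c := by linear_combination (-c) * h.two

theorem vneg_eq (v : V) : -v = v := neg_eq_of_add_eq_zero_left (h.vadd_self v)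

theorem sub_eq (c d : K) : c - d = c + d := by rw [sub_eq_add_neg, h.neg_eq]

theorem vsub_eq (v v' : V) : v - v' = v + v' := by rw [sub_eq_add_neg, h.vneg_eq]

theorem eq_of_add {c d : K} (e : c + d = 0) : c = d := by linear_combination e - d * h.two

theorem veq_of_add {v v' : V} (e : v + v' = 0) : v = v' := by
  rw [← h.vsub_eq] at e; exact sub_eq_zero.1 e

theorem σσ (c : K) : σ (σ c) = c := P.σσ c

theorem sing {e : V} : P.Sing e ↔ P.B e e = 0 := h.herm.sing_iff e

theorem B_comm {v v' : V} (e : P.B v v' = 0) : P.B v' v = 0 := P.B_eq_zero_comm.1 e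

theorem conj (v v' : V) : σ (P.B v v') = P.B v' v := C.conj v v'

theorem tok {e a : V} {c : K} : TOk P e a c ↔ P.B e e = 0 ∧ P.B e a = 0 ∧ c + σ c = P.B a a := tok_iff h.herm

theorem tok0 {e : V} {s : K} (he : P.B e e = 0) (hs : σ s = s) : TOk P e 0 s := 
  h.tok.2 ⟨he, by simp, by rw [hs, h.add_self]; simp⟩

theorem tok1 {e a : V} {s : K} (he : P.B e e = 0) (ha : P.B a a = 0) (hea : P.B e a = 0)
    (hs : σ s = s) : TOk P e a s := 
  h.tok.2 ⟨he, hea, by rw [hs, h.add_self, ha]⟩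

theorem exists_tok {e a : V} (he : P.B e e = 0) (hea : P.B e a = 0) : ∃ c, TOk P e a c := 
  ⟨_, TOk.self (h.sing.2 he) hea⟩

theorem hp_iff {e f : V} : HP P e f ↔ P.B e e = 0 ∧ P.B f f = 0 ∧ P.B e f = 1 := 
  ⟨fun k => ⟨k.se.self_eq, k.sf.self_eq, k.ef⟩, fun k =>
    ⟨h.sing.2 k.1, h.sing.2 k.2.1, k.2.2, by rw [← h.conj, k.2.2, map_one]⟩⟩

theorem T_app {e a : V} {c : K} (k : TOk P e a c) (v : V) :
    C.act (C.T e a c) v = v + (P.B a v + σ c * P.B e v) • e + P.B e v • a := by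
  rw [C.T_apply k, tfun, h.vsub_eq, h.sub_eq]

theorem T_symm {e a : V} (he : P.B e e = 0) (ha : P.B a a = 0) (hea : P.B e a = 0) :
    C.T e a 0 = C.T a e 0 := by
  refine C.ext fun v => ?_
  rw [h.T_app (h.tok1 he ha hea (map_zero σ)), h.T_app (h.tok1 ha he (h.B_comm hea) (map_zero σ))]
  simp only [map_zero, zero_mul, add_zero]
  abel

theorem T_shift {e a : V} {c : K} (k : TOk P e a c) (l : K) :
    TOk P e (a + l • e) c ∧ TOk P e a (c + l + σ l) ∧ C.T e (a + l • e) c = C.T e a (c + l + σ l) := by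
  obtain ⟨k1, k2, k3⟩ := h.tok.1 k
  have a1 : TOk P e (a + l • e) c := h.tok.2 ⟨k1, by simp [k1, k2], by simp [k1, k2, h.B_comm k2, k3]⟩
  have a2 : TOk P e a (c + l + σ l) := h.tok.2 ⟨k1, k2, by
    rw [map_add, map_add, h.σσ, ← k3]; linear_combination (l + σ l) * h.two⟩
  refine ⟨a1, a2, C.ext fun v => ?_⟩
  rw [h.T_app a1, h.T_app a2]
  simp only [map_add, h.σσ, LinearMap.add_apply, P.B_smul_left]
  module

theorem T_line {e a : V} {s : K} (he : P.B e e = 0) (ha : P.B a a = 0) (hea : P.B e a = 0)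
    (hs : σ s = s) (l : K) :
    C.T (a + l • e) 0 s = C.T a 0 s * C.T e 0 (σ l * l * s) * C.T e ((σ l * s) • a) 0 := by
  have hae := h.B_comm hea
  have a1 : P.B (a + l • e) (a + l • e) = 0 := by simp [he, ha, hea, hae]
  have a2 : σ (σ l * l * s) = σ l * l * s := by rw [map_mul, map_mul, h.σσ, hs]; ring
  refine C.ext fun v => ?_
  rw [C.mul_apply, C.mul_apply, h.T_app (h.tok0 a1 hs), h.T_app (h.tok0 ha hs),
    h.T_app (h.tok0 he a2), h.T_app (h.tok1 (a := (σ l * s) • a) he (by simp [ha]) (by simp [hea])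
      (map_zero σ))]
  simp only [map_add, map_smul, map_zero, LinearMap.add_apply, P.B_smul_left, he, ha, hea, hae, hs,
    a2, smul_eq_mul, LinearMap.zero_apply, map_mul, h.σσ]
  module

theorem T_eq_one {e a : V} {c : K} (k : TOk P e a c) (he : e ≠ 0) :
    C.T e a c = 1 ↔ ∃ l, a = l • e ∧ c = l + σ l := by
  obtain ⟨k1, k2, k3⟩ := h.tok.1 k
  constructor
  · intro e1
    obtain ⟨f, -, hf⟩ := C.exists_HP (S := ⊥) disjoint_bot_left k.sing he (by simp [P.perp_bot])
    have a1 := h.T_app k f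
    rw [e1, C.one_apply, hf.ef, mul_one, one_smul, add_assoc, left_eq_add] at a1
    have a2 := (h.veq_of_add a1).symm
    refine ⟨_, a2, ?_⟩
    have a3 := congrArg (fun v => P.B f v) a2
    simp only [map_smul, hf.fe, smul_eq_mul, mul_one] at a3
    rw [map_add, h.conj, h.σσ, a3]
    linear_combination (-P.B a f - σ c) * h.two - k3 + (P.B a a) * h.two + (h.tok.1 k).2.2 -
      (P.B a a) * h.two
  · rintro ⟨l, rfl, rfl⟩
    refine C.ext fun v => ?_
    rw [h.T_app k, C.one_apply, P.B_smul_left, map_add, h.σσ]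
    match_scalars
    · rfl
    · linear_combination (σ l * P.B e v + l * P.B e v) * h.two

theorem small_iff : Small σ ↔ Nat.card (Fx σ) = 2 := by
  rw [Nat.card_eq_two_iff' (0 : Fx σ)]
  constructor
  · intro hs
    refine ⟨1, one_ne_zero, fun y hy => Subtype.ext ?_⟩
    exact (hs y.1 y.2).resolve_left fun e => hy (Subtype.ext e)
  · rintro ⟨y, -, hy⟩ c hc
    by_cases c0 : c = 0
    · exact Or.inl c0
    · exact Or.inr (congrArg Subtype.val ((hy ⟨c, hc⟩ fun e => c0 (congrArg Subtype.val e)).trans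
        (hy 1 one_ne_zero).symm))

theorem big_iff : ¬ Small σ ↔ 2 < Nat.card (Fx σ) := by
  rw [h.small_iff]
  have := Finite.one_lt_card (α := Fx σ)
  omega

theorem exists_big (hs : ¬ Small σ) : ∃ c, σ c = c ∧ c ≠ 0 ∧ c ≠ 1 := by
  by_contra H
  refine hs fun c hc => ?_
  by_contra H'
  exact H ⟨c, hc, fun e => H' (Or.inl e), fun e => H' (Or.inr e)⟩

theorem exists_tr {c : K} (hc : σ c = c) : ∃ d, d + σ d = c := by
  obtain ⟨θ, hθ⟩ := h.herm.exists_trace_one
  exact ⟨c * θ, by rw [map_mul, hc, ← mul_add, hθ, mul_one]⟩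

theorem card_K : Nat.card K = Nat.card (Fx σ) ^ 2 := by
  let τ : K →+ K := AddMonoidHom.id K + σ.toAddMonoidHom
  have hτ : ∀ c, τ c = c + σ c := fun _ => rfl
  have e1 : τ.ker = (Fx σ).toAddSubgroup := by
    ext c
    rw [AddMonoidHom.mem_ker, hτ]
    exact ⟨fun e => (h.eq_of_add e).symm, fun e => by
      rw [show σ c = c from e, h.add_self]⟩
  have e2 : τ.range = (Fx σ).toAddSubgroup := by
    ext c
    constructor
    · rintro ⟨d, rfl⟩
      show σ (τ d) = τ d
      rw [hτ, map_add, h.σσ, add_comm]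
    · intro e
      exact h.exists_tr e
  have e3 := AddSubgroup.card_mul_index τ.ker
  rw [AddSubgroup.index_ker, e1, e2] at e3
  rw [← e3, sq]
  rfl

theorem sq_inj {c d : K} (e : c * c = d * d) : c = d :=
  h.eq_of_add (mul_self_eq_zero.1 (by linear_combination e + (d * d + c * d) * h.two))

theorem exists_sqrt (c : K) : ∃ d, d * d = c ∧ (σ c = c → σ d = d) ∧ (σ c * c = 1 → σ d * d = 1) := by
  have : CharP K 2 := CharTwo.of_one_ne_zero_of_two_eq_zero one_ne_zero h.two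
  obtain ⟨d, rfl⟩ := isSquare_of_charTwo' c
  refine ⟨d, rfl, fun e => h.sq_inj (by rw [← map_mul, e]), fun e => h.sq_inj ?_⟩
  rw [map_mul] at e
  linear_combination e

theorem eq_one_of_sq {c : K} (e : c * c = 1) : c = 1 := h.sq_inj (by rw [e, mul_one])

/-- `σ` as an automorphism -/
def sig : RingAut K := RingEquiv.ofRingHom σ σ (RingHom.ext h.σσ) (RingHom.ext h.σσ)

theorem sig_apply (c : K) : h.sig c = σ c := rfl

theorem sig_sq : h.sig * h.sig = 1 := RingEquiv.ext h.σσ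

theorem sig_ne : h.sig ≠ 1 := fun e => h.herm.σ_ne (RingHom.ext fun c => by
  rw [← h.sig_apply, e]; rfl)

theorem aut_sq {α : RingAut K} (e : α * α = 1) : α = 1 ∨ ∀ c, α c = σ c := by
  classical
  have := HX.HA.cyc_ringAut (K := K)
  have : Finite (RingAut K) := Finite.of_injective (fun α : RingAut K => (α : K → K))
    DFunLike.coe_injective
  let _ := Fintype.ofFinite (RingAut K)
  by_contra H
  rw [not_or] at H
  have a1 : α ≠ h.sig := fun e => H.2 fun c => by rw [e]; rfl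
  have a2 := IsCyclic.card_pow_eq_one_le (α := RingAut K) (n := 2) two_pos
  have a3 : ({1, h.sig, α} : Finset (RingAut K)) ⊆ Finset.univ.filter fun a => a ^ 2 = 1 := by
    intro x hx
    simp only [Finset.mem_insert, Finset.mem_singleton] at hx
    rcases hx with rfl | rfl | rfl <;> simp [sq, h.sig_sq, e]
  have a4 := Finset.card_le_card a3
  rw [Finset.card_eq_three.2 ⟨_, _, _, h.sig_ne.symm, Ne.symm H.1, a1.symm, rfl⟩] at a4
  omega

theorem aut_cyc : IsCyclic (RingAut K) := HX.HA.cyc_ringAut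

theorem aut_comm (α : RingAut K) (c : K) : α (σ c) = σ (α c) := by
  have := h.aut_cyc
  have e : α * h.sig = h.sig * α := IsCyclic.isMulCommutative.is_comm.comm α h.sig
  exact congrArg (fun β : RingAut K => β c) e

theorem aut_fix {α : RingAut K} (e : ∀ c, σ c = c → α c = c) : α = 1 ∨ ∀ c, α c = σ c := by
  obtain ⟨θ, hθ⟩ := h.herm.exists_trace_one
  have a1 : ∀ c, ∃ a b, σ a = a ∧ σ b = b ∧ c = a + b * θ := fun c =>
    ⟨c + (c + σ c) * θ, c + σ c, by
      simp only [map_add, map_mul, h.σσ]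
      linear_combination (c + σ c) * hθ - (c * θ + σ c * θ - σ c) * h.two, by
      rw [map_add, h.σσ, add_comm], by linear_combination (-(c + σ c) * θ) * h.two⟩
  have a2 : α (θ * σ θ) = θ * σ θ := e _ (by rw [map_mul, h.σσ, mul_comm])
  have a3 : σ θ = 1 - θ := by linear_combination hθ
  rw [a3, map_mul, map_sub, map_one] at a2
  have a4 : (α θ - θ) * (α θ - σ θ) = 0 := by rw [a3]; linear_combination -a2
  rcases mul_eq_zero.1 a4 with a5 | a5
  · refine Or.inl (RingEquiv.ext fun c => ?_)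
    obtain ⟨a, b, ha, hb, rfl⟩ := a1 c
    rw [map_add, map_mul, e a ha, e b hb, sub_eq_zero.1 a5]; rfl
  · refine Or.inr fun c => ?_
    obtain ⟨a, b, ha, hb, rfl⟩ := a1 c
    rw [map_add, map_mul, e a ha, e b hb, sub_eq_zero.1 a5, map_add, map_mul, ha, hb]

theorem exists_hp {e : V} (h0 : e ≠ 0) (he : P.B e e = 0) : ∃ f, HP P e f := by
  obtain ⟨f, -, hf⟩ := C.exists_HP (S := ⊥) disjoint_bot_left (h.sing.2 he) h0 (by simp [P.perp_bot])
  exact ⟨f, hf⟩

/-- a subspace of dimension two contains an isotropic vector -/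
theorem exists_iso {U : Submodule K V} (h2 : 2 ≤ finrank K U) : ∃ x ∈ U, x ≠ 0 ∧ P.B x x = 0 := by
  obtain ⟨u, hu, u0⟩ := Submodule.exists_mem_ne_zero_of_ne_bot (p := U) (by
    rintro rfl; simp at h2)
  by_cases h1 : P.B u u = 0
  · exact ⟨u, hu, u0, h1⟩
  obtain ⟨v, hv, v0⟩ : ∃ v ∈ U, v ∉ span K {u} := by
    by_contra H
    have := Submodule.finrank_mono (show U ≤ span K {u} from fun v hv => by
      by_contra H'; exact H ⟨v, hv, H'⟩)
    rw [finrank_span_singleton u0] at this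
    omega
  obtain ⟨w, hw⟩ : ∃ w, w = v - (P.B u v / P.B u u) • u := ⟨_, rfl⟩
  have hwU : w ∈ U := hw ▸ U.sub_mem hv (U.smul_mem _ hu)
  have huw : P.B u w = 0 := by simp [hw, h1]
  by_cases h3 : P.B w w = 0
  · refine ⟨w, hwU, fun h0 => v0 ?_, h3⟩
    rw [h0] at hw
    exact Submodule.mem_span_singleton.2 ⟨_, (sub_eq_zero.1 hw.symm).symm⟩
  obtain ⟨μ, hμ⟩ := h.herm.norm_surj (-P.B u u / P.B w w) (by
    rw [map_div₀, map_neg, h.conj, h.conj])
  refine ⟨u + μ • w, U.add_mem hu (U.smul_mem _ hwU), fun h0 => ?_, ?_⟩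
  · have := congrArg (P.B u) h0
    simp [huw, h1] at this
  · simp only [P.B_add_left, P.B_add_right, P.B_smul_left, P.B_smul_right, huw, h.B_comm huw]
    rw [← mul_assoc, hμ]
    field_simp
    ring

theorem exists_hp_perp {U : Submodule K V} (hU : Disjoint U (P.perp U))
    (hd : finrank K U + 2 ≤ finrank K V) : ∃ e ∈ P.perp U, ∃ f ∈ P.perp U, HP P e f := by
  have := P.finrank_perp C.nondeg U
  obtain ⟨e, he, e0, ee⟩ := h.exists_iso (U := P.perp U) (by omega)
  obtain ⟨f, hf, k⟩ := C.exists_HP hU (h.sing.2 ee) e0 he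
  exact ⟨e, he, f, hf, k⟩

theorem hp_disj {e f : V} (hf : HP P e f) : Disjoint (span K {e, f}) (P.perp (span K {e, f})) :=
  P.disjoint_perp_pair hf.se.self_eq hf.sf.self_eq hf.fe

theorem hp_rank {e f : V} (hf : HP P e f) : finrank K (span K {e, f}) = 2 :=
  P.finrank_span_pair hf.se.self_eq hf.fe

theorem hp_ne {e f : V} (hf : HP P e f) : e ≠ 0 := by
  rintro rfl
  simpa using hf.ef

theorem hp_decomp {e f : V} (hf : HP P e f) (v : V) :
    ∃ w, P.B e w = 0 ∧ P.B f w = 0 ∧ v = w + P.B f v • e + P.B e v • f :=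
  ⟨v - P.B f v • e - P.B e v • f, by simp [hf.ef, hf.se.self_eq], by simp [hf.fe, hf.sf.self_eq],
    by abel⟩

theorem hh_decomp {e f e' f' : V} (k : HH P e f e' f') (v : V) :
    ∃ w, P.B e w = 0 ∧ P.B f w = 0 ∧ P.B e' w = 0 ∧ P.B f' w = 0 ∧
      v = w + P.B f v • e + P.B e v • f + P.B f' v • e' + P.B e' v • f' :=
  ⟨v - P.B f v • e - P.B e v • f - P.B f' v • e' - P.B e' v • f',
    by simp [k.h₁.ef, k.h₁.se.self_eq, k.ee, k.ef], by simp [k.h₁.fe, k.h₁.sf.self_eq, k.fe, k.ff],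
    by simp [k.h₂.ef, k.h₂.se.self_eq, h.B_comm k.ee, h.B_comm k.fe],
    by simp [k.h₂.fe, k.h₂.sf.self_eq, h.B_comm k.ef, h.B_comm k.ff], by abel⟩

theorem exists_hh {e f : V} (hf : HP P e f) : ∃ e' f', HH P e f e' f' := by
  obtain ⟨e', he, f', hf', k⟩ := h.exists_hp_perp (h.hp_disj hf) (by rw [h.hp_rank hf]; exact h.d4)
  rw [CG.mem_perp_pair] at he hf'
  exact ⟨e', f', hf, k, he.1, hf'.1, he.2, hf'.2⟩

/-- hyperbolic partners of an independent totally isotropic family -/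
theorem exists_partners {ι : Type} [DecidableEq ι] {v : ι → V} (hv : LinearIndependent K v)
    (h0 : ∀ i j, P.B (v i) (v j) = 0) :
    ∃ f : ι → V, (∀ i j, P.B (f i) (f j) = 0) ∧ ∀ i j, P.B (v i) (f j) = if i = j then 1 else 0 := by
  have : Finite ι := hv.finite
  let _ := Fintype.ofFinite ι
  obtain ⟨f, -, a1, a2, -⟩ := P.exists_hyperbolic_family C.nondeg v hv (P.ts_span
    (by rintro _ ⟨i, rfl⟩; exact h.sing.2 (h0 i i)) (by rintro _ ⟨i, rfl⟩ _ ⟨j, rfl⟩; exact h0 i j))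
    ⊥ disjoint_bot_right (by simp)
  refine ⟨f, a1, fun i j => ?_⟩
  rw [← h.conj, a2]
  by_cases e : i = j
  · simp [e]
  · simp [e, Ne.symm e]

omit h [Finite K] [FiniteDimensional K V] in
theorem li_pair {e e' : V} (h0 : e ≠ 0) (h1 : e' ∉ span K {e}) : LinearIndependent K ![e, e'] :=
  (LinearIndependent.pair_iff' h0).2 fun a ha => h1 (Submodule.mem_span_singleton.2 ⟨a, ha⟩)

theorem exists_hh' {e e' : V} (he : P.B e e = 0) (he' : P.B e' e' = 0) (hee : P.B e e' = 0)
    (h0 : e ≠ 0) (h1 : e' ∉ span K {e}) : ∃ f f', HH P e f e' f' := by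
  obtain ⟨f, a1, a2⟩ := h.exists_partners (li_pair h0 h1) (by
    intro i j; fin_cases i <;> fin_cases j <;> simp [he, he', hee, h.B_comm hee])
  exact ⟨f 0, f 1, h.hp_iff.2 ⟨he, a1 0 0, by simpa using a2 0 0⟩,
    h.hp_iff.2 ⟨he', a1 1 1, by simpa using a2 1 1⟩, hee, by simpa using a2 0 1,
    h.B_comm (by simpa using a2 1 0), a1 0 1⟩

theorem witt0 {ι : Type} {v v' : ι → V} (hv : LinearIndependent K v) (hv' : LinearIndependent K v')
    (hB : ∀ i j, P.B (v' i) (v' j) = P.B (v i) (v j)) :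
    ∃ g : V ≃ₗ[K] V, P.IsIso g ∧ ∀ i, g (v i) = v' i :=
  P.witt_family C.nondeg v v' hv hv' hB fun i => (h.herm.N_sub_iff _ _).2 (hB i i)

theorem exists_comp {g : V ≃ₗ[K] V} (hg : P.IsIso g) {r : V →ₗ[K] V} (hr : P.IsIso r)
    (hd : LinearMap.det g.toLinearMap * LinearMap.det r = 1) : ∃ s, ∀ v, C.act s v = g (r v) :=
  h.full (g.toLinearMap ∘ₗ r) (hg.comp hr) (by rw [LinearMap.det_comp, hd])

theorem witt {ι : Type} {v v' : ι → V} (hv : LinearIndependent K v) (hv' : LinearIndependent K v')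
    (hB : ∀ i j, P.B (v' i) (v' j) = P.B (v i) (v j)) {a : V} (ha : P.B a a ≠ 0)
    (ha' : ∀ i, P.B (v i) a = 0) : ∃ s, ∀ i, C.act s (v i) = v' i := by
  obtain ⟨g, hg, a1⟩ := h.witt0 hv hv' hB
  have a2 := Unitary.conj_det_mul_det C.nondeg hg
  obtain ⟨δ, hδ⟩ : ∃ δ, δ = LinearMap.det g.toLinearMap := ⟨_, rfl⟩
  rw [← hδ] at a2
  obtain ⟨s, hs⟩ := h.exists_comp hg (h.herm.qrefl_isIso a ((σ δ - 1) / P.B a a) (by
    rw [map_div₀, map_sub, h.σσ, map_one, h.conj]
    field_simp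
    linear_combination a2)) (by
    rw [P.det_qrefl, ← hδ, div_mul_cancel₀ _ ha]
    linear_combination a2)
  exact ⟨s, fun i => by rw [hs, P.qrefl_apply, h.B_comm (ha' i), mul_zero, zero_smul, add_zero, a1]⟩

theorem witt' {ι : Type} {v v' : ι → V} (hv : LinearIndependent K v) (hv' : LinearIndependent K v')
    (hB : ∀ i j, P.B (v' i) (v' j) = P.B (v i) (v j)) (i₀ : ι) (h0 : ∀ i, P.B (v i₀) (v i) = 0) :
    ∃ s μ, σ μ * μ = 1 ∧ C.act s (v i₀) = μ • v' i₀ ∧ ∀ i, i ≠ i₀ → C.act s (v i) = v' i := by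
  obtain ⟨g, hg, a1⟩ := h.witt0 hv hv' hB
  have a2 := Unitary.conj_det_mul_det C.nondeg hg
  obtain ⟨δ, hδ⟩ : ∃ δ, δ = LinearMap.det g.toLinearMap := ⟨_, rfl⟩
  rw [← hδ] at a2
  obtain ⟨μ, m1, -, m2⟩ := h.exists_sqrt (σ δ)
  have m3 := m2 (by rw [h.σσ, mul_comm, a2])
  obtain ⟨y, y1, y2, y3⟩ := P.exists_partner C.nondeg (span K (v '' {i | i ≠ i₀}))
    (h.sing.2 (h0 i₀)) (hv.notMem_span_image (by simp)) (fun w hw =>
      P.mem_perp'.1 (P.le_perp_comm.1 (show span K (v '' {i | i ≠ i₀}) ≤ P.perp (span K {v i₀}) from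
        Submodule.span_le.2 (by rintro _ ⟨i, -, rfl⟩; exact P.mem_perp_span_singleton.2 (h0 i)))
        (Submodule.mem_span_singleton_self _)) w hw)
  have μ0 := ne_zero_of_norm m3
  obtain ⟨s, hs⟩ := h.exists_comp hg (P.dil_isIso (h.sing.2 (h0 i₀)) y1 y2 μ0) (by
    rw [P.det_dil y1 y2, ← hδ, ← eq_inv_of_mul_eq_one_right m3, m1, mul_comm, a2])
  refine ⟨s, μ, m3, ?_, fun i hi => ?_⟩
  · rw [hs, P.dil_apply, y2, h0, ← a1, ← map_smul]
    congr 1
    module
  · rw [hs, P.dil_apply, y3 _ (Submodule.subset_span ⟨i, hi, rfl⟩), h0, ← a1]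
    simp

theorem trans_hp {e f e' f' : V} (h1 : HP P e f) (h2 : HP P e' f') :
    ∃ s, C.act s e = e' ∧ C.act s f = f' := by
  obtain ⟨a, ha, a1, -⟩ := exists_unit_Wp (C := C) h.herm h1 [] 0 (by simp) (by simp)
    (Or.inr ⟨rfl, by have := h.d4; simp; omega⟩)
  rw [CG.mem_perp_pair] at ha
  obtain ⟨s, hs⟩ := h.witt (P.linearIndependent_pair h1.se.self_eq h1.fe)
    (P.linearIndependent_pair h2.se.self_eq h2.fe) (by
      intro i j; fin_cases i <;> fin_cases j <;>
        simp [h1.se.self_eq, h1.sf.self_eq, h1.ef, h1.fe, h2.se.self_eq, h2.sf.self_eq, h2.ef, h2.fe])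
    (a := a) (by rw [a1]; exact one_ne_zero) (by intro i; fin_cases i <;> simp [ha.1, ha.2])
  exact ⟨s, hs 0, hs 1⟩

theorem trans {e e' : V} (h0 : e ≠ 0) (he : P.B e e = 0) (h0' : e' ≠ 0) (he' : P.B e' e' = 0) :
    ∃ s, C.act s e = e' := by
  obtain ⟨f, hf⟩ := h.exists_hp h0 he
  obtain ⟨f', hf'⟩ := h.exists_hp h0' he'
  obtain ⟨s, hs, -⟩ := h.trans_hp hf hf'
  exact ⟨s, hs⟩

/-- the stabiliser of a point is transitive on the lines through it -/
theorem trans_line {e a a' : V} (h0 : e ≠ 0) (he : P.B e e = 0) (ha : P.B a a = 0)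
    (ha' : P.B a' a' = 0) (hea : P.B e a = 0) (hea' : P.B e a' = 0) (h1 : a ∉ span K {e})
    (h1' : a' ∉ span K {e}) :
    ∃ s μ, σ μ * μ = 1 ∧ C.act s e = e ∧ C.act s a = μ • a' := by
  obtain ⟨s, μ, m, a1, a2⟩ := h.witt' (li_pair h0 h1) (li_pair h0 h1') (by
    intro i j; fin_cases i <;> fin_cases j <;>
      simp [he, ha, ha', hea, hea', h.B_comm hea, h.B_comm hea']) 1 (by
    intro i; fin_cases i <;> simp [ha, h.B_comm hea])
  exact ⟨s, μ, m, a2 0 (by simp), a1⟩

theorem odd_card : Odd (Nat.card K - 1) := by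
  have a1 : addOrderOf (1 : K) = 2 := addOrderOf_eq_prime (by rw [two_nsmul, h.add_self]) one_ne_zero
  have a2 := addOrderOf_dvd_natCard (1 : K)
  rw [a1] at a2
  exact Nat.Even.sub_odd Nat.card_pos (even_iff_two_dvd.2 a2) odd_one

/-- a diagonalisable element has odd order -/
theorem odd_of_diag {s : S} (H : ∀ v, v ∈ span K {w | ∃ l : K, C.act s w = l • w}) :
    Odd (orderOf s) := by
  refine h.odd_card.of_dvd_nat (orderOf_dvd_of_pow_eq_one (C.ext fun v => ?_))
  rw [C.one_apply]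
  refine Submodule.span_induction (p := fun v _ => C.act (s ^ (Nat.card K - 1)) v = v) ?_ (map_zero _)
    (fun x y _ _ a b => by rw [map_add, a, b]) (fun c x _ a => by rw [map_smul, a]) (H v)
  rintro w ⟨l, hl⟩
  have a1 : ∀ n : ℕ, C.act (s ^ n) w = l ^ n • w := fun n => by
    induction n with
    | zero => simp
    | succ n ih => rw [pow_succ, C.mul_apply, hl, map_smul, ih, smul_smul, pow_succ']
  by_cases l0 : l = 0
  · rw [l0, zero_smul, LinearEquiv.map_eq_zero_iff] at hl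
    rw [hl, map_zero]
  · let _ := Fintype.ofFinite K
    rw [a1, Nat.card_eq_fintype_card, FiniteField.pow_card_sub_one_eq_one l l0, one_smul]

theorem exists_diag {e f e' f' : V} (k : HH P e f e' f') {l l' : K} (h0 : l ≠ 0) (h0' : l' ≠ 0)
    (hl : σ (l * l') = l * l') : ∃ s, Odd (orderOf s) ∧ C.act s e = l • e ∧
      C.act s f = (σ l)⁻¹ • f ∧ C.act s e' = l' • e' ∧ C.act s f' = (σ l')⁻¹ • f' ∧
      ∀ v, P.B e v = 0 → P.B f v = 0 → P.B e' v = 0 → P.B f' v = 0 → C.act s v = v := by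
  have d1 := P.dil_isIso k.h₁.se k.h₁.sf k.h₁.fe h0
  have d2 := P.dil_isIso k.h₂.se k.h₂.sf k.h₂.fe h0'
  have s0 := (map_ne_zero σ).2 h0
  have s0' := (map_ne_zero σ).2 h0'
  obtain ⟨s, hs⟩ := h.full (P.dil e f l ∘ₗ P.dil e' f' l') (d1.comp d2) (by
    rw [LinearMap.det_comp, P.det_dil k.h₁.sf k.h₁.fe, P.det_dil k.h₂.sf k.h₂.fe]
    rw [map_mul] at hl
    field_simp
    exact hl.symm)
  simp only [LinearMap.comp_apply, P.dil_apply, C.ε1, mul_one, map_add, map_smul] at hs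
  have a1 : C.act s e = l • e := by
    rw [hs]
    simp only [k.h₁.fe, k.h₁.se.self_eq, h.B_comm k.ee, h.B_comm k.ef, k.ee, k.ef, k.fe, k.ff]
    module
  have a2 : C.act s f = (σ l)⁻¹ • f := by
    rw [hs]
    simp only [k.h₁.ef, k.h₁.sf.self_eq, h.B_comm k.fe, h.B_comm k.ff, k.ee, k.ef, k.fe, k.ff]
    module
  have a3 : C.act s e' = l' • e' := by
    rw [hs]
    simp only [k.h₂.fe, k.h₂.se.self_eq, k.ee, k.ef, k.fe, k.ff]
    module
  have a4 : C.act s f' = (σ l')⁻¹ • f' := by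
    rw [hs]
    simp only [k.h₂.ef, k.h₂.sf.self_eq, k.ee, k.ef, k.fe, k.ff]
    module
  have a5 : ∀ v, P.B e v = 0 → P.B f v = 0 → P.B e' v = 0 → P.B f' v = 0 → C.act s v = v :=
    fun v b1 b2 b3 b4 => by rw [hs]; simp [b1, b2, b3, b4]
  refine ⟨s, h.odd_of_diag fun v => ?_, a1, a2, a3, a4, a5⟩
  obtain ⟨w, b1, b2, b3, b4, b5⟩ := h.hh_decomp k v
  rw [b5]
  refine add_mem (add_mem (add_mem (add_mem ?_ ?_) ?_) ?_) ?_
  · exact Submodule.subset_span ⟨1, by rw [a5 w b1 b2 b3 b4, one_smul]⟩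
  exacts [Submodule.smul_mem _ _ (Submodule.subset_span ⟨_, a1⟩),
    Submodule.smul_mem _ _ (Submodule.subset_span ⟨_, a2⟩),
    Submodule.smul_mem _ _ (Submodule.subset_span ⟨_, a3⟩),
    Submodule.smul_mem _ _ (Submodule.subset_span ⟨_, a4⟩)]

theorem exists_diag1 {e f : V} (k : HP P e f) {l : K} (h0 : l ≠ 0) (hl : σ l = l) :
    ∃ s, Odd (orderOf s) ∧ C.act s e = l • e ∧ C.act s f = l⁻¹ • f ∧
      ∀ v, P.B e v = 0 → P.B f v = 0 → C.act s v = v := by
  obtain ⟨e', f', k'⟩ := h.exists_hh k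
  obtain ⟨s, a0, a1, a2, a3, a4, a5⟩ := h.exists_diag k' h0 one_ne_zero (by rw [mul_one, hl])
  refine ⟨s, a0, a1, by rw [a2, hl], fun v b1 b2 => ?_⟩
  obtain ⟨w, c1, c2, c3, c4, c5⟩ := h.hh_decomp k' v
  rw [b1, b2, zero_smul, zero_smul, add_zero, add_zero] at c5
  rw [map_one, inv_one, one_smul] at a4
  rw [one_smul] at a3
  conv_lhs => rw [c5]
  rw [map_add, map_add, map_smul, map_smul, a3, a4, a5 w c1 c2 c3 c4, ← c5]

omit h [Finite K] [FiniteDimensional K V] in
theorem _root_.CfsgLib.U5.HH.symm {e f e' f' : V} (k : HH P e f e' f') : HH P e' f' e f :=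
  ⟨k.h₂, k.h₁, P.B_eq_zero_comm.1 k.ee, P.B_eq_zero_comm.1 k.fe, P.B_eq_zero_comm.1 k.ef,
    P.B_eq_zero_comm.1 k.ff⟩

theorem tok_N {e f e' f' : V} (k : HH P e f e' f') (l : K) : TOk P e (l • f') 0 :=
  h.tok1 k.h₁.se.self_eq (by simp [k.h₂.sf.self_eq]) (by simp [k.ef]) (map_zero σ)

theorem N_app {e f e' f' : V} (k : HH P e f e' f') (l : K) (v : V) :
    C.act (C.T e (l • f') 0) v = v + (σ l * P.B f' v) • e + (P.B e v * l) • f' := by
  rw [h.T_app (h.tok_N k l), map_zero, zero_mul, add_zero, P.B_smul_left, smul_smul]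

theorem swap_app {e f e' f' : V} (k : HH P e f e' f') (v : V) :
    C.act (C.T e ((1 : K) • f') 0 * C.T e' ((1 : K) • f) 0 * C.T e ((1 : K) • f') 0) v =
      v + (P.B f v + P.B f' v) • (e + e') + (P.B e v + P.B e' v) • (f + f') := by
  simp only [C.mul_apply, h.N_app k, h.N_app k.symm, map_add, map_smul, map_one, one_mul, mul_one,
    smul_eq_mul, k.h₁.fe, k.h₁.ef, k.h₂.fe, k.h₂.ef, k.ee, k.ef, k.fe, k.ff, k.symm.ee, k.symm.ef,
    k.symm.fe, k.symm.ff, k.h₁.se.self_eq, k.h₂.se.self_eq, k.h₁.sf.self_eq, k.h₂.sf.self_eq]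
  match_scalars
  · rfl
  · linear_combination (P.B f' v) * h.two
  · linear_combination (P.B e v) * h.two
  · ring
  · ring

theorem exists_swap {e f e' f' : V} (k : HH P e f e' f') : ∃ j, C.act j e = e' ∧ C.act j e' = e ∧
    C.act j f = f' ∧ C.act j f' = f ∧
      ∀ v, P.B e v = 0 → P.B f v = 0 → P.B e' v = 0 → P.B f' v = 0 → C.act j v = v := by
  refine ⟨C.T e ((1 : K) • f') 0 * C.T e' ((1 : K) • f) 0 * C.T e ((1 : K) • f') 0, ?_, ?_, ?_, ?_,
    fun v a1 a2 a3 a4 => ?_⟩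
  rotate_right
  · rw [h.swap_app k, a1, a2, a3, a4]; simp
  all_goals
    simp only [h.swap_app k, k.h₁.fe, k.h₁.ef, k.h₂.fe, k.h₂.ef, k.ee, k.ef, k.fe, k.ff, k.symm.ee,
      k.symm.ef, k.symm.fe, k.symm.ff, k.h₁.se.self_eq, k.h₂.se.self_eq, k.h₁.sf.self_eq,
      k.h₂.sf.self_eq]
    match_scalars
    · linear_combination h.two
    · ring
    · ring
    · ring

theorem z_app {e : V} {s : K} (he : P.B e e = 0) (hs : σ s = s) (v : V) :
    C.act (C.T e 0 s) v = v + (s * P.B e v) • e := by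
  rw [h.T_app (h.tok0 he hs), hs]; simp

theorem exists_swap1 {e f : V} (k : HP P e f) : ∃ j, C.act j e = f ∧ C.act j f = e ∧
    ∀ v, P.B e v = 0 → P.B f v = 0 → C.act j v = v := by
  have a : ∀ v, C.act (C.T e 0 1 * C.T f 0 1 * C.T e 0 1) v = v + (P.B e v + P.B f v) • (e + f) :=
    fun v => by
      simp only [C.mul_apply, h.z_app k.se.self_eq (map_one σ), h.z_app k.sf.self_eq (map_one σ),
        map_add, map_smul, one_mul, smul_eq_mul, k.ef, k.fe, k.se.self_eq, k.sf.self_eq]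
      match_scalars
      · rfl
      · linear_combination (P.B e v) * h.two
      · ring
  refine ⟨C.T e 0 1 * C.T f 0 1 * C.T e 0 1, ?_, ?_, fun v a1 a2 => by rw [a, a1, a2]; simp⟩
  · rw [a, k.fe, k.se.self_eq, zero_add, one_smul, ← add_assoc, h.vadd_self, zero_add]
  · rw [a, k.ef, k.sf.self_eq, add_zero, one_smul, add_comm e, ← add_assoc, h.vadd_self, zero_add]

theorem exists_hp_ti {U : Submodule K V} (hd : 2 * finrank K U + 2 ≤ finrank K V) :
    ∃ a ∈ P.perp U, a ∉ U ∧ P.B a a = 0 := by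
  obtain ⟨U', hU'⟩ := U.exists_isCompl
  have a1 := P.finrank_perp C.nondeg U
  have a2 := Submodule.finrank_add_eq_of_isCompl hU'
  have a3 := Submodule.finrank_sup_add_finrank_inf_eq U' (P.perp U)
  have a4 := Submodule.finrank_le (U' ⊔ P.perp U)
  obtain ⟨a, ha, a0, aa⟩ := h.exists_iso (U := U' ⊓ P.perp U) (by omega)
  exact ⟨a, ha.2, fun e => a0 (Submodule.disjoint_def.1 hU'.disjoint a e ha.1), aa⟩

theorem iso_span {U : Submodule K V} (hU : TI P U) (hd : finrank K V ≠ 2 * finrank K U + 1) {v : V}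
    (hv : v ∈ P.perp U) : v ∈ AddSubgroup.closure {a | a ∈ P.perp U ∧ P.B a a = 0} := by
  have a1 := P.finrank_perp C.nondeg U
  have a2 := Submodule.finrank_mono hU
  by_cases hd' : finrank K V = 2 * finrank K U
  · have e := Submodule.eq_of_le_of_finrank_eq hU (by omega)
    exact AddSubgroup.subset_closure ⟨hv, P.mem_perp.1 hv v (by rw [e]; exact hv)⟩
  obtain ⟨a, ha, a0, aa⟩ := h.exists_hp_ti (U := U) (by omega)
  obtain ⟨b, b1, b2, b3⟩ := P.exists_partner C.nondeg U (h.sing.2 aa) a0 (P.mem_perp'.1 ha)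
  have hb := P.mem_perp'.2 b3
  have k : HP P a b := ⟨h.sing.2 aa, b1, by rw [← h.conj, b2, map_one], b2⟩
  obtain ⟨w, w1, w2, w3⟩ := h.hp_decomp k v
  have hw : w ∈ P.perp U := by
    rw [show w = v - P.B b v • a - P.B a v • b by linear_combination (norm := module) -w3]
    exact sub_mem (sub_mem hv (Submodule.smul_mem _ _ ha)) (Submodule.smul_mem _ _ hb)
  obtain ⟨c, hc⟩ := h.exists_tr (h.conj w w)
  have m1 : ∀ l : K, l • a ∈ AddSubgroup.closure {a | a ∈ P.perp U ∧ P.B a a = 0} := fun l =>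
    AddSubgroup.subset_closure ⟨Submodule.smul_mem _ _ ha, by simp [aa]⟩
  have m2 : ∀ l : K, l • b ∈ AddSubgroup.closure {a | a ∈ P.perp U ∧ P.B a a = 0} := fun l =>
    AddSubgroup.subset_closure ⟨Submodule.smul_mem _ _ hb, by simp [b1.self_eq]⟩
  rw [w3, show w = (w + a + c • b) - (1 : K) • a - c • b by module]
  refine add_mem (add_mem (sub_mem (sub_mem (AddSubgroup.subset_closure ⟨add_mem (add_mem hw ha)
    (Submodule.smul_mem _ _ hb), ?_⟩) (m1 _)) (m2 _)) (m1 _)) (m2 _)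
  simp only [P.B_add_left, P.B_add_right, P.B_smul_left, P.B_smul_right, w1, w2, h.B_comm w1,
    h.B_comm w2, aa, b1.self_eq, k.ef, k.fe]
  linear_combination hc + P.B w w * h.two

theorem iso_span_top (v : V) : v ∈ AddSubgroup.closure {a | P.B a a = 0} := by
  have := h.iso_span (U := ⊥) bot_le (by have := h.d4; simp; omega) (v := v) (by simp [P.perp_bot])
  simpa [P.perp_bot] using this

/-- a linear map which fixes all isotropic points is a scalar -/
theorem scalar_of_pts {g : V →ₗ[K] V} (H : ∀ p, P.B p p = 0 → g p ∈ span K {p}) :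
    ∃ l : K, ∀ v, g v = l • v := by
  obtain ⟨e, -, e0, ee⟩ := h.exists_iso (U := ⊤) (by have := h.d4; simp; omega)
  obtain ⟨l, hl⟩ := Submodule.mem_span_singleton.1 (H e ee)
  have a : ∀ p, P.B p p = 0 → g p = l • p := fun p pp => by
    by_cases hp : p ∈ span K {e}
    · obtain ⟨c, rfl⟩ := Submodule.mem_span_singleton.1 hp
      rw [map_smul, ← hl, smul_comm]
    obtain ⟨δ, δ0, hδ⟩ : ∃ δ : K, δ ≠ 0 ∧ σ (δ * P.B e p) = δ * P.B e p := by
      by_cases b : P.B e p = 0
      · exact ⟨1, one_ne_zero, by simp [b]⟩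
      · exact ⟨_, inv_ne_zero b, by rw [inv_mul_cancel₀ b, map_one]⟩
    obtain ⟨l', hl'⟩ := Submodule.mem_span_singleton.1 (H p pp)
    obtain ⟨m, hm⟩ := Submodule.mem_span_singleton.1 (H (e + δ • p) (by
      rw [map_mul, h.conj] at hδ
      simp only [P.B_add_left, P.B_add_right, P.B_smul_left, P.B_smul_right, ee, pp]
      linear_combination hδ + δ * P.B e p * h.two))
    rw [map_add, map_smul, ← hl, ← hl'] at hm
    obtain ⟨b1, b2⟩ := LinearIndependent.pair_iff.1 (li_pair e0 hp) (m - l) ((m - l') * δ) (by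
      linear_combination (norm := module) hm)
    rw [← hl', ← sub_eq_zero.1 b1, sub_eq_zero.1 ((mul_eq_zero.1 b2).resolve_right δ0)]
  refine ⟨l, fun v => ?_⟩
  refine AddSubgroup.closure_induction (p := fun v _ => g v = l • v) a (by simp)
    (fun x y _ _ b c => by rw [map_add, b, c, smul_add]) (fun x _ b => by rw [map_neg, b, smul_neg])
    (h.iso_span_top v)

/-- an element commuting with a transvection fixes its centre -/
theorem pt_of_comm {s : S} {p : V} {r : K} (pp : P.B p p = 0) (hr : σ r = r) (r0 : r ≠ 0)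
    (H : s * C.T p 0 r = C.T p 0 r * s) : C.act s p ∈ span K {p} := by
  by_cases p0 : p = 0
  · rw [p0, map_zero]; exact zero_mem _
  obtain ⟨f, hf⟩ := h.exists_hp p0 pp
  have a := congrArg (fun x => C.act x f) H
  simp only [C.mul_apply, h.z_app pp hr, hf.ef, map_add, map_smul, mul_one, add_right_inj] at a
  exact Submodule.mem_span_singleton.2 ⟨r⁻¹ * (r * P.B p (C.act s f)), by
    rw [← smul_smul, ← a, smul_smul, inv_mul_cancel₀ r0, one_smul]⟩

theorem mem_center {s : S} : s ∈ center S ↔ ∃ l : K, ∀ v, C.act s v = l • v := by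
  refine ⟨fun hs => h.scalar_of_pts (g := (C.act s).toLinearMap) fun p pp =>
    h.pt_of_comm pp (map_one σ) one_ne_zero (mem_center_iff.1 hs _).symm, ?_⟩
  rintro ⟨l, hl⟩
  exact mem_center_iff.2 fun g => C.ext fun v => by rw [C.mul_apply, C.mul_apply, hl, hl, map_smul]

theorem card_center_dvd : Nat.card (center S) ∣ Nat.card K - 1 := by
  have a1 : (center S).map C.act ≤ (DistribMulAction.toModuleAut K V (S := Kˣ)).range := by
    rintro _ ⟨s, hs, rfl⟩
    obtain ⟨l, hl⟩ := h.mem_center.1 hs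
    obtain ⟨e, -, e0, -⟩ := h.exists_iso (U := ⊤) (by have := h.d4; simp; omega)
    have l0 : l ≠ 0 := by
      rintro rfl
      exact e0 ((C.act s).map_eq_zero_iff.1 (by rw [hl, zero_smul]))
    exact ⟨Units.mk0 l l0, LinearEquiv.ext fun v => (hl v).symm⟩
  rw [← card_map_of_injective C.inj, ← Nat.card_units]
  exact (card_dvd_of_le a1).trans (card_range_dvd _)

theorem center_odd : Odd (Nat.card (center S)) := h.odd_card.of_dvd_nat h.card_center_dvd

theorem exists_bas : ∃ b : Basis (Fin (finrank K V)) K V, Bas P b := by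
  obtain ⟨u, hu⟩ := h.herm.exists_orthonormal_basis C.nondeg
  obtain ⟨θ, hθ⟩ := h.herm.exists_trace_one
  let b : Fin (finrank K V) → V := fun i =>
    if i < i.rev then u i + u i.rev else if i = i.rev then u i else θ • u i + σ θ • u i.rev
  have hb : ∀ i j, P.B (b i) (b j) = if j = i.rev then 1 else 0 := fun i j => by
    have e1 : ∀ i j : Fin (finrank K V), P.B (u i) (u j) = if (i : ℕ) = j then 1 else 0 :=
      fun i j => by rw [hu]; simp [Fin.ext_iff]
    have := i.2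
    have := j.2
    simp only [b, Fin.lt_def, Fin.ext_iff, Fin.val_rev]
    split_ifs <;>
      simp only [P.B_add_left, P.B_add_right, P.B_smul_left, P.B_smul_right, e1, Fin.val_rev, h.σσ] <;>
      split_ifs <;>
      first
        | omega
        | ring1
        | linear_combination hθ
        | linear_combination h.two
        | linear_combination θ * σ θ * h.two
  have hl : LinearIndependent K b := Fintype.linearIndependent_iff.2 fun g hg j => by
    have := congrArg (P.B (b j.rev)) hg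
    simpa [map_sum, hb] using this
  have : Nonempty (Fin (finrank K V)) := ⟨⟨0, by have := h.d4; omega⟩⟩
  refine ⟨basisOfLinearIndependentOfCardEqFinrank hl (by simp), fun i j => ?_⟩
  rw [coe_basisOfLinearIndependentOfCardEqFinrank, hb]

theorem T_zero' (a : V) {c : K} (k : TOk P 0 a c) : C.T 0 a c = 1 :=
  C.ext fun v => by rw [h.T_app k, C.one_apply]; simp

omit h [Finite K] [FiniteDimensional K V] in
theorem _root_.CfsgLib.U5.Bas.repr {m : ℕ} {b : Basis (Fin m) K V} (hb : Bas P b) (v : V)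
    (i : Fin m) : b.repr v i = P.B (b i.rev) v := by
  conv_rhs => rw [← b.sum_repr v, map_sum]
  simp [hb _ _]

theorem bas_hp {m : ℕ} {b : Basis (Fin m) K V} (hb : Bas P b) {i : Fin m} (hi : i ≠ i.rev) :
    HP P (b i) (b i.rev) :=
  h.hp_iff.2 ⟨by rw [hb, if_neg hi], by rw [hb, Fin.rev_rev, if_neg hi.symm], by rw [hb, if_pos rfl]⟩

theorem gen_Q {m : ℕ} {b : Basis (Fin m) K V} (hb : Bas P b) {H : Subgroup S}
    (hH : ∀ i, i ≠ i.rev → ∀ a c, TOk P (b i) a c → C.T (b i) a c ∈ H) : H = ⊤ := by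
  have a1 : ∀ g ∈ H, ∀ (l : K) p, (∀ a c, TOk P p a c → C.T p a c ∈ H) →
      ∀ s, P.B p p = 0 → σ s = s → C.T (C.act g (l • p)) 0 s ∈ H := fun g hg l p hp s pp hs => by
    have k := h.tok0 pp hs
    rw [← map_zero (C.act g), ← C.T_conj g (k.smul_left l), C.T_smul_left k]
    exact mul_mem (mul_mem hg (hp _ _ (by simpa only [h.σσ, mul_comm] using k.smul (σ l))))
      (inv_mem hg)
  refine h.gen H fun p s pp hs => ?_
  by_cases H1 : ∃ i, i ≠ i.rev ∧ P.B (b i) p ≠ 0
  · obtain ⟨i, hi, bi⟩ := H1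
    have k := h.bas_hp hb hi
    obtain ⟨a, c, k1, -, k2, -⟩ := C.exists_T_map k (h.sing.2 pp) bi
    rw [← k2]
    exact a1 _ (hH i hi a c k1) _ _ (hH i.rev (by rw [Fin.rev_rev]; exact hi.symm)) s k.sf.self_eq hs
  have a2 : ∀ i, i ≠ i.rev → P.B (b i) p = 0 := fun i hi => by
    by_contra H'; exact H1 ⟨i, hi, H'⟩
  have a3 : ∀ j, P.B (b j) p = 0 := fun j => by
    by_contra H'
    have hj : j = j.rev := by by_contra H''; exact H' (a2 j H'')
    have e1 : p = P.B (b j) p • b j := by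
      conv_lhs => rw [← b.sum_repr p]
      rw [Finset.sum_eq_single j, hb.repr, ← hj]
      · intro i _ hi
        rw [hb.repr, a2, zero_smul]
        rw [Fin.rev_rev]
        intro e
        have e2 := congrArg Fin.val e
        have e3 := congrArg Fin.val hj
        simp only [Fin.val_rev] at e2 e3
        exact hi (Fin.ext (by omega))
      · simp
    rw [e1, P.B_smul_left, P.B_smul_right, hb, if_pos hj] at pp
    simp [H'] at pp
  have : p = 0 := b.ext_elem fun i => by rw [hb.repr, a3]; simp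
  subst this
  rw [h.T_zero' _ (h.tok0 pp hs)]
  exact one_mem _

theorem gen_line {e f e' f' : V} (k : HH P e f e' f') {H : Subgroup S}
    (h1 : ∀ p s, P.B p p = 0 → P.B e p = 0 → σ s = s → C.T p 0 s ∈ H)
    (h2 : ∀ l : K, C.T e (l • f') 0 ∈ H) (h3 : ∀ l : K, C.T e' (l • f) 0 ∈ H) : H = ⊤ := by
  refine h.gen H fun p s pp hs => ?_
  by_cases b : P.B e p = 0
  · exact h1 p s pp b hs
  obtain ⟨g, hg, a⟩ : ∃ g ∈ H, P.B e (C.act g p) = 0 := by
    refine ⟨C.T e ((1 : K) • f') 0 * C.T e' ((1 : K) • f) 0 * C.T e ((1 : K) • f') 0 *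
      C.T e ((P.B e' p / P.B e p) • f') 0, mul_mem (mul_mem (mul_mem (h2 _) (h3 _)) (h2 _)) (h2 _), ?_⟩
    rw [C.mul_apply, h.swap_app k, h.N_app k]
    simp only [map_add, map_smul, smul_eq_mul, k.h₁.ef, k.h₂.ef, k.ee, k.ef, k.symm.ee,
      k.h₁.se.self_eq, mul_div_cancel₀ _ b]
    linear_combination (P.B e p + P.B e' p) * h.two
  have k1 := h.tok0 pp hs
  have e1 := C.T_conj g k1
  rw [map_zero] at e1
  have := mul_mem (mul_mem (inv_mem hg) (h1 _ s (by rw [C.B_act, pp]) a hs)) hg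
  rwa [← e1, ← mul_assoc, ← mul_assoc, inv_mul_cancel, one_mul, inv_mul_cancel_right] at this

end Mod

end CfsgLib.U5
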