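import Cfsg.Agent.Lib.U5.MovB
import Cfsg.Agent.Lib.HX.HatA
import Cfsg.Agent.Lib.SzS.Gen
import Cfsg.Agent.Lib.StdInt.Half

/-! The hats of the transvections -/

set_option autoImplicit false
set_option linter.unusedSectionVars false

namespace CfsgLib.U5

open Subgroup Module CfsgLib.Forms CfsgLib.LieMult
open CfsgLib.HX (Std CO Two Mv Tr Heis NF Fus4 Has4 M2)
open Submodule (span)
open scoped commutatorElement Pointwise

universe u

variable {K : Type} [Field K] [Finite K] {σ : K →+* K} {V : Type} [AddCommGroup V] [Module K V]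
  [FiniteDimensional K V] {P : PQ σ V} {S : Type} [Group S] [Finite S] {G : Type u} [Group G]
  [Finite G] {C : CG P S} {φ : S →* G} {t : G}

namespace HatP

omit [Finite G] in
theorem coc {g x : G} (e : g * x * g⁻¹ = x) : Commute g x := mul_inv_eq_iff_eq_mul.1 e

omit [Finite G] in
theorem cjc {g x : G} (e : Commute g x) : g * x * g⁻¹ = x := by rw [e.eq, mul_inv_cancel_right]

theorem nF (l : K) {s : K} (hs : σ s = s) (P : PQ σ V) : σ (σ l * l * s) = σ l * l * s := by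
  rw [map_mul, map_mul, P.σσ, hs, mul_comm l]

theorem fix_mem {l : S} {p : V} (hl : C.act l p = p) : φ l ∈ Yg C φ (span K {p}) :=
  mem_map_of_mem φ (C.mem_fixG.2 fun x hx => by
    obtain ⟨a, rfl⟩ := Submodule.mem_span_singleton.1 hx
    rw [map_smul, hl])

theorem T0_fix (h : Mod C) {e p : V} {r : K} (he : P.B e e = 0) (hr : σ r = r) (hpe : P.B e p = 0) :
    C.act (C.T e 0 r) p = p := C.T_fix (h.tok0 he hr) hpe (by simp)

theorem z_Y (h : Mod C) {e p : V} {r : K} (he : P.B e e = 0) (hr : σ r = r) (hpe : P.B e p = 0) :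
    z C φ e r ∈ Yg C φ (span K {p}) := fix_mem (T0_fix h he hr hpe)

theorem zz (h : Emb C φ) {e p : V} {r s : K} (he : P.B e e = 0) (hp : P.B p p = 0) (hpe : P.B e p = 0)
    (hr : σ r = r) (hs : σ s = s) : Commute (z C φ e r) (z C φ p s) :=
  coc (by
    have := h.z_conj (C.T e 0 r) hp hs
    rwa [T0_fix h.toMod he hr hpe] at this)

theorem z0 (h : Emb C φ) {e : V} (he : P.B e e = 0) : z C φ e 0 = 1 :=
  (h.z_eq_one he (map_zero σ)).2 (Or.inr rfl)

theorem Q_le_Y (U : Submodule K V) : Rg C φ U ≤ Yg C φ U := map_mono (rad_le_fix U)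

theorem two {g : G} (h : g * g = 1) : IsPGroup 2 (zpowers g) := fun ⟨x, n, hn⟩ =>
  ⟨1, Subtype.ext (by
    show x ^ 2 ^ 1 = 1
    rw [← hn, pow_one, ← zpow_natCast, ← zpow_mul, mul_comm, zpow_mul, zpow_natCast, pow_two, h, one_zpow])⟩

theorem exists_y0 (h : Pre C φ t) {e f : V} (hf : HP P e f) : ∃ y : K → G,
    (∀ s r, σ s = s → σ r = r → y (s + r) = y s * y r) ∧
    (∀ s, σ s = s → Mv φ.range (Yg C φ (span K {e})) t (z C φ e s) (y s)) ∧
    ∀ l μ s, σ s = s → C.act l e = μ • e → φ l * y s * (φ l)⁻¹ = y (σ μ * μ * s) := by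
  have he : P.B e e = 0 := hf.se.self_eq
  have h0 : e ≠ 0 := fun k => by have := hf.ef; rw [k] at this; simp at this
  obtain ⟨e', f', hh⟩ := h.exists_hh hf
  obtain ⟨l, hl⟩ := IsCyclic.exists_monoid_generator (α := Kˣ)
  obtain ⟨d, od, ed, -⟩ := h.exists_diag hh l.ne_zero (inv_ne_zero l.ne_zero) (by simp)
  have D := h.toSit.td h.two' (U := span K {e}) (ti_span.2 (by simpa using he)) (by simpa using h0)
  have tr : ∀ {a g}, Mv φ.range (Yg C φ (span K {e})) t a g → g * g = 1 → Tr φ.range (Rg C φ (span K {e})) t a g :=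
    fun m g2 => h.toSit.tr_of_mv (Submodule.mem_span_singleton_self e) m (two g2)
  have zE : ∀ {s}, σ s = s → z C φ e s ∈ Eg C φ (span K {e}) := fun hs => (h.mem_Z he).2 ⟨_, hs, rfl⟩
  have zn : ∀ {s}, σ s = s → s ≠ 0 → z C φ e s ≠ 1 := fun hs s0 k =>
    ((h.z_eq_one he hs).1 k).elim h0 s0
  have EY : ∀ g ∈ Eg C φ (span K {e}), g ∈ Yg C φ (span K {e}) := fun g hg => by
    obtain ⟨r, hr, rfl⟩ := (h.mem_Z he).1 hg
    exact z_Y h.toMod he hr he
  have mvE : ∀ g ∈ Eg C φ (span K {e}), Mv φ.range (Yg C φ (span K {e})) t (z C φ e 0) g := fun g hg => by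
    obtain ⟨r, hr, rfl⟩ := (h.mem_Z he).1 hg
    refine ⟨?_, by rw [z0 h.toEmb he, mul_one]; exact cjc (h.tφ _),
      fun o ho _ _ => ho _ ⟨_, rfl⟩⟩
    rintro _ ⟨k, hk, rfl⟩
    have := h.z_conj k he hr
    rw [C.mem_fixG.1 hk e (Submodule.mem_span_singleton_self e)] at this
    exact (coc this).eq
  have mvm : ∀ {s r g g'}, σ s = s → σ r = r → Mv φ.range (Yg C φ (span K {e})) t (z C φ e s) g →
      Mv φ.range (Yg C φ (span K {e})) t (z C φ e r) g' →
      Mv φ.range (Yg C φ (span K {e})) t (z C φ e (s + r)) (g * g') := fun {s r g g'} hs hr m m' =>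
    ⟨mul_mem m.cY m'.cY, by
      calc _ = g * (g' * t * g'⁻¹) * g⁻¹ := by group
        _ = _ := by rw [m'.pt, ← conj_mul, m.pt, ← m.cY _ (EY _ (zE hr)), mul_inv_cancel_right, h.z_add he hs hr,
          mul_assoc], fun o ho k k' => by rw [mul_assoc, m'.co o ho k k', ← mul_assoc, m.co o ho k k', mul_assoc]⟩
  obtain ⟨W, hW⟩ := HX.hatA_sub (fun g : G => g * g = 1 ∧ ∃ s, σ s = s ∧
      Mv φ.range (Yg C φ (span K {e})) t (z C φ e s) g ∧ (s = 0 → g ∈ Eg C φ (span K {e})))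
    ⟨mul_one 1, 0, map_zero σ, mvE 1 (one_mem _), fun _ => one_mem _⟩ (by
      rintro g g' ⟨g2, s, hs, m, k⟩ ⟨g2', r, hr, m', k'⟩
      have c : Commute g g' := by
        by_cases s0 : s = 0
        · exact m'.cY _ (EY _ (k s0))
        by_cases r0 : r = 0
        · exact (m.cY _ (EY _ (k' r0))).symm
        exact h.com e e s r g g' he he he hs hr (zn hs s0) (zn hr r0) m m' g2 g2'
      have p2 : g * g' * (g * g') = 1 := by rw [c.symm.mul_mul_mul_comm, g2, g2', mul_one]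
      refine ⟨p2, s + r, by rw [map_add, hs, hr], mvm hs hr m m', fun e0 => ?_⟩
      by_cases s0 : s = 0
      · exact mul_mem (k s0) (k' (by rwa [s0, zero_add] at e0))
      have := mvm hs hr m m'
      rw [e0, z0 h.toEmb he] at this
      refine (D.tr_one (tr this p2)).resolve_right fun hx => zn hs s0 ?_
      have e1 := D.sq_tmul (tr m g2)
      have c' : Commute (t * (g * g')) g' := m'.cY _ (EY _ hx)
      rw [g2, mul_one, show t * g = t * (g * g') * g' by rw [mul_assoc, mul_assoc, g2', mul_one],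
        c'.symm.mul_mul_mul_comm, D.sq _ hx, g2', mul_one] at e1
      exact e1.symm)
  have EW : Eg C φ (span K {e}) ≤ W := fun g hg => (hW g).2 ⟨D.sq g hg, 0, map_zero σ, mvE g hg, fun _ => hg⟩
  have dz : ∀ s, σ s = s → φ d * z C φ e s * (φ d)⁻¹ = z C φ e (σ l * l * s) := fun s hs => by
    rw [h.z_conj d he hs, ed, h.z_smul he hs]
  have dE : ∀ g ∈ Eg C φ (span K {e}), φ d * g * (φ d)⁻¹ ∈ Eg C φ (span K {e}) := fun g hg => by
    obtain ⟨r, hr, rfl⟩ := (h.mem_Z he).1 hg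
    rw [dz r hr]; exact zE (nF _ hr P)
  obtain ⟨U, -, US, Ud, UD, dec⟩ := SzS.exists_compl (W := ⊥) (h := φ d) bot_le EW
    (fun s _ w hw => by simpa using hw) (fun s hs => ((hW s).1 hs).1) (od.of_dvd_nat (orderOf_map_dvd φ d))
    (fun g hg => by
      obtain ⟨g2, s, hs, m, k⟩ := (hW g).1 hg
      have := h.toSit.mv_conj d m
      rw [ed, Submodule.span_singleton_smul_eq l.isUnit, dz s hs] at this
      exact (hW _).2 ⟨by rw [conj_mul, g2, mul_one, mul_inv_cancel], _, nF _ hs P, this, fun e0 => dE _ (k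
        ((mul_eq_zero.1 e0).resolve_left (mul_ne_zero ((map_ne_zero σ).2 l.ne_zero) l.ne_zero)))⟩)
    dE (fun s hs => by simpa using hs)
  have uq : ∀ u ∈ U, ∀ u' ∈ U, u * t * u⁻¹ = u' * t * u'⁻¹ → u = u' := fun u hu u' hu' e1 => by
    have m := mul_mem (inv_mem hu') hu
    obtain ⟨-, s, hs, m', k⟩ := (hW _).1 (US m)
    refine (inv_mul_eq_one.1 (UD _ m (k ?_))).symm
    by_contra s0
    refine zn hs s0 (mul_left_cancel (a := t) ?_)
    calc _ = u'⁻¹ * (u * t * u⁻¹) * u' := by rw [← m'.pt]; group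
      _ = _ := by rw [e1]; group
  have ex : ∀ s, ∃ u ∈ U, σ s = s → u * t * u⁻¹ = t * z C φ e s := fun s => by
    by_cases hs : σ s = s
    swap
    · exact ⟨1, one_mem _, fun k => absurd k hs⟩
    by_cases c : s = 0
    · exact ⟨1, one_mem _, fun _ => by simp [c, z0 h.toEmb he]⟩
    obtain ⟨p, m, p2⟩ := h.inv e s he hs
    obtain ⟨u, hu, x, hx, rfl⟩ := dec p ((hW p).2 ⟨p2, s, hs, m, fun k => absurd k c⟩)
    refine ⟨u, hu, fun _ => ?_⟩
    obtain ⟨k, -, rfl⟩ := hx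
    rw [← m.pt, mul_assoc u (φ k), (h.tφ k).eq]
    group
  choose y yU yt using ex
  have ymv : ∀ s, σ s = s → Mv φ.range (Yg C φ (span K {e})) t (z C φ e s) (y s) := fun s hs =>
    let ⟨_, _, _, m, _⟩ := (hW _).1 (US (yU s)); ⟨m.cY, yt s hs, m.co⟩
  refine ⟨y, fun s r hs hr => uq _ (yU _) _ (mul_mem (yU s) (yU r)) (by
    rw [yt _ (by rw [map_add, hs, hr]), (mvm hs hr (ymv s hs) (ymv r hr)).pt]), ymv, fun g μ s hs e1 => ?_⟩
  have μ0 : μ ≠ 0 := fun k => h0 ((C.act g).injective (by rw [e1, k, zero_smul, map_zero]))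
  obtain ⟨n, hn⟩ := hl (Units.mk0 μ μ0)
  have pw : ∀ n : ℕ, C.act (d ^ n) e = (l : K) ^ n • e ∧ φ (d ^ n) * y s * (φ (d ^ n))⁻¹ ∈ U := fun n => by
    induction n with
    | zero => simpa using yU s
    | succ n ih =>
      rw [pow_succ' d, C.mul_apply, ih.1, map_smul, ed, smul_smul, pow_succ, map_mul]
      exact ⟨rfl, by simpa only [mul_assoc, _root_.mul_inv_rev] using Ud _ ih.2⟩
  obtain ⟨p1, p2⟩ := pw n
  rw [show (l : K) ^ n = μ from congrArg Units.val hn] at p1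
  have k := (ymv s hs).cY _ (fix_mem (l := (d ^ n)⁻¹ * g) (by rw [C.mul_apply, e1, ← p1, C.inv_apply]))
  rw [map_mul, map_inv] at k
  have e2 : φ g * y s * (φ g)⁻¹ = φ (d ^ n) * y s * (φ (d ^ n))⁻¹ := by
    calc _ = φ (d ^ n) * ((φ (d ^ n))⁻¹ * φ g * y s) * (φ g)⁻¹ := by group
      _ = _ := by rw [k]; group
  refine uq _ (e2 ▸ p2) _ (yU _) ?_
  rw [(h.toSit.mv_conj g (ymv s hs)).pt, h.z_conj g he hs, e1, h.z_smul he hs, yt _ (nF _ hs P)]

end HatP

open HatP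

theorem Pre.hats (h : Pre C φ t) : ∃ y, Hats C φ t y := by
  classical
  obtain ⟨e, -, f, -, hf⟩ := h.exists_hp_perp (U := ⊥) disjoint_bot_left (by have := h.d4; simp; omega)
  have he : P.B e e = 0 := hf.se.self_eq
  have h0 : e ≠ 0 := fun k => by have := hf.ef; rw [k] at this; simp at this
  obtain ⟨y, ad, mv, eq⟩ := exists_y0 h hf
  have : ∀ p : V, ∃ w, p ≠ 0 → P.B p p = 0 → C.act w e = p := fun p => by
    by_cases k : p ≠ 0 ∧ P.B p p = 0
    · obtain ⟨w, hw⟩ := h.toMod.trans h0 he k.1 k.2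
      exact ⟨w, fun _ _ => hw⟩
    · exact ⟨1, fun k1 k2 => absurd ⟨k1, k2⟩ k⟩
  choose w hw using this
  have y0 : y 0 = 1 := by simpa using ad 0 0 (map_zero σ) (map_zero σ)
  obtain ⟨Y, Y0, Y1⟩ : ∃ Y : V → K → G, (∀ s, Y 0 s = 1) ∧ ∀ p s, p ≠ 0 → Y p s = φ (w p) * y s * (φ (w p))⁻¹ :=
    ⟨fun p s => if p = 0 then 1 else φ (w p) * y s * (φ (w p))⁻¹, fun s => if_pos rfl, fun p s k => if_neg k⟩
  have gen : ∀ l p μ s, p ≠ 0 → P.B p p = 0 → σ s = s → C.act l e = μ • p →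
      φ l * y s * (φ l)⁻¹ = Y p (σ μ * μ * s) := fun l p μ s k hp hs e1 => by
    rw [Y1 _ _ k, ← eq ((w p)⁻¹ * l) μ s hs (by rw [C.mul_apply, e1, map_smul, C.inv_apply_eq (hw p k hp)]),
      map_mul, map_inv]
    group
  have Yz : ∀ p, Y p 0 = 1 := fun p => by
    by_cases k : p = 0
    · rw [k, Y0]
    · rw [Y1 _ _ k, y0, mul_one, mul_inv_cancel]
  have add : ∀ p s r, σ s = s → σ r = r → Y p (s + r) = Y p s * Y p r := fun p s r hs hr => by
    by_cases k : p = 0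
    · simp only [k, Y0, mul_one]
    · simp only [Y1 _ _ k, ad s r hs hr, conj_mul]
  have mv' : ∀ p s, P.B p p = 0 → σ s = s → Mv φ.range (Yg C φ (span K {p})) t (z C φ p s) (Y p s) :=
    fun p s hp hs => by
      by_cases k : p = 0
      · rw [(h.z_eq_one hp hs).2 (Or.inl k), k, Y0]
        exact ⟨one_mem _, by simp, fun o _ _ _ => by simp⟩
      · have := h.toSit.mv_conj (w p) (mv s hs)
        rwa [h.z_conj _ he hs, hw p k hp, ← Y1 _ _ k] at this
  have one : ∀ p s, P.B p p = 0 → σ s = s → z C φ p s = 1 → Y p s = 1 := fun p s hp hs k =>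
    ((h.z_eq_one hp hs).1 k).elim (fun k => by rw [k, Y0]) fun k => by rw [k, Yz]
  have sq : ∀ p s, σ s = s → Y p s * Y p s = 1 := fun p s hs => by rw [← add p s s hs hs, h.add_self, Yz]
  refine ⟨Y, h.toSit, h.two', fun p s r _ => add p s r, fun p s l hp hs => ?_, fun l p s hp hs => ?_, mv',
    fun p p' s s' hp hp' hpp hs hs' => ?_⟩
  · by_cases k : p = 0
    · rw [k, smul_zero, Y0, Y0]
    by_cases k' : l = 0
    · rw [k', zero_smul, Y0, mul_zero, zero_mul, Yz]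
    rw [Y1 _ _ (smul_ne_zero k' k), gen _ p l s k hp hs (hw _ (smul_ne_zero k' k) (by
      rw [P.B_smul_left, P.B_smul_right, hp, mul_zero, mul_zero]))]
  · by_cases k : p = 0
    · rw [k, map_zero, Y0, mul_one, mul_inv_cancel]
    have := gen (l * w p) (C.act l p) 1 s (by simpa using k) (by rw [C.B_act, hp]) hs
      (by rw [C.mul_apply, hw p k hp, one_smul])
    rw [map_one, one_mul, one_mul] at this
    rw [← this, Y1 _ _ k, map_mul]
    group
  · by_cases k : z C φ p s = 1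
    · rw [one p s hp hs k]; exact Commute.one_left _
    by_cases k' : z C φ p' s' = 1
    · rw [one p' s' hp' hs' k']; exact Commute.one_right _
    exact h.com p p' s s' _ _ hp hp' hpp hs hs' k k' (mv' p s hp hs) (mv' p' s' hp' hs') (sq p s hs) (sq p' s' hs')

namespace Hats

variable {y : V → K → G} (h : Hats C φ t y) {p e a : V} {s r : K} {g : G}
include h

theorem y_zero (hp : P.B p p = 0) : y p 0 = 1 := by
  simpa using h.add p 0 0 hp (map_zero σ) (map_zero σ)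

theorem y_zero' (hs : σ s = s) : y 0 s = 1 := by
  have := h.smul 0 s 0 (by simp) hs
  rwa [smul_zero, mul_zero, zero_mul, h.y_zero (by simp)] at this

theorem y_sq (hp : P.B p p = 0) (hs : σ s = s) : y p s * y p s = 1 := by
  rw [← h.add p s s hp hs hs, h.add_self, h.y_zero hp]

theorem y_fix (hp : P.B p p = 0) (hs : σ s = s) {l : S} (hl : C.act l p = p) : Commute (φ l) (y p s) := by
  exact coc (by rw [h.eqv l p s hp hs, hl])

theorem zy (hp : P.B p p = 0) (he : P.B e e = 0) (hpe : P.B p e = 0) (hs : σ s = s) (hr : σ r = r) :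
    Commute (z C φ e r) (y p s) := by
  exact h.y_fix hp hs (T0_fix h.toMod he hr (P.B_eq_zero_comm.1 hpe))

theorem y_mem (hp : P.B p p = 0) (hs : σ s = s) : y p s ∈ G0 C φ y := by
  exact mem_sup_right (subset_closure ⟨p, s, hp, hs, rfl⟩)

theorem z_mem_Zh (hs : σ s = s) : z C φ p s ∈ Zh C φ y p := subset_closure ⟨s, hs, Or.inl rfl⟩

theorem y_mem_Zh (hs : σ s = s) : y p s ∈ Zh C φ y p := subset_closure ⟨s, hs, Or.inr rfl⟩

theorem zy_sq (hp : P.B p p = 0) (hs : σ s = s) (hr : σ r = r) : z C φ p s * y p r * (z C φ p s * y p r) = 1 := by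
  rw [(h.zy hp hp hp hr hs).symm.mul_mul_mul_comm, h.z_sq hp hs, h.y_sq hp hr, mul_one]

theorem mem_Zh (hp : P.B p p = 0) :
    g ∈ Zh C φ y p ↔ ∃ s r, σ s = s ∧ σ r = r ∧ g = z C φ p s * y p r := by
  refine ⟨fun hg => ?_, fun ⟨s, r, hs, hr, e⟩ => e ▸ mul_mem (h.z_mem_Zh hs) (h.y_mem_Zh hr)⟩
  induction hg using closure_induction with
  | mem x hx =>
    obtain ⟨s, hs, rfl | rfl⟩ := hx
    · exact ⟨s, 0, hs, map_zero σ, by rw [h.y_zero hp, mul_one]⟩
    · exact ⟨0, s, map_zero σ, hs, by rw [z0 h.toEmb hp, one_mul]⟩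
  | one => exact ⟨0, 0, map_zero σ, map_zero σ, by rw [h.y_zero hp, z0 h.toEmb hp, mul_one]⟩
  | mul x x' _ _ hx hx' =>
    obtain ⟨s, r, hs, hr, rfl⟩ := hx
    obtain ⟨s', r', hs', hr', rfl⟩ := hx'
    exact ⟨s + s', r + r', by rw [map_add, hs, hs'], by rw [map_add, hr, hr'], by
      rw [(h.zy hp hp hp hr hs').symm.mul_mul_mul_comm, h.z_add hp hs hs', h.add p r r' hp hr hr']⟩
  | inv x _ hx =>
    obtain ⟨s, r, hs, hr, rfl⟩ := hx
    exact ⟨s, r, hs, hr, inv_eq_of_mul_eq_one_right (h.zy_sq hp hs hr)⟩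

theorem zy_t (hp : P.B p p = 0) (hs : σ s = s) (hr : σ r = r) :
    z C φ p s * y p r * t * (z C φ p s * y p r)⁻¹ = t * z C φ p r := by
  calc _ = z C φ p s * (y p r * t * (y p r)⁻¹) * (z C φ p s)⁻¹ := by group
    _ = _ := by
      rw [(h.mv p r hp hr).pt]
      exact cjc ((h.tφ _).mul_right (zz h.toEmb hp hp hp hs hr))

theorem Zh_inj (h0 : p ≠ 0) (hp : P.B p p = 0) (hs : σ s = s) (hr : σ r = r)
    (e1 : z C φ p s * y p r = 1) : s = 0 ∧ r = 0 := by
  have := h.zy_t hp hs hr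
  rw [e1, one_mul, inv_one, mul_one, left_eq_mul, h.z_eq_one hp hr] at this
  obtain rfl := this.resolve_left h0
  rw [h.y_zero hp, mul_one, h.z_eq_one hp hs] at e1
  exact ⟨e1.resolve_left h0, rfl⟩

theorem Zh_sq (hp : P.B p p = 0) (hg : g ∈ Zh C φ y p) : g * g = 1 := by
  obtain ⟨s, r, hs, hr, rfl⟩ := (h.mem_Zh hp).1 hg
  exact h.zy_sq hp hs hr

/-- elements fixing the point `p` with a multiplier of norm one centralise the hat -/
theorem Zh_fix (hp : P.B p p = 0) {l : S} {μ : K} (hμ : σ μ * μ = 1) (hl : C.act l p = μ • p)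
    (hg : g ∈ Zh C φ y p) : Commute (φ l) g := by
  obtain ⟨s, r, hs, hr, rfl⟩ := (h.mem_Zh hp).1 hg
  exact Commute.mul_right (coc (by rw [h.z_conj l hp hs, hl, h.z_smul hp hs, hμ, one_mul]))
    (coc (by rw [h.eqv l p r hp hr, hl, h.smul p r μ hp hr, hμ, one_mul]))

theorem Zh_cY (hp : P.B p p = 0) : Zh C φ y p ≤ centralizer (Yg C φ (span K {p}) : Set G) := by
  rintro g hg _ ⟨l, hl, rfl⟩
  exact h.Zh_fix hp (μ := 1) (by simp) (by rw [C.mem_fixG.1 hl p (Submodule.mem_span_singleton_self p), one_smul]) hg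

theorem Zh_comm (hp : P.B p p = 0) (he : P.B e e = 0) (hpe : P.B p e = 0) :
    Zh C φ y p ≤ centralizer (Zh C φ y e : Set G) := by
  intro g hg g' hg'
  obtain ⟨s, r, hs, hr, rfl⟩ := (h.mem_Zh hp).1 hg
  obtain ⟨s', r', hs', hr', rfl⟩ := (h.mem_Zh he).1 hg'
  exact (((zz h.toEmb hp he hpe hs hs').mul_right (h.zy he hp (P.B_eq_zero_comm.1 hpe) hr' hs)).mul_left
    ((h.zy hp he hpe hr hs').symm.mul_right (h.com p e r r' hp he hpe hr hr'))).symm

theorem G0_co (hg : g ∈ G0 C φ y) : CO φ.range t g := by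
  intro o ho k k'
  have : G0 C φ y ≤ centralizer {o} := sup_le (fun l hl => mem_centralizer_singleton_iff.2 (ho l hl))
    ((closure_le _).2 fun _ ⟨p, s, hp, hs, e⟩ => e ▸ mem_centralizer_singleton_iff.2 ((h.mv p s hp hs).co o ho k k'))
  exact mem_centralizer_singleton_iff.1 (this hg)

theorem dec (h0 : p ≠ 0) (hp : P.B p p = 0) (hs : σ s = s)
    (hg : g ∈ centralizer (Rg C φ (span K {p}) : Set G)) (e1 : g * t * g⁻¹ = t * z C φ p s) :
    ∃ r, σ r = r ∧ ∃ o ∈ centralizer (φ.range : Set G), Commute o t ∧ Odd (orderOf o) ∧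
      (g = y p s * z C φ p r * o ∨ g = y p s * z C φ p r * t * o) := by
  have ct : Commute (y p s * g) t := coc (by
    calc _ = y p s * (g * t * g⁻¹) * (y p s)⁻¹ := by group
      _ = _ := by
        rw [e1, ← conj_mul, (h.mv p s hp hs).pt, cjc (h.zy hp hp hp hs hs).symm, mul_assoc,
          h.z_sq hp hs, mul_one])
  obtain ⟨r, hr, c, hc, e2⟩ := h.cQ h0 hp (h.cN ct) (mul_mem (centralizer_le (Q_le_Y _) (h.mv p s hp hs).cY) hg)
  obtain ⟨o, ho, ot, od, ec⟩ := h.two'.dec hc (by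
    have := (h.tφ (C.T p 0 r)).inv_left.mul_left ct
    rwa [e2, z, inv_mul_cancel_left] at this)
  rw [← eq_inv_mul_iff_mul_eq, inv_eq_of_mul_eq_one_right (h.y_sq hp hs)] at e2
  exact ⟨r, hr, o, ho, ot, od, ec.imp (fun f => by rw [e2, f, mul_assoc]) fun f => by rw [e2, f]; group⟩

theorem Zh_le_G0 (hp : P.B p p = 0) : Zh C φ y p ≤ G0 C φ y := fun g hg => by
  obtain ⟨s, r, hs, hr, rfl⟩ := (h.mem_Zh hp).1 hg
  exact mul_mem (mem_sup_left ⟨_, rfl⟩) (h.y_mem hp hr)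

theorem chr (h0 : p ≠ 0) (hp : P.B p p = 0) (hs : σ s = s) (g2 : g * g = 1)
    (hg : g ∈ centralizer (Rg C φ (span K {p}) : Set G)) (e1 : g * t * g⁻¹ = t * z C φ p s) :
    g ∈ Zh C φ y p ∨ t * g ∈ Eg C φ (span K {p}) := by
  obtain ⟨r, hr, o, ho, ot, od, e2⟩ := h.dec h0 hp hs hg e1
  have m : y p s * z C φ p r ∈ Zh C φ y p := mul_mem (h.y_mem_Zh hs) (h.z_mem_Zh hr)
  have c : Commute (y p s * z C φ p r) o := h.G0_co (h.Zh_le_G0 hp m) o ho ot od
  rcases e2 with rfl | rfl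
  · rw [c.symm.mul_mul_mul_comm, h.Zh_sq hp m, one_mul] at g2
    exact .inl (by rwa [StdInt.eq_one_of_odd_sq od g2, mul_one])
  · have e3 : y p s * z C φ p r * t * (y p s * z C φ p r * t) = z C φ p s := by
      rw [← mul_assoc, ← (h.zy hp hp hp hs hr).eq]
      nth_rewrite 2 [← inv_eq_of_mul_eq_one_right (h.zy_sq hp hr hs)]
      rw [h.zy_t hp hr hs, mul_assoc, z, (h.tφ _).eq, ← mul_assoc, h.t2, one_mul]
    rw [(c.symm.mul_right ot).mul_mul_mul_comm, e3] at g2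
    have k := (h.td h.two' (U := span K {p}) (ti_span.2 (by simpa using hp)) (by simpa using h0)).EC _
      ((h.mem_Z hp).2 ⟨s, hs, rfl⟩) (by rw [eq_inv_of_mul_eq_one_left g2]; exact inv_mem (mul_mem ho ho))
    rw [k, one_mul] at g2
    obtain rfl := ((h.z_eq_one hp hs).1 k).resolve_left h0
    refine .inr ((h.mem_Z hp).2 ⟨r, hr, ?_⟩)
    rw [StdInt.eq_one_of_odd_sq od g2, h.y_zero hp, one_mul, mul_one, z, (h.tφ _).eq, ← mul_assoc, h.t2, one_mul]

/-- the kernel lemma -/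
theorem ker_lem (h0 : p ≠ 0) (hp : P.B p p = 0) (h1 : g ∈ centralizer (Rg C φ (span K {p}) : Set G))
    (h2 : g ∈ centralizer (Zh C φ y p : Set G)) {k : G} (hk : k ∈ Zh C φ y p)
    (e1 : g * t * g⁻¹ = t * k) : ∃ k' ∈ Zh C φ y p, ∃ o ∈ centralizer (φ.range : Set G),
      Commute o t ∧ Odd (orderOf o) ∧ g = k' * o := by
  obtain ⟨s, r, hs, hr, rfl⟩ := (h.mem_Zh hp).1 hk
  have e2 : t * (z C φ p s * y p r) * (t * (z C φ p s * y p r)) = z C φ p r := by
    rw [mul_assoc, ← mul_assoc _ t]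
    nth_rewrite 2 [← inv_eq_of_mul_eq_one_right (h.zy_sq hp hs hr)]
    rw [h.zy_t hp hs hr, ← mul_assoc, h.t2, one_mul]
  rw [← e1, conj_mul, h.t2, mul_one, mul_inv_cancel, eq_comm, h.z_eq_one hp hr] at e2
  obtain rfl := e2.resolve_left h0
  rw [h.y_zero hp, mul_one] at e1
  obtain ⟨r, hr, o, ho, ot, od, e2⟩ := h.dec h0 hp hs h1 e1
  have m : y p s * z C φ p r ∈ Zh C φ y p := mul_mem (h.y_mem_Zh hs) (h.z_mem_Zh hr)
  refine ⟨_, m, o, ho, ot, od, e2.resolve_right fun e2 => one_ne_zero (α := K) ?_⟩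
  have m1 : y p 1 ∈ Zh C φ y p := h.y_mem_Zh (map_one σ)
  have c1 : Commute (y p 1) g := h2 _ m1
  have c2 : Commute (y p 1) (y p s * z C φ p r) := h.Zh_comm hp hp hp m _ m1
  have c3 : Commute (y p 1) o := (h.mv p 1 hp (map_one σ)).co o ho ot od
  have c4 := cjc ((c2.inv_right.mul_right c1).mul_right c3.inv_right)
  rw [e2, mul_assoc _⁻¹, mul_inv_cancel_right, inv_mul_cancel_left, (h.mv p 1 hp (map_one σ)).pt, mul_eq_left,
    h.z_eq_one hp (map_one σ)] at c4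
  exact c4.resolve_left h0

theorem w_symm (he : P.B e e = 0) (ha : P.B a a = 0) (hea : P.B e a = 0) : w y e a = w y a e := by
  rw [w, w, add_comm, mul_assoc, mul_assoc, (h.com e a 1 1 he ha hea (map_one σ) (map_one σ)).eq]

omit h in
theorem iso_add (he : P.B e e = 0) (ha : P.B a a = 0) (hea : P.B e a = 0) :
    P.B (a + e) (a + e) = 0 ∧ P.B (a + e) a = 0 ∧ P.B (a + e) e = 0 := by
  simp only [P.B_add_left, P.B_add_right, he, ha, hea, P.B_eq_zero_comm.1 hea, add_zero, and_self]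

theorem w_sq (he : P.B e e = 0) (ha : P.B a a = 0) (hea : P.B e a = 0) : w y e a * w y e a = 1 := by
  obtain ⟨k1, k2, k3⟩ := iso_add he ha hea
  have o := map_one σ
  have c1 := h.com _ _ 1 1 k1 ha k2 o o
  have c2 := h.com _ _ 1 1 k1 he k3 o o
  have c3 := h.com _ _ 1 1 he ha hea o o
  rw [w, (c2.symm.mul_right c3).mul_mul_mul_comm, c1.symm.mul_mul_mul_comm, h.y_sq k1 o, h.y_sq ha o, h.y_sq he o,
    mul_one, mul_one]

theorem w_t (he : P.B e e = 0) (ha : P.B a a = 0) (hea : P.B e a = 0) :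
    w y e a * t * (w y e a)⁻¹ = t * x C φ e a 0 := by
  obtain ⟨k1, k2, k3⟩ := iso_add he ha hea
  have o := map_one σ
  have hae := P.B_eq_zero_comm.1 hea
  have e1 := congrArg φ (h.T_line he ha hea o 1)
  simp only [map_mul, map_one, mul_one, one_smul] at e1
  calc _ = y (a + e) 1 * (y a 1 * (y e 1 * t * (y e 1)⁻¹) * (y a 1)⁻¹) * (y (a + e) 1)⁻¹ := by rw [w]; group
    _ = t * (z C φ (a + e) 1 * (z C φ a 1 * z C φ e 1)) := by
      rw [(h.mv e 1 he o).pt, ← conj_mul (b := y a 1), (h.mv a 1 ha o).pt, cjc (h.zy ha he hae o o).symm,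
        mul_assoc t, ← conj_mul, (h.mv _ 1 k1 o).pt, cjc ((h.zy k1 ha k2 o o).symm.mul_right
          (h.zy k1 he k3 o o).symm), mul_assoc]
    _ = _ := by
      rw [((zz h.toEmb k1 ha k2 o o).mul_right (zz h.toEmb k1 he k3 o o)).eq]
      rw [show z C φ (a + e) 1 = z C φ a 1 * z C φ e 1 * x C φ e a 0 from e1, ← mul_assoc (_ * _),
        (zz h.toEmb he ha hea o o).mul_mul_mul_comm, h.z_sq ha o, h.z_sq he o, one_mul, one_mul]

theorem w_conj (he : P.B e e = 0) (ha : P.B a a = 0) (hea : P.B e a = 0) (l : S) :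
    φ l * w y e a * (φ l)⁻¹ = w y (C.act l e) (C.act l a) := by
  have o := map_one σ
  rw [w, ← conj_mul, ← conj_mul, h.eqv l _ 1 (iso_add he ha hea).1 o, h.eqv l _ 1 ha o, h.eqv l _ 1 he o, map_add, w]

theorem w_self (he : P.B e e = 0) (l : K) : w y e (l • e) = y e (l + σ l) := by
  have o := map_one σ
  rw [w, show l • e + e = (l + 1) • e by rw [add_smul, one_smul], h.smul e 1 _ he o, h.smul e 1 _ he o,
    ← h.add e _ _ he (nF _ o P) (nF _ o P), ← h.add e _ _ he (by rw [map_add, nF _ o P, nF _ o P]) o]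
  congr 1
  rw [map_add, o]
  linear_combination (σ l * l + 1) * h.two

theorem w_mem (he : P.B e e = 0) (ha : P.B a a = 0) (hea : P.B e a = 0) : w y e a ∈ G0 C φ y := by
  have o := map_one σ
  exact mul_mem (mul_mem (h.y_mem (iso_add he ha hea).1 o) (h.y_mem ha o)) (h.y_mem he o)

theorem w_Zh (he : P.B e e = 0) (ha : P.B a a = 0) (hea : P.B e a = 0) (hp : P.B p p = 0)
    (h1 : P.B p e = 0) (h2 : P.B p a = 0) : w y e a ∈ centralizer (Zh C φ y p : Set G) := by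
  have o := map_one σ
  have k1 := P.B_eq_zero_comm.1 h1
  have k2 := P.B_eq_zero_comm.1 h2
  exact mul_mem (mul_mem (h.Zh_comm (iso_add he ha hea).1 hp (by rw [P.B_add_left, k1, k2, add_zero])
    (h.y_mem_Zh o)) (h.Zh_comm ha hp k2 (h.y_mem_Zh o))) (h.Zh_comm he hp k1 (h.y_mem_Zh o))

end Hats

end CfsgLib.U5
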