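import Cfsg.Agent.Lib.U5.Line

/-! The hat of the radical -/

set_option autoImplicit false
set_option linter.unusedSectionVars false

namespace CfsgLib.U5

open Subgroup Module CfsgLib.Forms CfsgLib.LieMult
open CfsgLib.HX (Std CO Two Mv Tr Heis NF Fus4 Has4 M2)
open Submodule (span)
open scoped commutatorElement Pointwise

universe u

variable {K : Type} [Field K] [Finite K] {σ : K →+* K} {V : Type} [AddCommGroup V] [Module K V]
  [FiniteDimensional K V] {P : PQ σ V} {S : Type} [Group S] [Finite S] {G : Type u} [Group G]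
  [Finite G] {C : CG P S} {φ : S →* G} {t : G}

namespace HeisP

open HatP

section Pure
variable {H : Type*} [Group H]

theorem cj4 (g A B : H) :
    g * (A * B * A * B) * g⁻¹ = g * A * g⁻¹ * (g * B * g⁻¹) * (g * A * g⁻¹) * (g * B * g⁻¹) := by group

theorem cm_add {A B B' : H} (hA : A * A = 1) (c : Commute B B') (c' : Commute (A * B' * A * B') B) :
    A * (B * B') * A * (B * B') = A * B * A * B * (A * B' * A * B') := by
  symm
  calc _ = A * B * A * (B * (A * B' * A * B')) := by group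
    _ = A * B * (A * A) * B' * A * (B' * B) := by rw [← c'.eq]; group
    _ = _ := by rw [hA, ← c.eq]; group

theorem del_add {A B A' B' δ δ' δ'' κ : H} (hA : A' * A' = 1) (hB : B * B = 1) (e1 : A' * B * A' * B = κ)
    (c1 : Commute δ A') (c2 : Commute δ B') (c3 : Commute κ B) (c4 : Commute κ B')
    (e : A * A' * (B * B') * δ'' = A * B * δ * (A' * B' * δ')) : δ'' = κ * (δ * δ') := by
  have e2 : B * A' = A' * B * κ := by
    rw [mul_assoc, ← c3.eq, ← e1]
    calc _ = A' * A' * B * A' * (B * B) := by rw [hA, hB]; group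
      _ = _ := by group
  refine mul_left_cancel (e.trans ?_)
  calc _ = A * B * (δ * (A' * B')) * δ' := by group
    _ = A * (B * A') * B' * (δ * δ') := by rw [(c1.mul_right c2).eq]; group
    _ = A * A' * B * (κ * B') * (δ * δ') := by rw [e2]; group
    _ = _ := by rw [c4.eq]; group

theorem eps_add {a b c d e : H} (h : a * a = 1) (ab : Commute a b) (ac : Commute a c) (ad : Commute a d)
    (ae : Commute a e) (cd : Commute c d) : a * (b * c) * (d * e * a) = b * d * (c * e) := by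
  rw [(ab.mul_right ac).eq, mul_assoc (b * c), ← mul_assoc a, (ad.mul_right ae).eq, mul_assoc _ a a, h, mul_one,
    cd.mul_mul_mul_comm]

theorem four_of_sq {u : H} (h : u * u * (u * u) = 1) : u ^ 4 = 1 := by
  rw [← h]; simp only [pow_succ, pow_zero, one_mul, mul_assoc]

theorem pow4 {U X k : H} (e : U * X * U⁻¹ = X * k) (hX : X * X = 1) (hk : k * k = 1) (c1 : Commute k U)
    (c2 : Commute k X) (h4 : U ^ 4 = 1) : (U * X) ^ 4 = 1 := by
  have e1 : U * X * (U * X) = k * (U * U) := by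
    calc _ = U * X * U⁻¹ * (U * (U * X * U⁻¹) * U⁻¹) * (U * U) := by group
      _ = X * k * (X * (k * k)) * (U * U) := by rw [e, ← conj_mul, e, cjc c1.symm, mul_assoc X k k]
      _ = _ := by rw [hk, mul_one, mul_assoc X, c2.eq, ← mul_assoc X, hX, one_mul]
  refine four_of_sq ?_
  rw [e1, (c1.mul_right c1).symm.mul_mul_mul_comm, hk, one_mul, ← h4]
  simp only [pow_succ, pow_zero, one_mul, mul_assoc]

theorem cj3 {Y W : H} (hY : Y * Y = 1) (q : H) :
    Y * W * Y * q * (Y * W * Y)⁻¹ = MulAut.conj Y (MulAut.conj W (MulAut.conj Y q)) := by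
  simp only [MulAut.conj_apply]; group

theorem fin1 {q A k1 k2 k3 : H} (hA : A * A = 1) (hk : k1 * k1 = 1) (c1 : Commute k1 A) (c2 : Commute k2 A)
    (c3 : Commute k1 k2) (c4 : Commute k1 k3) : q * A * k1 * k2 * (A * k3) * k1 = q * (k2 * k3) := by
  calc _ = q * (A * (k1 * k2 * A)) * (k3 * k1) := by group
    _ = q * (A * A) * (k1 * (k2 * k3)) * k1 := by rw [(c1.mul_left c2).eq]; group
    _ = q * (k2 * k3) * (k1 * k1) := by rw [hA, (c3.mul_right c4).eq]; group
    _ = _ := by rw [hk, mul_one]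

theorem fin2 {t ζ X A k z : H} (hA : A * A = 1) (hk : k * k = 1) (c1 : Commute k A) (hζ : ζ * ζ = 1)
    (c2 : Commute z ζ) : t * ζ * (X * A * k) * (A * (k * z) * ζ) = t * (ζ * X * ζ⁻¹) * z := by
  calc _ = t * ζ * X * A * (k * A) * k * (z * ζ) := by group
    _ = t * ζ * X * (A * A) * (k * k) * ζ * z := by rw [c1.eq, c2.eq]; group
    _ = _ := by rw [hA, hk, inv_eq_of_mul_eq_one_right hζ]; group

end Pure

variable {y : V → K → G} {e f a b d v v' : V} {s c γ γ' ρ ρ' : K} {g g' u k : G}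

theorem trF (h : Mod C) (a b : V) : σ (P.B a b + P.B b a) = P.B a b + P.B b a := by
  rw [map_add, h.conj, h.conj, add_comm]

theorem x_mul (o : TOk P e v γ) (o' : TOk P e v' γ') :
    x C φ e v γ * x C φ e v' γ' = x C φ e (v + v') (γ + γ' + P.B v' v) := by
  rw [x, x, x, ← map_mul, C.T_mul o o']

theorem z_inj (h : Emb C φ) (h0 : e ≠ 0) (he : P.B e e = 0) (hs : σ s = s) (hc : σ c = c)
    (k : z C φ e s = z C φ e c) : s = c := by
  have := (h.z_eq_one he (s := s + c) (by rw [map_add, hs, hc])).1 (by rw [h.z_add he hs hc, k, h.z_sq he hc])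
  linear_combination this.resolve_left h0 - h.add_self c

variable (C φ t y e) in
/-- the action of `g` on `Q_e` and on `t` -/
structure Pw (g : G) (v : V) (γ ρ : K) : Prop where
  mem : g ∈ G0 C φ y
  cZ : g ∈ centralizer (Zh C φ y e : Set G)
  ok : TOk P e v γ
  ρF : σ ρ = ρ
  act : ∀ d c, TOk P e d c → g * x C φ e d c * g⁻¹ = x C φ e d c * y e (P.B v d + P.B d v)
  tt : g * t * g⁻¹ = t * x C φ e v γ * y e ρ

variable (C φ y) in
/-- the commutators in the hat of `Q_e` -/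
def eta (c : K) (e : V) (T : K) : G := y e T * z C φ e (c * T)

theorem Pw.cast (k : Pw C φ t y e g v γ ρ) (h1 : v = v') (h2 : γ = γ') (h3 : ρ = ρ') : Pw C φ t y e g v' γ' ρ' :=
  h1 ▸ h2 ▸ h3 ▸ k

variable (h : HL C φ t y) (he : P.B e e = 0)
include h he

theorem cx (o : TOk P e d γ) (hk : k ∈ Zh C φ y e) : Commute k (x C φ e d γ) :=
  (h.Zh_fix he (μ := 1) (by simp) (by rw [C.T_self o, one_smul]) hk).symm

theorem cw (ha : P.B a a = 0) (hea : P.B e a = 0) (hk : k ∈ Zh C φ y e) : Commute k (w y e a) :=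
  h.w_Zh he ha hea he he hea k hk

theorem cc (hk : k ∈ Zh C φ y e) (hg : g ∈ Zh C φ y e) : Commute k g := h.Zh_comm he he he hg k hk

omit he in
theorem eta_mem (hc : σ c = c) (hs : σ s = s) : eta C φ y c e s ∈ Zh C φ y e :=
  mul_mem (h.y_mem_Zh hs) (h.z_mem_Zh (by rw [map_mul, hc, hs]))

theorem eta_add (hc : σ c = c) (hs : σ s = s) (hρ : σ ρ = ρ) :
    eta C φ y c e (s + ρ) = eta C φ y c e s * eta C φ y c e ρ := by
  have k1 : σ (c * s) = c * s := by rw [map_mul, hc, hs]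
  rw [eta, eta, eta, (h.zy he he he hρ k1).mul_mul_mul_comm, h.add e s ρ he hs hρ, mul_add,
    h.z_add he k1 (by rw [map_mul, hc, hρ])]

theorem eta_zero : eta C φ y c e 0 = 1 := by rw [eta, mul_zero, h.y_zero he, z0 h.toEmb he, mul_one]

theorem eta_conj {l : S} {μ : K} {e' : V} (he' : P.B e' e' = 0) (hc : σ c = c) (hs : σ s = s)
    (hl : C.act l e' = μ • e) : φ l * eta C φ y c e' s * (φ l)⁻¹ = eta C φ y c e (σ μ * μ * s) := by
  have k1 : σ (c * s) = c * s := by rw [map_mul, hc, hs]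
  rw [eta, ← conj_mul, h.eqv l _ s he' hs, h.z_conj l he' k1, hl, h.smul e s μ he hs, h.z_smul he k1, eta,
    mul_left_comm c]

theorem w_zero : w y e 0 = 1 := by simpa [h.y_zero he] using h.w_self he 0

theorem Pw.mul (k : Pw C φ t y e g v γ ρ) (k' : Pw C φ t y e g' v' γ' ρ') :
    Pw C φ t y e (g * g') (v + v') (γ + γ' + P.B v' v) (ρ + ρ' + (P.B v v' + P.B v' v)) where
  mem := mul_mem k.mem k'.mem
  cZ := mul_mem k.cZ k'.cZ
  ok := k.ok.add k'.ok
  ρF := by rw [map_add, map_add, k.ρF, k'.ρF, trF h.toMod]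
  act d c o := by
    calc _ = g * (g' * x C φ e d c * g'⁻¹) * g⁻¹ := by group
      _ = _ := by
        rw [k'.act d c o, ← conj_mul, k.act d c o, cjc (Commute.symm (k.cZ _ (h.y_mem_Zh (trF h.toMod _ _)))),
          mul_assoc, ← h.add e _ _ he (trF h.toMod _ _) (trF h.toMod _ _), P.B_add_left, P.B_add_right,
          add_add_add_comm]
  tt := by
    calc _ = g * (g' * t * g'⁻¹) * g⁻¹ := by group
      _ = t * (x C φ e v γ * x C φ e v' γ') * (y e ρ * y e (P.B v v' + P.B v' v) * y e ρ') := by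
        rw [k'.tt, ← conj_mul, ← conj_mul, k.tt, k.act _ _ k'.ok, cjc (Commute.symm (k.cZ _ (h.y_mem_Zh k'.ρF))),
          mul_assoc t (x C φ e v γ), mul_assoc t, (cx h he k'.ok (h.y_mem_Zh k.ρF)).mul_mul_mul_comm]
        simp only [mul_assoc]
      _ = _ := by
        rw [x_mul k.ok k'.ok, ← h.add e _ _ he k.ρF (trF h.toMod _ _), ← h.add e _ _ he (by
          rw [map_add, k.ρF, trF h.toMod]) k'.ρF, add_right_comm ρ]

theorem pw_w (ha : P.B a a = 0) (hea : P.B e a = 0) : Pw C φ t y e (w y e a) a 0 0 where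
  mem := h.w_mem he ha hea
  cZ := h.w_Zh he ha hea he he hea
  ok := h.tok1 he ha hea (map_zero σ)
  ρF := map_zero σ
  act d c o := by
    have := h.wx he ha hea o
    rw [mul_inv_eq_iff_eq_mul, mul_assoc, (cx h he o (h.y_mem_Zh (trF h.toMod _ _))).eq] at this
    rw [inv_eq_of_mul_eq_one_right (h.w_sq he ha hea), mul_assoc, this, ← mul_assoc, h.w_sq he ha hea, one_mul]
  tt := by rw [h.w_t he ha hea, h.y_zero he, mul_one]

theorem ker3 (h0 : e ≠ 0) (hu : u ∈ G0 C φ y) (cu : u ∈ centralizer (Zh C φ y e : Set G))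
    (cg : g ∈ centralizer (Zh C φ y e : Set G)) (u4 : u ^ 4 = 1) (g4 : g ^ 4 = 1)
    (h1 : ∀ d γ, TOk P e d γ → g * x C φ e d γ * g⁻¹ = u * x C φ e d γ * u⁻¹) (hk : k ∈ Zh C φ y e)
    (h2 : g * t * g⁻¹ = u * t * u⁻¹ * k) : ∃ k' ∈ Zh C φ y e, g = u * k' := by
  obtain ⟨k', hk', o, ho, ot, od, e1⟩ := h.ker_lem (g := u⁻¹ * g) h0 he (fun q hq => by
      obtain ⟨d, γ, o, rfl⟩ := (h.mem_Q h0 he).1 hq
      refine (coc ?_).symm.eq
      calc _ = u⁻¹ * (g * x C φ e d γ * g⁻¹) * u := by group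
        _ = _ := by rw [h1 d γ o]; group) (mul_mem (inv_mem cu) cg) hk (by
      calc _ = u⁻¹ * (g * t * g⁻¹) * u := by group
        _ = _ := by rw [h2, mul_assoc, mul_assoc _ k, cu k hk]; group)
  rw [inv_mul_eq_iff_eq_mul] at e1
  have c1 : Commute k' o := h.G0_co (h.Zh_le_G0 he hk') o ho ot od
  have c2 : Commute u (k' * o) := Commute.mul_right (Commute.symm (cu k' hk')) (h.G0_co hu o ho ot od)
  rw [e1, c2.mul_pow, c1.mul_pow, u4, four_of_sq (by rw [h.Zh_sq he hk', mul_one]), one_mul, one_mul] at g4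
  have : orderOf o = 1 := ((Nat.coprime_two_right.2 od).pow_right 2).eq_one_of_dvd
    (orderOf_dvd_of_pow_eq_one g4)
  exact ⟨k', hk', by rw [e1, orderOf_eq_one_iff.1 this, mul_one]⟩

theorem Pw.ker (h0 : e ≠ 0) (k : Pw C φ t y e u v γ ρ) (k' : Pw C φ t y e g v γ' ρ') (u4 : u ^ 4 = 1)
    (g4 : g ^ 4 = 1) : ∃ k' ∈ Zh C φ y e, g = u * k' := by
  have hγ : σ (γ + γ') = γ + γ' := by
    rw [map_add]
    linear_combination (h.tok.1 k.ok).2.2 + (h.tok.1 k'.ok).2.2 + h.add_self (P.B v v - γ - γ')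
  refine ker3 h he h0 k.mem k.cZ k'.cZ u4 g4 (fun d γ o => by rw [k.act d γ o, k'.act d γ o])
    (mul_mem (h.y_mem_Zh k.ρF) (mul_mem (h.z_mem_Zh hγ) (h.y_mem_Zh k'.ρF))) ?_
  rw [k.tt, k'.tt, mul_assoc _ (y e ρ), ← mul_assoc (y e ρ), h.y_sq he k.ρF, one_mul,
    ← mul_assoc, mul_assoc t _ (z C φ e _)]
  refine congrArg (fun q => t * q * y e ρ') ((x_mul k.ok (h.tok0 he hγ)).trans ?_).symm
  rw [add_zero, map_zero, LinearMap.zero_apply, add_zero, ← add_assoc, h.add_self, zero_add]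

theorem kap (h0 : e ≠ 0) (ha : P.B a a = 0) (hb : P.B b b = 0) (hea : P.B e a = 0) (heb : P.B e b = 0) :
    ∃ r, σ r = r ∧ w y e a * w y e b * w y e a * w y e b = y e (P.B a b + P.B b a) * z C φ e r := by
  have A := pw_w h he ha hea
  have B := pw_w h he hb heb
  have A2 := h.w_sq he ha hea
  obtain ⟨k, hk, e1⟩ := A.ker h he h0 (((B.mul h he A).mul h he B).cast
    (by rw [add_right_comm, h.vadd_self, zero_add]) rfl rfl) (four_of_sq (by rw [A2, mul_one])) (four_of_sq (by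
      rw [show w y e b * w y e a * w y e b * (w y e b * w y e a * w y e b) =
        w y e b * (w y e a * (w y e b * w y e b) * w y e a) * w y e b by group, h.w_sq he hb heb, mul_one, A2, mul_one,
        h.w_sq he hb heb, mul_one]))
  have e2 : w y e a * w y e b * (w y e a * w y e b) = k := by
    rw [← one_mul k, ← A2, mul_assoc _ _ k, ← e1]; group
  obtain ⟨s, r, hs, hr, rfl⟩ := (h.mem_Zh he).1 hk
  have := (((A.mul h he B).mul h he (A.mul h he B)).cast (v' := 0) (γ' := P.B a b + P.B b a) (ρ' := 0)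
    (h.vadd_self _) (by
      simp only [P.B_add_left, P.B_add_right, ha, hb]; linear_combination h.add_self (P.B b a))
    (by rw [h.add_self, h.add_self, add_zero])).tt
  rw [e2, h.zy_t he hs hr, h.y_zero he, mul_one, mul_right_inj] at this
  obtain rfl := z_inj h.toEmb h0 he hr (trF h.toMod a b) this
  exact ⟨s, hs, by rw [mul_assoc, e2, (h.zy he he he hr hs).eq]⟩

theorem kap_mem (h0 : e ≠ 0) (ha : P.B a a = 0) (hb : P.B b b = 0) (hea : P.B e a = 0) (heb : P.B e b = 0) :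
    w y e a * w y e b * w y e a * w y e b ∈ Zh C φ y e := by
  obtain ⟨r, hr, e1⟩ := kap h he h0 ha hb hea heb
  exact e1 ▸ mul_mem (h.y_mem_Zh (trF h.toMod _ _)) (h.z_mem_Zh hr)

theorem ww4 (h0 : e ≠ 0) (ha : P.B a a = 0) (hb : P.B b b = 0) (hea : P.B e a = 0) (heb : P.B e b = 0) :
    (w y e a * w y e b) ^ 4 = 1 :=
  four_of_sq (by rw [← mul_assoc _ (w y e a)]; exact h.Zh_sq he (kap_mem h he h0 ha hb hea heb))

theorem w_cj {e' a' : V} (he' : P.B e' e' = 0) (ha' : P.B a' a' = 0) (hea' : P.B e' a' = 0) (ha : P.B a a = 0)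
    (hea : P.B e a = 0) {l : S} {μ ν : K} (e1 : C.act l e' = μ • e) (e2 : C.act l a' = ν • a) (m : K) :
    φ l * w y e' (m • a') * (φ l)⁻¹ = w y e ((σ μ * (m * ν)) • a) := by
  rw [h.w_conj he' (by simp [ha']) (by simp [hea']), e1, map_smul, e2, h.wsmul _ _ _ he (by simp [ha]) (by simp [hea]),
    smul_smul, smul_smul, mul_assoc]

omit he in
/-- the commutators on a hyperbolic pair orthogonal to `e` -/
theorem kp_eq (k : HH P e f a b) : ∃ c, σ c = c ∧ ∀ l m : K, w y e (l • a) * w y e (m • b) * w y e (l • a) *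
    w y e (m • b) = eta C φ y c e (σ l * m + σ m * l) := by
  have he := k.h₁.se.self_eq
  have ha := k.h₂.se.self_eq
  have hb := k.h₂.sf.self_eq
  have h0 : e ≠ 0 := fun e0 => by have := k.h₁.ef; rw [e0] at this; simp at this
  obtain ⟨κ, hκ⟩ : ∃ κ : K → K → G, ∀ l m, κ l m = w y e (l • a) * w y e (m • b) * w y e (l • a) * w y e (m • b) :=
    ⟨_, fun _ _ => rfl⟩
  have ia : ∀ l : K, P.B (l • a) (l • a) = 0 := fun l => by simp [ha]
  have ib : ∀ l : K, P.B (l • b) (l • b) = 0 := fun l => by simp [hb]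
  have ea : ∀ l : K, P.B e (l • a) = 0 := fun l => by simp [k.ee]
  have eb : ∀ l : K, P.B e (l • b) = 0 := fun l => by simp [k.ef]
  have mem : ∀ l m, κ l m ∈ Zh C φ y e := fun l m => hκ l m ▸ kap_mem h he h0 (ia l) (ib m) (ea l) (eb m)
  have add : ∀ l m m', κ l (m + m') = κ l m * κ l m' := fun l m m' => by
    have c : Commute (w y e (m • b)) (w y e (m' • b)) := by
      show _ * _ = _ * _
      rw [← h.wadd _ _ _ he (ib m) (ib m') (eb m) (eb m') (by simp [hb]),
        ← h.wadd _ _ _ he (ib m') (ib m) (eb m') (eb m) (by simp [hb]), add_comm]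
    rw [hκ, hκ, hκ, add_smul, h.wadd _ _ _ he (ib m) (ib m') (eb m) (eb m') (by simp [hb])]
    exact cm_add (h.w_sq he (ia l) (ea l)) c (cw h he (ib m) (eb m) (hκ l m' ▸ mem l m'))
  have cj : ∀ (d : S) (μ ν ν' : K), C.act d e = μ • e → C.act d a = ν • a → C.act d b = ν' • b → ∀ l m,
      φ d * κ l m * (φ d)⁻¹ = κ (σ μ * (l * ν)) (σ μ * (m * ν')) := fun d μ ν ν' e1 e2 e3 l m => by
    rw [hκ, hκ, cj4, w_cj h he he ha k.ee ha k.ee e1 e2, w_cj h he he hb k.ef hb k.ef e1 e3]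
  have z1 : ∀ l, κ l 0 = 1 := fun l => by simpa using add l 0 0
  have one : ∀ l m, κ l m = κ 1 (σ l * m) := fun l m => by
    by_cases l0 : l = 0
    · rw [l0, map_zero, zero_mul, z1, hκ, zero_smul, w_zero h he, one_mul, mul_one, h.w_sq he (ib m) (eb m)]
    obtain ⟨p, hp, -⟩ := h.exists_sqrt l
    obtain ⟨n, hn, nF, -⟩ := h.exists_sqrt (σ p * p)
    replace nF := nF (by rw [map_mul, P.σσ, mul_comm])
    have p0 : p ≠ 0 := fun e0 => l0 (by rw [← hp, e0, mul_zero])
    have sp : σ p ≠ 0 := (map_ne_zero σ).2 p0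
    have n0 : n ≠ 0 := fun e0 => mul_ne_zero sp p0 (by rw [← hn, e0, mul_zero])
    obtain ⟨d, -, e1, -, e2, e3, -⟩ := h.exists_diag k (div_ne_zero n0 p0) (mul_ne_zero n0 p0) (by
      rw [show n / p * (n * p) = n * n by field_simp, map_mul, nF])
    have := cj d _ _ _ e1 e2 e3 1 (σ l * m)
    rw [cjc (h.Zh_fix he (by rw [map_div₀, nF]; field_simp; linear_combination hn) e1 (mem _ _))] at this
    rw [this, ← hp]
    simp only [map_div₀, map_mul, nF]
    congr 1 <;> field_simp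
    linear_combination -hn
  have sym : ∀ m, κ 1 (σ m) = κ 1 m := fun m => by
    obtain ⟨j, e2, e3, e1⟩ := h.exists_swap1 k.h₂
    replace e1 := e1 e (P.B_eq_zero_comm.1 k.ee) (P.B_eq_zero_comm.1 k.ef)
    have c := cjc (h.Zh_fix he (μ := 1) (by simp) (by rw [e1, one_smul]) (mem 1 m))
    rw [← mul_one (σ m), ← one, ← c, ← inv_eq_of_mul_eq_one_right (h.Zh_sq he (mem m 1)), hκ, hκ, cj4,
      w_cj h he he ha k.ee hb k.ef (μ := 1) (ν := 1) (by rw [e1, one_smul]) (by rw [e2, one_smul]),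
      w_cj h he he hb k.ef ha k.ee (μ := 1) (ν := 1) (by rw [e1, one_smul]) (by rw [e3, one_smul])]
    simp only [map_one, mul_one, one_mul, _root_.mul_inv_rev, mul_assoc,
      inv_eq_of_mul_eq_one_right (h.w_sq he (ia m) (ea m)), inv_eq_of_mul_eq_one_right (h.w_sq he (ib 1) (eb 1))]
  obtain ⟨θ, hθ⟩ := h.herm.exists_trace_one
  obtain ⟨c, hc, ec⟩ := kap h he h0 (ia 1) (ib θ) (ea 1) (eb θ)
  rw [← hκ, show P.B ((1 : K) • a) (θ • b) + P.B (θ • b) ((1 : K) • a) = 1 by simp [k.h₂.ef, k.h₂.fe, hθ],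
    ← mul_one c, ← eta] at ec
  have hom : ∀ n, σ n = n → κ 1 (n * θ) = eta C φ y c e n := fun n hn => by
    by_cases n0 : n = 0
    · rw [n0, zero_mul, z1, eta_zero h he]
    obtain ⟨ν, rfl, nF, -⟩ := h.exists_sqrt n
    obtain ⟨d, -, e1, -, e2⟩ := h.exists_diag1 k.h₁ (left_ne_zero_of_mul n0) (nF hn)
    have := cj d ν 1 1 e1 (by rw [e2 a k.ee k.fe, one_smul]) (by rw [e2 b k.ef k.ff, one_smul]) 1 θ
    rw [ec, eta_conj h he he hc (map_one σ) e1, one] at this
    simpa only [mul_one, nF hn, mul_assoc] using this.symm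
  refine ⟨c, hc, fun l m => ?_⟩
  have T : σ (σ l * m + σ m * l) = σ l * m + σ m * l := by simp only [map_add, map_mul, P.σσ]; ring
  have e1 : κ 1 (σ l * m) = κ 1 (σ (σ θ * (σ l * m)) + σ θ * (σ l * m) + (σ l * m + σ m * l) * θ) := congrArg _ (by
    simp only [map_mul, P.σσ]; linear_combination (-σ l * m) * hθ - h.add_self (θ * l * σ m))
  rw [← hκ, one, ← hom _ T, e1, add, add, sym, h.Zh_sq he (mem _ _), one_mul]

omit h he in
theorem li3 (h0 : e ≠ 0) (ha : P.B a a = 0) (hb : P.B b b = 0) (hea : P.B e a = 0) (heb : P.B e b = 0)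
    (hab : P.B a b ≠ 0) : LinearIndependent K ![e, a, b] := by
  refine Fintype.linearIndependent_iff.2 fun l e1 => ?_
  simp only [Fin.sum_univ_three, Matrix.cons_val_zero, Matrix.cons_val_one, Matrix.cons_val] at e1
  have h2 : l 2 = 0 := by simpa [ha, P.B_eq_zero_comm.1 hea, hab] using congrArg (P.B a) e1
  have h1 : l 1 = 0 := by
    simpa [hb, P.B_eq_zero_comm.1 heb, mt P.B_eq_zero_comm.1 hab] using congrArg (P.B b) e1
  have h3 : l 0 = 0 := by simpa [h1, h2, h0] using e1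
  intro i
  fin_cases i
  exacts [h3, h1, h2]

omit he in
theorem transport (k : HH P e f a b) {e' a' b' : V} (h0 : e' ≠ 0) (he : P.B e' e' = 0) (ha : P.B a' a' = 0)
    (hb : P.B b' b' = 0) (hea : P.B e' a' = 0) (heb : P.B e' b' = 0) (hab : P.B a' b' ≠ 0) :
    ∃ l μ, σ μ * μ = 1 ∧ C.act l e' = μ • e ∧ C.act l a' = (1 : K) • a ∧ C.act l b' = P.B a' b' • b := by
  have h0' : e ≠ 0 := fun e0 => by have := k.h₁.ef; rw [e0] at this; simp at this
  obtain ⟨l, μ, hμ, e1, e2⟩ := h.witt' (li3 h0 ha hb hea heb hab) (li3 (b := P.B a' b' • b) h0' k.h₂.se.self_eq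
    (by simp [k.h₂.sf.self_eq]) k.ee (by simp [k.ef]) (by simp [k.h₂.ef, hab])) (fun i j => by
      fin_cases i <;> fin_cases j <;> simp [he, ha, hb, hea, heb, P.B_eq_zero_comm.1 hea, P.B_eq_zero_comm.1 heb,
        k.h₁.se.self_eq, k.h₂.se.self_eq, k.h₂.sf.self_eq, k.ee, k.ef, P.B_eq_zero_comm.1 k.ee,
        P.B_eq_zero_comm.1 k.ef, k.h₂.ef, k.h₂.fe, h.conj]) 0 (fun i => by fin_cases i <;> simp [he, hea, heb])
  exact ⟨l, μ, hμ, e1, (e2 1 (by decide)).trans (one_smul K a).symm, e2 2 (by decide)⟩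

omit he in
theorem wadd_hh (k : HH P e f a b) (hc : σ c = c) (hk : ∀ l m : K, w y e (l • a) * w y e (m • b) * w y e (l • a) *
    w y e (m • b) = eta C φ y c e (σ l * m + σ m * l)) (hs : σ s = s) (l : K) :
    w y e (l • (a + s • b)) = w y e (l • a) * w y e ((l * s) • b) * eta C φ y c e (s * (σ l * l)) := by
  have he := k.h₁.se.self_eq
  have ha := k.h₂.se.self_eq
  have hb := k.h₂.sf.self_eq
  have h0 : e ≠ 0 := fun e0 => by have := k.h₁.ef; rw [e0] at this; simp at this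
  have hd : P.B (a + s • b) (a + s • b) = 0 := by simp [ha, hb, k.h₂.ef, k.h₂.fe, hs, h.add_self]
  have ed : P.B e (a + s • b) = 0 := by simp [k.ee, k.ef]
  have ia : ∀ l : K, P.B (l • a) (l • a) = 0 := fun l => by simp [ha]
  have ib : ∀ l : K, P.B (l • b) (l • b) = 0 := fun l => by simp [hb]
  have id : ∀ l : K, P.B (l • (a + s • b)) (l • (a + s • b)) = 0 := fun l => by
    rw [P.B_smul_left, P.B_smul_right, hd, mul_zero, mul_zero]
  have ea : ∀ l : K, P.B e (l • a) = 0 := fun l => by simp [k.ee]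
  have eb : ∀ l : K, P.B e (l • b) = 0 := fun l => by simp [k.ef]
  have ed' : ∀ l : K, P.B e (l • (a + s • b)) = 0 := fun l => by rw [P.B_smul_right, ed, mul_zero]
  have NF : ∀ l : K, σ (s * (σ l * l)) = s * (σ l * l) := fun l => by simp only [map_mul, hs, P.σσ]; ring
  choose δ mem eδ using fun l : K => (((pw_w h he (ia l) (ea l)).mul h he (pw_w h he (ib (l * s)) (eb _))).cast
    (v' := l • (a + s • b)) (by rw [smul_add, smul_smul]) rfl rfl).ker h he h0 (pw_w h he (id l) (ed' l))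
    (ww4 h he h0 (ia l) (ib _) (ea l) (eb _)) (four_of_sq (by rw [h.w_sq he (id l) (ed' l), mul_one]))
  obtain ⟨ε, hε⟩ : ∃ ε : K → G, ∀ l, ε l = δ l * eta C φ y c e (s * (σ l * l)) := ⟨_, fun _ => rfl⟩
  have add : ∀ l l', ε (l + l') = ε l * ε l' := fun l l' => by
    have T : σ (σ l' * (l * s) + σ (l * s) * l') = σ l' * (l * s) + σ (l * s) * l' := by
      simp only [map_add, map_mul, P.σσ, hs]; ring
    have m := eta_mem h (e := e) hc T
    have e1 := eδ (l + l')
    rw [add_smul, h.wadd _ _ _ he (id l) (id l') (ed' l) (ed' l') (by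
      rw [P.B_smul_left, P.B_smul_right, hd, mul_zero, mul_zero]), eδ l, eδ l', add_smul, add_mul, add_smul,
      h.wadd _ _ _ he (ia l) (ia l') (ea l) (ea l') (by simp [ha]),
      h.wadd _ _ _ he (ib _) (ib _) (eb _) (eb _) (by simp [hb])] at e1
    rw [hε, hε, hε, del_add (h.w_sq he (ia l') (ea l')) (h.w_sq he (ib _) (eb _)) (hk l' (l * s))
      (cw h he (ia l') (ea l') (mem l)) (cw h he (ib _) (eb _) (mem l)) (cw h he (ib _) (eb _) m)
      (cw h he (ib _) (eb _) m) e1.symm, show s * (σ (l + l') * (l + l')) = s * (σ l * l) + s * (σ l' * l') +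
        (σ l' * (l * s) + σ (l * s) * l') by simp only [map_add, map_mul, hs]; ring,
      eta_add h he hc (by rw [map_add, NF, NF]) T, eta_add h he hc (NF l) (NF l')]
    exact eps_add (h.Zh_sq he m) (cc h he m (mem _)) (cc h he m (mem _)) (cc h he m (eta_mem h hc (NF _)))
      (cc h he m (eta_mem h hc (NF _))) (cc h he (mem _) (eta_mem h hc (NF _)))
  obtain ⟨μ, μ1, hμ⟩ := h.herm.exists_norm_one_ne_one
  have μ0 : μ ≠ 0 := right_ne_zero_of_mul_eq_one hμ
  have sμ : (σ μ)⁻¹ = μ := inv_eq_of_mul_eq_one_right hμ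
  obtain ⟨d, -, e1, -, e2, e3, -⟩ := h.exists_diag k (inv_ne_zero μ0) μ0 (by simp [μ0])
  rw [sμ] at e3
  have inv : ∀ l, ε (μ * (l * μ)) = ε l := fun l => by
    have e4 := congrArg (fun q => φ d * q * (φ d)⁻¹) (eδ l)
    simp only [← conj_mul] at e4
    rw [w_cj h he he hd ed hd ed e1 (ν := μ) (by rw [map_add, map_smul, e2, e3, smul_add, smul_comm]),
      w_cj h he he ha k.ee ha k.ee e1 e2, w_cj h he he hb k.ef hb k.ef e1 e3, map_inv₀, sμ, eδ,
      cjc (h.Zh_fix he (by rw [map_inv₀, ← mul_inv, hμ, inv_one]) e1 (mem l)),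
      show μ * (l * μ) * s = μ * (l * s * μ) by ring, mul_right_inj] at e4
    rw [hε, hε, e4]
    congr 3
    simp only [map_mul]
    linear_combination (σ l * l * (σ μ * μ + 1)) * hμ
  have μ2 : μ * μ + 1 ≠ 0 := fun e0 => μ1 (h.eq_one_of_sq (by linear_combination e0 - h.add_self 1))
  have := add (μ * (l / (μ * μ + 1) * μ)) (l / (μ * μ + 1))
  rw [inv, hε (l / _), h.Zh_sq he (mul_mem (mem _) (eta_mem h hc (NF _))), show μ * (l / (μ * μ + 1) * μ) +
    l / (μ * μ + 1) = l by linear_combination div_mul_cancel₀ l μ2, hε] at this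
  rw [eδ, eq_inv_of_mul_eq_one_left this, inv_eq_of_mul_eq_one_right (h.Zh_sq he (eta_mem h hc (NF l)))]

omit h he in
theorem cj_cancel {H : Type*} [Group H] {g u v : H} (e : g * u * g⁻¹ = g * v * g⁻¹) : u = v := by simpa using e

theorem w_zero' : w y 0 e = 1 := by rw [w, add_zero, h.y_sq he (map_one σ), h.y_zero' (map_one σ), mul_one]

omit he in
theorem eta_zero' (hc : σ c = c) (hs : σ s = s) : eta C φ y c 0 s = 1 := by
  rw [eta, h.y_zero' hs, one_mul, h.z_eq_one (by simp) (by rw [map_mul, hc, hs])]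
  exact Or.inl rfl

omit he in
theorem exists_c : ∃ c, σ c = c ∧ (∀ e a b, P.B e e = 0 → P.B a a = 0 → P.B b b = 0 → P.B e a = 0 → P.B e b = 0 →
    w y e a * w y e b * w y e a * w y e b = eta C φ y c e (P.B a b + P.B b a)) ∧
    ∀ e a b, P.B e e = 0 → P.B a a = 0 → P.B b b = 0 → P.B e a = 0 → P.B e b = 0 → P.B a b = P.B b a →
      w y e (a + b) = w y e a * w y e b * eta C φ y c e (P.B a b) := by
  obtain ⟨e, -, f, -, hf⟩ := h.exists_hp_perp (U := ⊥) disjoint_bot_left (by have := h.d4; simp; omega)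
  obtain ⟨a, b, k⟩ := h.exists_hh hf
  obtain ⟨c, hc, hk⟩ := kp_eq h k
  have he := k.h₁.se.self_eq
  have ha := k.h₂.se.self_eq
  have hb := k.h₂.sf.self_eq
  refine ⟨c, hc, fun e' a' b' he' ha' hb' hea heb => ?_, fun e' a' b' he' ha' hb' hea heb hab => ?_⟩
  · by_cases h0 : e' = 0
    · rw [h0, w_zero' h ha', w_zero' h hb', eta_zero' h hc (trF h.toMod _ _)]; simp
    by_cases k0 : P.B a' b' = 0
    · have k1 := P.B_eq_zero_comm.1 k0
      rw [k0, k1, add_zero, eta_zero h he', mul_assoc, ← h.wadd _ _ _ he' ha' hb' hea heb k0]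
      exact h.w_sq he' (by simp [ha', hb', k0, k1]) (by simp [hea, heb])
    obtain ⟨l, μ, hμ, e1, e2, e3⟩ := transport h k h0 he' ha' hb' hea heb k0
    refine cj_cancel (g := φ l) ?_
    rw [eta_conj h he he' hc (trF h.toMod _ _) e1, ← one_smul K a', ← one_smul K b', cj4,
      w_cj h he he' ha' hea ha k.ee e1 e2, w_cj h he he' hb' heb hb k.ef e1 e3, hk]
    congr 1
    simp only [map_mul, one_smul, one_mul, mul_one, P.σσ, h.conj]
    ring
  · have hs : σ (P.B a' b') = P.B a' b' := by rw [h.conj, hab]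
    have i1 : P.B (a' + b') (a' + b') = 0 := by simp [ha', hb', hab, h.add_self]
    by_cases h0 : e' = 0
    · rw [h0, w_zero' h ha', w_zero' h hb', w_zero' h i1, eta_zero' h hc hs]; simp
    by_cases k0 : P.B a' b' = 0
    · rw [k0, eta_zero h he', mul_one, h.wadd _ _ _ he' ha' hb' hea heb k0]
    obtain ⟨l, μ, hμ, e1, e2, e3⟩ := transport h k h0 he' ha' hb' hea heb k0
    have e4 : C.act l (a' + b') = (1 : K) • (a + P.B a' b' • b) := by rw [map_add, e2, e3, one_smul, one_smul]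
    refine cj_cancel (g := φ l) ?_
    have k1 := w_cj h he he' ha' hea ha k.ee e1 e2 1
    have k2 := w_cj h he he' hb' heb hb k.ef e1 e3 1
    have k3 := w_cj h he he' i1 (by simp [hea, heb]) (by simp [ha, hb, k.h₂.ef, k.h₂.fe, hs, h.add_self])
      (by simp [k.ee, k.ef]) e1 e4 1
    simp only [one_smul, mul_one, one_mul] at k1 k2 k3
    rw [← conj_mul, ← conj_mul, eta_conj h he he' hc hs e1, k1, k2, k3, wadd_hh h k hc hk hs, P.σσ, hμ, mul_comm μ, hμ,
      mul_one, one_mul]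

theorem yw (hc : σ c = c) (ww : ∀ a b, P.B a a = 0 → P.B b b = 0 → P.B e a = 0 → P.B e b = 0 →
    w y e a * w y e b * w y e a * w y e b = eta C φ y c e (P.B a b + P.B b a))
    (wa : ∀ a b, P.B a a = 0 → P.B b b = 0 → P.B e a = 0 → P.B e b = 0 → P.B a b = P.B b a →
      w y e (a + b) = w y e a * w y e b * eta C φ y c e (P.B a b)) (ha : P.B a a = 0) (hb : P.B b b = 0)
    (hea : P.B e a = 0) (heb : P.B e b = 0) (hs : σ s = s) : ∃ g ∈ Zh C φ y e, y a s * w y e b * y a s =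
      w y e b * w y e ((s * P.B a b) • a) * x C φ e ((c * s * P.B a b) • a) 0 * g := by
  have ia : ∀ l : K, P.B (l • a) (l • a) = 0 := fun l => by simp [ha]
  have ea : ∀ l : K, P.B e (l • a) = 0 := fun l => by simp [hea]
  have hae := P.B_eq_zero_comm.1 hea
  have Y2 := h.y_sq ha hs
  have o0 : ∀ l : K, TOk P e (l • a) 0 := fun l => h.tok1 he (ia l) (ea l) (map_zero σ)
  by_cases h0 : e = 0
  · subst h0
    refine ⟨1, one_mem _, ?_⟩
    rw [w_zero' h hb, w_zero' h (ia _), x, h.T_symm he (ia _) (ea _), C.T_zero (h.herm.sing_iff _ |>.2 (ia _))]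
    simp [Y2]
  have B := pw_w h he hb heb
  have U := B.mul h he (pw_w h he (ia (s * P.B a b)) (ea _))
  have cY : y a s ∈ centralizer (Zh C φ y e : Set G) := h.Zh_comm ha he hae (h.y_mem_Zh hs)
  have Yk : ∀ k ∈ Zh C φ y e, MulAut.conj (y a s) k = k := fun k hk => cjc (Commute.symm (cY k hk))
  have Wk : ∀ k ∈ Zh C φ y e, MulAut.conj (w y e b) k = k := fun k hk => cjc (cw h he hb heb hk).symm
  have YA : ∀ l : K, MulAut.conj (y a s) (w y e (l • a)) = w y e (l • a) := fun l =>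
    cjc (h.w_Zh he (ia l) (ea l) ha hae (by simp [ha]) _ (h.y_mem_Zh hs))
  have Yx : ∀ d γ, TOk P e d γ → MulAut.conj (y a s) (x C φ e d γ) =
      x C φ e d γ * w y e ((s * P.B a d) • a) * y e (s * (P.B a d * P.B d a)) := fun d γ o => by
    rw [MulAut.conj_apply, inv_eq_of_mul_eq_one_right Y2, h.yx he ha hea o hs]
  have nF : ∀ d, σ (s * (P.B a d * P.B d a)) = s * (P.B a d * P.B d a) := fun d => by
    rw [map_mul, map_mul, hs, h.conj, h.conj, mul_comm (P.B d a)]
  have X2 : x C φ e ((c * s * P.B a b) • a) 0 * x C φ e ((c * s * P.B a b) • a) 0 = 1 := by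
    rw [x_mul (o0 _) (o0 _), h.vadd_self, ia, add_zero, add_zero]
    exact z0 h.toEmb he
  have zm : σ (s * (P.B a b * P.B b a) + c * (s * (P.B a b * P.B b a))) =
      s * (P.B a b * P.B b a) + c * (s * (P.B a b * P.B b a)) := by rw [map_add, map_mul σ c, hc, nF]
  refine ker3 h he h0 (mul_mem U.mem (mem_sup_left ⟨_, rfl⟩)) (mul_mem U.cZ fun k hk => cx h he (o0 _) hk)
    (mul_mem (mul_mem cY B.cZ) cY) (pow4 (U.act _ _ (o0 _)) X2 (h.y_sq he (trF h.toMod _ _))
      (U.cZ _ (h.y_mem_Zh (trF h.toMod _ _))) (cx h he (o0 _) (h.y_mem_Zh (trF h.toMod _ _)))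
      (ww4 h he h0 hb (ia _) heb (ea _))) (four_of_sq (by
        rw [show ∀ Y W : G, Y * W * Y * (Y * W * Y) = Y * (W * (Y * Y) * W) * Y from fun Y W => by group, Y2, mul_one,
          h.w_sq he hb heb, mul_one, Y2, mul_one])) (fun d γ o => ?_) (h.z_mem_Zh zm) ?_
  · have WA : MulAut.conj (w y e b) (w y e ((s * P.B a d) • a)) = w y e ((s * P.B a d) • a) *
        eta C φ y c e (P.B ((s * P.B a d) • a) b + P.B b ((s * P.B a d) • a)) := by
      rw [MulAut.conj_apply, inv_eq_of_mul_eq_one_right (h.w_sq he hb heb), ← ww _ _ (ia _) hb (ea _) heb,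
        ← mul_assoc, ← mul_assoc, ← mul_assoc, h.w_sq he (ia _) (ea _), one_mul]
    have m1 := h.y_mem_Zh (p := e) (nF d)
    have m2 := h.y_mem_Zh (p := e) (trF h.toMod b d)
    have m3 := eta_mem h (e := e) hc (trF h.toMod ((s * P.B a d) • a) b)
    have Wx : MulAut.conj (w y e b) (x C φ e d γ) = _ := B.act d γ o
    have e1 : x C φ e ((c * s * P.B a b) • a) 0 * x C φ e d γ * (x C φ e ((c * s * P.B a b) • a) 0)⁻¹ =
        x C φ e d γ * z C φ e (c * (P.B ((s * P.B a d) • a) b + P.B b ((s * P.B a d) • a))) := by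
      have hz : σ (c * (P.B ((s * P.B a d) • a) b + P.B b ((s * P.B a d) • a))) =
          c * (P.B ((s * P.B a d) • a) b + P.B b ((s * P.B a d) • a)) := by rw [map_mul, hc, trF h.toMod]
      rw [mul_inv_eq_iff_eq_mul, x_mul (o0 _) o, show z C φ e _ = x C φ e 0 _ from rfl, x_mul o (h.tok0 he hz),
        x_mul (o.add (h.tok0 he hz)) (o0 _), add_zero, add_comm d]
      congr 1
      simp only [P.B_smul_left, P.B_smul_right, map_mul, hc, hs, h.conj, map_zero, LinearMap.zero_apply]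
      linear_combination -h.add_self (c * s * P.B a d * P.B b a)
    rw [cj3 Y2, show ∀ U X q : G, U * X * q * (U * X)⁻¹ = U * (X * q * X⁻¹) * U⁻¹ from fun U X q => by group, e1,
      ← conj_mul, U.act d γ o, cjc (Commute.symm (U.cZ _ (h.z_mem_Zh (by rw [map_mul, hc, trF h.toMod]))))]
    simp only [Yx d γ o, map_mul, Wx, WA, YA, Wk _ m1, Yk _ m1, Yk _ m2, Yk _ m3]
    rw [fin1 (h.w_sq he (ia _) (ea _)) (h.Zh_sq he m1) (cw h he (ia _) (ea _) m1) (cw h he (ia _) (ea _) m2)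
      (cc h he m1 m2) (cc h he m1 m3), eta, ← mul_assoc (y e _), ← h.add e _ _ he (trF h.toMod _ _) (trF h.toMod _ _),
      ← mul_assoc]
    congr 3
    simp only [P.B_smul_left, P.B_smul_right, P.B_add_left, P.B_add_right, map_mul, hs, h.conj]
    ring
  · have n1 : P.B b ((s * P.B a b) • a) = s * (P.B a b * P.B b a) := by rw [P.B_smul_right, mul_assoc]
    have n2 : P.B ((s * P.B a b) • a) b = s * (P.B a b * P.B b a) := by
      rw [P.B_smul_left, map_mul, hs, h.conj, mul_assoc, mul_comm (P.B b a)]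
    have fe := T0_fix h.toMod ha hs hae
    have fb : C.act (C.T a 0 s) b = b + (s * P.B a b) • a := by simp [h.T_app (h.tok0 ha hs), hs]
    have ob := h.tok1 he hb heb (map_zero σ)
    have m1 : z C φ e (c * (s * (P.B a b * P.B b a))) ∈ Zh C φ y e := h.z_mem_Zh (by rw [map_mul, hc, nF])
    have Wζ : MulAut.conj (w y e b) (z C φ a s) =
        w y e ((s * P.B a b) • a) * eta C φ y c e (s * (P.B a b * P.B b a)) * z C φ a s := by
      have := h.w_conj he hb heb (C.T a 0 s)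
      rw [fe, fb, wa _ _ hb (ia _) heb (ea _) (n1.trans n2.symm), n1, mul_inv_eq_iff_eq_mul] at this
      rw [MulAut.conj_apply, inv_eq_of_mul_eq_one_right (h.w_sq he hb heb), mul_assoc, z, this, ← mul_assoc,
        ← mul_assoc, ← mul_assoc, h.w_sq he hb heb, one_mul]
    have Yt : MulAut.conj (y a s) t = t * z C φ a s := (h.mv a s ha hs).pt
    have Wt : MulAut.conj (w y e b) t = t * x C φ e b 0 := h.w_t he hb heb
    have Yζ : MulAut.conj (y a s) (z C φ a s) = z C φ a s := cjc (h.zy ha ha ha hs hs).symm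
    have ζx := h.x_conj (C.T a 0 s) ob
    rw [fe, fb] at ζx
    rw [cj3 Y2, show ∀ U X q : G, U * X * q * (U * X)⁻¹ = U * (X * q * X⁻¹) * U⁻¹ from fun U X q => by group,
      show x C φ e ((c * s * P.B a b) • a) 0 * t * (x C φ e ((c * s * P.B a b) • a) 0)⁻¹ = t from cjc (h.tφ _), U.tt]
    simp only [Yt, map_mul, Wt, Wζ, Yζ, YA, Yx b 0 ob, Yk _ (eta_mem h hc (nF b))]
    rw [eta, fin2 (h.w_sq he (ia _) (ea _)) (h.y_sq he (nF b)) (cw h he (ia _) (ea _) (h.y_mem_Zh (nF b)))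
      (h.z_sq ha hs) (zz h.toEmb he ha hea (by rw [map_mul, hc, nF]) hs), n1, n2, h.add_self, h.add_self, add_zero,
      zero_add, h.y_zero he, mul_one, h.z_add he (nF b) (by rw [map_mul, hc, nF]), ← mul_assoc _ (z C φ e _),
      show z C φ e (s * _) = x C φ e 0 _ from rfl, mul_assoc t (x C φ e _ _) (x C φ e _ _),
      x_mul (by simpa only [n2, add_zero, zero_add] using U.ok) (h.tok0 he (nF b)), h.add_self, add_zero, map_zero,
      LinearMap.zero_apply, add_zero, ← ζx]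
    rfl

end HeisP

theorem HL.hq {y : V → K → G} (h : HL C φ t y) : ∃ c, HQ C φ t y c := by
  obtain ⟨c, hc, ww, wa⟩ := HeisP.exists_c h
  exact ⟨c, h, hc, ww, fun e a b he ha hb hea heb hab => (wa e a b he ha hb hea heb hab).trans (mul_assoc _ _ _).symm,
    fun e a b s he ha hb hea heb hs => HeisP.yw h he hc (fun a b => ww e a b he) (fun a b => wa e a b he) ha hb hea
      heb hs⟩

end CfsgLib.U5
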