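import Cfsg.Agent.Lib.U5.Odd

/-! Involutions of the unitary group -/

set_option autoImplicit false
set_option linter.unusedSectionVars false

namespace CfsgLib.U5

open Subgroup Module CfsgLib.Forms CfsgLib.LieMult
open CfsgLib.HX (Std CO Two Mv Tr Heis NF Fus4 Has4 M2)
open Submodule (span)
open scoped commutatorElement Pointwise

universe u

variable {K : Type} [Field K] [Finite K] {σ : K →+* K} {V : Type} [AddCommGroup V] [Module K V]
  [FiniteDimensional K V] {P : PQ σ V} {S : Type} [Group S] [Finite S] {G : Type u} [Group G]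
  [Finite G] {C : CG P S} {φ : S →* G} {t : G}

namespace Mod

variable (h : Mod C) {j : S}
include h

theorem invol_prod (j2 : j * j = 1) : ∃ v : Fin (finrank K (LinearMap.range (nu C j))) → V,
    LinearIndependent K v ∧ (∀ i k, P.B (v i) (v k) = 0) ∧
      ∀ a, C.act j a = a + ∑ i, P.B (v i) a • v i := by
  have hn : ∀ v, nu C j v = C.act j v - v := fun _ => rfl
  have jj : ∀ v, C.act j (C.act j v) = v := fun v => by rw [← C.mul_apply, j2, C.one_apply]
  have adj : ∀ u v, P.B (nu C j u) v = P.B u (nu C j v) := fun u v => by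
    rw [hn, hn, P.B_sub_left, P.B_sub_right, ← C.B_act j u (C.act j v), jj]
  have nn : ∀ v, nu C j (nu C j v) = 0 := fun v => by
    rw [hn, hn, map_sub, jj]
    linear_combination (norm := module) h.vadd_self v - h.vadd_self (C.act j v)
  obtain ⟨s, hs⟩ := (nu C j).rangeRestrict.exists_rightInverse_of_surjective (LinearMap.range_rangeRestrict _)
  have hs' : ∀ x, nu C j (s x) = x := fun x => congrArg Subtype.val (LinearMap.congr_fun hs x)
  let β := (P.B.comp s).compl₂ (LinearMap.range (nu C j)).subtype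
  have hβ : ∀ x y, β x y = P.B (s x) y := fun _ _ => rfl
  have hS : β.IsSymm := ⟨fun x y => by rw [hβ, hβ, h.conj, ← hs' y, adj, hs']⟩
  obtain ⟨v, hv⟩ := (ofHerm_isHerm h.herm.σ_ne h.σσ β hS h.herm.norm_surj).exists_orthonormal_basis
    fun x hx => Subtype.ext (C.nondeg _ fun a => by
      rw [← hs' x, adj]
      exact hx ⟨_, a, rfl⟩)
  simp only [ofHerm_B, hβ] at hv
  refine ⟨fun i => v i, v.linearIndependent.map' _ (Submodule.ker_subtype _), fun i k => by
    beta_reduce
    rw [← hs' (v i), adj, ← hs' (v k), nn, map_zero], fun a => ?_⟩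
  have h1 := congrArg Subtype.val (v.sum_repr ⟨_, LinearMap.mem_range_self _ a⟩)
  simp only [Submodule.coe_sum, Submodule.coe_smul] at h1
  rw [← sub_eq_iff_eq_add', ← hn, ← h1]
  refine Finset.sum_congr rfl fun i _ => ?_
  have h2 : P.B (v i) a = P.B (s (v i)) (nu C j a) := by rw [← adj, hs']
  beta_reduce
  rw [h2]
  conv_rhs => rw [← h1]
  simp [hv]

theorem invol_list (j2 : j * j = 1) : ∃ l : List V, (∀ p ∈ l, ∀ p' ∈ l, P.B p p' = 0) ∧
    j = (l.map fun p => C.T p 0 1).prod := by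
  obtain ⟨v, -, h1, h2⟩ := h.invol_prod j2
  have key : ∀ l : List V, (∀ p ∈ l, ∀ p' ∈ l, P.B p p' = 0) → ∀ a,
      C.act (l.map fun p => C.T p 0 1).prod a = a + (l.map fun p => P.B p a • p).sum := fun l => by
    induction l with
    | nil => simp
    | cons p l ih =>
      intro hl a
      rw [List.map_cons, List.prod_cons, C.mul_apply, ih fun x hx y hy => hl x (by simp [hx]) y (by simp [hy]),
        h.z_app (hl p (by simp) p (by simp)) (map_one σ), map_add, map_list_sum, List.sum_eq_zero (l := List.map (P.B p) _)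
        (by
          simp only [List.map_map, List.mem_map]
          rintro _ ⟨x, hx, rfl⟩
          simp [hl p (by simp) x (by simp [hx])])]
      simp only [List.map_cons, List.sum_cons, add_zero, one_mul]
      abel
  have h3 : ∀ p ∈ List.ofFn v, ∀ p' ∈ List.ofFn v, P.B p p' = 0 := by simpa [List.mem_ofFn] using h1
  refine ⟨_, h3, C.ext fun a => ?_⟩
  rw [key _ h3, h2, List.map_ofFn, List.sum_ofFn]
  rfl

omit h in
theorem inv_semiconj {ι ι' : Type} [Fintype ι] [Fintype ι'] {v : ι → V} {v' : ι' → V} {j' s : S} {π : ι ≃ ι'}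
    (h2 : ∀ a, C.act j a = a + ∑ i, P.B (v i) a • v i) (h2' : ∀ a, C.act j' a = a + ∑ i, P.B (v' i) a • v' i)
    (hs : ∀ i, ∃ μ, σ μ * μ = 1 ∧ C.act s (v i) = μ • v' (π i)) : s * j = j' * s := C.ext fun a => by
  rw [C.mul_apply, C.mul_apply, h2, h2', map_add, map_sum, ← π.sum_comp]
  refine congrArg _ (Finset.sum_congr rfl fun i _ => ?_)
  obtain ⟨μ, h3, h4⟩ := hs i
  rw [map_smul, ← C.B_act s, h4, P.B_smul_left, smul_smul, mul_right_comm, h3, one_mul]

theorem inv_exists_perm {ι ι' : Type} {v : ι → V} {v' : ι' → V} (h0 : LinearIndependent K v)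
    (h1 : ∀ i k, P.B (v i) (v k) = 0) (h0' : LinearIndependent K v') (h1' : ∀ i k, P.B (v' i) (v' k) = 0)
    (π : ι ≃ ι') : ∃ s, ∀ i, ∃ μ, σ μ * μ = 1 ∧ C.act s (v i) = μ • v' (π i) := by
  rcases isEmpty_or_nonempty ι with _ | ⟨⟨i₀⟩⟩
  · exact ⟨1, isEmptyElim⟩
  obtain ⟨s, μ, h3, h4, h5⟩ := h.witt' h0 (h0'.comp π π.injective) (fun i k => (h1' _ _).trans (h1 i k).symm) i₀ (h1 i₀)
  refine ⟨s, fun i => ?_⟩
  by_cases hi : i = i₀
  · exact ⟨μ, h3, hi ▸ h4⟩
  · exact ⟨1, by simp, by rw [h5 i hi, one_smul]; rfl⟩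

theorem invol_conj (j2 : j * j = 1) {j' : S} (j2' : j' * j' = 1)
    (e : finrank K (LinearMap.range (nu C j)) = finrank K (LinearMap.range (nu C j'))) :
    IsConj j j' := by
  obtain ⟨v, h0, h1, h2⟩ := h.invol_prod j2
  obtain ⟨v', h0', h1', h2'⟩ := h.invol_prod j2'
  obtain ⟨s, hs⟩ := h.inv_exists_perm h0 h1 h0' h1' (finCongr e)
  exact isConj_iff.2 ⟨s, mul_inv_eq_iff_eq_mul.2 (inv_semiconj h2 h2' hs)⟩

theorem invol_one (j2 : j * j = 1) (e : finrank K (LinearMap.range (nu C j)) ≤ 1) :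
    ∃ p, P.B p p = 0 ∧ j = C.T p 0 1 := by
  obtain ⟨v, -, h1, h2⟩ := h.invol_prod j2
  generalize finrank K (LinearMap.range (nu C j)) = r at v e h1 h2
  interval_cases r
  · exact ⟨0, by simp, C.ext fun a => by simp [h2, h.z_app (e := 0) (by simp) (map_one σ)]⟩
  · exact ⟨v 0, h1 0 0, C.ext fun a => by simp [h2, h.z_app (h1 0 0) (map_one σ)]⟩

omit h in
theorem inv_cyc {α : Type} [DecidableEq α] {a b c : α} (ab : a ≠ b) (ac : a ≠ c) (bc : b ≠ c) :
    ∃ π : Equiv.Perm α, ∀ n : ℕ, (π ^ 2 ^ n) a ≠ a := by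
  refine ⟨Equiv.swap a b * Equiv.swap b c, fun n e => ?_⟩
  have h1 : Function.IsPeriodicPt (Equiv.swap a b * Equiv.swap b c) 3 a := by
    simp [Function.IsPeriodicPt, Function.IsFixedPt, Equiv.swap_apply_of_ne_of_ne ab ac,
      Equiv.swap_apply_of_ne_of_ne ac.symm bc.symm]
  have h2 := h1.gcd (n := 2 ^ n) e
  rw [Nat.Coprime.pow_right n (by norm_num)] at h2
  simp [Function.IsPeriodicPt, Function.IsFixedPt, Equiv.swap_apply_of_ne_of_ne ab ac, ab.symm] at h2

omit h in
theorem inv_rank_le {ι : Type} [Fintype ι] {w : ι → V} {s : S} (hs : ∀ x, C.act s x - x ∈ span K (Set.range w)) :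
    finrank K (LinearMap.range (nu C s)) ≤ Fintype.card ι :=
  (Submodule.finrank_mono (by rintro _ ⟨x, rfl⟩; exact hs x)).trans (finrank_range_le_card w)

theorem inv_zz {p : V} (hp : P.B p p = 0) : C.T p 0 1 * C.T p 0 1 = 1 := by
  have k := h.tok0 hp (map_one σ)
  rw [C.T_mul k k, add_zero, h.add_self, map_zero, add_zero, C.T_zero k.sing]

theorem inv_od_big (hq : ¬ Small σ) {e f a f' : V} (k : HH P e f a f') :
    C.T e 0 1 ∈ Od (centralizer {C.T e a 0}) := by
  obtain ⟨l, h1, h2, h3⟩ := h.exists_big hq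
  obtain ⟨s, h4, h5, -, h6, -⟩ := h.exists_diag k h2 (inv_ne_zero h2) (by rw [mul_inv_cancel₀ h2, map_one])
  have ee := k.h₁.se.self_eq
  have ka := h.tok1 ee k.h₂.se.self_eq k.ee (map_zero σ)
  have h7 : l * l + 1 ≠ 0 := fun e => h3 (h.eq_one_of_sq (h.eq_of_add e))
  have kz := h.tok0 ee (s := (l * l + 1)⁻¹) (by simp [h1])
  have := comm_mem_Od (H := centralizer {C.T e a 0}) (g := C.T e 0 (l * l + 1)⁻¹)
    (mem_centralizer_singleton_iff.2 (by
      rw [← mul_inv_eq_iff_eq_mul, C.T_conj _ ka, h5, h6, C.T_smul_left (by simpa using ka.smul l⁻¹), h1, smul_smul,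
        mul_inv_cancel₀ h2, one_smul, mul_zero]))
    (mem_centralizer_singleton_iff.2 (by rw [C.T_mul kz ka, C.T_mul ka kz]; simp)) h4
  rw [C.T_conj _ kz, h5, map_zero, C.T_smul_left kz, smul_zero, C.T_inv kz, neg_zero,
    C.T_mul (h.tok0 ee (by simp [h1])) (h.tok0 ee (by simp [h1]))] at this
  convert this using 2
  · simp
  · simp only [h1, map_inv₀, map_add, map_mul, map_one, map_zero, add_zero]
    rw [← add_one_mul, mul_inv_cancel₀ h7]

theorem inv_od_small (hq : Small σ) {e f a f' : V} (k : HH P e f a f') :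
    C.T e 0 1 ∈ Od (centralizer {C.T e a 0}) := by
  obtain ⟨n, nn, en, -, an, -, -⟩ := h.exists_n k
  obtain ⟨μ, h2, h1'⟩ := h.herm.exists_norm_one_ne_one
  have ee := k.h₁.se.self_eq
  have aa := k.h₂.se.self_eq
  have μ0 : μ ≠ 0 := fun e => by simp [e] at h1'
  have h3 : σ μ = μ + 1 := by
    rcases hq (μ + σ μ) (by rw [map_add, h.σσ, add_comm]) with e | e
    · have e' : σ μ = μ := by linear_combination e - h.add_self μ
      exact absurd (h.eq_one_of_sq (by rw [← h1', e'])) h2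
    · linear_combination e - h.add_self μ
  have h4 : μ * μ = μ + 1 := by
    rw [h3] at h1'
    linear_combination h1' - h.add_self μ
  obtain ⟨s, s0, s1, s2⟩ := h.exists_scal5 nn h1'
  obtain ⟨c, kc⟩ := h.exists_tok ee en
  have ka := h.tok1 ee aa k.ee (map_zero σ)
  have c1 : s ∈ centralizer {C.T e a 0} := mem_centralizer_singleton_iff.2 (by
    rw [← mul_inv_eq_iff_eq_mul, C.T_conj _ ka, s2 e (h.B_comm en), s2 a (h.B_comm an),
      C.T_smul_left (h.tok1 ee (by simp [aa]) (by simp [k.ee]) (by simp)), smul_smul, h1', one_smul, mul_zero])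
  have c2 : C.T e n c ∈ centralizer {C.T e a 0} := mem_centralizer_singleton_iff.2 (by
    rw [C.T_mul kc ka, C.T_mul ka kc, an, h.B_comm an, add_comm n, add_comm c])
  have e4 : σ μ * (μ ^ 4)⁻¹ = μ := by
    rw [mul_inv_eq_iff_eq_mul₀ (pow_ne_zero _ μ0), h3]
    linear_combination (-(μ ^ 3) - μ ^ 2 - 2 * μ - 3) * h4 - (2 * μ + 1) * h.two
  have k1 : TOk P e (μ • n) c := h.tok.2 ⟨ee, by simp [en], by
    rw [(h.tok.1 kc).2.2, P.B_smul_left, P.B_smul_right, ← mul_assoc, h1', one_mul]⟩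
  have k2 : TOk P e n (σ c) := h.tok.2 ⟨ee, en, by rw [h.σσ, add_comm, (h.tok.1 kc).2.2]⟩
  have e5 : s * C.T e n c * s⁻¹ = C.T e (μ • n) c := by
    refine C.ext fun v => ?_
    have kk := kc.act C s
    rw [C.T_conj _ kc, h.T_app kk, h.T_app k1, s1, s2 e (h.B_comm en)]
    have e6 : σ ((μ ^ 4)⁻¹) * μ = σ μ := by
      have := congrArg σ e4
      rwa [map_mul, h.σσ, mul_comm] at this
    simp only [P.B_smul_left, smul_smul]
    match_scalars
    · rfl
    · linear_combination P.B n v * e6 + σ c * P.B e v * h1'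
    · linear_combination P.B e v * e4
  have e7 : (C.T e n c)⁻¹ = C.T e n (σ c) := inv_eq_of_mul_eq_one_right (by
    rw [C.T_mul kc k2, h.vadd_self, (h.tok.1 kc).2.2, h.add_self, C.T_zero kc.sing])
  have h5 := comm_mem_Od c1 c2 s0
  rw [e5, e7, C.T_mul k1 k2] at h5
  have k3 := k1.add k2
  have h6 := mul_mem h5 h5
  rw [C.T_mul k3 k3, h.vadd_self, h.add_self, zero_add] at h6
  convert h6 using 2
  simp only [P.B_add_left, P.B_add_right, P.B_smul_left, P.B_smul_right, nn, h3]
  linear_combination -h4 - (2 * μ + 1) * h.two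

theorem invol_red (j2 : j * j = 1) (j1 : j ≠ 1) : ∃ k ∈ Od (centralizer {j}), k * k = 1 ∧
    finrank K (LinearMap.range (nu C (j * k))) < finrank K (LinearMap.range (nu C j)) := by
  classical
  obtain ⟨v, h0, h1, h2⟩ := h.invol_prod j2
  generalize finrank K (LinearMap.range (nu C j)) = r at v h0 h1 h2
  have hz := fun i => h.z_app (h1 i i) (map_one σ)
  have hI : C.fixG (span K (Set.range v)) ≤ centralizer {j} := fun s hs => mem_centralizer_singleton_iff.2
    (inv_semiconj (π := Equiv.refl _) h2 h2 fun i => ⟨1, by simp, by simpa using hs _ (Submodule.subset_span ⟨i, rfl⟩)⟩)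
  have hT : ∀ i, C.T (v i) 0 1 ∈ C.fixG (span K (Set.range v)) := fun i x hx => C.T_fix (h.tok0 (h1 i i) (map_one σ))
    (P.mem_perp'.1 (P.mem_perp_span.2 (by rintro _ ⟨k, rfl⟩; exact h1 k i)) x hx) (by simp)
  have red : ∀ (i : Fin r) (k : S) (w : V → V), (∀ x, w x ∈ span K (Set.range fun l : {l // l ≠ i} => v l)) →
      (∀ x, C.act k x = x + P.B (v i) x • v i + w x) → finrank K (LinearMap.range (nu C (j * k))) < r :=
    fun i k w hw hk => by
      refine (inv_rank_le (w := fun l : {l // l ≠ i} => v l) fun x => ?_).trans_lt (by simpa using i.pos)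
      have h3 : ∀ l, P.B (v l) (w x) = 0 := fun l =>
        P.mem_perp'.1 (P.mem_perp_span.2 (by rintro _ ⟨k, rfl⟩; exact h1 k l)) _ (hw x)
      rw [C.mul_apply, h2, hk]
      simp only [map_add, map_smul, h1, h3, smul_zero, add_zero]
      rw [← Finset.add_sum_erase _ _ (Finset.mem_univ i)]
      convert add_mem (hw x) (sum_mem (t := Finset.univ.erase i) (f := fun l => P.B (v l) x • v l) fun l hl =>
        Submodule.smul_mem _ _ (Submodule.subset_span ⟨⟨l, (Finset.mem_erase.1 hl).1⟩, rfl⟩)) using 1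
      linear_combination (norm := module) h.vadd_self (P.B (v i) x • v i)
  have one : ∀ i, C.T (v i) 0 1 ∈ Od (centralizer {j}) → ∃ k ∈ Od (centralizer {j}), k * k = 1 ∧
      finrank K (LinearMap.range (nu C (j * k))) < r := fun i hi =>
    ⟨_, hi, h.inv_zz (h1 i i), red i _ 0 (fun _ => zero_mem _) fun x => by simp [hz]⟩
  rcases r with _ | _ | _ | r
  · exact absurd (C.ext fun a => by simp [h2]) j1
  · have hj : j = C.T (v 0) 0 1 := C.ext fun x => by rw [h2, hz, Fin.sum_univ_one, one_mul]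
    refine one 0 ?_
    have := hT 0
    rw [show Set.range v = {v 0} from Set.range_unique (ι := Fin 1)] at this
    rw [hj]
    exact h.fix_od (h0.ne_zero _) (h1 _ _) this
  · have big : ∀ {e f a f' : V}, HH P e f a f' → C.T e 0 1 ∈ Od (centralizer {C.T e a 0}) := fun k =>
      (em (Small σ)).elim (fun hq => h.inv_od_small hq k) fun hq => h.inv_od_big hq k
    obtain ⟨θ, hθ⟩ := h.herm.exists_trace_one
    have ee : P.B (v 0 + v 1) (v 0 + v 1) = 0 := by simp [h1]
    have aa : P.B (θ • v 0 + σ θ • v 1) (θ • v 0 + σ θ • v 1) = 0 := by simp [h1]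
    have ea : P.B (v 0 + v 1) (θ • v 0 + σ θ • v 1) = 0 := by simp [h1]
    have li := LinearIndependent.pair_iff.1 (show LinearIndependent K ![v 0, v 1] by
      convert h0 using 1
      funext i
      fin_cases i <;> rfl)
    obtain ⟨f, f', k⟩ := h.exists_hh' ee aa ea (fun e => one_ne_zero (li 1 1 (by simpa using e)).1) fun e => by
      obtain ⟨c, hc⟩ := Submodule.mem_span_singleton.1 e
      obtain ⟨h3, h4⟩ := li (c - θ) (c - σ θ) (by linear_combination (norm := module) hc)
      exact one_ne_zero (by linear_combination -hθ - h3 - h4 + h.add_self c : (1 : K) = 0)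
    have hj : j = C.T (v 0 + v 1) (θ • v 0 + σ θ • v 1) 0 := C.ext fun x => by
      rw [h2, h.T_app (h.tok1 ee aa ea (map_zero σ)), Fin.sum_univ_two]
      simp only [P.B_add_left, P.B_smul_left, h.σσ, map_zero]
      match_scalars
      · rfl
      · linear_combination -P.B (v 0) x * hθ - h.add_self (θ * P.B (v 1) x)
      · linear_combination -P.B (v 1) x * hθ - h.add_self (σ θ * P.B (v 0) x)
    generalize v 0 + v 1 = e at *
    generalize θ • v 0 + σ θ • v 1 = a at *
    have h3 := h.T_line ee aa ea (map_one σ) 1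
    simp only [map_one, mul_one, one_smul] at h3
    have h4 : C.T a 0 1 * C.T e 0 1 = C.T e 0 1 * C.T a 0 1 := by
      rw [← mul_inv_eq_iff_eq_mul, C.T_conj _ (h.tok0 ee (map_one σ)), map_zero,
        C.T_fix (h.tok0 aa (map_one σ)) (h.B_comm ea) (by simp)]
    have h5 := mul_mem (h.T_symm ee aa ea ▸ big k.symm) (big k)
    rw [← hj] at h5 h3
    refine ⟨_, h5, by rw [mul_assoc, ← mul_assoc (C.T e 0 1), ← h4, mul_assoc, h.inv_zz ee, mul_one, h.inv_zz aa], ?_⟩
    rw [← mem_centralizer_singleton_iff.1 (Od_le _ h5), ← h3]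
    refine (inv_rank_le (w := fun _ : Fin 1 => a + e) fun x => ?_).trans_lt (by simp)
    rw [h.z_app (by simp [ee, aa, ea, h.B_comm ea]) (map_one σ), add_sub_cancel_left]
    exact Submodule.smul_mem _ _ (Submodule.subset_span ⟨0, rfl⟩)
  · obtain ⟨π, hπ⟩ := inv_cyc (a := (0 : Fin (r + 1 + 1 + 1))) (b := ⟨1, by omega⟩) (c := ⟨2, by omega⟩)
      (by simp) (by simp [Fin.ext_iff]) (by simp [Fin.ext_iff])
    obtain ⟨s, hs⟩ := h.inv_exists_perm h0 h1 h0 h1 π
    have hp : ∀ n : ℕ, ∀ i, ∃ μ, σ μ * μ = 1 ∧ C.act (s ^ n) (v i) = μ • v ((π ^ n) i) := fun n i => by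
      induction n with
      | zero => exact ⟨1, by simp, by simp⟩
      | succ n ih =>
        obtain ⟨μ, h3, h4⟩ := ih
        obtain ⟨μ', h5, h6⟩ := hs ((π ^ n) i)
        refine ⟨μ * μ', by rw [map_mul, mul_mul_mul_comm, h3, h5, mul_one], ?_⟩
        rw [pow_succ', pow_succ', C.mul_apply, h4, map_smul, h6, smul_smul, Equiv.Perm.mul_apply]
    obtain ⟨n, hn⟩ := odd_pow_two s
    obtain ⟨μ, h3, h4⟩ := hp (2 ^ n) 0
    have h5 := comm_mem_Od (mem_centralizer_singleton_iff.2 (inv_semiconj h2 h2 (hp (2 ^ n)))) (hI (hT 0)) hn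
    rw [C.T_conj _ (h.tok0 (h1 0 0) (map_one σ)), h4, (C.act _).map_zero, C.T_smul_left (h.tok0 (h1 _ _) (map_one σ)),
      smul_zero, mul_comm μ, h3, one_mul, inv_eq_of_mul_eq_one_right (h.inv_zz (h1 0 0))] at h5
    have h6 := hπ n
    generalize (π ^ 2 ^ n) 0 = i at h5 h6
    refine ⟨_, h5, C.ext fun x => ?_, red 0 _ (fun x => P.B (v i) x • v i)
      (fun x => Submodule.smul_mem _ _ (Submodule.subset_span ⟨⟨i, h6⟩, rfl⟩)) fun x => by
        simp [hz, h1]⟩
    simp only [C.mul_apply, hz, map_add, map_smul, h1, C.one_apply, smul_eq_mul, mul_zero, add_zero, one_mul]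
    linear_combination (norm := module) h.vadd_self (P.B (v i) x • v i) + h.vadd_self (P.B (v 0) x • v 0)

end Mod

end CfsgLib.U5
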