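import Cfsg.Agent.Lib.U5.Defs
import Cfsg.Agent.Lib.HX.Mov

/-! The lemmas on long root groups for the weaker data -/

set_option autoImplicit false
set_option linter.unusedSectionVars false

namespace CfsgLib.U5

open Subgroup
open CfsgLib.HX hiding LR
open CfsgLib.HX.MovAux
open scoped commutatorElement Pointwise

universe u v

variable {F : Type} [Field F] [Finite F] {G : Type u} [Group G] [Finite G] {H Y Q R W : Subgroup G}
  {t : G}

variable {V : Type} [AddCommGroup V] [Module F V] {z : F → G} {π : G → V}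
  {f : LinearMap.BilinForm F V}

theorem LR.conj (h : LR H Y Q t z π f) {g : G} (hz : ∀ s, g * z s = z s * g) :
    LR (MulAut.conj g • H) (MulAut.conj g • Y) (MulAut.conj g • Q) (g * t * g⁻¹) z
      (fun x => π (g⁻¹ * x * g)) f := by
  have cz : ∀ {x}, (∀ s, x * z s = z s * x) → ∀ s, g⁻¹ * x * g * z s = z s * (g⁻¹ * x * g) := fun hx s =>
    ((show Commute g (z s) from hz s).inv_left.mul_left (hx s)).mul_left (hz s)
  have ct : ∀ {x}, x * (g * t * g⁻¹) = g * t * g⁻¹ * x → g⁻¹ * x * g * t = t * (g⁻¹ * x * g) := fun {x} e => by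
    calc _ = g⁻¹ * (x * (g * t * g⁻¹)) * g := by group
      _ = _ := by rw [e]; group
  have mN : ∀ {x} {K : Subgroup G}, x ∈ normalizer ((MulAut.conj g • K : Subgroup G) : Set G) ↔
      g⁻¹ * x * g ∈ normalizer (K : Set G) := fun {x K} => by
    rw [Tech.smul_eq_cj, ← Tech.cj_normalizer, Tech.mem_cj]
  have mC : ∀ {x} {K : Subgroup G}, x ∈ centralizer ((MulAut.conj g • K : Subgroup G) : Set G) ↔
      g⁻¹ * x * g ∈ centralizer (K : Set G) := fun {x K} => by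
    rw [Tech.smul_eq_cj, ← Tech.cj_centralizer, Tech.mem_cj]
  have cc : ∀ x, g⁻¹ * (g * x * g⁻¹) * g = x := fun x => by group
  refine ⟨h.toHeis.map hz, h.toStd.cj g, Tech.cj_mono g h.QY, Tech.cj_mono g h.YH, fun y hy s => ?_,
    fun y hy => mN.2 (h.YQ (mem_cs.1 hy)), h.dim, fun s e => h.zC s (conj_z' hz s ▸ mC.1 e),
    fun M hM => ?_,
    (Tech.cj_mono g h.qy).trans (Tech.cj_commutator g _ _).le, fun y hy c => ?_, fun k e c => ?_,
    fun k e c => mN.2 (h.nQ _ (ct e) (cz c)), fun k e c c' => ?_, fun l hl => ?_⟩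
  · have := h.Yz _ (mem_cs.1 hy) s
    calc _ = g * (g⁻¹ * y * g * (g⁻¹ * z s * g)) * g⁻¹ := by group
      _ = g * (g⁻¹ * z s * g * (g⁻¹ * y * g)) * g⁻¹ := by rw [conj_z' hz, this]
      _ = _ := by group
  · intro y hy
    have := h.perf (M.comap (MulAut.conj g).toMonoidHom) (fun k hk kz y hy => by
      have := hM (g * k * g⁻¹) (Tech.conj_mem_cj.2 hk) (fun s => by
        calc _ = g * (k * (g⁻¹ * z s * g)) * g⁻¹ := by group
          _ = g * ((g⁻¹ * z s * g) * k) * g⁻¹ := by rw [conj_z' hz, kz]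
          _ = _ := by group) (g * y * g⁻¹) (Tech.conj_mem_cj.2 hy)
      show g * (k * y * k⁻¹ * y⁻¹) * g⁻¹ ∈ M
      convert this using 1
      group) (mem_cs.1 hy)
    have e : g * (g⁻¹ * y * g) * g⁻¹ ∈ M := this
    rwa [show g * (g⁻¹ * y * g) * g⁻¹ = y by group] at e
  · exact (h.cQY _ (mem_cs.1 hy) (mC.1 c)).imp fun s e => by rw [← conj_z hz, ← e]; group
  · obtain ⟨s, c, hc, e⟩ := h.cQ _ (ct e) (mC.1 c)
    exact ⟨s, g * c * g⁻¹, mC.2 (by rwa [cc]), by rw [← conj_z hz, conj_mul, ← e]; group⟩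
  · obtain ⟨x, hx, c, hc, e⟩ := h.cV _ (ct e) (cz c) fun x hx => by
      have := c' _ (Tech.conj_mem_cj.2 hx)
      rw [cc] at this
      rw [← this]; congr 1; group
    exact ⟨_, Tech.conj_mem_cj.2 hx, g * c * g⁻¹, mC.2 (by rwa [cc]), by rw [conj_mul, ← e]; group⟩
  · obtain ⟨k, hk, n1, n2, e1, e2⟩ := h.tor l hl
    refine ⟨g * k * g⁻¹, Tech.conj_mem_cj.2 hk, mN.2 (by rwa [cc]), mN.2 (by rwa [cc]), fun x hx => ?_, fun s => ?_⟩
    · rw [← e1 _ (mem_cs.1 hx)]; congr 1; group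
    · rw [← conj_z hz (l * l * s), ← e2, ← conj_z hz s, conj_z hz s, ← conj_z' hz s]
      calc _ = g * (k * (g⁻¹ * (g⁻¹ * z s * g) * g) * k⁻¹) * g⁻¹ := by group
        _ = _ := by rw [conj_z' hz, conj_z' hz]

/-- **ISO** -/
theorem LR.iso (h : LR H Y Q t z π f) (nf : NF t z) {g : G} (hz : ∀ s, g * z s = z s * g)
    (hc : Commute (g * t * g⁻¹) t) : g * t * g⁻¹ = t := by
  let _ : Module (ZMod 2) F := AddCommGroup.zmodModule fun x => by rw [two_nsmul, h.add_self]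
  obtain ⟨φ, hφ⟩ : ∃ φ : Module.Dual (ZMod 2) F, φ 1 ≠ 0 :=
    not_forall.1 (mt (Module.forall_dual_apply_eq_zero_iff (ZMod 2) (1 : F)).1 one_ne_zero)
  obtain ⟨C, mC⟩ : ∃ C : Subgroup G, ∀ x, x ∈ C ↔ ∀ s, x * z s = z s * x :=
    ⟨centralizer (Set.range z), fun x => ⟨fun k s => (k _ ⟨s, rfl⟩).symm, by rintro k _ ⟨s, rfl⟩; exact (k s).symm⟩⟩
  have QC : Q ≤ C := fun x hx => (mC x).2 (h.cz hx)
  have tQ : ∀ x ∈ Q, x * t = t * x := fun x hx => h.tC x (h.YH (h.QY hx))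
  let N : Subgroup C :=
    { carrier := {x | ∃ s, φ s = 0 ∧ (x : G) = z s}
      one_mem' := ⟨0, map_zero φ, h.z0.symm⟩
      mul_mem' := by
        rintro x y ⟨s, hs, e⟩ ⟨r, hr, e'⟩
        exact ⟨s + r, by rw [map_add, hs, hr, add_zero], by rw [coe_mul, e, e', h.zadd]⟩
      inv_mem' := by
        rintro x ⟨s, hs, e⟩
        exact ⟨s, hs, by rw [coe_inv, e, inv_eq_of_mul_eq_one_right (h.zsq s)]⟩ }
  have : N.Normal := ⟨by
    rintro x ⟨s, hs, e⟩ k
    exact ⟨s, hs, by rw [coe_mul, coe_mul, coe_inv, e, conj_z ((mC _).1 k.2)]⟩⟩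
  obtain ⟨ψ, sur, key⟩ : ∃ ψ : C →* C ⧸ N, Function.Surjective ψ ∧
      ∀ x y, ψ x = ψ y ↔ ∃ s, φ s = 0 ∧ (y : G) = x * z s :=
    ⟨QuotientGroup.mk' N, QuotientGroup.mk'_surjective N, fun x y => QuotientGroup.eq.trans
      (exists_congr fun s => and_congr_right fun _ => inv_mul_eq_iff_eq_mul)⟩
  let T : C := ⟨t, (mC t).2 fun s => (tQ _ (h.zQ s)).symm⟩
  let Z : C := ⟨z 1, QC (h.zQ 1)⟩
  have zz : ∀ (x : C) s, (x : G) = z s → ψ x ∈ zpowers (ψ Z) := fun x s e => by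
    by_cases c : φ s = 0
    · rw [← (key 1 x).2 ⟨s, c, by rw [e, coe_one, one_mul]⟩, map_one]; exact one_mem _
    · rw [← (key Z x).2 ⟨1 + s, by rw [map_add]; revert c hφ; generalize φ s = u; generalize φ 1 = v; revert u v; decide,
        by rw [e, h.zadd, ← mul_assoc, h.zsq, one_mul]⟩]
      exact mem_zpowers _
  have cm : ∀ k x : C, ψ x * ψ (k * T * k⁻¹) = ψ (k * T * k⁻¹) * ψ x →
      (x : G) * (k * t * (k : G)⁻¹) = k * t * (k : G)⁻¹ * x := fun k x e => by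
    rw [← mul_inv_eq_iff_eq_mul, ← map_inv, ← map_mul, ← map_mul, eq_comm, key] at e
    obtain ⟨s, -, e⟩ := e
    change (x : G) * (k * t * (k : G)⁻¹) * (x : G)⁻¹ = k * t * (k : G)⁻¹ * z s at e
    rw [(nf ((k : G)⁻¹ * x * k) s).1 (by
      rw [← conj_z' ((mC _).1 k.2) s]
      calc _ = (k : G)⁻¹ * (x * (k * t * (k : G)⁻¹) * (x : G)⁻¹) * k := by group
        _ = _ := by rw [e]; group), h.z0, mul_one] at e
    exact mul_inv_eq_iff_eq_mul.1 e
  have U : SLE.U1H (ψ Z) (ψ T) ((Q.subgroupOf C).map ψ) := by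
    refine ⟨by rw [← map_mul, show Z * Z = 1 from Subtype.ext (h.zsq 1), map_one],
      by rw [← map_mul, show T * T = 1 from Subtype.ext h.t2, map_one], h.isPGroup.comap_subtype.map _,
      ⟨Z, h.zQ 1, rfl⟩, ?_, ?_, ?_, ?_, ?_, fun k _ e => ?_, fun s c e e' => ?_, fun c => ?_⟩
    · rintro _ ⟨u, hu, rfl⟩ _ ⟨v, hv, rfl⟩
      simpa using zz (u * v * u⁻¹ * v⁻¹) _ (h.comm u hu v hv)
    · rintro _ ⟨u, hu, rfl⟩
      rw [← map_mul, ← map_mul, show u * Z = Z * u from Subtype.ext (h.cz hu 1)]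
    · rintro _ ⟨u, hu, rfl⟩
      obtain ⟨s, e⟩ := h.sq u hu
      simpa using zz (u * u) s e
    · rintro _ ⟨u, hu, rfl⟩ c
      obtain ⟨s, e⟩ := (h.πker u hu).1 (h.nd _ fun w => by_contra fun n => by
        obtain ⟨v, hv, e⟩ := h.πsurj ((f (π u) w)⁻¹ • w)
        obtain ⟨s, hs, e'⟩ := (key 1 (u * ⟨v, QC hv⟩ * u⁻¹ * (⟨v, QC hv⟩ : C)⁻¹)).1 (by
          simp only [map_mul, map_inv, map_one]
          rw [c _ ⟨⟨v, QC hv⟩, hv, rfl⟩]; group)
        rw [coe_one, one_mul] at e'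
        have := h.z_inj ((h.comm u hu v hv).symm.trans e')
        rw [e, map_smul, smul_eq_mul, inv_mul_cancel₀ n] at this
        exact hφ (this ▸ hs))
      exact zz u s e
    · rintro _ ⟨u, hu, rfl⟩
      rw [← map_mul, ← map_mul, show u * T = T * u from Subtype.ext (tQ _ hu)]
    · obtain ⟨k, rfl⟩ := sur k
      have n := h.nQ k (by simpa using cm 1 k (by simpa using e)) ((mC _).1 k.2)
      refine SLE.u1_norm_of ?_
      rintro _ ⟨u, hu, rfl⟩
      exact ⟨k * u * k⁻¹, Tech.conj_mem_of_mem_normalizer (H := Q) n hu, by simp⟩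
    · obtain ⟨k, rfl⟩ := isConj_iff.1 c
      obtain ⟨k, rfl⟩ := sur k
      rw [← map_inv, ← map_mul, ← map_mul] at e e' ⊢
      have e1 := (cm k T e.symm).symm
      obtain ⟨s, c, hc, e2⟩ := h.cQ _ e1 fun u hu => cm k ⟨u, QC hu⟩ (e' _ ⟨_, hu, rfl⟩)
      have c1 := hc _ (h.YH (h.QY (h.zQ s)))
      have e3 : c = z s * (k * t * (k : G)⁻¹) := by rw [e2, ← mul_assoc, h.zsq, one_mul]
      rcases h.invol hc (e3 ▸ (show Commute (z s) t from tQ _ (h.zQ s)).mul_left e1) (by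
        have : z s * c * (z s * c) = 1 := by rw [← e2, conj_mul, h.t2, mul_one, mul_inv_cancel]
        rwa [(show Commute (z s) c from c1).symm.mul_mul_mul_comm, h.zsq, one_mul] at this) with rfl | rfl
      · exact absurd (e2.trans (mul_one _)) (nf k s).2
      · rw [c1] at e2
        rw [(nf k s).1 e2, h.z0, mul_one] at e2
        exact congrArg ψ (Subtype.ext e2)
    · obtain ⟨k, e⟩ := isConj_iff.1 c
      obtain ⟨k, rfl⟩ := sur k
      rw [← map_inv, ← map_mul, ← map_mul, ← map_mul, eq_comm, key] at e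
      obtain ⟨s, hs, e⟩ := e
      have := (nf k (1 + s)).1 (e.trans (by rw [h.zadd, ← mul_assoc]; rfl))
      exact hφ (by simpa [hs] using congrArg φ this)
  let k : C := ⟨g, (mC g).2 hz⟩
  have := U.isolated (g := ψ k) (by rw [← map_mul, ← map_mul, show k * Z = Z * k from Subtype.ext (hz 1)]) (by
    rw [← map_inv, ← map_mul, ← map_mul, ← map_mul, ← map_mul,
      show k * T * k⁻¹ * T = T * (k * T * k⁻¹) from Subtype.ext hc])
  exact mul_inv_eq_iff_eq_mul.2 (by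
    simpa using cm 1 k (by simpa using mul_inv_eq_iff_eq_mul.1 this))

theorem LR.iso2 (h : LR H Y Q t z π f) (nf : NF t z) {P : Subgroup G} (hP : IsPGroup 2 P)
    (ht : t ∈ P) (hz : ∀ p ∈ P, ∀ s, p * z s = z s * p) : P ≤ centralizer {t} := by
  by_contra hn
  obtain ⟨u, hu, n, hu'⟩ := SylTools.exists_mem_normalizer_not_mem hP inf_le_left fun e : P ⊓ centralizer {t} = P =>
    hn (e.ge.trans inf_le_right)
  have := Tech.conj_mem_of_mem_normalizer n ⟨ht, mem_centralizer_singleton_iff.2 rfl⟩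
  exact hu' ⟨hu, mem_centralizer_singleton_iff.2 (mul_inv_eq_iff_eq_mul.1
    (h.iso nf (hz u hu) (mem_centralizer_singleton_iff.1 this.2)))⟩

/-- `q > 2`: an element acting trivially on `Z` and `Q / Z` -/
theorem LR.exists_triv (h : LR H Y Q t z π f) (hq : 2 < Nat.card F) {g : G}
    (hg : g * t * g⁻¹ = t * z 1) (nY : g ∈ normalizer (Y : Set G)) (nQ : g ∈ normalizer (Q : Set G))
    (nZ : g ∈ normalizer (X z : Set G)) : ∃ k ∈ normalizer (Y : Set G), (∀ s, k * z s = z s * k) ∧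
      (∀ x ∈ Q, ∃ s, k * x * k⁻¹ = x * z s) ∧ ∃ s, s ≠ 0 ∧ k * t * k⁻¹ = t * z s := by
  have hH := h.toHeis
  obtain ⟨l, hl0, hl1⟩ : ∃ l : F, l ≠ 0 ∧ l ≠ 1 := by
    by_contra hc
    push Not at hc
    have : (Set.univ : Set F) ⊆ {0, 1} := fun x _ => by
      by_cases hx : x = 0
      · exact Or.inl hx
      · exact Or.inr (hc x hx)
    have h2 := Set.ncard_le_ncard this (Set.toFinite _)
    rw [Set.ncard_univ] at h2
    have h3 := Set.ncard_pair (zero_ne_one (α := F))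
    omega
  obtain ⟨d, dH, dY, dQ, dπ, dz⟩ := h.tor l hl0
  choose γ hγ using fun s => memZ hH (nm nZ (mem_X z s))
  choose γ' hγ' using fun s => memZ hH (nm' nZ (mem_X z s))
  have γγ' : ∀ s, γ (γ' s) = s := fun s => zinj' hH (by rw [← hγ, ← hγ']; group)
  have γ'γ : ∀ s, γ' (γ s) = s := fun s => zinj' hH (by rw [← hγ', ← hγ]; group)
  have γ'0 : γ' 0 = 0 := zinj' hH (by rw [← hγ', z0 hH]; group)
  set e := g * d * g⁻¹ with he
  have eQ : e ∈ normalizer (Q : Set G) := mul_mem (mul_mem nQ dQ) (inv_mem nQ)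
  have eY : e ∈ normalizer (Y : Set G) := mul_mem (mul_mem nY dY) (inv_mem nY)
  have key : ∀ x ∈ Q, ∀ y ∈ Q,
      f (π (e * x * e⁻¹)) (π y) = γ (l * γ' (f (π x) (π y))) := by
    intro x hx y hy
    have hx' := nm' nQ hx
    have hy' := nm' nQ hy
    have h1 := h.comm _ (nm dQ hx') _ hy'
    rw [dπ _ hx', map_smul, LinearMap.smul_apply, smul_eq_mul] at h1
    have h2 := h.comm _ hx' _ hy'
    have h3 : f (π (g⁻¹ * x * g)) (π (g⁻¹ * y * g)) = γ' (f (π x) (π y)) := by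
      apply zinj' hH
      rw [← h2, ← hγ', ← h.comm x hx y hy]; group
    rw [h3] at h1
    apply zinj' hH
    rw [← hγ, ← h1, ← h.comm _ (nm eQ hx) _ hy, he]; group
  obtain ⟨v, hv⟩ : ∃ v : V, v ≠ 0 := by
    obtain ⟨w, hw⟩ := h.dim 0
    exact ⟨w, by simpa using hw 0⟩
  obtain ⟨w, hw⟩ : ∃ w, f v w = 1 := by
    by_contra hc
    apply hv
    apply h.nd
    intro w
    by_contra h0
    exact hc ⟨(f v w)⁻¹ • w, by rw [map_smul, smul_eq_mul, inv_mul_cancel₀ h0]⟩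
  set l' := γ (l * γ' 1) with hl'
  have θ : ∀ c, γ (l * γ' c) = c * l' := by
    intro c
    obtain ⟨x, hx, rfl⟩ := h.πsurj v
    obtain ⟨y, hy, hyw⟩ := h.πsurj w
    obtain ⟨y', hy', hyw'⟩ := h.πsurj (c • w)
    have h1 := key x hx y hy
    have h2 := key x hx y' hy'
    rw [hyw, hw] at h1
    rw [hyw', map_smul, map_smul, hw, smul_eq_mul, smul_eq_mul, mul_one, h1] at h2
    exact h2.symm
  have γ'1 : γ' 1 ≠ 0 := fun h0 => by
    have := γγ' 1
    rw [h0, ← γ'0, γγ'] at this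
    exact zero_ne_one this
  have hl'0 : l' ≠ 0 := fun h0 => by
    have := congrArg γ' h0
    rw [hl', γ'γ, γ'0] at this
    exact mul_ne_zero hl0 γ'1 this
  have hl'1 : l' ≠ 1 := fun h0 => by
    have := congrArg γ' h0
    rw [hl', γ'γ] at this
    exact hl1 (mul_right_cancel₀ γ'1 (this.trans (one_mul _).symm))
  have eπ : ∀ x ∈ Q, π (e * x * e⁻¹) = l' • π x := by
    intro x hx
    rw [← sub_eq_zero]
    apply h.nd
    intro w
    obtain ⟨y, hy, rfl⟩ := h.πsurj w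
    rw [map_sub, LinearMap.sub_apply, key x hx y hy, θ, map_smul, LinearMap.smul_apply, smul_eq_mul]
    ring
  have ez : ∀ s, e * z s * e⁻¹ = z (l' * l' * s) := by
    intro s
    have h1 : e * z s * e⁻¹ = g * (d * (g⁻¹ * z s * g) * d⁻¹) * g⁻¹ := by rw [he]; group
    rw [h1, hγ', dz, hγ]
    congr 1
    have h2 := θ (γ (l * γ' s))
    rw [γ'γ, θ s] at h2
    rw [mul_assoc, h2]; ring
  have tH : ∀ x ∈ H, x * t = t * x := fun x hx => h.tC x hx
  have et : e * t * e⁻¹ = t * z (1 + l' * l') := by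
    have h1 : e * (t * z 1) * e⁻¹ = t * z 1 := by
      rw [← hg, he]
      have : g * d * g⁻¹ * (g * t * g⁻¹) * (g * d * g⁻¹)⁻¹ = g * (d * t * d⁻¹) * g⁻¹ := by group
      rw [this, tH d dH]; group
    have h2 : e * (t * z 1) * e⁻¹ = e * t * e⁻¹ * (e * z 1 * e⁻¹) := by group
    rw [h2, ez, mul_one] at h1
    rw [h.zadd, ← mul_assoc, ← h1, mul_assoc (e * t * e⁻¹), zsq hH, mul_one]
  obtain ⟨d', dH', dY', dQ', dπ', dz'⟩ := h.tor l' hl'0
  refine ⟨e * d'⁻¹, mul_mem eY (inv_mem dY'), fun s => ?_, fun x hx => ?_, 1 + l' * l', ?_, ?_⟩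
  · have h1 := dz' ((l' * l')⁻¹ * s)
    have h2 := ez ((l' * l')⁻¹ * s)
    rw [mul_inv_cancel_left₀ (mul_ne_zero hl'0 hl'0)] at h1 h2
    calc e * d'⁻¹ * z s = e * d'⁻¹ * (d' * z ((l' * l')⁻¹ * s) * d'⁻¹) := by rw [h1]
      _ = (e * z ((l' * l')⁻¹ * s) * e⁻¹) * (e * d'⁻¹) := by group
      _ = _ := by rw [h2]
  · have hx' := nm' dQ' hx
    have h1 := dπ' _ hx'
    have h2 := eπ _ hx'
    rw [show d' * (d'⁻¹ * x * d') * d'⁻¹ = x by group] at h1
    rw [← h1] at h2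
    obtain ⟨s, hs⟩ := eq_of_π hH hx (nm eQ hx') h2
    exact ⟨s, by rw [← hs]; group⟩
  · intro h0
    have h1 : (1 + l') * (1 + l') = 0 := by
      have := addself hH l'
      linear_combination h0 + this
    have h2 : 1 + l' = 0 := by simpa using h1
    have h3 := addself hH 1
    exact hl'1 (by linear_combination h2 - h3)
  · rw [← et]
    have : e * d'⁻¹ * t * (e * d'⁻¹)⁻¹ = e * (d'⁻¹ * t * d') * e⁻¹ := by group
    rw [this, tH _ (H.inv_mem dH')]; group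

theorem LR.exists_cent (h : LR H Y Q t z π f) {k : G} (nY : k ∈ normalizer (Y : Set G))
    (hz : ∀ s, k * z s = z s * k) (hV : ∀ x ∈ Q, ∃ s, k * x * k⁻¹ = x * z s) {s : F}
    (hk : k * t * k⁻¹ = t * z s) : ∃ p ∈ centralizer (Y : Set G), p * t * p⁻¹ = t * z s := by
  classical
  have hH := h.toHeis
  have tH : ∀ x ∈ H, x * t = t * x := fun x hx => h.tC x hx
  choose! δ hδ using hV
  have zc : ∀ x ∈ Q, ∀ s, x * z s = z s * x := fun x hx => h.Yz x (h.QY hx)
  have δmul : ∀ x ∈ Q, ∀ y ∈ Q, δ (x * y) = δ x + δ y := by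
    intro x hx y hy
    apply zinj' hH
    have h1 := hδ _ (Q.mul_mem hx hy)
    rw [show k * (x * y) * k⁻¹ = (k * x * k⁻¹) * (k * y * k⁻¹) by group, hδ x hx, hδ y hy] at h1
    have h2 : x * z (δ x) * (y * z (δ y)) = x * y * (z (δ x) * z (δ y)) := by
      rw [mul_assoc, ← mul_assoc (z _), ← zc y hy]; group
    rw [h2, ← h.zadd] at h1
    exact (mul_left_cancel h1).symm
  have δz : ∀ s, δ (z s) = 0 := by
    intro s
    apply h.zinj
    have h1 := hδ _ (h.zQ s)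
    rw [hz, mul_inv_cancel_right] at h1
    exact left_eq_mul.1 h1
  choose σ σQ σπ using h.πsurj
  have δσ : ∀ x ∈ Q, δ (σ (π x)) = δ x := by
    intro x hx
    obtain ⟨s, hs⟩ := eq_of_π hH hx (σQ (π x)) (σπ _)
    rw [hs, δmul _ hx _ (h.zQ s), δz, add_zero]
  have δadd : ∀ v w, δ (σ (v + w)) = δ (σ v) + δ (σ w) := by
    intro v w
    rw [← δmul _ (σQ v) _ (σQ w), ← δσ _ (Q.mul_mem (σQ v) (σQ w)), h.πmul _ (σQ v) _ (σQ w),
      σπ, σπ]
  have δ0 : δ (σ 0) = 0 := by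
    have := δadd 0 0
    rw [add_zero] at this
    exact left_eq_add.1 this
  have δneg : ∀ v, δ (σ (-v)) = - δ (σ v) := by
    intro v
    have := δadd v (-v)
    rw [add_neg_cancel, δ0] at this
    exact (neg_eq_of_add_eq_zero_right this.symm).symm
  have inv : ∀ y ∈ Y, ∃ v₀, ∀ x ∈ Q, δ (y * x * y⁻¹) = δ x + f v₀ (π x) := by
    intro y hy
    have yQ := h.YQ hy
    have hc : y⁻¹ * (k * y * k⁻¹) ∈ Y := Y.mul_mem (Y.inv_mem hy) (nm nY hy)
    have hcx : ∀ x ∈ Q, y⁻¹ * (k * y * k⁻¹) * x * (y⁻¹ * (k * y * k⁻¹))⁻¹ =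
        x * z (δ (y * x * y⁻¹) + δ x) := by
      intro x hx
      have h1 : k⁻¹ * x * k = x * z (δ x) := by
        have h2 := hδ x hx
        have h3 : x = k * x * k⁻¹ * z (δ x) := by rw [h2, mul_assoc, zsq hH, mul_one]
        calc k⁻¹ * x * k = k⁻¹ * (k * x * k⁻¹ * z (δ x)) * k := by rw [← h3]
          _ = x * (k⁻¹ * (z (δ x) * k)) := by group
          _ = _ := by rw [← hz]; group
      have h2 := hδ _ (nm yQ hx)
      calc _ = y⁻¹ * (k * (y * (k⁻¹ * x * k) * y⁻¹) * k⁻¹) * y := by group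
        _ = y⁻¹ * (k * (y * x * (z (δ x) * y⁻¹)) * k⁻¹) * y := by rw [h1]; group
        _ = y⁻¹ * (k * (y * x * y⁻¹) * k⁻¹) * (k * z (δ x) * k⁻¹) * y := by
          rw [← h.Yz _ (Y.inv_mem hy)]; group
        _ = x * (y⁻¹ * ((z (δ (y * x * y⁻¹)) * z (δ x)) * y)) := by rw [h2, hz]; group
        _ = _ := by rw [← h.zadd, ← h.Yz y hy]; group
    obtain ⟨x₀, hx₀, c, hc', e⟩ := h.cV _ (tH _ (h.YH hc)) (h.Yz _ hc) (fun x hx => by
      rw [hcx x hx, h.πmul _ hx _ (h.zQ _), (h.πker _ (h.zQ _)).2 ⟨_, rfl⟩, add_zero])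
    refine ⟨π x₀, fun x hx => ?_⟩
    have h1 := hcx x hx
    have h2 := h.comm _ hx₀ _ hx
    have h3 : x * c = c * x := hc' x (h.YH (h.QY hx))
    rw [e] at h1
    have h4 : x₀ * c * x * (x₀ * c)⁻¹ = x₀ * x * x₀⁻¹ * x⁻¹ * x := by
      rw [mul_assoc x₀ c x, ← h3]; group
    rw [h4, h2, ← zc x hx] at h1
    have h5 := zinj' hH (mul_left_cancel h1)
    have h6 := addself hH (δ x)
    linear_combination -h5 - h6
  have δsm : ∀ (l : F) v, δ (σ (l • v)) = l * δ (σ v) := by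
    intro l
    let K : Subgroup G :=
      { carrier := {x | x ∈ Q ∧ δ (σ (l • π x)) = l * δ (σ (π x))}
        mul_mem' := fun {x y} hx hy => ⟨Q.mul_mem hx.1 hy.1, by
          rw [h.πmul _ hx.1 _ hy.1, smul_add, δadd, δadd, hx.2, hy.2, mul_add]⟩
        one_mem' := ⟨Q.one_mem, by rw [π1 hH, smul_zero, δ0, mul_zero]⟩
        inv_mem' := fun {x} hx => ⟨Q.inv_mem hx.1, by
          rw [πinv hH hx.1, smul_neg, δneg, δneg, hx.2, mul_neg]⟩ }
    have hK : ⁅Q, Y⁆ ≤ K := by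
      rw [commutator_le]
      intro x hx y hy
      have yQ := h.YQ hy
      obtain ⟨v₀, hv₀⟩ := inv y hy
      obtain ⟨m, hm, -⟩ := hH.exists_lin yQ (h.Yz y hy)
      have hδm : ∀ v, δ (σ (m v)) = δ (σ v) + f v₀ v := by
        intro v
        have h1 := hv₀ _ (σQ v)
        rw [← δσ _ (nm yQ (σQ v)), hm _ (σQ v), σπ] at h1
        exact h1
      have e : ⁅x, y⁆ = x * (y * x⁻¹ * y⁻¹) := by rw [commutatorElement_def]; group
      have hx' := nm yQ (Q.inv_mem hx)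
      refine ⟨e ▸ Q.mul_mem hx hx', ?_⟩
      rw [e, h.πmul _ hx _ hx', hm _ (Q.inv_mem hx), πinv hH hx, smul_add, δadd, δadd, ← map_smul,
        hδm, hδm, smul_neg, δneg, δneg, map_neg, map_neg, map_smul, smul_eq_mul]
      ring
    intro v
    have := (hK (h.qy (σQ v))).2
    rwa [σπ] at this
  let φ : Module.Dual F V :=
    { toFun := fun v => δ (σ v)
      map_add' := δadd
      map_smul' := δsm }
  haveI : Finite V := Finite.of_injective σ fun v w e => by rw [← σπ v, e, σπ]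
  have fs : Function.Surjective (f : V →ₗ[F] Module.Dual F V) := by
    refine (LinearMap.injective_iff_surjective_of_finrank_eq_finrank
      (Subspace.dual_finrank_eq).symm).1 ?_
    rw [← LinearMap.ker_eq_bot, LinearMap.ker_eq_bot']
    intro v hv
    exact h.nd v fun w => by rw [hv]; rfl
  obtain ⟨v₁, hv₁⟩ := fs φ
  have hx₀ := σQ v₁
  set x₀ := σ v₁ with hx₀d
  have pQ : ∀ x ∈ Q, x₀⁻¹ * k * x * (x₀⁻¹ * k)⁻¹ = x := by
    intro x hx
    have h1 := h.comm _ hx₀ _ hx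
    have h2 : f (π x₀) (π x) = δ x := by
      rw [hx₀d, σπ, hv₁, ← δσ x hx]; rfl
    rw [h2] at h1
    calc _ = x₀⁻¹ * (k * x * k⁻¹) * x₀ := by group
      _ = x₀⁻¹ * (x₀ * x * x₀⁻¹ * x⁻¹ * x) * x₀ := by rw [hδ x hx, h1, zc x hx]
      _ = x := by group
  set p := x₀⁻¹ * k with hp
  have pY : p ∈ normalizer (Y : Set G) :=
    mul_mem (inv_mem (le_normalizer (h.QY hx₀))) nY
  have pz : ∀ y ∈ Y, ∃ s, p * y * p⁻¹ = z s * y := by
    intro y hy
    obtain ⟨s, hs⟩ := h.cQY (p * y * p⁻¹ * y⁻¹) (Y.mul_mem (nm pY hy) (Y.inv_mem hy)) (by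
      intro x hx
      have h1 := pQ _ (nm' (h.YQ hy) hx)
      have h2 := pQ x hx
      have h3 : p⁻¹ * (y⁻¹ * x * y) * p = y⁻¹ * x * y := by
        conv_lhs => rw [← h1]
        group
      calc x * (p * y * p⁻¹ * y⁻¹) = (p * x * p⁻¹) * (p * y * p⁻¹ * y⁻¹) := by rw [h2]
        _ = p * y * (y⁻¹ * x * y) * p⁻¹ * y⁻¹ := by group
        _ = p * y * (p⁻¹ * (y⁻¹ * x * y) * p) * p⁻¹ * y⁻¹ := by rw [h3]
        _ = _ := by group)
    exact ⟨s, by rw [← hs]; group⟩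
  refine ⟨p, ?_, ?_⟩
  · have pt : p * t * p⁻¹ = t * z s := by
      calc p * t * p⁻¹ = x₀⁻¹ * (k * t * k⁻¹) * x₀ := by rw [hp]; group
        _ = x₀⁻¹ * t * (z s * x₀) := by rw [hk]; group
        _ = x₀⁻¹ * (t * x₀) * z s := by rw [← zc _ hx₀]; group
        _ = _ := by rw [← tH _ (h.YH (h.QY hx₀))]; group
    have pzz : ∀ r, Commute p (z r) := fun r => mul_inv_eq_iff_eq_mul.1 (pQ _ (h.zQ r))
    have := h.perf (centralizer {p}) fun a ha az y hy => by
      obtain ⟨r', hr'⟩ := pz y hy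
      have aQ := h.nQ a (tH a ha) az
      have c0 : ∀ r, Commute a (z r) := az
      have c1 : Commute (p * a * p⁻¹) (z s) := ((pzz s).mul_left (c0 s)).mul_left (pzz s).inv_left
      have c2 : Commute (p * a * p⁻¹) (t * z s) := pt ▸ Commute.conj (tH a ha) p
      have c3 : Commute (p * a * p⁻¹) t := by
        have := c2.mul_right c1.inv_right
        rwa [mul_inv_cancel_right] at this
      obtain ⟨r, c, hc, e⟩ := h.cQ (a⁻¹ * (p * a * p⁻¹)) ((show Commute a t from tH a ha).inv_left.mul_left c3)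
        fun x hx => by
          have h1 := pQ _ (nm aQ hx)
          have h2 := pQ x hx
          calc x * (a⁻¹ * (p * a * p⁻¹)) = a⁻¹ * (a * x * a⁻¹) * (p * a * p⁻¹) := by group
            _ = a⁻¹ * (p * (a * x * a⁻¹) * p⁻¹) * (p * a * p⁻¹) := by rw [h1]
            _ = a⁻¹ * (p * a * p⁻¹) * (p * x * p⁻¹) := by group
            _ = _ := by rw [h2]
      have yH := h.YH hy
      have d1 : Commute (z r * c) y := (show Commute (z r) y from (h.Yz y hy r).symm).mul_left (hc y yH).symm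
      have d2 : Commute (z r * c) (z r') :=
        (show Commute (z r) (z r') from zc _ (h.zQ r) r').mul_left (hc _ (h.YH (h.QY (h.zQ r')))).symm
      have d3 : Commute (z r') y := (h.Yz y hy r').symm
      rw [mem_centralizer_singleton_iff]
      have e1 : p * a * p⁻¹ = a * (z r * c) := by rw [← e]; group
      have e2 : z r * c * (z r' * y) * (z r * c)⁻¹ = z r' * y := by
        rw [(d2.mul_right d1).eq, mul_inv_cancel_right]
      have e3 : a * z r' * a⁻¹ = z r' := by rw [(c0 r').eq, mul_inv_cancel_right]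
      have e4 : Commute (z r') (a * y * a⁻¹ * y⁻¹) :=
        (((c0 r').symm.mul_right d3).mul_right (c0 r').symm.inv_right).mul_right d3.inv_right
      have h1 : p * (a * y * a⁻¹ * y⁻¹) * p⁻¹ = a * y * a⁻¹ * y⁻¹ := by
        calc _ = p * a * p⁻¹ * (p * y * p⁻¹) * (p * a * p⁻¹)⁻¹ * (p * y * p⁻¹)⁻¹ := by group
          _ = a * (z r * c * (z r' * y) * (z r * c)⁻¹) * a⁻¹ * (z r' * y)⁻¹ := by rw [e1, hr']; group
          _ = a * z r' * a⁻¹ * (a * y * a⁻¹ * y⁻¹) * (z r')⁻¹ := by rw [e2]; group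
          _ = _ := by rw [e3, e4.eq, mul_inv_cancel_right]
      calc _ = p * (a * y * a⁻¹ * y⁻¹) * p⁻¹ * p := by rw [h1]
        _ = _ := by group
    intro y hy
    exact mem_centralizer_singleton_iff.1 (this hy)
  · calc p * t * p⁻¹ = x₀⁻¹ * (k * t * k⁻¹) * x₀ := by rw [hp]; group
      _ = x₀⁻¹ * t * (z s * x₀) := by rw [hk]; group
      _ = x₀⁻¹ * (t * x₀) * z s := by rw [← zc _ hx₀]; group
      _ = _ := by rw [← tH _ (h.YH (h.QY hx₀))]; group

end CfsgLib.U5
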