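import Cfsg.Agent.Lib.U5.LineB

/-! The hats on totally isotropic subspaces -/

set_option autoImplicit false
set_option linter.unusedSectionVars false

namespace CfsgLib.U5

open Subgroup Module CfsgLib.Forms CfsgLib.LieMult
open CfsgLib.HX (Std CO Two Mv Tr Heis NF Fus4 Has4 M2)
open Submodule (span)
open scoped commutatorElement Pointwise

universe u

variable {K : Type} [Field K] [Finite K] {σ : K →+* K} {V : Type} [AddCommGroup V] [Module K V]
  [FiniteDimensional K V] {P : PQ σ V} {S : Type} [Group S] [Finite S] {G : Type u} [Group G]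
  [Finite G] {C : CG P S} {φ : S →* G} {t : G}

namespace Hats

variable {y : V → K → G} (h : Hats C φ t y) {e a b : V}
include h

theorem w_zero (ha : P.B a a = 0) : w y 0 a = 1 := by
  rw [w, add_zero, h.y_sq ha (map_one σ), h.y_zero' (map_one σ), mul_one]

theorem w_zero' (he : P.B e e = 0) : w y e 0 = 1 := by
  rw [h.w_symm he (by simp) (by simp), h.w_zero he]

theorem y_eq_w (he : P.B e e = 0) (ha : P.B a a = 0) (hea : P.B e a = 0) :
    y (a + e) 1 = y a 1 * y e 1 * w y e a := by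
  have h1 := map_one σ
  have hae := P.B_eq_zero_comm.1 hea
  have k : P.B (a + e) (a + e) = 0 := by simp [he, ha, hea, hae]
  exact mul3 (h.y_sq ha h1) (h.y_sq he h1) (h.com _ _ _ _ ha he hae h1 h1)
    (h.com _ _ _ _ k ha (by simp [ha, hea]) h1 h1) (h.com _ _ _ _ k he (by simp [he, hae]) h1 h1)

theorem w_line (he : P.B e e = 0) (ha : P.B a a = 0) (hea : P.B e a = 0) :
    (∀ u : K, w y e (a + u • e) = w y e a * y e (u + σ u)) ∧ ∀ l : K, w y (l • e) a = w y e (σ l • a) := by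
  have m := h.toMod
  have σσ := P.σσ
  have h1 := map_one σ
  have hae := P.B_eq_zero_comm.1 hea
  have fT : ∀ v, σ (v + σ v) = v + σ v := fun v => by rw [map_add, σσ, add_comm]
  by_cases e0 : e = 0
  · subst e0
    exact ⟨fun u => by rw [smul_zero, add_zero, h.y_zero' (fT u), mul_one], fun l => by
      rw [smul_zero, h.w_zero ha, h.w_zero (by simp [ha])]⟩
  by_cases h2 : a ∈ span K {e}
  · obtain ⟨c, rfl⟩ := Submodule.mem_span_singleton.1 h2
    refine ⟨fun u => ?_, fun l => ?_⟩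
    · rw [← add_smul, h.w_self he, h.w_self he, ← h.add _ _ _ he (fT _) (fT _), map_add, add_add_add_comm]
    · have fN : ∀ u, σ (σ u * u * 1) = σ u * u * 1 := fun u => by rw [mul_one, map_mul, σσ, mul_comm]
      rw [smul_smul, h.w_self he, w, ← add_smul, h.smul _ _ _ he h1, h.smul _ _ _ he h1, h.smul _ _ _ he h1,
        ← h.add _ _ _ he (fN _) (fN _), ← h.add _ _ _ he (by rw [map_add, fN, fN]) (fN _)]
      congr 1
      simp only [map_add, map_mul, σσ]
      linear_combination (σ c * c + σ l * l) * m.two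
  obtain ⟨f, f', k⟩ := m.exists_hh' he ha hea e0 h2
  obtain ⟨ω, ωa, ωN, ωy⟩ := h.line k
  have wω : ∀ l v : K, w y (l • e) (v • a) = ω (σ l * v) := fun l v => by
    by_cases v0 : v = 0
    · have := ωa 0 0
      rw [add_zero, left_eq_mul] at this
      rw [v0, zero_smul, mul_zero, this, h.w_zero' (by simp [he])]
    have σv := (map_ne_zero σ).2 v0
    have := h.y_eq_w (e := l • e) (a := v • a) (by simp [he]) (by simp [ha]) (by simp [hea])
    rw [show v • a + l • e = v • (a + (l / v) • e) by rw [smul_add, smul_smul, mul_div_cancel₀ _ v0],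
      h.smul _ _ _ (by simp [he, ha, hea, hae]) h1, ωy _ _ (by rw [mul_one, map_mul, σσ, mul_comm]),
      h.smul _ _ _ ha h1, h.smul _ _ _ he h1, map_div₀,
      show σ l / σ v * (l / v) * (σ v * v * 1) = σ l * l * 1 by field_simp,
      show σ l / σ v * (σ v * v * 1) = σ l * v by field_simp] at this
    exact (mul_left_cancel this).symm
  refine ⟨fun u => ?_, fun l => ?_⟩
  · have kN : TOk P e (σ u • f') 0 := m.tok1 he (by simp [(m.hp_iff.1 k.h₂).2.1]) (by simp [k.ef]) (map_zero σ)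
    have e1 := ωN 1 (σ u)
    have e2 := wω 1 1
    rw [one_smul, one_smul, h1, one_mul] at e2
    rw [← e2, h.w_conj he ha hea, C.T_self kN, C.T_perp kN hea] at e1
    simpa [σσ, k.h₂.fe] using e1
  · have e1 := wω l 1
    have e2 := wω 1 (σ l)
    rw [one_smul, h1, one_mul] at e2
    rw [one_smul, mul_one] at e1
    rw [e1, e2]

theorem wx' (he : P.B e e = 0) (ha : P.B a a = 0) (hea : P.B e a = 0) {d : K} (k : TOk P e b d) :
    x C φ e b d * w y e a * (x C φ e b d)⁻¹ = w y e a * y e (P.B a b + P.B b a) := by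
  rw [x, h.w_conj he ha hea, C.T_self k, C.T_perp k hea, (h.w_line he ha hea).1, h.toMod.conj, add_comm]

theorem w_add (he : P.B e e = 0) (ha : P.B a a = 0) (hb : P.B b b = 0) (hea : P.B e a = 0)
    (heb : P.B e b = 0) (hab : P.B a b = 0) : w y e (a + b) = w y e a * w y e b := by
  have m := h.toMod
  have em := h.toEmb
  have h1 := map_one σ
  have c := @PQ.B_eq_zero_comm _ _ _ _ _ _ P
  have fT : ∀ v, σ (v + σ v) = v + σ v := fun v => by rw [map_add, P.σσ, add_comm]
  by_cases e0 : e = 0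
  · subst e0
    rw [h.w_zero ha, h.w_zero hb, h.w_zero (by simp [ha, hb, hab, c.1 hab]), mul_one]
  by_cases h2 : a ∈ span K {e}
  · obtain ⟨u, rfl⟩ := Submodule.mem_span_singleton.1 h2
    rw [add_comm, (h.w_line he hb heb).1, h.w_self he]
    exact (h.w_Zh he hb heb he he heb _ (subset_closure ⟨_, fT u, .inr rfl⟩)).symm
  obtain ⟨U, hUd⟩ : ∃ U, U = span K {e, a, b} := ⟨_, rfl⟩
  have hU : TI P U := hUd ▸ ti_span.2 (by simp [he, ha, hb, hea, heb, hab, c.1 hea, c.1 heb, c.1 hab])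
  have h0 : U ≠ ⊥ := fun e1 => e0 (by rw [hUd, Submodule.span_eq_bot] at e1; exact e1 _ (by simp))
  have wU : ∀ p ∈ U, ∀ q ∈ U, w y p q ∈ Eh C φ y U := fun p hp q hq =>
    mul_mem (mul_mem (y_Eh (U.add_mem hq hp) h1) (y_Eh hq h1)) (y_Eh hp h1)
  have key : ∀ e ∈ U, ∀ a ∈ U, ∀ b ∈ U, e ≠ 0 →
      ∃ r, σ r = r ∧ w y e (a + b) * w y e a * w y e b = z C φ e r := fun e he a ha b hb e0 => by
    have ee := hU.B he he
    have hab := U.add_mem ha hb
    have hD := mul_mem (mul_mem (wU e he _ hab) (wU e he a ha)) (wU e he b hb)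
    have kx : ∀ a ∈ U, TOk P e a 0 := fun a ha => m.tok1 ee (hU.B ha ha) (hU.B he ha) (map_zero σ)
    have xU : ∀ a ∈ U, x C φ e a 0 ∈ Eh C φ y U := fun a ha =>
      h.E_le_Eh hU (mem_map_of_mem _ (m.T_mem_E hU (kx a ha) he ha))
    have wt : ∀ a ∈ U, ∀ g ∈ Eh C φ y U, w y e a * (t * g) * (w y e a)⁻¹ = t * (x C φ e a 0 * g) :=
      fun a ha g hg => by
        rw [← mul_assoc, mul_assoc _ g, h.Eh_comm hU g hg _ (inv_mem (wU e he a ha)), ← mul_assoc,
          h.w_t ee (hU.B ha ha) (hU.B he ha), mul_assoc]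
    have Dt : w y e (a + b) * w y e a * w y e b * t * (w y e (a + b) * w y e a * w y e b)⁻¹ =
        t * z C φ e 0 := by
      have e1 := wt b hb 1 (one_mem _)
      have e2 := wt a ha _ (xU b hb)
      have e3 := wt _ hab _ (mul_mem (xU a ha) (xU b hb))
      rw [mul_one, mul_one] at e1
      rw [← e2, ← e1, x, x, x, ← map_mul, ← map_mul, C.T_mul (kx a ha) (kx b hb), hU.B hb ha, add_zero,
        add_zero, C.T_mul (kx _ hab) (kx _ hab), m.vadd_self, hU.B hab hab, add_zero, add_zero] at e3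
      rw [z, ← e3]; group
    have DQ : w y e (a + b) * w y e a * w y e b ∈ centralizer (Rg C φ (span K {e}) : Set G) := fun q hq => by
      obtain ⟨c', d, k, rfl⟩ := (em.mem_Q e0 ee).1 hq
      have fS : ∀ a, σ (P.B a c' + P.B c' a) = P.B a c' + P.B c' a := fun a => by
        rw [map_add, m.conj, m.conj, add_comm]
      have e1 := h.wx' ee (hU.B ha ha) (hU.B he ha) k
      have e2 := h.wx' ee (hU.B hb hb) (hU.B he hb) k
      have e3 := h.wx' ee (hU.B hab hab) (hU.B he hab) k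
      obtain ⟨A, _, π, πm, πi, -, -⟩ := exists_model (h.Eh_comm hU)
      have yU : ∀ a, y e (P.B a c' + P.B c' a) ∈ Eh C φ y U := fun a => y_Eh he (fS a)
      rw [← mul_inv_eq_iff_eq_mul, show ∀ q a b c : G, q * (a * b * c) * q⁻¹ =
        q * a * q⁻¹ * (q * b * q⁻¹) * (q * c * q⁻¹) from fun _ _ _ _ => by group, e1, e2, e3]
      have e4 : y e (P.B (a + b) c' + P.B c' (a + b)) * y e (P.B a c' + P.B c' a) *
          y e (P.B b c' + P.B c' b) = 1 := by
        rw [← h.add _ _ _ ee (fS _) (fS _), ← h.add _ _ _ ee (by rw [map_add, fS, fS]) (fS _), ← h.y_zero ee]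
        congr 1
        simp only [map_add, LinearMap.add_apply]
        linear_combination (P.B a c' + P.B c' a + P.B b c' + P.B c' b) * m.two
      have n1 := mul_mem (wU e he _ hab) (yU (a + b))
      have n2 := mul_mem (wU e he _ ha) (yU a)
      have n3 := mul_mem (wU e he _ hb) (yU b)
      have n4 := mul_mem (mul_mem (yU (a + b)) (yU a)) (yU b)
      refine πi _ (mul_mem (mul_mem n1 n2) n3) _ hD ?_
      conv_rhs => rw [← mul_one (_ * _), ← e4]
      rw [πm _ (mul_mem n1 n2) _ n3, πm _ n1 _ n2, πm _ hD _ n4, πm _ (mul_mem (yU _) (yU _)) _ (yU _),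
        πm _ (yU _) _ (yU _), πm _ (wU e he _ hab) _ (yU _), πm _ (wU e he _ ha) _ (yU _),
        πm _ (wU e he _ hb) _ (yU _), πm _ (mul_mem (wU e he _ hab) (wU e he _ ha)) _ (wU e he _ hb),
        πm _ (wU e he _ hab) _ (wU e he _ ha)]
      abel
    rcases h.chr e0 ee (map_zero σ) (h.Eh_sq hU hD) DQ Dt with k | k
    · obtain ⟨s, r, hs, hr, e1⟩ := (h.mem_Zh ee).1 k
      refine ⟨s, hs, ?_⟩
      have e2 : z C φ e r = 1 := by
        rw [e1, mul_inv_rev, mul_assoc, mul_assoc, ← mul_assoc t, ← mul_assoc (y e r), ← mul_assoc (y e r),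
          (h.mv e r ee hr).pt, ← mul_assoc, ← mul_assoc, z, z, z, (h.toSit.tφ _).eq, C.T_zero (kx e he).sing,
          map_one, mul_one, mul_assoc, mul_assoc, mul_eq_left, ← mul_assoc, mul_inv_eq_one,
          mul_eq_left] at Dt
        exact Dt
      rw [e1, ((em.z_eq_one ee hr).1 e2).resolve_left e0, h.y_zero ee, mul_one]
    · obtain ⟨r, hr, e1⟩ := (em.mem_Z ee).1 k
      refine (h.t_not_Eh hU h0 ?_).elim
      rw [eq_mul_inv_of_mul_eq e1]
      exact mul_mem (z_Eh he hr) (inv_mem hD)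
  have eU : e ∈ U := hUd ▸ Submodule.subset_span (by simp)
  have aU : a ∈ U := hUd ▸ Submodule.subset_span (by simp)
  have bU : b ∈ U := hUd ▸ Submodule.subset_span (by simp)
  obtain ⟨r, hr, e1⟩ := key e eU a aU b bU e0
  obtain ⟨s, hs, e2⟩ := key a aU e eU b bU (fun e3 => h2 (e3 ▸ Submodule.zero_mem _))
  obtain ⟨A, _, π, πm, πi, -, -⟩ := exists_model (h.Eh_comm hU)
  have πw : ∀ p ∈ U, ∀ q ∈ U, π (w y p q) = π (y (q + p) 1) + π (y q 1) + π (y p 1) := fun p hp q hq => by
    rw [w, πm _ (mul_mem (y_Eh (U.add_mem hq hp) h1) (y_Eh hq h1)) _ (y_Eh hp h1),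
      πm _ (y_Eh (U.add_mem hq hp) h1) _ (y_Eh hq h1)]
  have π2 : ∀ p ∈ U, π (y p 1) + π (y p 1) = 0 := fun p hp => by
    have := πm 1 (one_mem _) 1 (one_mem _)
    rw [mul_one, left_eq_add] at this
    rw [← πm _ (y_Eh hp h1) _ (y_Eh hp h1), h.y_sq (hU.B hp hp) h1, this]
  have e3 : z C φ e r = z C φ a s := by
    refine πi _ (z_Eh eU hr) _ (z_Eh aU hs) ?_
    rw [← e1, ← e2, πm _ (mul_mem (wU _ eU _ (U.add_mem aU bU)) (wU _ eU _ aU)) _ (wU _ eU _ bU),
      πm _ (wU _ eU _ (U.add_mem aU bU)) _ (wU _ eU _ aU),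
      πm _ (mul_mem (wU _ aU _ (U.add_mem eU bU)) (wU _ aU _ eU)) _ (wU _ aU _ bU),
      πm _ (wU _ aU _ (U.add_mem eU bU)) _ (wU _ aU _ eU), πw _ eU _ (U.add_mem aU bU), πw _ eU _ aU,
      πw _ eU _ bU, πw _ aU _ (U.add_mem eU bU), πw _ aU _ eU, πw _ aU _ bU,
      show e + b + a = a + b + e by abel, add_comm e b, add_comm e a, add_comm b a]
    linear_combination (norm := abel1) π2 e eU - π2 a aU
  have e4 : z C φ e r = 1 := by
    by_contra e4
    exact h2 (em.z_eq_z he ha hr hs e3 e4)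
  rw [e4, mul_assoc, mul_eq_one_iff_eq_inv] at e1
  rw [e1, inv_eq_of_mul_eq_one_right (h.Eh_sq hU (mul_mem (wU _ eU _ aU) (wU _ eU _ bU)))]

theorem hl : HL C φ t y :=
  { h with
    wadd := fun _ _ _ he ha hb hea heb hab => h.w_add he ha hb hea heb hab
    wsmul := fun _ _ l he ha hea => (h.w_line he ha hea).2 l }

end Hats

namespace HL

variable {y : V → K → G} (h : HL C φ t y) {e a b : V} {s d : K}
include h

theorem y_line (he : P.B e e = 0) (ha : P.B a a = 0) (hea : P.B e a = 0) (hs : σ s = s) (l : K) :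
    y (a + l • e) s = y a s * y e (σ l * l * s) * w y e ((σ l * s) • a) := by
  obtain ⟨c, rfl, hc, -⟩ := h.toMod.exists_sqrt s
  have h1 := map_one σ
  have hae := P.B_eq_zero_comm.1 hea
  have := h.toHats.y_eq_w (e := (c * l) • e) (a := c • a) (by simp [he]) (by simp [ha]) (by simp [hea])
  rw [h.wsmul _ _ _ he (by simp [ha]) (by simp [hea]), h.smul _ _ _ he h1, h.smul _ _ _ ha h1, mul_smul,
    ← smul_add, h.smul _ _ _ (by simp [he, ha, hea, hae]) h1, map_mul, hc hs, mul_one, mul_one,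
    smul_smul] at this
  rw [this]; congr 3 <;> ring

theorem wx (he : P.B e e = 0) (ha : P.B a a = 0) (hea : P.B e a = 0) (k : TOk P e b d) :
    x C φ e b d * w y e a * (x C φ e b d)⁻¹ = w y e a * y e (P.B a b + P.B b a) :=
  h.toHats.wx' he ha hea k

theorem yx (he : P.B e e = 0) (ha : P.B a a = 0) (hea : P.B e a = 0) (k : TOk P e b d) (hs : σ s = s) :
    y a s * x C φ e b d * y a s =
      x C φ e b d * w y e ((s * P.B a b) • a) * y e (s * (P.B a b * P.B b a)) := by
  have m := h.toMod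
  have e1 := h.eqv (C.T e b d)⁻¹ a s ha hs
  have e2 : C.act (C.T e b d)⁻¹ a = a + P.B b a • e := C.inv_apply_eq (by
    rw [map_add, map_smul, C.T_self k, C.T_perp k hea, add_assoc, m.vadd_self, add_zero])
  have fN : σ (P.B a b * P.B b a * s) = P.B a b * P.B b a * s := by
    rw [map_mul, map_mul, m.conj, m.conj, hs, mul_comm (P.B b a)]
  have k1 : P.B ((P.B a b * s) • a) ((P.B a b * s) • a) = 0 := by simp [ha]
  have k2 : P.B e ((P.B a b * s) • a) = 0 := by simp [hea]
  have c1 := h.toHats.w_Zh he k1 k2 he he k2 _ (subset_closure ⟨_, fN, .inr rfl⟩)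
  have c2 := h.toHats.w_Zh he k1 k2 ha (P.B_eq_zero_comm.1 hea) (by simp [ha]) _
    (subset_closure ⟨_, hs, .inr rfl⟩)
  rw [e2, h.y_line he ha hea hs, m.conj, map_inv, inv_inv, mul_assoc, inv_mul_eq_iff_eq_mul] at e1
  rw [x, e1, mul_comm s, mul_comm s, mul_assoc, mul_assoc _ (w _ _ _), ← c2,
    (h.com _ _ _ _ ha he (P.B_eq_zero_comm.1 hea) hs fN).eq, mul_assoc _ (y a s), ← mul_assoc (y a s),
    h.toHats.y_sq ha hs, one_mul, c1, ← mul_assoc]

end HL

end CfsgLib.U5
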