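import Cfsg.Agent.Lib.U5.Hat

/-! The line formula, additive form -/

set_option autoImplicit false
set_option linter.unusedSectionVars false

namespace CfsgLib.U5

open Subgroup Module CfsgLib.Forms CfsgLib.LieMult
open CfsgLib.HX (Std CO Two Mv Tr Heis NF Fus4 Has4 M2)
open Submodule (span)
open scoped commutatorElement Pointwise

universe u

variable {K : Type} [Field K] [Finite K] {σ : K →+* K} {V : Type} [AddCommGroup V] [Module K V]
  [FiniteDimensional K V] {P : PQ σ V} {S : Type} [Group S] [Finite S] {G : Type u} [Group G]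
  [Finite G] {C : CG P S} {φ : S →* G} {t : G}

/-- an additive model of an abelian subgroup -/
theorem exists_model {E : Subgroup G} (hc : ∀ a ∈ E, ∀ b ∈ E, a * b = b * a) :
    ∃ (A : Type u) (_ : AddCommGroup A) (π : G → A), (∀ a ∈ E, ∀ b ∈ E, π (a * b) = π a + π b) ∧
      (∀ a ∈ E, ∀ b ∈ E, π a = π b → a = b) ∧ (∀ a, ∃ g ∈ E, π g = a) ∧
      ∀ n ∈ normalizer (E : Set G), ∃ f : A →+ A, ∀ g ∈ E, f (π g) = π (n * g * n⁻¹) := by
  classical
  let _ : CommGroup E := { (inferInstance : Group E) with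
    mul_comm := fun a b => Subtype.ext (hc a a.2 b b.2) }
  refine ⟨Additive E, inferInstance, fun g => if h : g ∈ E then Additive.ofMul ⟨g, h⟩ else 0,
    fun a ha b hb => ?_, fun a ha b hb e => ?_, fun a => ⟨a.toMul, a.toMul.2, by simp⟩, fun n hn => ?_⟩
  · simp only [dif_pos ha, dif_pos hb, dif_pos (mul_mem ha hb)]; rfl
  · simp only [dif_pos ha, dif_pos hb] at e
    exact congrArg Subtype.val (Additive.ofMul.injective e)
  · refine ⟨MonoidHom.toAdditive (E.normalizerMonoidHom ⟨n, hn⟩).toMonoidHom, fun g hg => ?_⟩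
    simp only [dif_pos hg, dif_pos (UFP.conj_mem hn hg)]; rfl

section Abstract

variable {A : Type*} [AddCommGroup A] {Z Z' B : K → A} {Y : K → K → K → A} {N : K → A →+ A}
  {τ d J : A →+ A} {μ : K}

theorem line_abs (h : Mod C) (h2 : ∀ a : A, a + a = 0)
    (Za : ∀ r s, σ r = r → σ s = s → Z (r + s) = Z r + Z s)
    (Za' : ∀ r s, σ r = r → σ s = s → Z' (r + s) = Z' r + Z' s) (Ba : ∀ u v, B (u + v) = B u + B v)
    (inj : ∀ r v r', σ r = r → σ r' = r' → Z r + B v + Z' r' = 0 → r = 0 ∧ v = 0 ∧ r' = 0)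
    (ker : ∀ a, τ a = a → ∃ r v r', σ r = r ∧ σ r' = r' ∧ a = Z r + B v + Z' r')
    (τY : ∀ l m s, σ s = s →
      τ (Y l m s) = Y l m s + (Z (σ l * l * s) + B (σ l * m * s) + Z' (σ m * m * s)))
    (Ys : ∀ c l m s, σ s = s → Y (c * l) (c * m) s = Y l m (σ c * c * s))
    (Ya : ∀ r s, σ r = r → σ s = s → Y 1 0 (r + s) = Y 1 0 r + Y 1 0 s)
    (NY : ∀ u l m s, σ s = s → N u (Y l m s) = Y (l + u * m) m s) (NZ : ∀ u r, σ r = r → N u (Z r) = Z r)
    (NB : ∀ u v, N u (B v) = B v + Z (v * u + σ (v * u)))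
    (NZ' : ∀ u r, σ r = r → N u (Z' r) = Z' r + Z (σ u * u * r) + B (σ u * r))
    (hμ : σ μ * μ = 1) (hμ1 : μ ≠ 1) (dY : ∀ l m s, σ s = s → d (Y l m s) = Y (μ * l) (μ⁻¹ * m) s)
    (dZ : ∀ r, σ r = r → d (Z r) = Z r) (dZ' : ∀ r, σ r = r → d (Z' r) = Z' r)
    (dd : ∀ a, d (d a) = a → d a = a) (JY : ∀ l m s, σ s = s → J (Y l m s) = Y m l s)
    (JZ : ∀ r, σ r = r → J (Z r) = Z' r) : ∃ Ω : K → A, (∀ v v', Ω (v + v') = Ω v + Ω v') ∧
      (∀ v u, N u (Ω v) = Ω v + Y 1 0 (v * u + σ (v * u))) ∧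
      ∀ u s, σ s = s → Y u 1 s = Y 0 1 s + Y 1 0 (σ u * u * s) + Ω (σ u * s) := by
  have σσ := P.σσ
  have k2 := h.add_self
  have two : (2 : K) = 0 := h.two
  have μ0 : μ ≠ 0 := fun e => by simp [e] at hμ
  have σμ : σ μ = μ⁻¹ := eq_inv_of_mul_eq_one_left hμ
  have Z0 : Z 0 = 0 := by simpa using Za 0 0 (map_zero σ) (map_zero σ)
  have Z0' : Z' 0 = 0 := by simpa using Za' 0 0 (map_zero σ) (map_zero σ)
  have B0 : B 0 = 0 := by simpa using Ba 0 0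
  have Y0 : Y 1 0 0 = 0 := by simpa using Ya 0 0 (map_zero σ) (map_zero σ)
  have fN : ∀ u s, σ s = s → σ (σ u * u * s) = σ u * u * s := fun u s hs => by
    rw [map_mul, map_mul, σσ, hs]; ring
  have fT : ∀ v, σ (v + σ v) = v + σ v := fun v => by rw [map_add, σσ, add_comm]
  have fa : ∀ {r s}, σ r = r → σ s = s → σ (r + s) = r + s := fun hr hs => by rw [map_add, hr, hs]
  have inj2 : ∀ r v r' v', σ r = r → σ r' = r' → Z r + B v = Z r' + B v' → r = r' ∧ v = v' :=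
    fun r v r' v' hr hr' e => by
      obtain ⟨e1, e2, -⟩ := inj (r + r') (v + v') 0 (fa hr hr') (map_zero σ) (by
        rw [Za _ _ hr hr', Ba, Z0']
        linear_combination (norm := abel1) e + h2 (Z r') + h2 (B v'))
      exact ⟨by linear_combination e1 - r' * two, by linear_combination e2 - v' * two⟩
  -- elements of `E` fixed by `N u`
  have fixN : ∀ a u, τ a = a → N u a = a → u ≠ 0 →
      ∃ r v, σ r = r ∧ a = Z r + B v ∧ v * u + σ (v * u) = 0 := fun a u h1 h3 u0 => by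
    obtain ⟨r, v, r', hr, hr', rfl⟩ := ker a h1
    rw [map_add, map_add, NZ _ _ hr, NB, NZ' _ _ hr'] at h3
    obtain ⟨e1, e2⟩ := inj2 (v * u + σ (v * u) + σ u * u * r') (σ u * r') 0 0 (fa (fT _) (fN _ _ hr'))
      (map_zero σ) (by rw [Za _ _ (fT _) (fN _ _ hr'), Z0, B0]; linear_combination (norm := abel1) h3)
    have e3 : r' = 0 := (mul_eq_zero.1 e2).resolve_left ((map_ne_zero σ).2 u0)
    exact ⟨r, v, hr, by rw [e3, Z0', add_zero], by simpa [e3] using e1⟩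
  obtain ⟨ω, hω⟩ : ∃ ω : K → K → A, ∀ u s, ω u s = Y u 1 s + Y 0 1 s + Y 1 0 (σ u * u * s) :=
    ⟨_, fun _ _ => rfl⟩
  obtain ⟨T, hT⟩ : ∃ T : K → K → K → K, ∀ u u' s, T u u' s = σ u * s * u' + σ (σ u * s * u') :=
    ⟨_, fun _ _ _ => rfl⟩
  have fT' : ∀ u u' s, σ (T u u' s) = T u u' s := fun _ _ _ => by rw [hT, fT]
  have Ts : ∀ u u' s, σ s = s → T u u' s = T u' u s := fun u u' s hs => by
    simp only [hT, map_mul, σσ, hs]; ring
  have Ta : ∀ u u₁ u₂ s, T u (u₁ + u₂) s = T u u₁ s + T u u₂ s := fun _ _ _ _ => by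
    simp only [hT, map_mul, map_add]; ring
  obtain ⟨δ, hδ⟩ : ∃ δ : K → K → K → A, ∀ u' u s,
      δ u' u s = Y (u + u') 1 s + Y u' 1 s + Y u 1 s + Y 0 1 s + Y 1 0 (T u u' s) := ⟨_, fun _ _ _ => rfl⟩
  have NY0 : ∀ u s, σ s = s → N u (Y 1 0 s) = Y 1 0 s := fun u s hs => by rw [NY _ _ _ _ hs]; simp
  have NY1 : ∀ u l s, σ s = s → N u (Y l 1 s) = Y (l + u) 1 s := fun u l s hs => by
    rw [NY _ _ _ _ hs, mul_one]
  have δs : ∀ u' u s, σ s = s → δ u' u s = δ u u' s := fun u' u s hs => by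
    rw [hδ, hδ, Ts u u' s hs, add_comm u u']; abel
  have δ0 : ∀ u s, δ 0 u s = 0 := fun u s => by
    rw [hδ, hT, mul_zero, map_zero, add_zero, add_zero, Y0]
    linear_combination (norm := abel1) h2 (Y u 1 s) + h2 (Y 0 1 s)
  have δN : ∀ u' u s, σ s = s → N u' (δ u' u s) = δ u' u s := fun u' u s hs => by
    simp only [hδ, map_add, NY1 _ _ _ hs, NY0 _ _ (fT' _ _ _), add_assoc u, k2, add_zero, zero_add]; abel
  have δa : ∀ u₁ u₂ u s, σ s = s → δ (u₁ + u₂) u s = δ u₁ u s + N u₁ (δ u₂ u s) := fun u₁ u₂ u s hs => by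
    simp only [hδ, map_add, NY1 _ _ _ hs, NY0 _ _ (fT' _ _ _), Ta, Ya _ _ (fT' _ _ _) (fT' _ _ _), zero_add,
      add_assoc u, add_comm u₂ u₁]
    linear_combination (norm := abel1) -h2 (Y (u + u₁) 1 s) - h2 (Y u₁ 1 s)
  have τY0 : ∀ s, σ s = s → τ (Y 1 0 s) = Y 1 0 s + Z s := fun s hs => by
    rw [τY _ _ _ hs]; simp [B0, Z0']
  have τY1 : ∀ u s, σ s = s → τ (Y u 1 s) = Y u 1 s + (Z (σ u * u * s) + B (σ u * s) + Z' s) :=
    fun u s hs => by rw [τY _ _ _ hs]; simp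
  have τω : ∀ u s, σ s = s → τ (ω u s) = ω u s + B (σ u * s) := fun u s hs => by
    simp only [hω, map_add, τY1 _ _ hs, τY0 _ (fN _ _ hs), map_zero, zero_mul, Z0, B0]
    linear_combination (norm := abel1) h2 (Z (σ u * u * s)) + h2 (Z' s)
  have ωa : ∀ u u' s, σ s = s → ω (u + u') s = ω u s + ω u' s + δ u' u s := fun u u' s hs => by
    rw [hω, hω, hω, hδ, show σ (u + u') * (u + u') * s = σ u * u * s + σ u' * u' * s + T u u' s by
      simp only [hT, map_mul, map_add, σσ, hs]; ring, Ya _ _ (fa (fN _ _ hs) (fN _ _ hs)) (fT' _ _ _),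
      Ya _ _ (fN _ _ hs) (fN _ _ hs)]
    linear_combination (norm := abel1) -h2 (Y u 1 s) - h2 (Y u' 1 s) - h2 (Y 0 1 s)
  have δτ : ∀ u' u s, σ s = s → τ (δ u' u s) = δ u' u s := fun u' u s hs => by
    have := congrArg τ (ωa u u' s hs)
    rw [map_add, map_add, τω _ _ hs, τω _ _ hs, τω _ _ hs, ωa _ _ _ hs, map_add, add_mul, Ba] at this
    linear_combination (norm := abel1) -this
  have ex : ∀ u' u s, ∃ r v, σ s = s → σ r = r ∧ δ u' u s = Z r + B v ∧ v * u' + σ (v * u') = 0 ∧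
      v * u + σ (v * u) = 0 := fun u' u s => by
    by_cases hs : σ s = s
    swap
    · exact ⟨0, 0, fun k => (hs k).elim⟩
    by_cases u0 : u' = 0 ∨ u = 0
    · refine ⟨0, 0, fun _ => ⟨map_zero σ, ?_, by simp, by simp⟩⟩
      rw [Z0, B0, add_zero]
      rcases u0 with rfl | rfl
      exacts [δ0 _ _, δs _ _ _ hs ▸ δ0 _ _]
    push Not at u0
    obtain ⟨r, v, hr, e, e1⟩ := fixN _ u' (δτ u' u s hs) (δN _ _ _ hs) u0.1
    obtain ⟨r', v', hr', e', e2⟩ := fixN _ u (δτ u' u s hs) (δs u' u s hs ▸ δN _ _ _ hs) u0.2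
    exact ⟨r, v, fun _ => ⟨hr, e, e1, (inj2 _ _ _ _ hr hr' (e.symm.trans e')).2 ▸ e2⟩⟩
  choose r β hx using ex
  obtain ⟨θ, hθ⟩ := h.herm.exists_ne_conj
  have β1 : ∀ u c s, σ s = s → σ c ≠ c → β (c * u) u s = 0 := fun u c s hs hc => by
    obtain ⟨-, e0, e1, e2⟩ := hx (c * u) u s hs
    by_cases u0 : u = 0
    · subst u0
      rw [mul_zero] at e0 ⊢
      exact (inj2 _ _ 0 0 (hx 0 0 s hs).1 (map_zero σ) (by rw [← e0, δ0, Z0, B0, add_zero])).2
    by_contra b0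
    refine hc (mul_left_cancel₀ (mul_ne_zero b0 u0) ?_)
    simp only [map_mul] at e1 e2
    linear_combination e1 - σ c * e2 + (β (c * u) u s * u * σ c - β (c * u) u s * u * c) * two
  have βa : ∀ u₁ u₂ u s, σ s = s → β (u₁ + u₂) u s = β u₁ u s + β u₂ u s := fun u₁ u₂ u s hs => by
    have := δa u₁ u₂ u s hs
    rw [(hx _ _ _ hs).2.1, (hx _ _ _ hs).2.1, (hx _ _ _ hs).2.1, map_add, NZ _ _ (hx _ _ _ hs).1, NB] at this
    refine (inj2 (r (u₁ + u₂) u s) _ (r u₁ u s + r u₂ u s + (β u₂ u s * u₁ + σ (β u₂ u s * u₁))) _ (hx _ _ _ hs).1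
      (fa (fa (hx _ _ _ hs).1 (hx _ _ _ hs).1) (fT _)) ?_).2
    rw [this, Za _ _ (fa (hx _ _ _ hs).1 (hx _ _ _ hs).1) (fT _), Za _ _ (hx _ _ _ hs).1 (hx _ _ _ hs).1, Ba]
    abel
  have β0 : ∀ u' u s, σ s = s → β u' u s = 0 := fun u' u s hs => by
    by_cases u0 : u = 0
    · subst u0
      exact (inj2 _ _ 0 0 (hx _ _ s hs).1 (map_zero σ) (by
        rw [← (hx _ _ s hs).2.1, δs _ _ _ hs, δ0, Z0, B0, add_zero])).2
    obtain ⟨c, rfl⟩ : ∃ c, u' = c * u := ⟨u' / u, by field_simp⟩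
    by_cases hc : σ c = c
    · rw [show c * u = (c + θ) * u + θ * u by linear_combination -(θ * u) * two, βa _ _ _ _ hs,
        β1 _ _ _ hs hθ, β1 _ _ _ hs (fun e => hθ (by rwa [map_add, hc, add_right_inj] at e)), add_zero]
    · exact β1 _ _ _ hs hc
  have δZ : ∀ u' u s, σ s = s → δ u' u s = Z (r u' u s) := fun u' u s hs => by
    rw [(hx _ _ _ hs).2.1, β0 _ _ _ hs, B0, add_zero]
  have δa' : ∀ u₁ u₂ u s, σ s = s → δ (u₁ + u₂) u s = δ u₁ u s + δ u₂ u s := fun u₁ u₂ u s hs => by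
    rw [δa _ _ _ _ hs, δZ u₂ _ _ hs, NZ _ _ (hx _ _ _ hs).1]
  -- the element `d`
  have Yμ : ∀ l m s, σ s = s → Y (μ⁻¹ * l) (μ⁻¹ * m) s = Y l m s := fun l m s hs => by
    rw [Ys _ _ _ _ hs, map_inv₀, ← mul_inv, hμ, inv_one, one_mul]
  have dY1 : ∀ u s, σ s = s → d (Y u 1 s) = Y (μ * μ * u) 1 s := fun u s hs => by
    rw [dY _ _ _ hs, ← Yμ (μ * μ * u) 1 s hs]; congr 1; field_simp
  have dY2 : ∀ u s, σ s = s → d (Y 1 (μ * μ * u) s) = Y 1 u s := fun u s hs => by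
    rw [dY _ _ _ hs, ← Yμ (μ * 1) _ s hs]; congr 1 <;> field_simp
  have dY0 : ∀ s, σ s = s → d (Y 1 0 s) = Y 1 0 s := fun s hs => by simpa using dY2 0 s hs
  have dY0' : ∀ s, σ s = s → d (Y 0 1 s) = Y 0 1 s := fun s hs => by simpa using dY1 0 s hs
  have Nν : ∀ u, σ (μ * μ * u) * (μ * μ * u) = σ u * u := fun u => by
    simp only [map_mul]; linear_combination (σ u * u * (σ μ * μ + 1)) * hμ
  have dω : ∀ u s, σ s = s → d (ω u s) = ω (μ * μ * u) s := fun u s hs => by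
    rw [hω, hω, map_add, map_add, dY1 _ _ hs, dY0' _ hs, dY0 _ (fN _ _ hs), Nν]
  have dδ : ∀ u' u s, σ s = s → δ (μ * μ * u') (μ * μ * u) s = δ u' u s := fun u' u s hs => by
    have := congrArg d (ωa u u' s hs)
    rw [map_add, map_add, dω _ _ hs, dω _ _ hs, dω _ _ hs, mul_add, ωa _ _ _ hs, δZ u' _ _ hs,
      dZ _ (hx _ _ _ hs).1, ← δZ _ _ _ hs] at this
    exact add_left_cancel this
  have ν1 : ∀ {c : K}, c ≠ 1 → 1 + c * c ≠ 0 := fun {c} hc e =>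
    hc (h.eq_one_of_sq (by linear_combination e - two))
  have μ2 : μ * μ ≠ 1 := fun e => hμ1 (h.eq_one_of_sq e)
  have Jω : ∀ u s, σ s = s → J (ω u s) = Y 1 u s + Y 1 0 s + Y 0 1 (σ u * u * s) := fun u s hs => by
    rw [hω, map_add, map_add, JY _ _ _ hs, JY _ _ _ hs, JY _ _ _ (fN _ _ hs)]
  have ωd : ∀ u s, σ s = s → ω ((1 + μ * μ) * u) s = ω u s + d (ω u s) + δ (μ * μ * u) u s :=
    fun u s hs => by rw [add_mul, one_mul, ωa _ _ _ hs, dω _ _ hs]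
  have n0 : ∀ u s, σ s = s → δ (μ * μ * u) u s = 0 := fun u s hs => by
    by_cases u0 : u = 0
    · rw [u0, mul_zero, δ0]
    obtain ⟨v, hv⟩ : ∃ v, v = (1 + μ * μ) * u := ⟨_, rfl⟩
    have v0 : v ≠ 0 := hv ▸ mul_ne_zero (ν1 hμ1) u0
    have σv0 : σ v ≠ 0 := (map_ne_zero σ).2 v0
    obtain ⟨u₂, hu₂⟩ : ∃ u₂, (1 + μ * μ) * u₂ = v⁻¹ := ⟨v⁻¹ / (1 + μ * μ), mul_div_cancel₀ _ (ν1 hμ1)⟩
    have hs' := fN v s hs
    have e1 : J (ω v s) = ω v⁻¹ (σ v * v * s) := by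
      rw [Jω _ _ hs, hω, ← Ys v v⁻¹ 1 s hs, mul_inv_cancel₀ v0, mul_one,
        show σ v⁻¹ * v⁻¹ * (σ v * v * s) = s by rw [map_inv₀]; field_simp]
      abel
    have e2 : d (J (ω (μ * μ * u) s)) = J (ω u s) := by
      rw [Jω _ _ hs, Jω _ _ hs, map_add, map_add, dY2 _ _ hs, dY0 _ hs, dY0' _ (fN _ _ hs), Nν]
    rw [← hu₂, ωd _ _ hs', hv, ωd _ _ hs, ← hv, map_add, map_add, dω _ _ hs, ← e2, δZ _ _ _ hs, δZ _ _ _ hs',
      JZ _ (hx _ _ _ hs).1] at e1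
    obtain ⟨a, ha⟩ : ∃ a, a = J (ω (μ * μ * u) s) + ω u₂ (σ v * v * s) := ⟨_, rfl⟩
    have e3 : a + d a = Z (r (μ * μ * u₂) u₂ (σ v * v * s)) + B 0 + Z' (r (μ * μ * u) u s) := by
      rw [ha, map_add, B0]
      linear_combination (norm := abel1) e1 + h2 (ω u₂ (σ v * v * s)) + h2 (d (ω u₂ (σ v * v * s))) -
        h2 (Z' (r (μ * μ * u) u s))
    have e4 := congrArg d e3
    rw [B0, add_zero, map_add, map_add, dZ _ (hx _ _ _ hs').1, dZ' _ (hx _ _ _ hs).1, ← add_zero (Z _), ← B0,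
      ← e3, add_comm] at e4
    rw [dd a (add_right_cancel e4), h2] at e3
    rw [δZ _ _ _ hs, (inj _ _ _ (hx _ _ _ hs').1 (hx _ _ _ hs).1 e3.symm).2.2, Z0]
  have δa'' : ∀ u u₁ u₂ s, σ s = s → δ u (u₁ + u₂) s = δ u u₁ s + δ u u₂ s := fun u u₁ u₂ s hs => by
    rw [δs _ _ _ hs, δa' _ _ _ _ hs, δs u₁ _ _ hs, δs u₂ _ _ hs]
  have δ1 : ∀ u' u s, σ s = s → δ u' u s = 0 := fun u' u s hs => by
    have p : ∀ a b, δ (μ * μ * a) b s = δ (μ * μ * b) a s := fun a b => by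
      have := n0 (a + b) s hs
      rw [mul_add, δa' _ _ _ _ hs, δa'' _ _ _ _ hs, δa'' _ _ _ _ hs, n0 _ _ hs, n0 _ _ hs] at this
      linear_combination (norm := abel1) this - h2 (δ (μ * μ * b) a s)
    obtain ⟨a, rfl⟩ : ∃ a, u' = (1 + μ * μ * (μ * μ)) * a := ⟨u' / _, (mul_div_cancel₀ _ (ν1 μ2)).symm⟩
    rw [add_mul, one_mul, δa' _ _ _ _ hs, mul_assoc (μ * μ), p (μ * μ * a), dδ _ _ _ hs, δs u _ _ hs, h2]
  have ωa' : ∀ u u' s, σ s = s → ω (u + u') s = ω u s + ω u' s := fun u u' s hs => by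
    rw [ωa _ _ _ hs, δ1 _ _ _ hs, add_zero]
  have Nω : ∀ u' u s, σ s = s → N u' (ω u s) = ω u s + Y 1 0 (T u u' s) := fun u' u s hs => by
    have := δ1 u' u s hs
    rw [hδ] at this
    rw [hω, map_add, map_add, NY1 _ _ _ hs, NY1 _ _ _ hs, NY0 _ _ (fN _ _ hs), zero_add]
    linear_combination (norm := abel1) this - h2 (Y u 1 s) - h2 (Y 0 1 s) - h2 (Y 1 0 (T u u' s))
  have h1 := map_one σ
  have sc : ∀ u s, σ s = s → ω u s = ω (s * u) 1 := fun u s hs => by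
    obtain ⟨ξ, hξ⟩ : ∃ ξ : K → A, ∀ u, ξ u = ω u s + ω (s * u) 1 := ⟨_, fun _ => rfl⟩
    have e1 : ∀ u, d (ξ u) = ξ u := fun u => by
      have k1 : τ (ξ u) = ξ u := by
        rw [hξ, map_add, τω _ _ hs, τω _ _ h1, map_mul, hs, mul_one, mul_comm s (σ u)]
        linear_combination (norm := abel1) h2 (B (σ u * s))
      have k3 : ∀ u', N u' (ξ u) = ξ u := fun u' => by
        rw [hξ, map_add, Nω _ _ _ hs, Nω _ _ _ h1, show T (s * u) u' 1 = T u u' s by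
          simp only [hT, map_mul, hs, map_one]; ring]
        linear_combination (norm := abel1) h2 (Y 1 0 (T u u' s))
      obtain ⟨r, v, hr, e, e1⟩ := fixN _ 1 k1 (k3 1) one_ne_zero
      obtain ⟨r', v', hr', e', e2⟩ := fixN _ θ k1 (k3 θ) (fun e => hθ (by rw [e, map_zero]))
      rw [← (inj2 _ _ _ _ hr hr' (e.symm.trans e')).2, map_mul] at e2
      rw [mul_one] at e1
      have : v = 0 := by
        by_contra v0
        exact hθ (mul_left_cancel₀ v0 (by linear_combination e2 - σ θ * e1 + (v * σ θ - v * θ) * two))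
      rw [e, this, B0, add_zero, dZ _ hr]
    obtain ⟨a, rfl⟩ : ∃ a, u = (1 + μ * μ) * a := ⟨u / _, (mul_div_cancel₀ _ (ν1 hμ1)).symm⟩
    have e2 := e1 a
    rw [hξ, map_add, dω _ _ hs, dω _ _ h1] at e2
    rw [add_mul, one_mul, mul_add, ωa' _ _ _ hs, ωa' _ _ _ h1, mul_left_comm s]
    linear_combination (norm := abel1) e2 + h2 (ω a s) - h2 (ω (μ * μ * (s * a)) 1)
  refine ⟨fun v => ω (σ v) 1, fun v v' => by simp only [map_add, ωa' _ _ _ h1], fun v u => ?_,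
    fun u s hs => ?_⟩
  · simp only [Nω _ _ _ h1, hT, σσ, mul_one]
  · simp only [map_mul, σσ, hs]
    rw [mul_comm u s, ← sc _ _ hs, hω]
    linear_combination (norm := abel1) -h2 (Y 0 1 s) - h2 (Y 1 0 (σ u * u * s))

end Abstract


end CfsgLib.U5
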