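import Cfsg.Agent.Lib.U5.LineA
import Cfsg.Agent.Lib.UFP.PrdA

/-! The line formula -/

set_option autoImplicit false
set_option linter.unusedSectionVars false

namespace CfsgLib.U5

open Subgroup Module CfsgLib.Forms CfsgLib.LieMult
open CfsgLib.HX (Std CO Two Mv Tr Heis NF Fus4 Has4 M2)
open Submodule (span)
open scoped commutatorElement Pointwise

universe u

variable {K : Type} [Field K] [Finite K] {σ : K →+* K} {V : Type} [AddCommGroup V] [Module K V]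
  [FiniteDimensional K V] {P : PQ σ V} {S : Type} [Group S] [Finite S] {G : Type u} [Group G]
  [Finite G] {C : CG P S} {φ : S →* G} {t : G}

variable (C φ) in
/-- the hat of `E(U)` -/
def Eh (y : V → K → G) (U : Submodule K V) : Subgroup G :=
  closure {g | ∃ p ∈ U, ∃ s, σ s = s ∧ (g = z C φ p s ∨ g = y p s)}

theorem TI.B {U : Submodule K V} (hU : TI P U) {p p' : V} (hp : p ∈ U) (hp' : p' ∈ U) : P.B p p' = 0 :=
  P.mem_perp.1 (hU hp') p hp

theorem y_Eh {y : V → K → G} {U : Submodule K V} {p : V} {s : K} (hp : p ∈ U) (hs : σ s = s) :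
    y p s ∈ Eh C φ y U := subset_closure ⟨p, hp, s, hs, .inr rfl⟩

theorem z_Eh {y : V → K → G} {U : Submodule K V} {p : V} {s : K} (hp : p ∈ U) (hs : σ s = s) :
    z C φ p s ∈ Eh C φ y U := subset_closure ⟨p, hp, s, hs, .inl rfl⟩

theorem isPGroup_of_sq {g : G} (h : g * g = 1) : IsPGroup 2 (zpowers g) :=
  IsPGroup.of_card_dvd_pow (n := 1) (by
    rw [Nat.card_zpowers, pow_one]; exact orderOf_dvd_of_pow_eq_one (by rw [pow_two, h]))

theorem norm_closure {s : Set G} {g : G} (h : ∀ a ∈ s, g * a * g⁻¹ ∈ closure s) :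
    g ∈ normalizer (closure s : Set G) :=
  mem_normalizer_fintype fun _ ha =>
    (closure_le ((closure s).comap (MulAut.conj g).toMonoidHom)).2 h ha

theorem mul3 {Y A B : G} (hA : A * A = 1) (hB : B * B = 1) (hAB : Commute A B) (hYA : Commute Y A)
    (hYB : Commute Y B) : Y = A * B * (Y * A * B) := by
  rw [← mul_assoc, ← mul_assoc, ← (hYA.mul_right hYB).eq, mul_assoc Y, mul_assoc A, hAB.symm.eq,
    ← mul_assoc A, hA, one_mul, mul_assoc, hB, mul_one]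

namespace Hats

variable {y : V → K → G} (h : Hats C φ t y) {U : Submodule K V} (hU : TI P U) {g : G}
include h hU

theorem E_le_Eh : Eg C φ U ≤ Eh C φ y U := by
  rw [Eg, h.toMod.E_eq hU, MonoidHom.map_closure]
  refine closure_mono ?_
  rintro _ ⟨_, ⟨p, hp, r, hr, rfl⟩, rfl⟩
  exact ⟨p, hp, r, hr, .inl rfl⟩

theorem Eh_comm : ∀ a ∈ Eh C φ y U, ∀ b ∈ Eh C φ y U, a * b = b * a := by
  have k : ∀ p ∈ U, Zh C φ y p ≤ centralizer (Eh C φ y U : Set G) := fun p hp => by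
    rw [le_centralizer_iff, Eh, closure_le]
    rintro _ ⟨p', hp', s, hs, e⟩
    exact h.Zh_comm (hU.B hp' hp') (hU.B hp hp) (hU.B hp' hp) (subset_closure ⟨s, hs, e⟩)
  have : Eh C φ y U ≤ centralizer (Eh C φ y U : Set G) := by
    refine (closure_le _).2 ?_
    rintro _ ⟨p, hp, s, hs, e⟩
    exact k p hp (subset_closure ⟨s, hs, e⟩)
  exact fun a ha b hb => this hb a ha

theorem Eh_sq (hg : g ∈ Eh C φ y U) : g * g = 1 := by
  induction hg using closure_induction with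
  | mem g hg =>
    obtain ⟨p, hp, s, hs, e⟩ := hg
    exact h.Zh_sq (hU.B hp hp) (subset_closure ⟨s, hs, e⟩)
  | one => exact mul_one 1
  | mul a b ha hb h1 h2 =>
    rw [mul_assoc, ← mul_assoc b, h.Eh_comm hU b hb a ha, mul_assoc, h2, mul_one, h1]
  | inv a _ h1 => rw [← mul_inv_rev, h1, inv_one]

theorem Eh_tr (h0 : U ≠ ⊥) (hg : g ∈ Eh C φ y U) : ∃ a ∈ Eg C φ U, Tr φ.range (Rg C φ U) t a g := by
  have td := h.toSit.td h.two' hU h0
  obtain ⟨T, -, hT⟩ := td.exists_sub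
  refine (hT g).1 ((closure_le T).2 ?_ hg)
  rintro _ ⟨p, hp, s, hs, e⟩
  have hz : z C φ p s ∈ Eg C φ U :=
    mem_map_of_mem _ (h.toMod.T_mem_E hU (h.toMod.tok0 (hU.B hp hp) hs) hp U.zero_mem)
  rcases e with rfl | rfl
  · exact (hT _).2 ⟨1, one_mem _, td.tr_E hz⟩
  · exact (hT _).2 ⟨_, hz, h.toSit.tr_of_mv hp (h.mv p s (hU.B hp hp) hs)
      (isPGroup_of_sq (h.y_sq (hU.B hp hp) hs))⟩

theorem t_not_Eh (h0 : U ≠ ⊥) : t ∉ Eh C φ y U := fun ht => by
  obtain ⟨p, hp, p0⟩ := Submodule.exists_mem_ne_zero_of_ne_bot h0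
  have e := (h.mv p 1 (hU.B hp hp) (map_one σ)).pt
  rw [h.Eh_comm hU _ (y_Eh hp (map_one σ)) t ht, mul_inv_cancel_right, left_eq_mul,
    h.toEmb.z_eq_one (hU.B hp hp) (map_one σ)] at e
  exact e.elim p0 one_ne_zero

theorem Eh_ker (h0 : U ≠ ⊥) (hg : g ∈ Eh C φ y U) (e : g * t = t * g) : g ∈ Eg C φ U := by
  obtain ⟨a, -, k⟩ := h.Eh_tr hU h0 hg
  have : a = 1 := by have := k.tr; rwa [e, mul_inv_cancel_right, left_eq_mul] at this
  subst this
  refine ((h.toSit.td h.two' hU h0).tr_one k).resolve_right fun k' => h.t_not_Eh hU h0 ?_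
  simpa using mul_mem (h.E_le_Eh hU k') (inv_mem hg)

theorem Eh_norm {l : S} (hl : ∀ v ∈ U, C.act l v ∈ U) : φ l ∈ normalizer (Eh C φ y U : Set G) := by
  refine norm_closure ?_
  rintro _ ⟨p, hp, s, hs, rfl | rfl⟩
  · exact (h.toEmb.z_conj l (hU.B hp hp) hs).symm ▸ z_Eh (hl p hp) hs
  · exact (h.eqv l p s (hU.B hp hp) hs).symm ▸ y_Eh (hl p hp) hs

omit hU in
theorem t_y {p : V} {s : K} (hp : P.B p p = 0) (hs : σ s = s) : t * y p s * t⁻¹ = y p s * z C φ p s := by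
  have e := (h.mv p s hp hs).pt
  have t2 : t⁻¹ = t := inv_eq_of_mul_eq_one_right h.t2
  rw [mul_inv_eq_iff_eq_mul, mul_assoc] at e
  rw [t2, mul_assoc, e, ← mul_assoc, h.t2, one_mul, (h.zy hp hp hp hs hs).eq]

theorem Eh_t : t ∈ normalizer (Eh C φ y U : Set G) := by
  refine norm_closure ?_
  rintro _ ⟨p, hp, s, hs, rfl | rfl⟩
  · rw [z, (h.toSit.tφ _).symm.mul_inv_cancel]; exact z_Eh hp hs
  · exact (h.t_y (hU.B hp hp) hs).symm ▸ mul_mem (y_Eh hp hs) (z_Eh hp hs)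

omit hU in
/-- the line formula -/
theorem line {e f e' f' : V} (k : HH P e f e' f') : ∃ ω : K → G, (∀ v v', ω (v + v') = ω v * ω v') ∧
    (∀ v u, φ (C.T e (u • f') 0) * ω v * (φ (C.T e (u • f') 0))⁻¹ =
      ω v * y e (v * σ u + σ v * u)) ∧
    ∀ u s, σ s = s → y (e' + u • e) s = y e' s * y e (σ u * u * s) * ω (σ u * s) := by
  have m := h.toMod
  have em := h.toEmb
  have σσ := P.σσ
  obtain ⟨he, hf, ef⟩ := m.hp_iff.1 k.h₁
  obtain ⟨he', hf', ef'⟩ := m.hp_iff.1 k.h₂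
  obtain ⟨U, hUd⟩ : ∃ U, U = span K {e, e'} := ⟨_, rfl⟩
  have e'e := P.B_eq_zero_comm.1 k.ee
  have hU : TI P U := hUd ▸ ti_span.2 (by simp [he, he', k.ee, e'e])
  have mU : ∀ l m : K, l • e + m • e' ∈ U := fun l m => hUd ▸ Submodule.mem_span_pair.2 ⟨l, m, rfl⟩
  have eU : e ∈ U := by simpa using mU 1 0
  have eU' : e' ∈ U := by simpa using mU 0 1
  have e0 : e ≠ 0 := fun e0 => by simp [e0] at ef
  have h0 : U ≠ ⊥ := fun e1 => e0 (by simpa [e1] using eU)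
  have kB : ∀ v : K, TOk P e (v • e') 0 := fun v =>
    m.tok1 he (hU.B (U.smul_mem _ eU') (U.smul_mem _ eU')) (hU.B eU (U.smul_mem _ eU')) (map_zero σ)
  have hB : ∀ v : K, x C φ e (v • e') 0 ∈ Eh C φ y U := fun v =>
    h.E_le_Eh hU (mem_map_of_mem _ (m.T_mem_E hU (kB v) eU (U.smul_mem _ eU')))
  obtain ⟨A, _, π, πm, πi, πs, πn⟩ := exists_model (h.Eh_comm hU)
  have π1 : π 1 = 0 := by simpa using πm 1 (one_mem _) 1 (one_mem _)
  have nU : ∀ l : S, C.act l e ∈ U → C.act l e' ∈ U → φ l ∈ normalizer (Eh C φ y U : Set G) :=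
    fun l h1 h2 => h.Eh_norm hU fun v hv => by
      obtain ⟨a, b, rfl⟩ := Submodule.mem_span_pair.1 (hUd ▸ hv)
      rw [map_add, map_smul, map_smul]
      exact U.add_mem (U.smul_mem _ h1) (U.smul_mem _ h2)
  have kN : ∀ u : K, TOk P e (u • f') 0 := fun u =>
    m.tok1 he (by simp [hf']) (by simp [k.ef]) (map_zero σ)
  have Ne : ∀ u : K, C.act (C.T e (σ u • f') 0) e = e := fun u => C.T_self (kN _)
  have Ne' : ∀ u : K, C.act (C.T e (σ u • f') 0) e' = e' + u • e := fun u => by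
    rw [C.T_perp (kN _) k.ee]; simp [σσ, k.h₂.fe]
  choose N hN using fun u : K => πn _ (nU _ ((Ne u).symm ▸ eU) ((Ne' u).symm ▸ U.add_mem eU' (U.smul_mem _ eU)))
  obtain ⟨τ, hτ⟩ := πn t (h.Eh_t hU)
  obtain ⟨μ, hμ1, hμ⟩ := m.herm.exists_norm_one_ne_one
  have μ0 : μ ≠ 0 := fun e => by simp [e] at hμ
  obtain ⟨d, od, de, -, de', -⟩ := m.exists_diag k μ0 (inv_ne_zero μ0) (by rw [mul_inv_cancel₀ μ0, map_one])
  have dn := nU d (de ▸ U.smul_mem _ eU) (de' ▸ U.smul_mem _ eU')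
  obtain ⟨D, hD⟩ := πn _ dn
  obtain ⟨j, je, je', -⟩ := m.exists_swap k
  obtain ⟨J, hJ⟩ := πn _ (nU j (je ▸ eU') (je' ▸ eU))
  have fN : ∀ u s, σ s = s → σ (σ u * u * s) = σ u * u * s := fun u s hs => by
    rw [map_mul, map_mul, σσ, hs]; ring
  have fT : ∀ v, σ (v + σ v) = v + σ v := fun v => by rw [map_add, σσ, add_comm]
  have zl : ∀ l m' s : K, σ s = s → π (z C φ (l • e + m' • e') s) = π (z C φ e (σ l * l * s)) +
      π (x C φ e ((σ l * m' * s) • e') 0) + π (z C φ e' (σ m' * m' * s)) := fun l m' s hs => by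
    have h1 := U.smul_mem m' eU'
    rw [← πm _ (z_Eh eU (fN _ _ hs)) _ (hB _), add_comm (π _), ← πm _ (z_Eh eU' (fN _ _ hs)) _
      (mul_mem (z_Eh eU (fN _ _ hs)) (hB _)), ← em.z_smul he' hs, add_comm, z,
      m.T_line he (hU.B h1 h1) (hU.B eU h1) hs, map_mul, map_mul, smul_smul, mul_right_comm (σ l) s, mul_assoc (φ _)]
    rfl
  obtain ⟨Ω, Ωa, ΩN, ΩY⟩ := line_abs (A := A) (Z := fun r => π (z C φ e r)) (Z' := fun r => π (z C φ e' r))
    (B := fun v => π (x C φ e (v • e') 0)) (Y := fun l m s => π (y (l • e + m • e') s)) (N := N) (τ := τ)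
    (d := D) (J := J) (μ := μ) m
    (fun a => by obtain ⟨g, hg, rfl⟩ := πs a; rw [← πm _ hg _ hg, h.Eh_sq hU hg, π1])
    (fun r s hr hs => by rw [em.z_add he hr hs, πm _ (z_Eh eU hr) _ (z_Eh eU hs)])
    (fun r s hr hs => by rw [em.z_add he' hr hs, πm _ (z_Eh eU' hr) _ (z_Eh eU' hs)])
    (fun u v => by
      rw [← πm _ (hB _) _ (hB _), x, x, x, ← map_mul, C.T_mul (kB _) (kB _), add_smul]; simp [he'])
    (fun r v r' hr hr' e1 => by
      rw [← πm _ (z_Eh eU hr) _ (hB _), ← πm _ (mul_mem (z_Eh eU hr) (hB _)) _ (z_Eh eU' hr'), ← π1] at e1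
      have e2 := πi _ (mul_mem (mul_mem (z_Eh eU hr) (hB _)) (z_Eh eU' hr')) _ (one_mem _) e1
      rw [z, z, x, ← map_mul, ← map_mul, ← map_one φ] at e2
      refine m.E_line_inj k hr hr' (map_zero σ) (map_zero σ) ?_
      rw [zero_smul, C.T_zero k.h₁.se, C.T_zero k.h₂.se, mul_one, mul_one]
      refine em.inj_two (m.rad_two hU) (m.E_le_rad hU ?_) (one_mem _) e2
      exact hUd ▸ (m.mem_E_line k).2 ⟨r, v, r', hr, hr', rfl⟩)
    (fun a ha => by
      obtain ⟨g, hg, rfl⟩ := πs a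
      rw [hτ g hg] at ha
      have e1 := πi _ (UFP.conj_mem (h.Eh_t hU) hg) _ hg ha
      obtain ⟨s, hs, rfl⟩ := h.Eh_ker hU h0 hg (mul_inv_eq_iff_eq_mul.1 e1).symm
      obtain ⟨r, v, r', hr, hr', rfl⟩ := (m.mem_E_line k).1 (hUd ▸ hs)
      refine ⟨r, v, r', hr, hr', ?_⟩
      rw [← πm _ (z_Eh eU hr) _ (hB _), ← πm _ (mul_mem (z_Eh eU hr) (hB _)) _ (z_Eh eU' hr'), map_mul, map_mul]
      rfl)
    (fun l m' s hs => by
      rw [hτ _ (y_Eh (mU _ _) hs), h.t_y (hU.B (mU _ _) (mU _ _)) hs, πm _ (y_Eh (mU _ _) hs) _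
        (z_Eh (mU _ _) hs), zl _ _ _ hs])
    (fun c l m' s hs => by
      rw [← h.smul _ _ _ (hU.B (mU _ _) (mU _ _)) hs, smul_add, smul_smul, smul_smul])
    (fun r s hr hs => by
      rw [h.add _ _ _ (hU.B (mU _ _) (mU _ _)) hr hs, πm _ (y_Eh (mU _ _) hr) _ (y_Eh (mU _ _) hs)])
    (fun u l m' s hs => by
      rw [hN _ _ (y_Eh (mU _ _) hs), h.eqv _ _ _ (hU.B (mU _ _) (mU _ _)) hs, map_add, map_smul, map_smul,
        Ne, Ne']
      congr 2; module)
    (fun u r hr => by rw [hN _ _ (z_Eh eU hr), em.z_conj _ he hr, Ne])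
    (fun u v => by
      rw [hN _ _ (hB _), em.x_conj _ (kB _), map_smul, Ne, Ne', smul_add, smul_smul, x,
        (m.T_shift (kB v) _).2.2, ← πm _ (hB _) _ (z_Eh eU (fT _)), x, z, ← map_mul,
        C.T_mul (kB _) (m.tok0 he (fT _))]
      simp)
    (fun u r hr => by
      have := zl u 1 r hr
      rw [map_one, mul_one, mul_one, one_mul, one_smul, add_comm (u • e)] at this
      rw [hN _ _ (z_Eh eU' hr), em.z_conj _ he' hr, Ne', this]; abel)
    hμ hμ1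
    (fun l m' s hs => by
      rw [hD _ (y_Eh (mU _ _) hs), h.eqv _ _ _ (hU.B (mU _ _) (mU _ _)) hs, map_add, map_smul, map_smul,
        de, de', smul_smul, smul_smul, mul_comm l, mul_comm m'])
    (fun r hr => by rw [hD _ (z_Eh eU hr), em.z_conj _ he hr, de, em.z_smul he hr, hμ, one_mul])
    (fun r hr => by
      rw [hD _ (z_Eh eU' hr), em.z_conj _ he' hr, de', em.z_smul he' hr, map_inv₀, ← mul_inv, hμ,
        inv_one, one_mul])
    (fun a ha => by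
      obtain ⟨g, hg, rfl⟩ := πs a
      rw [hD g hg, hD _ (UFP.conj_mem dn hg)] at ha
      have e1 := πi _ (UFP.conj_mem dn (UFP.conj_mem dn hg)) _ hg ha
      have e2 : g * φ d = φ d * g := UFP.comm_of_sq (od.of_dvd_nat (orderOf_map_dvd φ d)) (by
        conv_lhs => rw [← e1]
        simp [pow_two, mul_assoc])
      rw [hD g hg, ← e2, mul_inv_cancel_right])
    (fun l m' s hs => by
      rw [hJ _ (y_Eh (mU _ _) hs), h.eqv _ _ _ (hU.B (mU _ _) (mU _ _)) hs, map_add, map_smul, map_smul,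
        je, je', add_comm])
    (fun r hr => by rw [hJ _ (z_Eh eU hr), em.z_conj _ he hr, je])
  choose ω hω πω using fun v => πs (Ω v)
  simp only [one_smul, zero_smul, add_zero, zero_add] at ΩN ΩY
  refine ⟨ω, fun v v' => πi _ (hω _) _ (mul_mem (hω _) (hω _)) (by rw [πm _ (hω _) _ (hω _), πω, πω, πω, Ωa]),
    fun v u => ?_, fun u s hs => ?_⟩
  · have e1 := hN (σ u) _ (hω v)
    have e2 := nU _ ((Ne (σ u)).symm ▸ eU) ((Ne' (σ u)).symm ▸ U.add_mem eU' (U.smul_mem _ eU))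
    have e3 := fT (v * σ u)
    rw [πω, ΩN, ← πω, ← πm _ (hω _) _ (y_Eh eU e3), σσ] at e1
    rw [σσ] at e2
    rw [← πi _ (mul_mem (hω _) (y_Eh eU e3)) _ (UFP.conj_mem e2 (hω v)) e1, map_mul, σσ]
  · have h1 := y_Eh (C := C) (φ := φ) (y := y) eU' hs
    have h2 := y_Eh (C := C) (φ := φ) (y := y) eU (fN u s hs)
    refine πi _ (y_Eh (U.add_mem eU' (U.smul_mem _ eU)) hs) _ (mul_mem (mul_mem h1 h2) (hω _)) ?_
    rw [πm _ (mul_mem h1 h2) _ (hω _), πm _ h1 _ h2, πω, add_comm e', ΩY u s hs]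

end Hats

end CfsgLib.U5
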