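import Cfsg.Agent.Lib.U5.FusA

/-! Elements centralising the point stabiliser -/

set_option autoImplicit false
set_option linter.unusedSectionVars false

namespace CfsgLib.U5

open Subgroup Module CfsgLib.Forms CfsgLib.LieMult
open CfsgLib.HX (Std CO Two Mv Tr Heis NF Fus4 Has4 M2)
open Submodule (span)
open scoped commutatorElement Pointwise

universe u

variable {K : Type} [Field K] [Finite K] {σ : K →+* K} {V : Type} [AddCommGroup V] [Module K V]
  [FiniteDimensional K V] {P : PQ σ V} {S : Type} [Group S] [Finite S] {G : Type u} [Group G]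
  [Finite G] {C : CG P S} {φ : S →* G} {t : G}

open FA

namespace MV

theorem heis_inner {F W : Type} [Field F] [AddCommGroup W] [Module F W] {Q : Subgroup G} {z : F → G}
    {π : G → W} {f : LinearMap.BilinForm F W} (h : Heis Q z π f) (hF : ∀ c : F, c = 0 ∨ c = 1)
    {u : G → G} (hu : ∀ x ∈ Q, ∀ y ∈ Q, u (x * y) = u x * u y) (hz : ∀ s, u (z s) = z s)
    (h1 : ∀ x ∈ Q, ∃ s, u x = x * z s) : ∃ x₀ ∈ Q, ∀ x ∈ Q, u x = x₀ * x * x₀⁻¹ := by
  have : Finite F := Finite.of_injective z fun a b e => by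
    have := h.zinj (a - b) (mul_right_cancel (b := z b) (by rw [← h.zadd, sub_add_cancel, one_mul, e]))
    exact sub_eq_zero.1 this
  choose! δ hδ using h1
  have δmul : ∀ x ∈ Q, ∀ y ∈ Q, δ (x * y) = δ x + δ y := fun x hx y hy => h.z_inj (by
    have := hδ _ (Q.mul_mem hx hy)
    rw [hu x hx y hy, hδ x hx, hδ y hy, mul_assoc, ← mul_assoc (z _), ← h.cz hy, mul_assoc, ← h.zadd,
      mul_assoc] at this
    exact (mul_left_cancel (mul_left_cancel this)).symm)
  have δz : ∀ s, δ (z s) = 0 := fun s => h.zinj _ (left_eq_mul.1 ((hz s).symm.trans (hδ _ (h.zQ s))))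
  choose ρ ρQ ρπ using h.πsurj
  have δρ : ∀ x ∈ Q, δ (ρ (π x)) = δ x := fun x hx => by
    obtain ⟨s, hs⟩ := h.π_eq (ρQ (π x)) hx (ρπ _)
    rw [hs, δmul _ hx _ (h.zQ s), δz, add_zero]
  let lam : Module.Dual F W :=
    { toFun := fun v => δ (ρ v)
      map_add' := fun v w => by
        rw [← δmul _ (ρQ v) _ (ρQ w), ← δρ _ (Q.mul_mem (ρQ v) (ρQ w)), h.πmul _ (ρQ v) _ (ρQ w), ρπ, ρπ]
      map_smul' := fun c v => by
        rcases hF c with rfl | rfl
        · rw [zero_smul, ← h.πz 0, δρ _ (h.zQ 0), δz]; simp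
        · simp }
  have : Finite W := Finite.of_injective ρ fun v w e => by rw [← ρπ v, e, ρπ]
  obtain ⟨v, hv⟩ := (LinearMap.injective_iff_surjective_of_finrank_eq_finrank
    (f := (f : W →ₗ[F] Module.Dual F W)) (Subspace.dual_finrank_eq).symm).1
    (LinearMap.ker_eq_bot.1 (LinearMap.ker_eq_bot'.2 fun v hv => h.nd v fun w => by rw [hv]; rfl)) lam
  refine ⟨ρ v, ρQ v, fun x hx => ?_⟩
  have := h.comm _ (ρQ v) _ hx
  rw [ρπ, hv, show lam (π x) = δ x from δρ x hx, mul_inv_eq_iff_eq_mul] at this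
  rw [this, hδ x hx, h.cz hx]

theorem stb_of_le {U : Submodule K V} {s : S} (h : ∀ v ∈ U, C.act s v ∈ U) : s ∈ Stb C U := fun v => by
  have : U.map (C.act s).toLinearMap = U := Submodule.eq_of_le_of_finrank_eq
    (Submodule.map_le_iff_le_comap.2 h) (LinearEquiv.finrank_map_eq _ _)
  refine ⟨fun k => ?_, h v⟩
  obtain ⟨w, hw, e⟩ := this.ge k
  rwa [← (C.act s).injective e]

theorem si_T (h : Mod C) {α : RingAut K} {γ : AV V} (k : SI P α γ) {e a : V} {c : K} (hc : TOk P e a c) :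
    TOk P (γ e) (γ a) (α c) ∧ ∀ v, C.act (C.T (γ e) (γ a) (α c)) (γ v) = γ (C.act (C.T e a c) v) := by
  obtain ⟨h1, h2, h3⟩ := h.tok.1 hc
  have k1 : TOk P (γ e) (γ a) (α c) := h.tok.2 ⟨by rw [k.B_eq, h1, map_zero], by rw [k.B_eq, h2, map_zero],
    by rw [k.B_eq, ← h3, map_add, h.aut_comm]⟩
  refine ⟨k1, fun v => ?_⟩
  rw [h.T_app k1, h.T_app hc, map_add, map_add, k.semi, k.semi, k.B_eq, k.B_eq, map_add, map_mul, h.aut_comm]

theorem four (h : Mod C) (hq : Small σ) {ω : K} (hω : ω + σ ω = 1) (l : K) :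
    l = 0 ∨ l = 1 ∨ l = ω ∨ l = ω + 1 := by
  rcases hq (l + σ l) (by rw [map_add, P.σσ, add_comm]) with e | e
  · rcases hq l (by linear_combination e - h.add_self l) with e | e <;> simp [e]
  · rcases hq (l + ω) (by rw [map_add]; linear_combination e + hω - h.add_self (l + ω) + h.add_self 1)
      with e | e
    · exact .inr (.inr (.inl (by linear_combination e - h.add_self ω)))
    · exact .inr (.inr (.inr (by linear_combination e - h.add_self ω)))

theorem norm_one (hq : Small σ) (P : PQ σ V) {l : K} (h0 : l ≠ 0) : σ l * l = 1 :=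
  (hq _ (by rw [map_mul, P.σσ, mul_comm])).resolve_left (mul_ne_zero ((map_ne_zero σ).2 h0) h0)

/-- the projection onto `⟨e, f⟩^⊥` -/
def pr {e f : V} (hf : HP P e f) : V →ₗ[K] Wp P e f :=
  LinearMap.codRestrict _ (LinearMap.id - (P.B f).smulRight e - (P.B e).smulRight f) fun v =>
    CG.mem_perp_pair.2 ⟨by simp [hf.se.self_eq, hf.ef], by simp [hf.sf.self_eq, hf.fe]⟩

theorem pr_val {e f : V} (hf : HP P e f) (v : V) : (pr hf v : V) = v - P.B f v • e - P.B e v • f := rfl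

theorem pr_coe {e f : V} (hf : HP P e f) (v : Wp P e f) : pr hf v = v := Subtype.ext (by
  obtain ⟨a, b⟩ := CG.mem_perp_pair.1 v.2
  rw [pr_val, a, b]; simp)

theorem pr_e {e f : V} (hf : HP P e f) : pr hf e = 0 := Subtype.ext (by
  rw [pr_val, hf.fe, hf.se.self_eq]; simp)

theorem B_pr {e f : V} (hf : HP P e f) (b : Wp P e f) (v : V) : P.B b (pr hf v) = P.B b v := by
  obtain ⟨h1, h2⟩ := CG.mem_perp_pair.1 b.2
  simp [pr_val, P.B_eq_zero_comm.1 h1, P.B_eq_zero_comm.1 h2]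

theorem scal (h : Mod C) (hq : Small σ) {e f : V} (hf : HP P e f) (θ : Wp P e f →+ Wp P e f)
    (hθ : ∀ s, C.act s e = e → ∀ v, θ (pr hf (C.act s v.1)) = pr hf (C.act s (θ v).1)) :
    ∃ c : K, ∀ v, θ v = c • v := by
  have e0 : e ≠ 0 := fun c => by simpa [c] using hf.ef
  obtain ⟨ω, hω⟩ := h.herm.exists_trace_one
  have s1 : ∀ b : Wp P e f, P.B b b = 0 → ∀ v : Wp P e f, θ (P.B b v • b) = P.B b (θ v) • b :=
    fun b hb v => by
      have k := h.tok0 hb (map_one σ)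
      have := hθ _ (C.T_fix k (P.B_eq_zero_comm.1 (CG.mem_perp_pair.1 b.2).1) (by simp)) v
      simpa [h.T_app k, pr_coe] using this
  have s2 : ∀ b : Wp P e f, P.B b b = 0 → b ≠ 0 → ∃ c : K, θ b = c • b ∧
      ∀ v : Wp P e f, P.B b (θ v) = c * P.B b v := fun b hb b0 => by
    obtain ⟨f', hf'⟩ := h.exists_hp (fun c => b0 (Subtype.ext c)) hb
    have k1 := s1 b hb (pr hf f')
    rw [B_pr, hf'.ef, one_smul] at k1
    obtain ⟨u, u1, u2, u3, -⟩ := exists_unit_Wp (C := C) h.herm hf [] b (by simp) (by simp)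
      (.inl (by have := h.d5; simp; omega))
    have eb := (CG.mem_perp_pair.1 b.2).1
    have li : ∀ l : K, l ≠ 0 → LinearIndependent K ![e, l • b.1] := fun l l0 =>
      LinearIndependent.pair_iff.2 fun x y c => by
        have c1 := congrArg (P.B f) c
        simp only [map_add, map_smul, hf.fe, (CG.mem_perp_pair.1 b.2).2, smul_eq_mul, mul_one, mul_zero,
          add_zero, map_zero] at c1
        simpa [c1, l0, b0] using c
    have ω0 : ω ≠ 0 := fun c => by simp [c] at hω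
    obtain ⟨s, hs⟩ := h.witt (li 1 one_ne_zero) (li ω ω0) (by
      simp [Fin.forall_fin_two, eb, hb, P.B_eq_zero_comm.1 eb]) (a := u) (by simp [u2]) (by
      simp [Fin.forall_fin_two, u3, (CG.mem_perp_pair.1 u1).1])
    have k2 := hθ s (hs 0) b
    have k3 : C.act s b.1 = ω • b.1 := by simpa using hs 1
    rw [k3, map_smul, pr_coe, k1, Submodule.coe_smul, map_smul (C.act s), k3, map_smul (pr hf),
      map_smul (pr hf), pr_coe, smul_comm, ← k1] at k2
    have k4 : ∀ l : K, θ (l • b) = l • θ b := fun l => by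
      rcases four h hq hω l with rfl | rfl | rfl | rfl <;> simp [k2, add_smul]
    refine ⟨_, k1, fun v => smul_left_injective K b0 ?_⟩
    beta_reduce
    rw [← s1 b hb, k4, k1, smul_smul, mul_comm]
  obtain ⟨e', f', k⟩ := h.exists_hh hf
  let a : Wp P e f := ⟨e', CG.mem_perp_pair.2 ⟨k.ee, k.fe⟩⟩
  let a' : Wp P e f := ⟨f', CG.mem_perp_pair.2 ⟨k.ef, k.ff⟩⟩
  have aa : P.B a a' = 1 := k.h₂.ef
  have aa' : P.B a' a = 1 := k.h₂.fe
  obtain ⟨c, c1, c2⟩ := s2 a k.h₂.se.self_eq fun c => by simp [c] at aa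
  obtain ⟨c', c1', c2'⟩ := s2 a' k.h₂.sf.self_eq fun c => by simp [c] at aa
  obtain rfl : c' = c := by simpa [c1', aa] using c2 a'
  have s3 : ∀ b' : Wp P e f, (∀ v : Wp P e f, P.B b' (θ v) = c' * P.B b' v) →
      ∀ b : Wp P e f, P.B b b = 0 → P.B b' b ≠ 0 → θ b = c' • b := fun b' k b hb n => by
    obtain ⟨d, d1, -⟩ := s2 b hb fun c => by simp [c] at n
    have := k b
    rw [d1, Submodule.coe_smul, map_smul, smul_eq_mul] at this
    rw [d1, mul_right_cancel₀ n this]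
  have s4 : ∀ b : Wp P e f, P.B b b = 0 → θ b = c' • b := fun b hb => by
    by_cases n : P.B a b = 0
    swap; · exact s3 a c2 b hb n
    by_cases n' : P.B a' b = 0
    swap; · exact s3 a' c2' b hb n'
    have := s3 a' c2' (b + a) (by
      simp [hb, n, P.B_eq_zero_comm.1 n, show P.B a a = 0 from k.h₂.se.self_eq]) (by simp [n', aa'])
    rwa [map_add, c1, smul_add, add_left_inj] at this
  refine ⟨c', fun v => ?_⟩
  rw [← pr_coe hf v]
  refine AddSubgroup.closure_induction (p := fun w _ => θ (pr hf w) = c' • pr hf w) (fun b hb => ?_) (by simp)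
    (fun x y _ _ hx hy => by rw [map_add, map_add, hx, hy, smul_add]) (fun x _ hx => by simp [hx])
    (h.iso_span (ti hf.se.self_eq) (by rw [finrank_span_singleton e0]; have := h.d4; omega)
      (P.mem_perp_span_singleton.2 (CG.mem_perp_pair.1 v.2).1))
  have eb := P.mem_perp_span_singleton.1 hb.1
  refine s4 _ ?_
  rw [B_pr, pr_val]
  simp [eb, hb.2, P.B_smul_left]

variable (C φ) in
/-- `g` acts on `Q / Z` as `γ` -/
def AQ (e : V) (g : G) (γ : V → V) : Prop :=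
  ∀ a c, TOk P e a c → ∃ d, TOk P e (γ a) d ∧ g * x C φ e a c * g⁻¹ = x C φ e (γ a) d

theorem AQ.mul {e : V} {g g' : G} {γ γ' : V → V} (k : AQ C φ e g γ) (k' : AQ C φ e g' γ') :
    AQ C φ e (g * g') (γ ∘ γ') := fun a c hc => by
  obtain ⟨d, hd, e1⟩ := k' a c hc
  obtain ⟨d', hd', e2⟩ := k _ d hd
  exact ⟨d', hd', by rw [Function.comp_apply, ← e2, ← e1]; group⟩

theorem x_mul {e a b : V} {c d : K} (k : TOk P e a c) (k' : TOk P e b d) :
    x C φ e a c * x C φ e b d = x C φ e (a + b) (c + d + P.B b a) := by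
  rw [x, x, x, ← map_mul, C.T_mul k k']

theorem xz (h : Emb C φ) {e b : V} {c d : K} (k : TOk P e b c) (k' : TOk P e b d) :
    σ (d - c) = d - c ∧ x C φ e b d = z C φ e (d - c) * x C φ e b c := by
  have : σ (d - c) = d - c := by
    rw [map_sub]
    linear_combination (h.tok.1 k').2.2 - (h.tok.1 k).2.2 - h.add_self (d - c)
  exact ⟨this, by rw [z, ← x, x_mul (h.tok0 (h.tok.1 k).1 this) k]; simp⟩

variable (h : Sit C φ t) {e : V} (h0 : e ≠ 0) (he : P.B e e = 0) (hq : Small σ) {g : G}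
include h h0 he hq

theorem cz (nY : g ∈ normalizer (Yg C φ (span K {e}) : Set G))
    (nQ : g ∈ normalizer (Rg C φ (span K {e}) : Set G)) {r : K} (hr : σ r = r) :
    Commute g (z C φ e r) := by
  obtain ⟨f, hf⟩ := h.exists_hp h0 he
  obtain ⟨π, β, lr, -⟩ := h.lr hf
  have m := z_mem h.toEmb he hr
  obtain ⟨s, e1⟩ := lr.cQY _ (Tech.conj_mem_of_mem_normalizer nY (QY (ZQ h.toEmb he m))) fun q hq => by
    have := Yz h.toEmb he (QY (Tech.conj_mem_of_mem_normalizer' nQ hq)) m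
    calc _ = g * (g⁻¹ * q * g * z C φ e r) * g⁻¹ := by group
      _ = _ := by rw [this.eq]; group
  rcases hq r hr with rfl | rfl
  · rw [(h.z_eq_one he hr).2 (.inr rfl)]; exact Commute.one_right g
  rcases hq s s.2 with c | c <;> rw [c] at e1
  · rw [(h.z_eq_one he (map_zero σ)).2 (.inr rfl), conj_eq_one_iff, h.z_eq_one he hr] at e1
    exact (e1.elim h0 one_ne_zero).elim
  · exact mul_inv_eq_iff_eq_mul.1 e1

theorem semi (nY : g ∈ normalizer (Yg C φ (span K {e}) : Set G))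
    (nQ : g ∈ normalizer (Rg C φ (span K {e}) : Set G)) : ∃ α γ, SI P α γ ∧ (α = 1 ∨ ∀ c, α c = σ c) ∧
      γ e = e ∧ AQ C φ e g γ := by
  obtain ⟨f, hf⟩ := h.exists_hp h0 he
  obtain ⟨π, β, lr, πx, hβ⟩ := h.lr hf
  obtain ⟨m, hm, mβ⟩ := lr.toHeis.exists_lin nQ fun s => cz h h0 he hq nY nQ s.2
  have sh : ∀ {a c}, TOk P e a c → ∀ l : K, ∃ d, TOk P e (a + l • e) d ∧
      x C φ e a c = x C φ e (a + l • e) d := fun {a c} k l => by
    obtain ⟨-, k1, -⟩ := h.T_shift k l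
    obtain ⟨k2, -, e1⟩ := h.T_shift k1 l
    exact ⟨_, k2, by rw [x, x, e1]; congr 2; linear_combination - h.add_self (l + σ l)⟩
  have πx' : ∀ {a c}, TOk P e a c → π (x C φ e a c) = pr hf a := fun {a c} k => by
    obtain ⟨d, k1, e1⟩ := sh k (-P.B f a)
    have e2 : a + -P.B f a • e = pr hf a := by rw [pr_val, k.perp]; module
    rw [e2] at k1 e1
    rw [e1, πx _ _ (pr hf a).2 k1]
  have mW : ∀ q ∈ Rg C φ (span K {e}), ∃ c, TOk P e (π q) c ∧ q = x C φ e (π q) c := by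
    rintro _ ⟨s, hs, rfl⟩
    obtain ⟨a, c, k, fa, rfl⟩ := (h.mem_rad_hp hf).1 hs
    have := πx a c (CG.mem_perp_pair.2 ⟨k.perp, fa⟩) k
    exact ⟨c, by rwa [← x, this], by rw [← x, this]⟩
  have πY : ∀ s, C.act s e = e → ∀ q ∈ Rg C φ (span K {e}),
      π (φ s * q * (φ s)⁻¹) = pr hf (C.act s (π q)) := fun s hs q hq => by
    obtain ⟨c, k, e1⟩ := mW q hq
    have k1 := k.act C s
    rw [hs] at k1
    nth_rewrite 1 [e1]
    rw [h.x_conj s k, hs, πx' k1]
  have st : ∀ s, C.act s e = e → ∃ L : Wp P e f →ₗ[K] Wp P e f, ∀ a, m (L a) = pr hf (C.act s (m a)) :=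
    fun s hs => by
      obtain ⟨s', hs', e1⟩ := Tech.conj_mem_of_mem_normalizer' nY (mem_map_of_mem φ (mem_fix.2 hs))
      refine ⟨pr hf ∘ₗ (C.act s').toLinearMap ∘ₗ (Wp P e f).subtype, fun a => ?_⟩
      obtain ⟨q, hq, rfl⟩ := lr.πsurj a
      have := hm _ (Tech.conj_mem_of_mem_normalizer (YQ h.toEmb (mem_map_of_mem φ hs')) hq)
      rw [πY s' (mem_fix.1 hs') q hq] at this
      rw [← hm q hq, ← πY s hs _ (Tech.conj_mem_of_mem_normalizer nQ hq)]
      refine this.symm.trans (congrArg π ?_)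
      rw [e1]; group
  obtain ⟨ω, hω⟩ := h.herm.exists_trace_one
  obtain ⟨c, hc⟩ := scal h.toMod hq hf (m.toAddMonoidHom.comp ((DistribSMul.toAddMonoidHom _ ω).comp
    m.symm.toAddMonoidHom)) fun s hs v => by
      obtain ⟨L, hL⟩ := st s hs
      obtain ⟨v, rfl⟩ := m.surjective v
      simp [← hL]
  replace hc : ∀ v, m (ω • v) = c • m v := fun v => by simpa using hc (m v)
  obtain ⟨e', f', k⟩ := h.exists_hh hf
  let a : Wp P e f := ⟨e', CG.mem_perp_pair.2 ⟨k.ee, k.fe⟩⟩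
  have a0 : a ≠ 0 := fun c => by simpa [show e' = 0 from congrArg Subtype.val c] using k.h₂.ef
  have σω : σ ω = ω + 1 := by linear_combination hω - h.add_self ω
  obtain ⟨α, hα, αω⟩ : ∃ α : RingAut K, (α = 1 ∨ ∀ c, α c = σ c) ∧ α ω = c := by
    rcases four h.toMod hq hω c with rfl | rfl | rfl | rfl
    · have := hc a
      rw [zero_smul, map_eq_zero_iff _ m.injective, smul_eq_zero] at this
      exact absurd hω (by simp [this.resolve_right a0])
    · have := m.injective ((hc a).trans (one_smul _ _))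
      obtain rfl : ω = 1 := smul_left_injective K a0 (this.trans (one_smul _ _).symm)
      exact absurd hω (by rw [map_one, h.add_self]; exact zero_ne_one)
    · exact ⟨1, .inl rfl, rfl⟩
    · exact ⟨RingEquiv.ofBijective σ ⟨σ.injective, P.σ_surj⟩, .inr fun _ => rfl, σω⟩
  have ms : ∀ (l : K) v, m (l • v) = α l • m v := fun l v => by
    rcases four h.toMod hq hω l with rfl | rfl | rfl | rfl <;> simp [hc, αω, add_smul]
  have mB : ∀ a b : Wp P e f, P.B (m a) (m b) = α (P.B a b) := fun a b => by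
    by_contra n
    obtain ⟨l, hl⟩ := α.surjective (ω / (P.B (m a) (m b) - α (P.B a b)))
    have := congrArg Subtype.val (mβ a (l • b))
    rw [hβ, hβ, ms, Submodule.coe_smul, Submodule.coe_smul, ← h.conj (m a), ← h.conj a, P.B_smul_right,
      P.B_smul_right] at this
    have h2 : α (l * P.B a b) + σ (α (l * P.B a b)) = l * P.B a b + σ (l * P.B a b) := by
      rcases hα with rfl | c
      · rfl
      · rw [c, P.σσ, add_comm]
    have h3 := (eq_div_iff (sub_ne_zero.2 n)).1 hl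
    have h4 := congrArg σ h3
    rw [map_mul, map_sub] at h4
    simp only [map_mul] at this h2
    exact one_ne_zero (α := K) (by linear_combination this - h2 - h3 - h4 - hω)
  let γ₀ : V →+ V :=
    { toFun := fun v => α (P.B f v) • e + α (P.B e v) • f + m (pr hf v)
      map_zero' := by simp
      map_add' := fun v w => by simp only [map_add, add_smul, Submodule.coe_add]; abel }
  have γB : ∀ v w, P.B (γ₀ v) (γ₀ w) = α (P.B v w) := fun v w => by
    obtain ⟨a1, a2⟩ := CG.mem_perp_pair.1 (m (pr hf v)).2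
    obtain ⟨b1, b2⟩ := CG.mem_perp_pair.1 (m (pr hf w)).2
    have := mB (pr hf v) (pr hf w)
    rw [B_pr, pr_val hf v, P.B_sub_left, P.B_sub_left, P.B_smul_left, P.B_smul_left] at this
    simp only [γ₀, AddMonoidHom.coe_mk, ZeroHom.coe_mk, P.B_add_left, P.B_add_right, P.B_smul_left,
      P.B_smul_right, this, he, hf.ef, hf.fe, hf.sf.self_eq, b1, b2, P.B_eq_zero_comm.1 a1,
      P.B_eq_zero_comm.1 a2, map_sub, map_mul, h.aut_comm]
    ring
  have : Finite V := Module.finite_of_finite K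
  refine ⟨α, (AddEquiv.ofBijective γ₀ (Finite.injective_iff_bijective.1
    ((injective_iff_map_eq_zero _).2 fun v hv => C.nondeg v fun w => α.injective (by
      rw [← γB, hv]; simp)))).toIntLinearEquiv, ⟨fun l v => ?_, γB⟩, hα, ?_, fun a c k => ?_⟩
  · show α (P.B f (l • v)) • e + α (P.B e (l • v)) • f + m (pr hf (l • v)) =
      α l • (α (P.B f v) • e + α (P.B e v) • f + m (pr hf v))
    simp [ms, mul_smul]
  · show α (P.B f e) • e + α (P.B e e) • f + m (pr hf e) = e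
    simp [hf.fe, he, pr_e]
  · have q1 := (h.mem_Q h0 he).2 ⟨a, c, k, rfl⟩
    obtain ⟨d, k1, e1⟩ := mW _ (Tech.conj_mem_of_mem_normalizer nQ q1)
    rw [hm _ q1, πx' k] at k1
    obtain ⟨d', k2, e2⟩ := sh k1 (α (P.B f a))
    have e3 : γ₀ a = m (pr hf a) + α (P.B f a) • e := by
      show α (P.B f a) • e + α (P.B e a) • f + m (pr hf a) = _
      rw [k.perp, map_zero, zero_smul, add_zero, add_comm]
    exact ⟨d', e3 ▸ k2, by rw [e1, hm _ q1, πx' k, e2, ← e3]; rfl⟩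

omit h0 he hq in
theorem aq_self {s : S} (hs : C.act s e = e) : AQ C φ e (φ s) (C.act s) := fun a c k =>
  ⟨c, by simpa [hs] using k.act C s, by rw [h.x_conj s k, hs]⟩

omit h0 hq in
theorem t_inv (hg : g * t * g⁻¹ = t * z C φ e 1) (c : Commute g (z C φ e 1)) :
    g⁻¹ * t * g = t * z C φ e 1 := by
  have := h.z_sq he (map_one σ)
  calc _ = g⁻¹ * (t * z C φ e 1 * z C φ e 1) * g := by rw [mul_assoc t, this, mul_one]
    _ = g⁻¹ * (g * t * g⁻¹) * (z C φ e 1 * g) := by rw [hg]; group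
    _ = _ := by rw [← c.eq]; group

theorem lin (hg : g * t * g⁻¹ = t * z C φ e 1) (nY : g ∈ normalizer (Yg C φ (span K {e}) : Set G))
    (nQ : g ∈ normalizer (Rg C φ (span K {e}) : Set G)) {γ : AV V} (k : SI P 1 γ) (γe : γ e = e)
    (aq : AQ C φ e g γ) : ∃ k ∈ normalizer (Yg C φ (span K {e}) : Set G), k * t * k⁻¹ = t * z C φ e 1 ∧
      ∀ q ∈ Rg C φ (span K {e}), k * q * k⁻¹ * q⁻¹ ∈ Eg C φ (span K {e}) := by
  let Γ : V →ₗ[K] V := { toFun := γ, map_add' := γ.map_add, map_smul' := k.semi }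
  have : Fintype K := Fintype.ofFinite K
  obtain ⟨s, hs⟩ := h.full (Γ * Γ * Γ) ((h.herm.isIso_iff _).2 fun a b =>
    (k.B_eq _ _).trans ((k.B_eq _ _).trans (k.B_eq a b))) (by
      have := FiniteField.pow_card_sub_one_eq_one (LinearMap.det Γ) (LinearEquiv.isUnit_det'
        (LinearEquiv.ofInjectiveEndo Γ γ.injective)).ne_zero
      rw [← Nat.card_eq_fintype_card, h.card_K, h.small_iff.1 hq] at this
      rw [map_mul, map_mul, ← this]; ring)
  have se : C.act s e = e := by rw [hs]; show γ (γ (γ e)) = e; rw [γe, γe, γe]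
  have sY := mem_map_of_mem φ (mem_fix.2 se)
  have c := cz h h0 he hq nY nQ (map_one σ)
  refine ⟨(φ s)⁻¹ * (g * g * g), mul_mem (inv_mem (le_normalizer sY)) (mul_mem (mul_mem nY nY) nY), ?_,
    fun q hq => ?_⟩
  · have e1 : g * (t * z C φ e 1) * g⁻¹ = t := by rw [← t_inv h he hg c]; group
    calc _ = (φ s)⁻¹ * (g * (g * (g * t * g⁻¹) * g⁻¹) * g⁻¹) * φ s := by group
      _ = (φ s)⁻¹ * t * (z C φ e 1 * φ s) := by rw [hg, e1, hg]; group
      _ = _ := by rw [← (Yz h.toEmb he sY (z_mem h.toEmb he (map_one σ))).eq, (h.tφ s).inv_left.eq]; group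
  · obtain ⟨a, c, k, rfl⟩ := (h.mem_Q h0 he).1 hq
    obtain ⟨d, k1, e1⟩ := ((aq.mul aq).mul aq) a c k
    have k2 := k.act C s
    have e2 := h.x_conj s k
    rw [se, hs] at k2 e2
    obtain ⟨r, e3⟩ := xz h.toEmb k2 k1
    have m := z_mem h.toEmb he r
    convert m using 1
    calc _ = (φ s)⁻¹ * (g * g * g * x C φ e a c * (g * g * g)⁻¹) * φ s * (x C φ e a c)⁻¹ := by group
      _ = (φ s)⁻¹ * (z C φ e (d - c) * φ s) := by rw [e1.trans e3, ← e2]; group
      _ = _ := by rw [← (Yz h.toEmb he sY m).eq]; group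

theorem exact (nY : g ∈ normalizer (Yg C φ (span K {e}) : Set G))
    (nQ : g ∈ normalizer (Rg C φ (span K {e}) : Set G)) {α : RingAut K} {γ : AV V} (k : SI P α γ)
    (hα : ∀ c, α c = σ c) (γe : γ e = e) (aq : AQ C φ e g γ) {e' : V} (he' : P.B e' e' = 0)
    (hee : P.B e e' = 0) (γe' : γ e' = e') : ∃ q ∈ Rg C φ (span K {e}),
      Commute (g * q) (z C φ e' 1) ∧
      ∀ v : K, g * q * x C φ e (v • e') 0 * (g * q)⁻¹ = x C φ e (σ v • e') 0 := by
  obtain ⟨f, hf⟩ := h.exists_hp h0 he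
  obtain ⟨π, β, lr, -⟩ := h.lr hf
  choose κ hκ using h.exists_conj k
  have κe : ∀ {s s'}, (∀ v, C.act s' (γ v) = γ (C.act s v)) → κ s = s' := fun {s s'} c => C.ext fun v => by
    obtain ⟨v, rfl⟩ := γ.surjective v
    rw [hκ, c]
  have κT : ∀ {p a c}, TOk P p a c → κ (C.T p a c) = C.T (γ p) (γ a) (α c) := fun c =>
    κe (si_T h.toMod k c).2
  have κY : ∀ s, C.act s e = e → C.act (κ s) e = e := fun s hs => by rw [← γe, hκ, hs]
  classical
  obtain ⟨u, hu⟩ : ∃ u : G → G, ∀ s, C.act s e = e → u (φ s) = g⁻¹ * φ (κ s) * g :=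
    ⟨Function.extend (fun s : C.fixG (span K {e}) => φ s) (fun s => g⁻¹ * φ (κ s) * g) id, fun s hs =>
      Function.Injective.extend_apply (fun a b c => Subtype.ext (h.inj_fix h0
        ((mem_fix.1 a.2).trans (mem_fix.1 b.2).symm) c)) _ _ ⟨s, mem_fix.2 hs⟩⟩
  have um : ∀ a ∈ Yg C φ (span K {e}), ∀ b ∈ Yg C φ (span K {e}), u (a * b) = u a * u b := by
    rintro _ ⟨a, ha, rfl⟩ _ ⟨b, hb, rfl⟩
    rw [← map_mul, hu _ (mem_fix.1 (mul_mem ha hb)), hu _ (mem_fix.1 ha), hu _ (mem_fix.1 hb),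
      κe (s' := κ a * κ b) fun v => by rw [C.mul_apply, C.mul_apply, hκ, hκ], map_mul]
    group
  have ux : ∀ {p a c}, TOk P p a c → P.B p e = 0 → P.B a e = 0 →
      u (x C φ p a c) = g⁻¹ * x C φ (γ p) (γ a) (σ c) * g := fun c c1 c2 => by
    rw [x, hu _ (C.T_fix c c1 c2), κT c, hα]; rfl
  have uz : ∀ {r}, σ r = r → g⁻¹ * z C φ e r * g = z C φ e r := fun hr => by
    rw [mul_assoc, ← (cz h h0 he hq nY nQ hr).eq, inv_mul_cancel_left]
  obtain ⟨q, hq', e1⟩ := heis_inner lr.toHeis (fun c => (hq c c.2).imp Subtype.ext Subtype.ext) (u := u)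
    (fun a ha b hb => um a (QY ha) b (QY hb)) (fun s => by
      have := ux (h.tok0 he s.2) he (by simp)
      rw [γe, map_zero, show σ s = s from s.2] at this
      exact this.trans (uz s.2)) fun q hq => by
      obtain ⟨a, c, k1, rfl⟩ := (h.mem_Q h0 he).1 hq
      obtain ⟨d, k2, e1⟩ := aq a c k1
      have k3 := (si_T h.toMod k k1).1
      rw [γe, hα] at k3
      obtain ⟨r, e2⟩ := xz h.toEmb k2 k3
      refine ⟨⟨_, r⟩, ?_⟩
      rw [ux k1 he k1.perp', γe, e2, ← e1, (Yz h.toEmb he (QY hq) (z_mem h.toEmb he r)).eq]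
      conv_rhs => rw [← uz r]
      group
  refine ⟨q, hq', ?_, fun v => ?_⟩
  · obtain ⟨a, a1, a2, a3, -⟩ := exists_unit_Wp (C := C) h.herm hf [] e' (by simp) (by simp)
      (.inl (by have := h.d5; simp; omega))
    obtain ⟨c, k1⟩ := h.exists_tok he' a3
    have ea := P.B_eq_zero_comm.1 (CG.mem_perp_pair.1 a1).1
    have ee := P.B_eq_zero_comm.1 hee
    have yY : x C φ e' a c ∈ Yg C φ (span K {e}) := mem_map_of_mem φ (mem_fix.2 (C.T_fix k1 ee ea))
    have y2 : x C φ e' a c * x C φ e' a c = z C φ e' 1 := by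
      rw [x_mul k1 k1, h.vadd_self, h.add_self, a2, zero_add]; rfl
    have uY : u (x C φ e' a c) ∈ Yg C φ (span K {e}) := by
      rw [x, hu _ (C.T_fix k1 ee ea)]
      exact Tech.conj_mem_of_mem_normalizer' nY (mem_map_of_mem φ (mem_fix.2 (κY _ (C.T_fix k1 ee ea))))
    have uz' : u (z C φ e' 1) = g⁻¹ * z C φ e' 1 * g := by
      have := ux (h.tok0 he' (map_one σ)) ee (by simp)
      rwa [γe', map_zero, map_one] at this
    generalize x C φ e' a c = y at yY y2 uY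
    obtain ⟨r, e2⟩ := lr.cQY (y⁻¹ * (q⁻¹ * u y * q)) (mul_mem (inv_mem yY)
      (mul_mem (mul_mem (inv_mem (QY hq')) uY) (QY hq'))) fun w hw => by
        have w1 := Tech.conj_mem_of_mem_normalizer (YQ h.toEmb yY) hw
        have := um _ (QY w1) y yY
        rw [inv_mul_cancel_right, um y yY w (QY hw), e1 w hw, e1 _ w1] at this
        calc _ = y⁻¹ * q⁻¹ * (q * (y * w * y⁻¹) * q⁻¹ * u y) * q := by group
          _ = _ := by rw [← this]; group
    have c1 := Yz h.toEmb he yY (z_mem h.toEmb he r.2)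
    have e3 := um y yY y yY
    rw [y2, uz', show u y = q * (y * z C φ e r) * q⁻¹ by rw [← e2]; group, conj_mul, c1.symm.mul_mul_mul_comm,
      h.z_sq he r.2, mul_one, y2] at e3
    calc _ = g * (q * z C φ e' 1 * q⁻¹) * q := by group
      _ = _ := by rw [← e3]; group
  · have k1 : TOk P e (v • e') 0 := h.tok1 he (by simp [P.B_smul_left, he']) (by simp [hee]) (map_zero σ)
    have := (e1 _ ((h.mem_Q h0 he).2 ⟨_, _, k1, rfl⟩)).symm.trans (ux k1 he k1.perp')
    rw [γe, k.semi, hα, γe', map_zero] at this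
    calc _ = g * (q * x C φ e (v • e') 0 * q⁻¹) * g⁻¹ := by group
      _ = _ := by rw [this]; group

theorem line {f e' f' : V} (hh : HH P e f e' f') (hg : g * t * g⁻¹ = t * z C φ e 1)
    (c1 : Commute g (z C φ e 1)) (c2 : Commute g (z C φ e' 1))
    (c3 : ∀ v : K, g * x C φ e (v • e') 0 * g⁻¹ = x C φ e (σ v • e') 0) :
    ∃ k ∈ centralizer (Eg C φ (span K {e, e'}) : Set G), k * t * k⁻¹ = t * z C φ e 1 := by
  have he' := hh.h₂.se.self_eq
  have ee := P.B_eq_zero_comm.1 hh.ee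
  have k1 : ∀ (v : K) {c}, σ c = c → TOk P e (v • e') c := fun v c hc =>
    h.tok1 he (by simp [P.B_smul_left, he']) (by simp [hh.ee]) hc
  have hU : TI P (span K {e, e'}) := ti_span.2 (by simp [he, he', ee, hh.ee])
  have m1 : e ∈ span K {e, e'} := Submodule.subset_span (by simp)
  have m2 : e' ∈ span K {e, e'} := Submodule.subset_span (by simp)
  have cE : ∀ a ∈ Eg C φ (span K {e, e'}), ∀ b ∈ Eg C φ (span K {e, e'}), Commute a b := by
    rintro _ ⟨a, ha, rfl⟩ _ ⟨b, hb, rfl⟩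
    exact Commute.map (h.E_cent hU hb a (rad_le_fix _ (h.E_le_rad hU ha))) φ
  have zE : ∀ p ∈ span K {e, e'}, z C φ p 1 ∈ Eg C φ (span K {e, e'}) := fun p hp =>
    mem_map_of_mem φ (h.T_mem_E hU (h.tok0 (hU hp p hp) (map_one σ)) hp (zero_mem _))
  have xE : ∀ (v : K), x C φ e (v • e') 1 ∈ Eg C φ (span K {e, e'}) := fun v =>
    mem_map_of_mem φ (h.T_mem_E hU (k1 v (map_one σ)) m1 (Submodule.smul_mem _ v m2))
  let D : G → Prop := fun a => ∃ k ∈ centralizer (Eg C φ (span K {e, e'}) : Set G), k * t * k⁻¹ = t * a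
  have Dm : ∀ {a b}, D a → D b → b ∈ Eg C φ (span K {e, e'}) → D (a * b) := by
    rintro a b ⟨k, hk, e1⟩ ⟨k', hk', e2⟩ hb
    refine ⟨k * k', mul_mem hk hk', ?_⟩
    calc _ = k * (k' * t * k'⁻¹) * k⁻¹ := by group
      _ = k * t * k⁻¹ * (k * b) * k⁻¹ := by rw [e2]; group
      _ = _ := by rw [e1, ← hk b hb]; group
  have cz : ∀ {p g}, P.B p p = 0 → Commute g (z C φ p 1) → ∀ r, σ r = r → Commute g (z C φ p r) :=
    fun hp c r hr => by
      rcases hq r hr with rfl | rfl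
      exacts [(h.z_eq_one hp hr).2 (.inr rfl) ▸ Commute.one_right _, c]
  obtain ⟨j, j1, j2, -⟩ := h.exists_swap hh
  have D0 : D (z C φ e 1 * z C φ e' 1) := by
    have a1 : φ j * z C φ e 1 * (φ j)⁻¹ = z C φ e' 1 := by rw [h.z_conj j he (map_one σ), j1]
    have a2 : φ j * z C φ e' 1 * (φ j)⁻¹ = z C φ e 1 := by rw [h.z_conj j he' (map_one σ), j2]
    have a3 : ∀ v : K, φ j * x C φ e (v • e') 0 * (φ j)⁻¹ = x C φ e (σ v • e') 0 := fun v => by
      rw [h.x_conj j (k1 v (map_zero σ)), j1, map_smul, j2, x,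
        h.T_symm he' (by simp [P.B_smul_left, he]) (by simp [ee]),
        C.T_smul_left (h.tok1 he he' hh.ee (map_zero σ)), mul_zero]
      rfl
    have b1 : Commute (φ j * g * (φ j)⁻¹) (z C φ e 1) := a2 ▸ c2.conj (φ j)
    have b2 : Commute (φ j * g * (φ j)⁻¹) (z C φ e' 1) := a1 ▸ c1.conj (φ j)
    refine ⟨g⁻¹ * (φ j * g * (φ j)⁻¹), ?_, ?_⟩
    · rintro _ ⟨s, hs, rfl⟩
      obtain ⟨r, v, r', hr, hr', rfl⟩ := (h.mem_E_line hh).1 hs
      rw [map_mul, map_mul]
      refine (((cz he (c1.inv_left.mul_left b1) r hr).mul_right ?_).mul_right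
        (cz he' (c2.inv_left.mul_left b2) r' hr')).symm.eq
      have b3 := a3 (σ v)
      have b4 := c3 (σ v)
      rw [P.σσ] at b3 b4
      refine mul_inv_eq_iff_eq_mul.1 ?_
      calc _ = g⁻¹ * (φ j * (g * ((φ j)⁻¹ * x C φ e (v • e') 0 * φ j) * g⁻¹) * (φ j)⁻¹) * g := by
            rw [x]; group
        _ = g⁻¹ * (g * x C φ e (v • e') 0 * g⁻¹) * g := by
            nth_rewrite 1 [← b3]
            rw [show (φ j)⁻¹ * (φ j * x C φ e (σ v • e') 0 * (φ j)⁻¹) * φ j = x C φ e (σ v • e') 0 by group,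
              b4, a3, c3]
        _ = _ := by rw [x]; group
    · calc _ = g⁻¹ * (φ j * (g * ((φ j)⁻¹ * t * φ j) * g⁻¹) * (φ j)⁻¹) * g := by group
        _ = g⁻¹ * (φ j * t) * (φ j)⁻¹ * (φ j * z C φ e 1 * (φ j)⁻¹ * g) := by
            rw [(h.tφ j).inv_left.eq, inv_mul_cancel_right, hg]; group
        _ = g⁻¹ * t * g * z C φ e' 1 := by rw [(h.tφ j).eq, a1, ← c2.eq]; group
        _ = _ := by rw [t_inv h he hg c1, mul_assoc]
  have D1 : ∀ v : K, v ≠ 0 → D (x C φ e (v • e') 1) := fun v v0 => by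
    have k2 : TOk P e (v • f') 0 :=
      h.tok1 he (by simp [P.B_smul_left, hh.h₂.sf.self_eq]) (by simp [hh.ef]) (map_zero σ)
    have n := (h.act_norm (h.act_self _) (stb_of_le (s := C.T e (v • f') 0) (U := span K {e, e'})
      fun w hw => by
        rw [C.T_perp k2 (hU hw e m1)]; exact add_mem hw (Submodule.smul_mem _ _ m1))).2.2
    obtain ⟨k, hk, e1⟩ := id D0
    have D2 : D (z C φ e 1 * z C φ (e' + σ v • e) 1) := by
      have a1 := h.z_conj (C.T e (v • f') 0) he (map_one σ)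
      have a2 := h.z_conj (C.T e (v • f') 0) he' (map_one σ)
      rw [C.T_self k2] at a1
      rw [C.T_perp k2 hh.ee, P.B_smul_left, hh.h₂.fe, mul_one] at a2
      have a3 := h.tφ (C.T e (v • f') 0)
      generalize φ (C.T e (v • f') 0) = l at n a1 a2 a3
      refine ⟨l * k * l⁻¹, fun w hw => ?_, ?_⟩
      · have := hk _ (Tech.conj_mem_of_mem_normalizer' n hw)
        calc _ = l * (l⁻¹ * w * l * k) * l⁻¹ := by group
          _ = _ := by rw [this]; group
      · rw [← a2]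
        nth_rewrite 1 [← a1]
        calc _ = l * (k * (l⁻¹ * t * l) * k⁻¹) * l⁻¹ := by group
          _ = l * t * (z C φ e 1 * z C φ e' 1) * l⁻¹ := by
              rw [a3.inv_left.eq, inv_mul_cancel_right, e1]; group
          _ = _ := by rw [a3.eq]; group
    have m3 := add_mem m2 (Submodule.smul_mem _ (σ v) m1)
    have := Dm D0 D2 (mul_mem (zE e m1) (zE _ m3))
    rwa [(cE _ (zE e' m2) _ (zE e m1)).mul_mul_mul_comm, h.z_sq he (map_one σ), one_mul, z, z,
      h.T_line he he' hh.ee (map_one σ), map_mul, map_mul, ← mul_assoc, ← mul_assoc, ← z,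
      h.z_sq he' (map_one σ), one_mul, norm_one hq P ((map_ne_zero σ).2 v0), P.σσ, mul_one, mul_one, ← x, ← x,
      x_mul (h.tok0 he (map_one σ)) (k1 v (map_zero σ)), zero_add, map_zero, add_zero, add_zero] at this
  obtain ⟨ω, hω⟩ := h.herm.exists_trace_one
  have ω0 : ω ≠ 0 := fun c => by simp [c] at hω
  have := Dm (Dm (D1 1 one_ne_zero) (D1 ω ω0) (xE ω)) (D1 (σ ω) ((map_ne_zero σ).2 ω0)) (xE _)
  have b : ∀ a b : K, P.B (a • e') (b • e') = 0 := fun a b => by simp [P.B_smul_left, he']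
  rwa [x_mul (k1 1 (map_one σ)) (k1 ω (map_one σ)), b, h.add_self, add_zero, ← add_smul,
    x_mul (k1 _ (map_zero σ)) (k1 _ (map_one σ)), b, ← add_smul, add_assoc, hω, h.add_self, zero_smul,
    zero_add, add_zero] at this

end MV

open MV

namespace Sit

variable (h : Sit C φ t) {e : V} (h0 : e ≠ 0) (he : P.B e e = 0)
include h h0 he

/-- `q = 2` -/
theorem exists_triv2 (hq : Small σ) {g : G} (hg : g * t * g⁻¹ = t * z C φ e 1)
    (nY : g ∈ normalizer (Yg C φ (span K {e}) : Set G))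
    (nQ : g ∈ normalizer (Rg C φ (span K {e}) : Set G)) :
    ∃ k ∈ normalizer (Yg C φ (span K {e}) : Set G), k * t * k⁻¹ = t * z C φ e 1 ∧
      ∀ q ∈ Rg C φ (span K {e}), k * q * k⁻¹ * q⁻¹ ∈ Eg C φ (span K {e}) := by
  obtain ⟨α, γ, k, rfl | hα, γe, aq⟩ := semi h h0 he hq nY nQ
  · exact lin h h0 he hq hg nY nQ k γe aq
  obtain ⟨f, hf⟩ := h.exists_hp h0 he
  obtain ⟨a, b, hh⟩ := h.exists_hh hf
  have ha := hh.h₂.se.self_eq
  have ne : ∀ {a b}, P.B b a ≠ 0 → P.B b e = 0 → a ∉ span K {e} := fun c c' m => by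
    obtain ⟨l, rfl⟩ := Submodule.mem_span_singleton.1 m
    exact c (by rw [P.B_smul_right, c', mul_zero])
  have be := P.B_eq_zero_comm.1 hh.ef
  obtain ⟨s, μ, hμ, s1, s2⟩ := h.trans_line (a := γ a) h0 he (by rw [k.B_eq, ha, map_zero]) ha
    (by rw [← γe, k.B_eq, hh.ee, map_zero]) hh.ee (ne (b := γ b) (by simp [k.B_eq, hh.h₂.fe])
      (by rw [← γe, k.B_eq, be, map_zero])) (ne (b := b) (by simp [hh.h₂.fe]) be)
  obtain ⟨ν, ν1, -, ν2⟩ := h.exists_sqrt μ
  have ν0 := ne_zero_of_norm (ν2 hμ)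
  have he' : P.B (ν • a) (ν • a) = 0 := by simp [P.B_smul_left, ha]
  have hee : P.B e (ν • a) = 0 := by simp [hh.ee]
  have ne' : ν • a ∉ span K {e} := ne (b := b) (by simp [hh.h₂.fe, ν0]) be
  have sY := mem_map_of_mem φ (mem_fix.2 s1)
  have nY1 := mul_mem (le_normalizer sY) nY
  have nQ1 := mul_mem (YQ h.toEmb sY) nQ
  obtain ⟨q, hq', c2, c3⟩ := exact h h0 he hq nY1 nQ1 ((h.act_self s).toSI.mul k) hα
    (show C.act s (γ e) = e by rw [γe, s1]) ((aq_self h s1).mul aq) he' hee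
    (show C.act s (γ (ν • a)) = _ by
      rw [k.semi, map_smul, s2, smul_smul, hα, ← ν1, ← mul_assoc, ν2 hμ, one_mul])
  have nY2 := mul_mem nY1 (le_normalizer (QY hq'))
  have nQ2 := mul_mem nQ1 (le_normalizer hq')
  have zm := z_mem h.toEmb he (map_one σ)
  have hg2 : φ s * g * q * t * (φ s * g * q)⁻¹ = t * z C φ e 1 := by
    obtain ⟨q, -, rfl⟩ := hq'
    calc _ = φ s * (g * (φ q * t) * (φ q)⁻¹ * g⁻¹) * (φ s)⁻¹ := by group
      _ = φ s * t * (z C φ e 1 * (φ s)⁻¹) := by rw [(h.tφ q).eq, ← mul_assoc g, mul_inv_cancel_right, hg]; group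
      _ = _ := by rw [(h.tφ s).eq, ← (Yz h.toEmb he sY zm).inv_left.eq]; group
  have c1 := cz h h0 he hq nY2 nQ2 (map_one σ)
  generalize φ s * g * q = g at nY2 nQ2 hg2 c1 c2 c3
  generalize ν • a = e' at he' hee ne' c2 c3
  obtain ⟨f, f', hh⟩ := h.exists_hh' he he' hee h0 ne'
  obtain ⟨p, hp, e1⟩ := line h h0 he hq hh hg2 c1 c2 c3
  have hU : TI P (span K {e, e'}) := ti_span.2 (by simp [he, he', hee, P.B_eq_zero_comm.1 hee])
  have m1 : e ∈ span K {e, e'} := Submodule.subset_span (by simp)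
  have m2 : e' ∈ span K {e, e'} := Submodule.subset_span (by simp)
  obtain ⟨α', γ', k'⟩ := h.exists_act (g := g⁻¹ * p) (h.cN (mul_inv_eq_iff_eq_mul.1 (by
    calc _ = g⁻¹ * (p * t * p⁻¹) * g := by group
      _ = _ := by rw [e1, ← hg2]; group)))
  obtain ⟨n1, n2, -⟩ := h.act_norm k' (h.fix_of_z k' he (map_one σ) (map_one σ)
    (fun c => ((h.z_eq_one he (map_one σ)).1 c).elim h0 one_ne_zero) (mul_inv_eq_iff_eq_mul.2
      (c1.inv_left.mul_left (hp _ (mem_map_of_mem φ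
        (h.T_mem_E hU (h.tok0 he (map_one σ)) m1 (zero_mem _)))).symm)))
  replace n1 := mul_mem nY2 n1
  replace n2 := mul_mem nQ2 n2
  rw [mul_inv_cancel_left] at n1 n2
  obtain ⟨α, γ, k, rfl | hα, γe, aq⟩ := semi h h0 he hq n1 n2
  · exact lin h h0 he hq e1 n1 n2 k γe aq
  have key : ∀ v : K, γ (v • e') - v • e' ∈ span K {e} := fun v => by
    have k1 : TOk P e (v • e') 0 := h.tok1 he (by simp [P.B_smul_left, he']) (by simp [hee]) (map_zero σ)
    obtain ⟨d, k2, e2⟩ := aq _ _ k1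
    rw [x, ← hp _ (mem_map_of_mem φ (h.T_mem_E hU k1 m1 (Submodule.smul_mem _ v m2))),
      mul_inv_cancel_right] at e2
    exact T_mod h.toMod h0 k2 k1 (h.inj_fix h0 ((C.T_self k2).trans (C.T_self k1).symm) e2.symm)
  obtain ⟨ω, hω⟩ := h.herm.exists_trace_one
  have := sub_mem (key ω) (Submodule.smul_mem _ (σ ω) (key 1))
  rw [k.semi, hα, one_smul, smul_sub, sub_sub_sub_cancel_left, ← sub_smul,
    show σ ω - ω = 1 by linear_combination hω - h.add_self ω, one_smul] at this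
  exact absurd this ne'

theorem exists_p {g : G} (hg : g * t * g⁻¹ = t * z C φ e 1) :
    ∃ p ∈ centralizer (Yg C φ (span K {e}) : Set G), ∃ s, σ s = s ∧ s ≠ 0 ∧
      p * t * p⁻¹ = t * z C φ e s := by
  obtain ⟨g, hg, nY, nQ, nZ⟩ := h.trans h0 he hg
  obtain ⟨f, hf⟩ := h.exists_hp h0 he
  obtain ⟨π, β, lr, -⟩ := h.lr hf
  by_cases hq : Small σ
  · obtain ⟨k, k1, k2, k3⟩ := h.exists_triv2 h0 he hq hg nY nQ
    obtain ⟨p, hp, e1⟩ := lr.exists_cent (s := 1) k1 (fun s => cz h h0 he hq k1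
      (Tech.mem_normalizer_of_forall fun q hq => by
        simpa using mul_mem (ZQ h.toEmb he (k3 q hq)) hq) s.2) (fun q hq => by
      obtain ⟨r, hr, e1⟩ := (h.mem_Z he).1 (k3 q hq)
      exact ⟨⟨r, hr⟩, (mul_inv_eq_iff_eq_mul.1 e1).trans
        (Yz h.toEmb he (QY hq) (z_mem h.toEmb he hr)).eq.symm⟩) k2
    exact ⟨p, hp, 1, map_one σ, one_ne_zero, e1⟩
  · obtain ⟨k, k1, k2, k3, s, s0, k4⟩ := lr.exists_triv (h.big_iff.1 hq) hg nY nQ (h.X_z he ▸ nZ)
    obtain ⟨p, hp, e1⟩ := lr.exists_cent k1 k2 k3 k4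
    exact ⟨p, hp, s, s.2, fun c => s0 (Subtype.ext c), e1⟩

end Sit

end CfsgLib.U5
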