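import Cfsg.Agent.Lib.U5.TopQ
import Cfsg.Agent.Lib.U5.PrdA

/-! Product case: the hat of the radical of a point -/

set_option autoImplicit false
set_option linter.unusedSectionVars false

namespace CfsgLib.U5

open Subgroup Module CfsgLib.Forms CfsgLib.LieMult
open CfsgLib.HX (Std CO Two Mv Tr Heis NF Fus4 Has4 M2)
open Submodule (span)
open CfsgLib.UFP (mem_cent mem_cent1 conj_mem conj_mem' norm_sup)
open scoped commutatorElement Pointwise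

universe u

variable {K : Type} [Field K] [Finite K] {σ : K →+* K} {V : Type} [AddCommGroup V] [Module K V]
  [FiniteDimensional K V] {P : PQ σ V} {S : Type} [Group S] [Finite S] {G : Type u} [Group G]
  [Finite G] {C : CG P S} {φ : S →* G} {t : G}

theorem PrdQ_cn {W : Subgroup G} {g x : G} (hg : g ∈ normalizer (W : Set G))
    (hx : x ∈ centralizer (W : Set G)) : g * x * g⁻¹ ∈ centralizer (W : Set G) := mem_cent.2 fun w hw => by
  calc w * (g * x * g⁻¹) = g * (g⁻¹ * w * g * x) * g⁻¹ := by group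
    _ = _ := by rw [mem_cent.1 hx _ (conj_mem' hg hw)]; group

theorem PrdQ_stb {e : V} {o : S} {μ : K} (hμ : μ ≠ 0) (ho : C.act o e = μ • e) : o ∈ Stb C (span K {e}) := by
  intro v
  simp only [Submodule.mem_span_singleton]
  constructor
  · rintro ⟨l, hl⟩
    exact ⟨l * μ⁻¹, (C.act o).injective (by rw [map_smul, ho, smul_smul, inv_mul_cancel_right₀ hμ, hl])⟩
  · rintro ⟨l, rfl⟩
    exact ⟨l * μ, by rw [map_smul, ho, smul_smul]⟩

theorem Mod.PrdQ_rad (h : Mod C) {e : V} (h0 : e ≠ 0) (he : P.B e e = 0) {H : Subgroup S}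
    (hA : ∀ a, P.B a a = 0 → P.B e a = 0 → a ∉ span K {e} → ∀ l : K,
      ∃ c, TOk P e (l • a) c ∧ C.T e (l • a) c ∈ H) : Rad C (span K {e}) ≤ H := by
  have hZ : ∀ r, σ r = r → C.T e 0 r ∈ H := fun r hr => by
    obtain ⟨f, hf⟩ := h.exists_hp h0 he
    obtain ⟨a, b, k⟩ := h.exists_hh hf
    obtain ⟨θ, hθ⟩ := h.exists_tr hr
    obtain ⟨c, k1, m1⟩ := hA a k.h₂.se.self_eq k.ee (top_not_mem k) 1
    obtain ⟨d, k2, m2⟩ := hA b k.h₂.sf.self_eq k.ef (fun H' => by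
      obtain ⟨l, hl⟩ := Submodule.mem_span_singleton.1 H'
      have := k.h₂.fe
      rw [← hl, P.B_smul_left, k.ee, mul_zero] at this
      exact zero_ne_one this) θ
    rw [one_smul] at k1 m1
    have := C.T_commutator k1 k2
    rw [P.B_smul_left, P.B_smul_right, k.h₂.ef, k.h₂.fe, mul_one, mul_one, h.sub_eq, add_comm, hθ] at this
    rw [← this, commutatorElement_def]
    exact mul_mem (mul_mem (mul_mem m1 m2) (inv_mem m1)) (inv_mem m2)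
  refine h.rad_le_of h0 he fun a ha hea hn l => ?_
  obtain ⟨c, k, m⟩ := hA a ha hea hn l
  exact h.T_mem_of hZ (h.tok1 he (by simp [ha]) (by simp [hea]) (map_zero σ)) k m

namespace DblP

variable {y : V → K → G} {c : K} {φ₁ φ₂ : S →* G} (h : DblP C φ t y c φ₁ φ₂) {e : V}
include h

theorem PrdQ_n1 {U : Submodule K V} {s : S} (hs : s ∈ Stb C U) :
    φ₁ s ∈ normalizer ((Rg C φ₁ U ⊔ Rg C φ₂ U : Subgroup G) : Set G) := by
  refine norm_sup ?_ ?_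
  · rintro _ ⟨q, hq, rfl⟩
    exact mem_sup_left ⟨_, conj_mem (h.stb_norm U hs).1.2 hq, by simp⟩
  · rintro _ ⟨q, hq, rfl⟩
    rw [(h.c12 s q).eq, mul_inv_cancel_right]
    exact mem_sup_right ⟨q, hq, rfl⟩

theorem PrdQ_n2 {U : Submodule K V} {s : S} (hs : s ∈ Stb C U) :
    φ₂ s ∈ normalizer ((Rg C φ₁ U ⊔ Rg C φ₂ U : Subgroup G) : Set G) :=
  by rw [sup_comm]; exact h.symm.PrdQ_n1 hs

theorem PrdQ_c1 (g q : S) : φ₁ g * φ q * (φ₁ g)⁻¹ * (φ q)⁻¹ = φ₁ (g * q * g⁻¹ * q⁻¹) := by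
  rw [h.ext]
  calc _ = φ₁ g * φ₁ q * (φ₂ q * (φ₁ g)⁻¹) * (φ₂ q)⁻¹ * (φ₁ q)⁻¹ := by group
    _ = _ := by rw [← (h.c12 g q).inv_left.eq]; simp [mul_assoc]

theorem PrdQ_c2 (l x : S) : φ₁ l * (φ₂ x * (φ₁ x)⁻¹) * (φ₁ l)⁻¹ * (φ₂ x * (φ₁ x)⁻¹)⁻¹ =
    φ₁ (l * x⁻¹ * l⁻¹ * x⁻¹⁻¹) := by
  calc _ = φ₁ l * φ₂ x * φ₁ (x⁻¹ * l⁻¹ * x) * (φ₂ x)⁻¹ := by simp [mul_assoc]
    _ = _ := by rw [mul_assoc (φ₁ l), ← (h.c12 _ x).eq]; simp [mul_assoc]

theorem PrdQ_tn (U : Submodule K V) : t ∈ normalizer ((Rg C φ₁ U ⊔ Rg C φ₂ U : Subgroup G) : Set G) := by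
  refine norm_sup ?_ ?_ <;> rintro _ ⟨q, hq, rfl⟩
  · rw [h.tc]; exact mem_sup_right ⟨q, hq, rfl⟩
  · rw [h.symm.tc]; exact mem_sup_left ⟨q, hq, rfl⟩

theorem PrdQ_gen (h0 : e ≠ 0) (he : P.B e e = 0) {H : Subgroup G}
    (hH : ∀ a, P.B a a = 0 → P.B e a = 0 → a ∉ span K {e} →
      ∀ g ∈ centralizer (Rg C φ (span K {e, a}) : Set G), ∀ q ∈ Rg C φ (span K {e}), g * q * g⁻¹ ∈ H) :
    Rg C φ₁ (span K {e}) ⊔ Rg C φ₂ (span K {e}) ≤ H := by
  have hQ : ∀ q ∈ Rad C (span K {e}), φ q ∈ H := fun q hq => by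
    obtain ⟨f, hf⟩ := h.exists_hp h0 he
    obtain ⟨a, b, k⟩ := h.exists_hh hf
    simpa using hH a k.h₂.se.self_eq k.ee (top_not_mem k) 1 (one_mem _) _ ⟨q, hq, rfl⟩
  have h1 : Rad C (span K {e}) ≤ H.comap φ₁ := h.toMod.PrdQ_rad h0 he fun a ha hea hn l => by
    obtain ⟨f, f', k⟩ := h.exists_hh' he ha hea h0 hn
    have hU : TI P (span K {e, a}) := k.ti
    have kz : TOk P a 0 1 := h.tok0 ha (map_one σ)
    have kq := h.tok_N k l
    have hz := h.E_cent hU (h.T_mem_E hU kz (Submodule.subset_span (by simp)) (zero_mem _))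
    have hg : φ₁ (C.T a 0 1) ∈ centralizer (Rg C φ (span K {e, a}) : Set G) := mem_cent.2 (by
      rintro _ ⟨r, hr, rfl⟩
      rw [h.ext, mul_assoc, ← (h.c12 _ r).eq, ← mul_assoc, ← map_mul, mem_cent.1 hz r (rad_le_fix _ hr), map_mul,
        mul_assoc])
    have m := mul_mem (hH a ha hea hn _ hg _ ⟨_, h.T_mem_Q kq, rfl⟩) (inv_mem (hQ _ (h.T_mem_Q kq)))
    have e1 : C.act (C.T a 0 1) e = e := by
      rw [h.z_app ha (map_one σ), h.B_comm hea, mul_zero, zero_smul, add_zero]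
    have e2 : C.act (C.T a 0 1) (l • f') = l • f' + l • a := by
      rw [h.z_app ha (map_one σ), P.B_smul_right, k.h₂.ef, one_mul, mul_one]
    have k1 := kq.act C (C.T a 0 1)
    have k2 := C.T_conj (C.T a 0 1) kq
    rw [e1, e2] at k1 k2
    have k3 := k1.add (kq.neg C)
    have k4 := C.T_mul k1 (kq.neg C)
    rw [add_neg_cancel_comm] at k3 k4
    refine ⟨_, k3, mem_comap.2 ?_⟩
    rwa [← k4, ← C.T_inv kq, ← k2, ← h.PrdQ_c1]
  refine sup_le (map_le_iff_le_comap.2 h1) ?_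
  rintro _ ⟨q, hq, rfl⟩
  have := mul_mem (inv_mem (mem_comap.1 (h1 hq))) (hQ q hq)
  rwa [h.ext, inv_mul_cancel_left] at this

theorem PrdQ_u {W : Subgroup G} (hW : Odd (Nat.card W)) (ht : t ∈ normalizer (W : Set G)) {x : S}
    (h1 : φ₁ x ∈ normalizer (W : Set G)) (h2 : φ₂ x ∈ normalizer (W : Set G))
    (hx : φ (x * x) ∈ centralizer (W : Set G)) (h4 : x * x * (x * x) = 1)
    (hC : W ⊓ centralizer {t} ≤ centralizer (G0 C φ y : Set G)) :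
    φ₂ x * (φ₁ x)⁻¹ ∈ centralizer (W : Set G) := by
  have g1 : φ₁ x ∈ G0 C φ y := h.le1 ⟨x, rfl⟩
  have g2 : φ₂ x * (φ₁ x)⁻¹ ∈ G0 C φ y := mul_mem (h.symm.le1 ⟨x, rfl⟩) (inv_mem g1)
  have e1 : t * (φ₂ x * (φ₁ x)⁻¹) = φ₁ x * t * (φ₁ x)⁻¹ := by rw [← h.symm.tc]; group
  have k : W ≤ centralizer {φ₂ x * (φ₁ x)⁻¹} := by
    refine UFP.le_of_four' hW h.t2 (x := φ₂ x * (φ₁ x)⁻¹) (by rw [e1, conj_mul, h.t2]; simp) ?_ ht
      (mul_mem h2 (inv_mem h1)) (fun w hw => mem_cent1.2 (mem_cent.1 (hC hw) _ g2)) inf_le_right fun w hw => ?_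
    · convert hx using 1
      rw [h.ext, (h.c12 _ _).eq, ← inv_eq_of_mul_eq_one_right h4, map_inv φ₁, inv_eq_of_mul_eq_one_right h4,
        map_mul, map_mul, mul_inv_rev, mul_assoc, ← mul_assoc (φ₁ x)⁻¹, (h.c12 x x).inv_left.eq]
      group
    · have k1 := mem_cent1.1 hw.2
      rw [e1] at k1
      have k2 := hC (show (φ₁ x)⁻¹ * w * φ₁ x ∈ W ⊓ centralizer {t} from ⟨conj_mem' h1 hw.1, mem_cent1.2 (by
        calc t * ((φ₁ x)⁻¹ * w * φ₁ x) = (φ₁ x)⁻¹ * (φ₁ x * t * (φ₁ x)⁻¹ * w) * φ₁ x := by group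
          _ = _ := by rw [k1]; group)⟩)
      have k3 : (φ₁ x)⁻¹ * w * φ₁ x = w := by
        calc _ = (φ₁ x)⁻¹ * w * φ₁ x * φ₁ x * (φ₁ x)⁻¹ := by group
          _ = _ := by rw [← mem_cent.1 k2 _ g1]; group
      exact mem_cent1.2 (mem_cent.1 (k3 ▸ k2) _ g2)
  exact mem_cent.2 fun w hw => (mem_cent1.1 (k hw)).symm

theorem PrdQ_fin (h0 : e ≠ 0) (he : P.B e e = 0) {W : Subgroup G} (hW : Odd (Nat.card W))
    (hN : normalizer ((Rg C φ₁ (span K {e}) ⊔ Rg C φ₂ (span K {e}) : Subgroup G) : Set G) ≤ normalizer (W : Set G))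
    (hQ : Rg C φ₁ (span K {e}) ⊔ Rg C φ₂ (span K {e}) ≤ centralizer (W : Set G))
    (hz : ∀ p s, P.B p p = 0 → P.B e p = 0 → σ s = s → z C φ p s ∈ centralizer (W : Set G))
    (hC : W ⊓ centralizer {t} ≤ centralizer (G0 C φ y : Set G)) :
    Yg C φ (span K {e}) ≤ centralizer (W : Set G) := by
  have n1 : ∀ {s}, s ∈ Stb C (span K {e}) → φ₁ s ∈ normalizer (W : Set G) := fun hs => hN (h.PrdQ_n1 hs)
  have n2 : ∀ {s}, s ∈ Stb C (span K {e}) → φ₂ s ∈ normalizer (W : Set G) := fun hs => hN (h.PrdQ_n2 hs)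
  have ht := hN (h.PrdQ_tn _)
  let M : Subgroup S :=
    { carrier := {s | s ∈ Stb C (span K {e}) ∧
        ∀ k ∈ Stb C (span K {e}), φ₁ (k * s * k⁻¹ * s⁻¹) ∈ centralizer (W : Set G)}
      one_mem' := ⟨one_mem _, fun k _ => by simp⟩
      mul_mem' := fun {a b} ha hb => ⟨mul_mem ha.1 hb.1, fun k hk => by
        convert mul_mem (ha.2 k hk) (PrdQ_cn (n1 ha.1) (hb.2 k hk)) using 1
        simp [mul_assoc]⟩
      inv_mem' := fun {a} ha => ⟨inv_mem ha.1, fun k hk => by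
        convert PrdQ_cn (inv_mem (n1 ha.1)) (inv_mem (ha.2 k hk)) using 1
        simp [mul_assoc]⟩ }
  obtain ⟨f, hf⟩ := h.exists_hp h0 he
  have m1 : Rad C (span K {e}) ≤ M := fun q hq => ⟨fix_le_stb _ (rad_le_fix _ hq), fun k hk =>
    hQ (mem_sup_left ⟨_, mul_mem (conj_mem (h.stb_norm _ hk).1.2 hq) (inv_mem hq), rfl⟩)⟩
  have m2 : C.fixG (span K {e, f}) ≤ M := h.fix_gen5 hf fun p a d k ep _ ea _ => by
    have pp := k.sing.self_eq
    have s1 : C.T p a d ∈ Stb C (span K {e}) := fix_le_stb _ (mem_fix_pt.2 (by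
      rw [h.T_app k, h.B_comm ep, h.B_comm ea]; simp))
    have u := h.PrdQ_u hW ht (n1 s1) (n2 s1) (by rw [h.toMod.T_sq k]; exact hz p _ pp ep (h.conj a a))
      (by rw [h.toMod.T_sq k]; exact h.toMod.T_sq0 (h.tok0 pp (h.conj a a))) hC
    refine (inv_mem_iff (H := M)).1 ⟨inv_mem s1, fun l hl => ?_⟩
    rw [← h.PrdQ_c2]
    exact mul_mem (PrdQ_cn (n1 hl) u) (inv_mem u)
  have m3 : C.fixG (span K {e}) ≤ (centralizer (W : Set G)).comap φ₁ :=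
    h.fix_le h0 he fun o μ _ hμ ho s hs => by
      obtain ⟨u, hu, k⟩ := h.fix_decomp hf hs
      exact ((mul_mem_cancel_left (inv_mem (m1 hu))).1 (m2 k)).2 o
        (PrdQ_stb (by rintro rfl; simp at hμ) ho)
  rintro _ ⟨s, hs, rfl⟩
  rw [h.ext, ← h.tc]
  exact mul_mem (m3 hs) (PrdQ_cn ht (m3 hs))

end DblP

theorem DblP.qt {y : V → K → G} {c : K} {φ₁ φ₂ : S →* G} (h : DblP C φ t y c φ₁ φ₂) {e : V} (h0 : e ≠ 0)
    (he : P.B e e = 0) : QT C φ t y e (Rg C φ₁ (span K {e}) ⊔ Rg C φ₂ (span K {e})) where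
  two := ((h.rad_two (ti_pt he)).map φ₁).to_sup_of_normal_right' ((h.rad_two (ti_pt he)).map φ₂)
    (((map_le_range _ _).trans h.symm.c21).trans ((centralizer_le (map_le_range _ _)).trans
      (centralizer_le_normalizer _)))
  le := by
    rintro _ ⟨s, hs, rfl⟩
    rw [h.ext]
    exact mul_mem (mem_sup_left ⟨s, hs, rfl⟩) (mem_sup_right ⟨s, hs, rfl⟩)
  tn := h.PrdQ_tn _
  tm k := h.t_not_norm ((sup_le ((map_le_range _ _).trans le_normalizer)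
    (((map_le_range _ _).trans h.c21).trans (centralizer_le_normalizer _)) : _ ≤ normalizer (φ₁.range : Set G)) k)
  nrm := by
    rintro _ ⟨s, hs, rfl⟩
    rw [h.ext]
    exact mul_mem (h.PrdQ_n1 hs) (h.PrdQ_n2 hs)
  gen _ := h.PrdQ_gen h0 he
  fin _ := h.PrdQ_fin h0 he

end CfsgLib.U5
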