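import Cfsg.Agent.Lib.U5.Syl

/-! The layers of the Sylow subgroup -/

set_option autoImplicit false
set_option linter.unusedSectionVars false
set_option linter.unusedVariables false

namespace CfsgLib.U5

open Subgroup Module CfsgLib.Forms CfsgLib.LieMult
open CfsgLib.HX (Std CO Two Mv Tr Heis NF Fus4 Has4 M2)
open Submodule (span)
open scoped commutatorElement Pointwise

universe u

variable {K : Type} [Field K] [Finite K] {σ : K →+* K} {V : Type} [AddCommGroup V] [Module K V]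
  [FiniteDimensional K V] {P : PQ σ V} {S : Type} [Group S] [Finite S] {G : Type u} [Group G]
  [Finite G] {C : CG P S} {φ : S →* G} {t : G}

namespace SB

variable {m : ℕ} {b : Basis (Fin m) K V}

theorem nu_apply (s : S) (v : V) : nu C s v = C.act s v - v := rfl

theorem act_eq (s : S) (v : V) : C.act s v = v + nu C s v := by rw [nu_apply, add_sub_cancel]

theorem nu_mul (s t : S) : nu C (s * t) = nu C s + nu C t + nu C s * nu C t := LinearMap.ext fun v => by
  simp only [LinearMap.add_apply, Module.End.mul_apply, nu_apply, C.mul_apply, map_sub]; abel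

theorem nu_one : nu C (1 : S) = 0 := LinearMap.ext fun v => by rw [nu_apply, C.one_apply, sub_self]; rfl

theorem B_bas (hb : Bas P b) (i : Fin m) (v : V) : P.B (b i) v = b.repr v i.rev :=
  LinearMap.congr_fun (b.ext fun j => by
    rw [hb, Basis.coord_apply, Basis.repr_self, Finsupp.single_apply] : P.B (b i) = b.coord i.rev) v

theorem b_mem {j : Fin m} {n : ℕ} (h : (j : ℕ) < n) : b j ∈ flag b n := Submodule.subset_span ⟨j, h, rfl⟩

theorem flag_mono {n n' : ℕ} (h : n ≤ n') : flag b n ≤ flag b n' := fun _ hv =>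
  (mem_flag b).2 fun j hj => (mem_flag b).1 hv j (h.trans hj)

variable (C b) in
/-- the elements of height at least `k` -/
def D (k : ℕ) : Subgroup S where
  carrier := {s | s ∈ Ub C b ∧ nu C s ∈ Nh b k}
  one_mem' := ⟨one_mem _, by rw [nu_one]; exact zero_mem _⟩
  mul_mem' := fun h1 h2 => ⟨mul_mem h1.1 h2.1, by
    rw [nu_mul]
    exact add_mem (add_mem h1.2 h2.2) (Nh_anti b (Nat.le_add_right _ _) (Nh_mul b h1.2 h2.2))⟩
  inv_mem' := fun {s} h1 => ⟨inv_mem h1.1, by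
    have := nu_mul (C := C) s⁻¹ s
    rw [inv_mul_cancel, nu_one, add_assoc, eq_comm, add_eq_zero_iff_eq_neg] at this
    rw [this]
    exact neg_mem (add_mem h1.2 (Nh_anti b (Nat.le_add_left _ _) (Nh_mul b ((mem_Ub b).1 (inv_mem h1.1)) h1.2)))⟩

theorem mem_D {k : ℕ} (hk : 0 < k) {s : S} : s ∈ D C b k ↔ nu C s ∈ Nh b k :=
  ⟨fun h => h.2, fun h => ⟨(mem_Ub b).2 (Nh_anti b hk h), h⟩⟩

theorem D_one : D C b 1 = Ub C b := Subgroup.ext fun _ => (mem_D one_pos).trans (mem_Ub b).symm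

theorem down {k : ℕ} {H : Subgroup S} (h : ∀ l, k ≤ l → D C b (l + 1) ≤ H → D C b l ≤ H) : D C b k ≤ H := by
  have top : ∀ l, m ≤ l → D C b l ≤ H := fun l hl s hs => by
    have := Nh_anti b hl hs.2
    rw [Nh_top, Submodule.mem_bot] at this
    rw [show s = 1 from C.ext fun v => by rw [act_eq, this, C.one_apply]; simp]
    exact one_mem _
  by_cases hk : k ≤ m
  · exact Nat.decreasingInduction' (P := fun l => D C b l ≤ H) (fun l _ h1 h2 => h l h1 h2) hk (top m le_rfl)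
  · exact top k (by omega)

theorem move {s : S} (hs : s ∈ Ub C b) {n : ℕ} {v : V} (hv : v ∈ flag b (n + 1)) : C.act s v - v ∈ flag b n :=
  (hs n).2 v hv

theorem stay {s : S} (hs : s ∈ Ub C b) {n : ℕ} {v : V} (hv : v ∈ flag b n) : C.act s v ∈ flag b n :=
  ((hs n).1 v).2 hv

theorem pres {s : S} (h : ∀ j, ∃ x : K, C.act s (b j) = x • b j) (n : ℕ) (v : V) (hv : v ∈ flag b n) :
    C.act s v ∈ flag b n :=
  (Submodule.span_le.2 (by
    rintro _ ⟨j, hj, rfl⟩
    obtain ⟨x, hx⟩ := h j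
    exact Submodule.mem_comap.2 (by
      rw [LinearEquiv.coe_coe, hx]; exact Submodule.smul_mem _ _ (b_mem hj))) :
    flag b n ≤ (flag b n).comap (C.act s).toLinearMap) hv

theorem ent_mul {k : ℕ} (hk : 0 < k) {s t : S} (hs : nu C s ∈ Nh b k) (ht : nu C t ∈ Nh b k) {p q : Fin m}
    (e : (q : ℕ) = p + k) : b.repr (nu C (s * t) (b q)) p = b.repr (nu C s (b q)) p + b.repr (nu C t (b q)) p := by
  rw [nu_mul, LinearMap.add_apply, LinearMap.add_apply, map_add, map_add, Finsupp.add_apply, Finsupp.add_apply,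
    Nh_mul b hs ht p q (by omega), add_zero]

/-- an `F`-subspace that contains a subgroup of index at most 2 -/
theorem span_of {l : K} (hl : σ l = l) (l0 : l ≠ 0) (l1 : 1 + l ≠ 0) {A0 A : K → Prop}
    (h2 : ∀ s s', ¬ A0 s → ¬ A0 s' → A0 (s + s')) (hA : ∀ s ρ, A0 s → σ ρ = ρ → A (s * ρ)) (μ : K) : A μ := by
  by_cases h : A0 μ
  · simpa using hA μ 1 h (map_one σ)
  by_cases h' : A0 (l * μ)
  · have := hA _ l⁻¹ h' (by rw [map_inv₀, hl])
    rwa [mul_comm l, mul_inv_cancel_right₀ l0] at this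
  · have := hA _ (1 + l)⁻¹ (h2 _ _ h h') (by rw [map_inv₀, map_add, map_one, hl])
    rwa [show μ + l * μ = μ * (1 + l) by ring, mul_inv_cancel_right₀ l1] at this

variable (h : Mod C) (hb : Bas P b)
include h hb

theorem B_bas' (v : V) (i : Fin m) : P.B v (b i) = σ (b.repr v i.rev) := by rw [← h.conj, B_bas hb]

theorem orth {a c : ℕ} (e : a + c ≤ m) {v w : V} (hv : v ∈ flag b a) (hw : w ∈ flag b c) : P.B v w = 0 :=
  (P.mem_perp_span.2 (by
    rintro _ ⟨j, hj, rfl⟩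
    rw [B_bas hb]
    exact (mem_flag b).1 hw _ (by have : (j : ℕ) < a := hj; rw [Fin.val_rev]; omega)) : w ∈ P.perp (flag b a)) v hv

theorem nu_T {i : Fin m} {w : V} {c : K} (k : TOk P (b i) w c) (p q : Fin m) :
    b.repr (nu C (C.T (b i) w c) (b q)) p =
      (if i = p then σ (b.repr w q.rev) + if q = i.rev then σ c else 0 else 0) +
        if q = i.rev then b.repr w p else 0 := by
  rw [nu_apply, h.T_app k, add_assoc, add_sub_cancel_left, B_bas' h hb, hb, map_add, map_smul, map_smul,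
    Basis.repr_self]
  by_cases h2 : q = i.rev <;> simp [Finsupp.single_apply, h2]
  split_ifs <;> simp

theorem TDk {i : Fin m} {w : V} {c : K} (k : TOk P (b i) w c) {n l : ℕ} (hl : 0 < l) (hw : w ∈ flag b n)
    (h1 : (i : ℕ) < n) (h2 : i + n + l ≤ m) : C.T (b i) w c ∈ D C b l := (mem_D hl).2 fun p q e => by
  rw [nu_T h hb k]
  have f := (mem_flag b).1 hw
  have := Fin.val_rev q
  have := Fin.val_rev i
  by_cases h3 : q = i.rev
  · have := congrArg Fin.val h3
    rw [if_neg fun e => by have := congrArg Fin.val e; omega, if_pos h3, f p (by omega), add_zero]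
  · by_cases h4 : i = p
    · have := congrArg Fin.val h4
      simp [h3, f q.rev (by omega)]
    · simp [h3, h4]

theorem ent_symm {k : ℕ} (hk : 0 < k) {s : S} (hs : nu C s ∈ Nh b k) {i j : Fin m} (e : (i : ℕ) + j + k + 1 = m) :
    b.repr (nu C s (b j.rev)) i = σ (b.repr (nu C s (b i.rev)) j) := by
  have h1 := C.B_act s (b i.rev) (b j.rev)
  have := Fin.val_rev j
  have := Fin.val_rev i
  rw [act_eq, act_eq s (b j.rev), P.B_add_left, P.B_add_right, P.B_add_right, add_assoc, add_eq_left,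
    orth h hb (a := i.rev + 1 - k) (c := j.rev + 1 - k) (by omega)
      ((mem_Nh b).1 hs _ _ (b_mem (Nat.lt_succ_self _))) ((mem_Nh b).1 hs _ _ (b_mem (Nat.lt_succ_self _))),
    add_zero, B_bas hb, B_bas' h hb, Fin.rev_rev, Fin.rev_rev] at h1
  linear_combination h1 - h.add_self (σ (b.repr (nu C s (b i.rev)) j))

theorem iso {i : Fin m} (e : (i : ℕ) + i + 1 ≠ m) : P.B (b i) (b i) = 0 := by
  rw [hb, if_neg fun k => e (by have := congrArg Fin.val k; have := Fin.val_rev i; omega)]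

theorem perp {i j : Fin m} (e : (i : ℕ) + j + 1 ≠ m) : P.B (b i) (b j) = 0 := by
  rw [hb, if_neg fun k => e (by have := congrArg Fin.val k; have := Fin.val_rev i; omega)]

theorem tokb {i j : Fin m} (e : (i : ℕ) + i + 1 ≠ m) (e' : (i : ℕ) + j + 1 ≠ m) (μ : K) :
    ∃ c, TOk P (b i) (μ • b j) c :=
  h.exists_tok (iso h hb e) (by rw [P.B_smul_right, perp h hb e', mul_zero])

theorem layer {k : ℕ} (hk : 0 < k) {H : Subgroup S} (h1 : D C b (k + 1) ≤ H)
    (h2 : ∀ (i j : Fin m) (μ c : K), i < j → (i : ℕ) + j + k + 1 = m →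
      TOk P (b i) (μ • b j) c → C.T (b i) (μ • b j) c ∈ H)
    (h3 : ∀ (i : Fin m) (r : K), (i : ℕ) + i + k + 1 = m → σ r = r → C.T (b i) 0 r ∈ H) : D C b k ≤ H := by
  suffices ∀ n, n ≤ m → ∀ s ∈ D C b k, (∀ p q : Fin m, (q : ℕ) = p + k → (p : ℕ) < n →
    b.repr (nu C s (b q)) p = 0) → s ∈ H from fun s hs => this 0 (Nat.zero_le _) s hs fun _ _ _ e => absurd e (by omega)
  intro n hn
  refine Nat.decreasingInduction' (P := fun n => ∀ s ∈ D C b k, (∀ p q : Fin m, (q : ℕ) = p + k → (p : ℕ) < n →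
    b.repr (nu C s (b q)) p = 0) → s ∈ H) (fun n h4 _ ih s hs f => ?_) hn fun s hs f =>
      h1 ((mem_D (by omega)).2 fun p q e => (Nat.lt_or_ge q (p + k)).elim (hs.2 p q) fun e' => f p q (by omega) p.2)
  by_cases h5 : m ≤ n + k
  · exact ih s hs fun p q e e' => f p q e (by omega)
  obtain ⟨i, rfl⟩ : ∃ i : Fin m, n = i := ⟨⟨n, h4⟩, rfl⟩
  obtain ⟨j, hj⟩ : ∃ j : Fin m, (i : ℕ) + j + k + 1 = m := ⟨⟨m - 1 - i - k, by omega⟩, by simp only; omega⟩
  have ri := Fin.val_rev i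
  have rj := Fin.val_rev j
  have step : ∀ t ∈ D C b k, t ∈ H → b.repr (nu C t (b j.rev)) i = b.repr (nu C s (b j.rev)) i →
      (∀ p q : Fin m, (q : ℕ) = p + k → p < i → b.repr (nu C t (b q)) p = 0) → s ∈ H := fun t ht ht' e g =>
    (mul_mem_cancel_right ht').1 (ih _ (mul_mem hs ht) fun p q e1 e2 => by
      rw [ent_mul hk hs.2 ht.2 e1]
      by_cases e3 : p < i
      · rw [f p q e1 e3, g p q e1 e3, add_zero]
      · obtain rfl : p = i := Fin.ext (by omega)
        obtain rfl : q = j.rev := Fin.ext (by omega)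
        rw [e, h.add_self])
  rcases lt_trichotomy i j with l | rfl | l
  · obtain ⟨c, hc⟩ := tokb h hb (i := i) (j := j) (by omega) (by omega) (σ (b.repr (nu C s (b j.rev)) i))
    refine step _ (TDk h hb hc hk (Submodule.smul_mem _ _ (b_mem (Nat.lt_succ_self _))) (by omega) (by omega))
      (h2 i j _ c l hj hc) ?_ fun p q _ e => ?_
    · simp [nu_T h hb hc, l.ne', P.σσ]
    · simp [nu_T h hb hc, e.ne', (e.trans l).ne']
  · have r := (ent_symm h hb hk hs.2 hj).symm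
    have hc := h.tok0 (iso h hb (i := i) (by omega)) r
    refine step _ (TDk h hb hc hk (zero_mem _) (Nat.lt_succ_self _) (by omega)) (h3 i _ hj r) ?_ fun p q _ e => ?_
    · simp [nu_T h hb hc, r]
    · simp [nu_T h hb hc, e.ne']
  · exact step 1 (one_mem _) (one_mem _) (by
      rw [nu_one, ent_symm h hb hk hs.2 hj, f j _ (by omega) l]; simp) fun p q _ _ => by simp [nu_one]

/-- reduction modulo the next layer -/
theorem red {k : ℕ} {H : Subgroup S} (h1 : D C b (k + 1) ≤ H) {i j : Fin m} (l : i < j)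
    (e : (i : ℕ) + j + k + 1 = m) {a w : V} {c c' : K} (k1 : TOk P (b i) a c) (k2 : TOk P (b i) (a + w) c')
    (hw : w ∈ flag b j) (h2 : C.T (b i) (a + w) c' ∈ H) : C.T (b i) a c ∈ H := by
  refine (mul_mem_cancel_right h2).1 (h1 ?_)
  have k3 := k1.add k2
  rw [C.T_mul k1 k2]
  rw [← add_assoc, h.vadd_self, zero_add] at k3 ⊢
  exact TDk h hb k3 (by omega) hw l (by omega)

theorem cm_T {g : S} {e a : V} {c : K} (k : TOk P e a c) (hg : C.act g e = e) :
    ∃ d, TOk P e (C.act g a - a) d ∧ ⁅g, C.T e a c⁆ = C.T e (C.act g a - a) d := by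
  have k1 := k.act C g
  rw [hg] at k1
  exact ⟨_, sub_eq_add_neg (C.act g a) a ▸ k1.add (k.neg C), by
    rw [commutatorElement_def, C.T_conj g k, hg, C.T_inv k, C.T_mul k1 (k.neg C), sub_eq_add_neg]⟩

theorem diag {i : Fin m} (e : (i : ℕ) + i + 1 ≠ m) {l : K} (l0 : l ≠ 0) (hl : σ l = l) :
    ∃ s ∈ normalizer (Ub C b : Set S), C.act s (b i) = l • b i ∧
      ∀ j : Fin m, j ≠ i → j ≠ i.rev → C.act s (b j) = b j := by
  obtain ⟨s, -, h1, h2, h3⟩ := h.exists_diag1 (h.hp_iff.2 ⟨iso h hb e, iso h hb (i := i.rev) (by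
    have := Fin.val_rev i; omega), by rw [hb, if_pos rfl]⟩) l0 hl
  have h4 : ∀ j : Fin m, j ≠ i → j ≠ i.rev → C.act s (b j) = b j := fun j a c =>
    h3 _ (by rw [hb, if_neg c]) (by rw [hb, Fin.rev_rev, if_neg a])
  have h5 : ∀ j, ∃ x : K, x ≠ 0 ∧ C.act s (b j) = x • b j := fun j => by
    by_cases a : j = i
    · exact ⟨l, l0, a ▸ h1⟩
    by_cases c : j = i.rev
    · exact ⟨l⁻¹, inv_ne_zero l0, c ▸ h2⟩
    · exact ⟨1, one_ne_zero, by rw [h4 j a c, one_smul]⟩
  have h6 := pres fun j => (h5 j).imp fun _ k => k.2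
  have h7 := pres (s := s⁻¹) fun j => by
    obtain ⟨x, x0, e⟩ := h5 j
    exact ⟨x⁻¹, C.inv_apply_eq (by rw [map_smul, e, smul_smul, inv_mul_cancel₀ x0, one_smul])⟩
  refine ⟨s, Tech.mem_normalizer_of_forall fun u hu => (mem_Ub b).2 ((mem_Nh b).2 fun n v hv => ?_), h1, h4⟩
  rw [nu_apply, C.mul_apply, C.mul_apply, ← C.apply_inv s v, C.inv_apply, ← map_sub]
  exact h6 _ _ ((mem_Nh b).1 ((mem_Ub b).1 hu) n _ (h7 n v hv))

omit hb in
theorem exists_l (hq : ¬ Small σ) : ∃ l : K, σ l = l ∧ l ≠ 0 ∧ 1 + l ≠ 0 := by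
  by_contra k
  exact hq fun c hc => by_contra fun k' => k ⟨c, hc, (not_or.1 k').1, fun e => (not_or.1 k').2 (by
    linear_combination e - h.add_self 1)⟩

theorem fpf (hq : ¬ Small σ) {H : Subgroup S} (hH : ∀ l ∈ normalizer (Ub C b : Set S), ∀ u ∈ Ub C b,
    l * u * l⁻¹ * u⁻¹ ∈ H) : Ub C b ≤ H := by
  obtain ⟨l, hl, l0, l1⟩ := exists_l h hq
  refine D_one.ge.trans (down fun k hk ih => layer h hb hk ih (fun i j μ c lt e hc => ?_) fun i r e hr => ?_)
  · obtain ⟨s, hs, h1, h2⟩ := diag h hb (i := i) (by omega) l0 hl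
    obtain ⟨d, hd⟩ := tokb h hb (i := i) (j := j) (by omega) (by omega) (μ * (1 + l)⁻¹)
    have := hH s hs _ (TDk h hb hd hk (Submodule.smul_mem _ _ (b_mem (Nat.lt_succ_self _))) (by omega) (by omega)).1
    have k1 : TOk P (b i) (σ l • (μ * (1 + l)⁻¹) • b j) (l * σ l * d) := h.tok.2 ⟨hc.sing.self_eq, by
      rw [P.B_smul_right, hd.perp, mul_zero], by
      rw [P.B_smul_left, P.B_smul_right, ← hd.trace C, map_mul, map_mul, P.σσ]; ring⟩
    have k2 := k1.add (hd.neg C)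
    rw [C.T_conj s hd, h1, map_smul, h2 j lt.ne' (fun k => by
      have := congrArg Fin.val k; have := Fin.val_rev i; omega), C.T_smul_left hd, C.T_inv hd,
      C.T_mul k1 (hd.neg C)] at this
    have e' : σ l • (μ * (1 + l)⁻¹) • b j + -((μ * (1 + l)⁻¹) • b j) = μ • b j + 0 := by
      rw [neg_eq_of_add_eq_zero_right (h.vadd_self _), smul_smul, ← add_smul, hl, add_zero]
      congr 1; field_simp; ring
    rw [e'] at k2 this
    exact red h hb ih lt e hc k2 (zero_mem _) this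
  · obtain ⟨s, hs, h1, -⟩ := diag h hb (i := i) (by omega) l0 hl
    have hr' : σ (r * ((1 + l) * (1 + l))⁻¹) = r * ((1 + l) * (1 + l))⁻¹ := by simp [hr, hl]
    have z := iso h hb (i := i) (by omega)
    have hd := h.tok0 z hr'
    have := hH s hs _ (TDk h hb hd hk (zero_mem _) (Nat.lt_succ_self _) (by omega)).1
    rw [C.T_conj s hd, h1, map_zero, C.T_smul_left hd, smul_zero, C.T_inv hd, neg_zero,
      C.T_mul (h.tok0 z (by rw [map_mul, map_mul, hr', hl, hl])) (h.tok0 z (by rw [hr', hr'])), hr', hl] at this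
    convert this using 2
    · rw [add_zero]
    · rw [map_zero, add_zero]; field_simp; linear_combination r * h.add_self l

theorem gr (hq : ¬ Small σ) {J : Subgroup S} (h2 : ∀ a ∈ Ub C b, ∀ a' ∈ Ub C b, a ∉ J → a' ∉ J → a * a' ∈ J) :
    D C b 2 ≤ ⁅J, J⁆ := by
  obtain ⟨l, hl, l0, l1⟩ := exists_l h hq
  refine down fun k hk ih => layer h hb (by omega) ih (fun i j μ c lt e hc => ?_) fun i r e hr => ?_
  · obtain ⟨a, ha⟩ : ∃ a : Fin m, (a : ℕ) = i + 1 := ⟨⟨i + 1, by omega⟩, rfl⟩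
    have ra := Fin.val_rev a
    have lt' : (i : ℕ) < j := lt
    have zi := iso h hb (i := i) (by omega)
    have tk : ∀ s : K, TOk P (b i) (s • b a.rev) 0 := fun s => h.tok1 zi (by
      rw [P.B_smul_left, P.B_smul_right, iso h hb (by omega), mul_zero, mul_zero]) (by
      rw [P.B_smul_right, perp h hb (by omega), mul_zero]) (map_zero σ)
    have xU : ∀ s : K, C.T (b i) (s • b a.rev) 0 ∈ Ub C b := fun s => (TDk h hb (tk s) one_pos
      (Submodule.smul_mem _ _ (b_mem (Nat.lt_succ_self _))) (by omega) (by omega)).1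
    have xa : ∀ s s' : K, C.T (b i) (s • b a.rev) 0 * C.T (b i) (s' • b a.rev) 0 = C.T (b i) ((s + s') • b a.rev) 0 :=
      fun s s' => by
        rw [C.T_mul (tk s) (tk s'), add_smul, P.B_smul_left, P.B_smul_right, iso h hb (by omega)]; simp
    let R : S → K → Prop := fun y ρ => y ∈ Ub C b ∧ C.act y (b i) = b i ∧ C.act y (b a.rev) - b a.rev - ρ • b j ∈ flag b j
    have Rm : ∀ y ρ y' ρ', R y ρ → R y' ρ' → R (y * y') (ρ + ρ') := fun y ρ y' ρ' k1 k2 =>
      ⟨mul_mem k1.1 k2.1, by rw [C.mul_apply, k2.2.1, k1.2.1], by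
        have := add_mem (add_mem (stay k1.1 k2.2.2) k1.2.2)
          (Submodule.smul_mem _ ρ' (move k1.1 (b_mem (Nat.lt_succ_self (j : ℕ)))))
        convert this using 1
        rw [C.mul_apply, map_sub, map_sub, map_smul]; module⟩
    have Rx : ∀ s : K, R (C.T (b i) (s • b a.rev) 0) 0 := fun s => ⟨xU s, C.T_self (tk s), by
      rw [C.T_perp (tk s) (perp h hb (by omega)), zero_smul, sub_zero, add_sub_cancel_left]
      exact Submodule.smul_mem _ _ (b_mem lt)⟩
    have Rg : ∀ ρ : K, σ ρ = ρ → ∃ y, R y ρ := fun ρ hρ => by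
      have za := iso h hb (i := a) (by omega)
      by_cases e' : a = j
      · subst e'
        have hd := h.tok0 za hρ
        refine ⟨_, (TDk h hb hd one_pos (zero_mem _) (Nat.lt_succ_self _) (by omega)).1,
          C.T_fix hd (perp h hb (by omega)) (by simp), ?_⟩
        rw [h.T_app hd, hb, if_pos rfl, hρ]
        simp
      · have : (a : ℕ) ≠ j := fun k => e' (Fin.ext k)
        obtain ⟨d, hd⟩ := tokb h hb (i := a) (j := j) (by omega) (by omega) ρ
        refine ⟨_, (TDk h hb hd one_pos (Submodule.smul_mem _ _ (b_mem (Nat.lt_succ_self _))) (by omega) (by omega)).1,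
          C.T_fix hd (perp h hb (by omega)) (by rw [P.B_smul_left, perp h hb (by omega), mul_zero]), ?_⟩
        rw [h.T_app hd, hb, if_pos rfl, one_smul, add_assoc, add_sub_cancel_left, add_sub_cancel_right]
        exact Submodule.smul_mem _ _ (b_mem (by omega))
    let A : K → Prop := fun μ => ∃ w ∈ flag b j, ∃ d, TOk P (b i) (μ • b j + w) d ∧ C.T (b i) (μ • b j + w) d ∈ ⁅J, J⁆
    have key : ∀ y ∈ J, ∀ ρ s, R y ρ → C.T (b i) (s • b a.rev) 0 ∈ J → A (s * ρ) := fun y hy ρ s k1 k2 => by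
      obtain ⟨d, k3, k4⟩ := cm_T h hb (tk s) k1.2.1
      have e' : C.act y (s • b a.rev) - s • b a.rev = (s * ρ) • b j + s • (C.act y (b a.rev) - b a.rev - ρ • b j) := by
        rw [map_smul]; module
      rw [e'] at k3 k4
      exact ⟨_, Submodule.smul_mem _ _ k1.2.2, d, k3, k4 ▸ commutator_mem_commutator hy k2⟩
    suffices A μ from this.elim fun w ⟨k1, d, k2, k3⟩ => red h hb ih lt e hc k2 k1 k3
    by_cases k : ∀ s : K, C.T (b i) (s • b a.rev) 0 ∈ J
    · obtain ⟨y, hy, ρ, ρ0, k1⟩ : ∃ y ∈ J, ∃ ρ, ρ ≠ 0 ∧ R y ρ := by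
        obtain ⟨y, k1⟩ := Rg 1 (map_one σ)
        obtain ⟨y', k2⟩ := Rg l hl
        by_cases a1 : y ∈ J
        · exact ⟨y, a1, 1, one_ne_zero, k1⟩
        by_cases a2 : y' ∈ J
        · exact ⟨y', a2, l, l0, k2⟩
        · exact ⟨_, h2 y k1.1 y' k2.1 a1 a2, _, l1, Rm _ _ _ _ k1 k2⟩
      have := key y hy ρ (μ * ρ⁻¹) k1 (k _)
      rwa [inv_mul_cancel_right₀ ρ0] at this
    obtain ⟨s0, k⟩ := not_forall.1 k
    refine span_of hl l0 l1 (A0 := fun s => C.T (b i) (s • b a.rev) 0 ∈ J)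
      (fun s s' k1 k2 => xa s s' ▸ h2 _ (xU s) _ (xU s') k1 k2) (fun s ρ k1 hρ => ?_) μ
    obtain ⟨y, k2⟩ := Rg ρ hρ
    by_cases a1 : y ∈ J
    · exact key y a1 ρ s k2 k1
    · exact key _ (h2 _ (xU s0) y k2.1 k a1) ρ s (zero_add ρ ▸ Rm _ _ _ _ (Rx s0) k2) k1
  · obtain ⟨a, ha⟩ : ∃ a : Fin m, (a : ℕ) = i + 1 := ⟨⟨i + 1, by omega⟩, rfl⟩
    have ra := Fin.val_rev a
    let A : Fin m → K → Prop := fun j s => ∃ c, TOk P (b i) (s • b j) c ∧ C.T (b i) (s • b j) c ∈ J
    have hA : ∀ j : Fin m, (i : ℕ) ≤ j → (i : ℕ) + j + 2 ≤ m → ∀ s s', ¬ A j s → ¬ A j s' → A j (s + s') :=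
      fun j k0 k s s' k1 k2 => by
        obtain ⟨c, hc⟩ := tokb h hb (i := i) (j := j) (by omega) (by omega) s
        obtain ⟨c', hc'⟩ := tokb h hb (i := i) (j := j) (by omega) (by omega) s'
        have := h2 _ (TDk h hb hc one_pos (Submodule.smul_mem _ _ (b_mem (Nat.lt_succ_self _))) (by omega) (by omega)).1
          _ (TDk h hb hc' one_pos (Submodule.smul_mem _ _ (b_mem (Nat.lt_succ_self _))) (by omega) (by omega)).1
          (fun e => k1 ⟨c, hc, e⟩) fun e => k2 ⟨c', hc', e⟩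
        rw [C.T_mul hc hc'] at this
        exact ⟨_, add_smul s s' (b j) ▸ hc.add hc', add_smul s s' (b j) ▸ this⟩
    have h3 := hA a (by omega) (by omega)
    have h4 := hA a.rev (by omega) (by omega)
    obtain ⟨θ, hθ⟩ := h.herm.exists_trace_one
    have key : ∀ s, s ≠ 0 → A a.rev s → ∀ ρ, σ ρ = ρ → A a ((σ s)⁻¹ * (r * θ + ρ)) → C.T (b i) 0 r ∈ ⁅J, J⁆ :=
      fun s s0 ⟨c, hc, k1⟩ ρ hρ ⟨c', hc', k2⟩ => by
        have := commutator_mem_commutator k1 k2
        have s1 : σ s ≠ 0 := (map_ne_zero σ).2 s0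
        rw [C.T_commutator hc hc', P.B_smul_left, P.B_smul_right, P.B_smul_left, P.B_smul_right, hb, hb, if_pos rfl,
          if_pos (Fin.rev_rev a).symm, map_mul, map_inv₀, P.σσ, map_add, map_mul, hr, hρ] at this
        convert this using 2
        field_simp
        linear_combination (-r) * hθ + h.add_self (r * θ)
    by_cases k : ∀ s, A a.rev s → ∀ ρ, σ ρ = ρ → A a (s * ρ)
    · have k' := span_of hl l0 l1 h4 fun s ρ k1 k2 => k s k1 ρ k2
      by_cases a1 : A a.rev 1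
      · exact key 1 one_ne_zero a1 0 (map_zero σ) (k' _)
      by_cases a2 : A a.rev l
      · exact key l l0 a2 0 (map_zero σ) (k' _)
      · exact key _ l1 (h4 _ _ a1 a2) 0 (map_zero σ) (k' _)
    push Not at k
    obtain ⟨s, k1, ρ, hρ, k2⟩ := k
    have s0 : s ≠ 0 := fun e => k2 ⟨0, by
      rw [e, zero_mul, zero_smul]
      have := h.tok0 (iso h hb (i := i) (by omega)) (map_zero σ)
      exact ⟨this, by rw [C.T_zero this.sing]; exact one_mem _⟩⟩
    have s1 : σ s ≠ 0 := (map_ne_zero σ).2 s0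
    by_cases a1 : A a ((σ s)⁻¹ * (r * θ + 0))
    · exact key s s0 k1 0 (map_zero σ) a1
    · refine key s s0 k1 (σ s * s * ρ) (by rw [map_mul, map_mul, P.σσ, hρ]; ring) ?_
      convert h3 _ _ a1 k2 using 1
      field_simp; ring

theorem fix2 (hm : 4 ≤ m) {v : V} (hv : ∀ u ∈ Ub C b, C.act u v - v ∈ flag b 1) : v ∈ flag b 2 := by
  obtain ⟨i, hi⟩ : ∃ i : Fin m, (i : ℕ) = 0 := ⟨⟨0, by omega⟩, rfl⟩
  obtain ⟨j, hj⟩ : ∃ j : Fin m, (j : ℕ) = 1 := ⟨⟨1, by omega⟩, rfl⟩
  have ij : i ≠ j := fun e => by have := congrArg Fin.val e; omega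
  have zj := iso h hb (i := j) (by omega)
  have h1 : b.repr v i.rev = 0 := by
    obtain ⟨c, hc⟩ := tokb h hb (i := i) (j := j) (by omega) (by omega) 1
    have := (mem_flag b).1 (hv _ (TDk h hb hc one_pos (Submodule.smul_mem _ _ (b_mem (Nat.lt_succ_self _)))
      (by omega) (by omega)).1) j (by omega)
    rw [h.T_app hc] at this
    simpa [B_bas hb, ij, add_assoc] using this
  have h2 : b.repr v j.rev = 0 := by
    have hc := h.tok0 zj (map_one σ)
    have := (mem_flag b).1 (hv _ (TDk h hb hc one_pos (zero_mem _) (Nat.lt_succ_self _) (by omega)).1) j (by omega)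
    simpa [h.T_app hc, B_bas hb] using this
  refine (mem_flag b).2 fun q hq => ?_
  have rq := Fin.val_rev q
  by_cases e1 : q = i.rev
  · rw [e1, h1]
  by_cases e2 : q = j.rev
  · rw [e2, h2]
  have e3 : (q : ℕ) + 1 ≠ m := fun e => e1 (Fin.ext (by rw [Fin.val_rev]; omega))
  have e4 : (q : ℕ) + 2 ≠ m := fun e => e2 (Fin.ext (by rw [Fin.val_rev]; omega))
  obtain ⟨c, hc⟩ := tokb h hb (i := j) (j := q.rev) (by omega) (by omega) 1
  have := (mem_flag b).1 (hv _ (TDk h hb hc one_pos (Submodule.smul_mem _ _ (b_mem (Nat.lt_succ_self _)))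
    (by omega) (by omega)).1) j (by omega)
  rw [h.T_app hc] at this
  simpa [B_bas hb, h2] using this

end SB

open SB

namespace Mod

variable (h : Mod C) {b : Basis (Fin (finrank K V)) K V} (hb : Bas P b)
include h hb

/-- the layer of height `k` is generated by root elements -/
theorem layer {k : ℕ} (hk : 0 < k) {H : Subgroup S} (h1 : ∀ s ∈ Ub C b, nu C s ∈ Nh b (k + 1) → s ∈ H)
    (h2 : ∀ (i j : Fin (finrank K V)) (μ c : K), i < j → (i : ℕ) + j + k + 1 = finrank K V →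
      TOk P (b i) (μ • b j) c → C.T (b i) (μ • b j) c ∈ H)
    (h3 : ∀ (i : Fin (finrank K V)) (r : K), (i : ℕ) + i + k + 1 = finrank K V → σ r = r →
      C.T (b i) 0 r ∈ H) {s : S} (hs : s ∈ Ub C b) (hs' : nu C s ∈ Nh b k) : s ∈ H :=
  SB.layer h hb hk (fun s hs => h1 s hs.1 hs.2) h2 h3 ⟨hs, hs'⟩

theorem comm_Ub {s : S} (hs : s ∈ ⁅Ub C b, Ub C b⁆) : nu C s ∈ Nh b 2 := by
  refine ((commutator_le (H₃ := D C b 2)).2 (fun u hu v hv => (mem_D two_pos).2 ?_) hs).2
  have e : nu C ⁅u, v⁆ = (nu C u * nu C v - nu C v * nu C u) * (1 + nu C (u⁻¹ * v⁻¹)) := LinearMap.ext fun x => by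
    have : x = C.act v (C.act u (C.act (u⁻¹ * v⁻¹) x)) := by
      rw [← C.mul_apply, ← C.mul_apply, mul_assoc, mul_inv_cancel_left, mul_inv_cancel, C.one_apply]
    rw [Module.End.mul_apply, LinearMap.add_apply, Module.End.one_apply, ← act_eq, nu_apply, commutatorElement_def,
      mul_assoc, C.mul_apply, C.mul_apply]
    conv_lhs => rw [this]
    simp only [LinearMap.sub_apply, Module.End.mul_apply, nu_apply, map_sub, ← this]
    abel
  have a := (mem_Ub b).1 hu
  have c := (mem_Ub b).1 hv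
  have d := sub_mem (Nh_mul b a c) (Nh_mul b c a)
  rw [e, mul_add, mul_one]
  exact add_mem d (Nh_anti b (Nat.le_add_right _ _) (Nh_mul b d ((mem_Ub b).1 (mul_mem (inv_mem hu) (inv_mem hv)))))

variable (hq : ¬ Small σ)
include hq

theorem fpf {H : Subgroup S} (hH : ∀ l ∈ normalizer (Ub C b : Set S), ∀ u ∈ Ub C b,
    l * u * l⁻¹ * u⁻¹ ∈ H) : Ub C b ≤ H := SB.fpf h hb hq hH

theorem gr1 {J : Subgroup S} (h1 : J ≤ Ub C b)
    (h2 : ∀ a ∈ Ub C b, ∀ a' ∈ Ub C b, a ∉ J → a' ∉ J → a * a' ∈ J) :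
    ⁅Ub C b, Ub C b⁆ ≤ ⁅J, J⁆ := fun _ hs => gr h hb hq h2 ((mem_D two_pos).2 (h.comm_Ub hb hs))

theorem gr2 {J : Subgroup S} (h1 : J ≤ Ub C b)
    (h2 : ∀ a ∈ Ub C b, ∀ a' ∈ Ub C b, a ∉ J → a' ∉ J → a * a' ∈ J) {α : RingAut K} {γ : AV V}
    (k : SI P α γ) (hα : ∀ c, α c = σ c)
    (hn : ∀ u ∈ Ub C b, ∃ u' ∈ Ub C b, ∀ v, C.act u' (γ v) = γ (C.act u v)) :
    ∃ u ∈ J, ∃ u', (∀ v, C.act u' (γ v) = γ (C.act u v)) ∧ u' * u⁻¹ ∉ ⁅Ub C b, Ub C b⁆ := by
  by_contra k'
  have hm := h.d4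
  obtain ⟨l, hl, l0, l1⟩ := exists_l h hq
  obtain ⟨i, hi⟩ : ∃ i : Fin (finrank K V), (i : ℕ) = 0 := ⟨⟨0, by omega⟩, rfl⟩
  obtain ⟨j, hj⟩ : ∃ j : Fin (finrank K V), (j : ℕ) = 1 := ⟨⟨1, by omega⟩, rfl⟩
  have rj := Fin.val_rev j
  have ij : i ≠ j := fun e => by have := congrArg Fin.val e; omega
  have f1 : ∀ v ∈ flag b 1, v = b.repr v i • b i := fun v hv => b.ext_elem fun q => by
    by_cases e : i = q
    · simp [e]
    · simp [e, (mem_flag b).1 hv q (by have : (i : ℕ) ≠ q := fun k => e (Fin.ext k); omega)]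
  have f2 : ∀ v ∈ flag b 2, v = b.repr v i • b i + b.repr v j • b j := fun v hv => b.ext_elem fun q => by
    by_cases e : i = q
    · simp [← e, ij.symm]
    by_cases e' : j = q
    · simp [← e', ij]
    · have : (i : ℕ) ≠ q := fun k => e (Fin.ext k)
      have : (j : ℕ) ≠ q := fun k => e' (Fin.ext k)
      simp [e, e', (mem_flag b).1 hv q (by omega)]
  have ui : ∀ u ∈ Ub C b, C.act u (b i) = b i := fun u hu => by
    have := move hu (b_mem (j := i) (n := 0 + 1) (by omega))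
    rwa [flag, show {j : Fin (finrank K V) | (j : ℕ) < 0} = ∅ by simp, Set.image_empty, Submodule.span_empty,
      Submodule.mem_bot, sub_eq_zero] at this
  have uj : ∀ u ∈ Ub C b, C.act u (b j) = b j + b.repr (nu C u (b j)) i • b i := fun u hu => by
    rw [← f1 (nu C u (b j)) (move hu (b_mem (by omega))), ← act_eq]
  have tk : ∀ s : K, TOk P (b i) (σ s • b j.rev) 0 := fun s => h.tok1 (iso h hb (by omega)) (by
    rw [P.B_smul_left, P.B_smul_right, iso h hb (by omega), mul_zero, mul_zero]) (by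
    rw [P.B_smul_right, perp h hb (by omega), mul_zero]) (map_zero σ)
  have xU : ∀ s : K, C.T (b i) (σ s • b j.rev) 0 ∈ Ub C b := fun s => (TDk h hb (tk s) one_pos
    (Submodule.smul_mem _ _ (b_mem (Nat.lt_succ_self _))) (by omega) (by omega)).1
  have xe : ∀ s : K, b.repr (nu C (C.T (b i) (σ s • b j.rev) 0) (b j)) i = s := fun s => by
    have : j ≠ i.rev := fun e => by have := congrArg Fin.val e; have := Fin.val_rev i; omega
    simp [nu_T h hb (tk s), this, P.σσ]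
  obtain ⟨v, hv⟩ := γ.surjective (b i)
  obtain ⟨w, hw⟩ := γ.surjective (b j)
  have uv : ∀ u ∈ Ub C b, C.act u v = v := fun u hu => by
    obtain ⟨u', k1, k2⟩ := hn u hu
    exact γ.injective (by rw [← k2, hv, ui u' k1])
  have uw : ∀ u u', u' ∈ Ub C b → (∀ v, C.act u' (γ v) = γ (C.act u v)) →
      C.act u w = w + σ (b.repr (nu C u' (b j)) i) • v := fun u u' k1 k2 =>
    γ.injective (by rw [← k2, hw, uj u' k1, map_add, k.semi, hα, P.σσ, hv, hw])
  have v2 := f2 v (fix2 h hb hm fun u hu => by rw [uv u hu, sub_self]; exact zero_mem _)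
  have act2 : ∀ u ∈ Ub C b, ∀ x y : K, C.act u (x • b i + y • b j) =
      x • b i + y • b j + (y * b.repr (nu C u (b j)) i) • b i := fun u hu x y => by
    rw [map_add, map_smul, map_smul, ui u hu, uj u hu]; module
  have v1 : b.repr v j = 0 := by
    have := uv _ (xU 1)
    rw [v2, act2 _ (xU 1), xe, mul_one, add_eq_left] at this
    exact (smul_eq_zero.1 this).resolve_right (b.ne_zero i)
  rw [v1, zero_smul, add_zero] at v2
  have w2 := f2 w (fix2 h hb hm fun u hu => by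
    obtain ⟨u', k1, k2⟩ := hn u hu
    rw [uw u u' k1 k2, add_sub_cancel_left, v2]
    exact Submodule.smul_mem _ _ (Submodule.smul_mem _ _ (b_mem (by omega))))
  have main : ∀ s, b.repr w j * s = σ s * b.repr v i := span_of hl l0 l1
    (A0 := fun s => ∃ u ∈ J, b.repr (nu C u (b j)) i = s) (fun s s' k1 k2 => ⟨_, h2 _ (xU s) _ (xU s')
      (fun e => k1 ⟨_, e, xe s⟩) fun e => k2 ⟨_, e, xe s'⟩, by
        rw [ent_mul one_pos ((mem_Ub b).1 (xU s)) ((mem_Ub b).1 (xU s')) (by omega), xe, xe]⟩) (by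
    rintro _ ρ ⟨u, hu, rfl⟩ hρ
    obtain ⟨u', k1, k2⟩ := hn u (h1 hu)
    have k3 := h.comm_Ub hb (by_contra fun e => k' ⟨u, hu, u', k2, e⟩) i j (by omega)
    have k4 := ent_mul (s := u' * u⁻¹) one_pos ((mem_Ub b).1 (mul_mem k1 (inv_mem (h1 hu)))) ((mem_Ub b).1 (h1 hu))
      (p := i) (q := j) (by omega)
    rw [inv_mul_cancel_right, k3, zero_add] at k4
    have k5 := uw u u' k1 k2
    rw [w2, act2 u (h1 hu), add_right_inj, k4, v2, smul_smul] at k5
    have k6 := smul_left_injective K (b.ne_zero i) k5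
    rw [map_mul, hρ]
    linear_combination ρ * k6)
  obtain ⟨x, hx⟩ := h.herm.exists_ne_conj
  have m1 := main 1
  rw [map_one, mul_one, one_mul] at m1
  have m2 := main x
  rw [m1, mul_comm] at m2
  refine b.ne_zero i ?_
  rw [← hv, v2, (mul_eq_mul_right_iff.1 m2).resolve_left hx.symm, zero_smul, map_zero]

end Mod

end CfsgLib.U5
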