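import Cfsg.Agent.Lib.U5.PreA1

/-! Commuting involutions over the transvections, q > 2 -/

set_option autoImplicit false
set_option linter.unusedSectionVars false

namespace CfsgLib.U5

open Subgroup Module CfsgLib.Forms CfsgLib.LieMult
open CfsgLib.HX (Std CO Two Mv Tr Heis NF Fus4 Has4 M2)
open Submodule (span)
open scoped commutatorElement Pointwise

universe u

variable {K : Type} [Field K] [Finite K] {σ : K →+* K} {V : Type} [AddCommGroup V] [Module K V]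
  [FiniteDimensional K V] {P : PQ σ V} {S : Type} [Group S] [Finite S] {G : Type u} [Group G]
  [Finite G] {C : CG P S} {φ : S →* G} {t : G}

namespace PA

variable (h : Sit C φ t) (h2 : Two φ.range t) {e f e' f' : V} (k : HH P e f e' f') {s s' l : K} {g g' : G}
  (hl : σ l = l) (l0 : l ≠ 0) (l1 : l ≠ 1)

theorem hh_ne (k : HH P e f e' f') : e ≠ 0 := fun e0 => by simpa [e0] using k.h₁.ef

theorem hh_bot (k : HH P e f e' f') : span K {e, e'} ≠ ⊥ := fun e1 =>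
  hh_ne k (Submodule.span_eq_bot.1 e1 _ (by simp))

include h

theorem zU {U : Submodule K V} (hU : TI P U) {p : V} (hp : p ∈ U) (hs : σ s = s) : z C φ p s ∈ Eg C φ U :=
  mem_map_of_mem _ (h.toMod.T_mem_E hU (h.toMod.tok0 (hU.B hp hp) hs) hp U.zero_mem)

include h2 k hl l0

theorem half (o : Ov C φ t e s g) (o' : O1 C φ t l e' s' g') :
    ∃ v r', σ r' = r' ∧ g * g' * g⁻¹ * g'⁻¹ = nf C φ e e' 0 v r' := by
  have m := h.toMod
  have hU := hh_ti k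
  have td := h.td h2 hU (hh_bot k)
  have he := k.h₁.se.self_eq
  have he' := k.h₂.se.self_eq
  have eU : e ∈ span K {e, e'} := Submodule.subset_span (by simp)
  have eU' : e' ∈ span K {e, e'} := Submodule.subset_span (by simp)
  obtain ⟨d, -, d1, -, d2, -⟩ := m.exists_diag k one_ne_zero l0 (by rw [one_mul, hl])
  obtain ⟨o', g₀, s₀, k', r, o₀, e1, hr, e2⟩ := o'
  rw [o₀.same (e1.trans d2.symm)] at e2
  have a := o₀.cm h h2 (hh_ne k.symm) he' d2 l0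
  have c0 := td.tr_comm (zU h hU eU o.hs) (zU h hU eU' o₀.hs) (h.tr_of_mv eU o.mv o.two)
    (h.tr_of_mv eU' o₀.mv o₀.two)
  have c1 := td.tr_cE (h.tr_of_mv eU' o'.mv o'.two) c0
  have c2 := td.tr_cE (h.tr_of_mv eU o.mv o.two) (zU h hU eU' hr)
  have c3 := td.tr_cE (h.tr_of_mv eU' a.mv a.two) c0
  have c4 := o.fix (k := d) (by rw [d1, one_smul])
  obtain ⟨a₀, v₀, b₀, ha, hb, e3⟩ := (mem_nf h.toEmb k).1 c0
  have hb' := HatP.nF l hb P
  refine ⟨σ 1 * l * v₀ + v₀, σ l * l * b₀ + b₀, by rw [map_add, hb, hb'], ?_⟩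
  have e4 := nf_conj h.toEmb k (v := v₀) d1 d2 ha hb
  rw [map_one, one_mul, one_mul] at e4
  rw [← m.add_self a₀, ← nf_mul h.toEmb k ha hb' ha hb, map_one, ← e4, ← e3]
  obtain ⟨c, hc⟩ : ∃ c, c = g * g₀ * g⁻¹ * g₀⁻¹ := ⟨_, rfl⟩
  have c5 : c * c = 1 := hc ▸ td.sq _ c0
  rw [← hc] at c1 c3 ⊢
  have e5 : g * g₀ * g⁻¹ = c * g₀ := by rw [hc]; group
  have e6 : g * g' * g⁻¹ = g * φ d * g⁻¹ * (g * g₀ * g⁻¹) * (g * φ d * g⁻¹)⁻¹ * (g * g₀ * g⁻¹)⁻¹ *
      (g * z C φ e' r * g⁻¹) := by rw [e2]; group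
  rw [c4.symm.mul_inv_cancel, c2.mul_inv_cancel, e5] at e6
  rw [mul_inv_eq_iff_eq_mul, e6, e2, mul_assoc _ c, ← mul_assoc c, ← c3.eq,
    ← inv_eq_of_mul_eq_one_right c5]
  rw [inv_eq_of_mul_eq_one_right c5, mul_inv_rev, inv_eq_of_mul_eq_one_right c5]
  group

theorem comm2 (o : O1 C φ t l e s g) (o' : O1 C φ t l e' s' g') : Commute g g' := by
  have m := h.toMod
  have z0 := map_zero σ
  obtain ⟨v, r', hr', e1⟩ := half h h2 k hl l0 o.1 o'
  obtain ⟨u, r, hr, e2⟩ := half h h2 k.symm hl l0 o'.1 o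
  have e3 := nf_mul h.toEmb k (v := σ u) (u := v) hr z0 z0 hr'
  rw [← e1, ← nf_symm h.toEmb k hr z0, ← e2, zero_add, add_zero] at e3
  obtain ⟨-, -, rfl⟩ := nf_inj h.toEmb k hr hr' z0 z0 (e3.symm.trans (by
    rw [nf_zero h.toEmb k]; group))
  obtain ⟨μ, hμ1, hμ⟩ := m.herm.exists_norm_one_ne_one
  have μ0 : μ ≠ 0 := fun e => by simp [e] at hμ
  obtain ⟨d, od, de, -, de', -⟩ := m.exists_diag k μ0 (inv_ne_zero μ0) (by rw [mul_inv_cancel₀ μ0, map_one])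
  have c1 := o.1.odd h h2 (hh_ne k) k.h₁.se.self_eq de hμ od
  have c2 := o'.1.odd h h2 (hh_ne k.symm) k.h₂.se.self_eq de' (by rw [map_inv₀, ← mul_inv, hμ, inv_one]) od
  have e4 := nf_conj h.toEmb k (v := v) de de' z0 z0
  rw [← e1, (((c1.mul_right c2).mul_right c1.inv_right).mul_right c2.inv_right).mul_inv_cancel, e1, mul_zero,
    mul_zero] at e4
  have e5 := (nf_inj h.toEmb k z0 z0 z0 z0 e4).2.1
  have : v = 0 := by
    by_contra v0
    refine hμ1 (m.eq_one_of_sq (mul_right_cancel₀ v0 ?_))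
    rw [eq_inv_of_mul_eq_one_left hμ] at e5
    conv_lhs => rw [e5]
    field_simp
  rw [this, nf_zero h.toEmb k] at e1
  exact commutatorElement_eq_one_iff_commute.1 e1

omit k
variable (ex : ∀ p s, P.B p p = 0 → σ s = s → ∃ g, Ov C φ t p s g)
include l1 ex

theorem comm3 {p p' : V} (p0 : p ≠ 0) (p0' : p' ≠ 0) (hp : P.B p p = 0) (hp' : P.B p' p' = 0)
    (hpp : P.B p p' = 0) (o : O1 C φ t l p s g) (o' : O1 C φ t l p' s' g') : Commute g g' := by
  by_cases h1 : p' ∈ span K {p}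
  · obtain ⟨c, rfl⟩ := Submodule.mem_span_singleton.1 h1
    exact o.comm h h2 p0 hp hl l0 l1 (fun s => ex p s hp) (o'.smul h hp (left_ne_zero_of_smul p0'))
  · obtain ⟨f, f', k⟩ := h.toMod.exists_hh' hp hp' hpp p0 h1
    exact comm2 h h2 k hl l0 o o'

include k

theorem invol (hs : σ s = s) : ∃ g, O1 C φ t l e s g ∧ g * g = 1 := by
  have m := h.toMod
  have em := h.toEmb
  have σσ := P.σσ
  have z0 := map_zero σ
  have hU := hh_ti k
  have td := h.td h2 hU (hh_bot k)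
  have he := k.h₁.se.self_eq
  have he' := k.h₂.se.self_eq
  have e0 := hh_ne k
  obtain ⟨U, hUd⟩ : ∃ U, U = span K {e, e'} := ⟨_, rfl⟩
  rw [← hUd] at hU td
  have eU : e ∈ U := hUd ▸ Submodule.subset_span (by simp)
  have eU' : e' ∈ U := hUd ▸ Submodule.subset_span (by simp)
  obtain ⟨W, hW⟩ : ∃ W : Subgroup G, W = closure {g | ∃ p ∈ U, p ≠ 0 ∧ ∃ s, O1 C φ t l p s g} := ⟨_, rfl⟩
  have oW : ∀ {p s g}, p ∈ U → p ≠ 0 → O1 C φ t l p s g → g ∈ W := fun hp p0 o =>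
    hW ▸ subset_closure ⟨_, hp, p0, _, o⟩
  have zW : ∀ {p r}, p ∈ U → σ r = r → z C φ p r ∈ W := fun {p r} hp hr => by
    by_cases p0 : p = 0
    · rw [(em.z_eq_one (hU.B hp hp) hr).2 (.inl p0)]; exact one_mem _
    · exact oW hp p0 (O1.z h h2 p0 (hU.B hp hp) hl l0 hr)
  have EW : Eg C φ U ≤ W := by
    rw [Eg, m.E_eq hU, MonoidHom.map_closure, closure_le]
    rintro _ ⟨_, ⟨p, hp, r, hr, rfl⟩, rfl⟩
    exact zW hp hr
  have Wc : ∀ a ∈ W, ∀ b ∈ W, a * b = b * a := by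
    have : W ≤ centralizer (W : Set G) := by
      rw [hW, centralizer_closure, closure_le]
      rintro a ⟨p, hp, p0, s, o⟩ b ⟨p', hp', p0', s', o'⟩
      exact comm3 h h2 hl l0 l1 ex p0' p0 (hU.B hp' hp') (hU.B hp hp) (hU.B hp' hp) o' o
    exact fun a ha b hb => this hb a ha
  have Wt : ∀ g ∈ W, ∃ a ∈ Eg C φ U, Tr φ.range (Rg C φ U) t a g := fun g hg => by
    obtain ⟨T, -, hT⟩ := td.exists_sub
    refine (hT g).1 ((closure_le T).2 ?_ (hW ▸ hg))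
    rintro _ ⟨p, hp, -, s, o, -⟩
    exact (hT _).2 ⟨_, zU h hU hp o.hs, h.tr_of_mv hp o.mv o.two⟩
  have Mex : ∀ p ∈ U, p ≠ 0 → ∀ s, σ s = s → ∃ g, O1 C φ t l p s g := fun p hp p0 s hs =>
    O1.exi h h2 p0 (hU.B hp hp) hl l0 l1 (fun s => ex p s (hU.B hp hp)) hs
  have tW : t ∉ W := fun ht => by
    obtain ⟨g, o⟩ := Mex e eU e0 1 (map_one σ)
    have e1 := o.1.mv.pt
    rw [Wc _ (oW eU e0 o) t ht, mul_inv_cancel_right, left_eq_mul, em.z_eq_one he (map_one σ)] at e1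
    exact e1.elim e0 one_ne_zero
  have tg : ∀ {p s g}, p ∈ U → Ov C φ t p s g → t * g * t⁻¹ = g * z C φ p s := fun hp o => by
    rw [t_mul h (hU.B hp hp) o, mul_assoc, mul_assoc, ← mul_assoc t, z, (h.tφ _).symm.mul_inv_cancel]
  have tn : t ∈ normalizer (W : Set G) := hW ▸ norm_closure (by
    rintro g ⟨p, hp, p0, s, o⟩
    rw [tg hp o.1, ← hW]
    exact mul_mem (oW hp p0 o) (zW hp o.1.hs))
  have nU : ∀ l : S, C.act l e ∈ U → C.act l e' ∈ U → φ l ∈ normalizer (W : Set G) := fun j h1 h3 =>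
    hW ▸ norm_closure (by
      rintro g ⟨p, hp, p0, s, o⟩
      refine subset_closure ⟨_, ?_, by simpa, s, o.conj h (hU.B hp hp) j⟩
      obtain ⟨a, b, rfl⟩ := Submodule.mem_span_pair.1 (hUd ▸ hp)
      rw [map_add, map_smul, map_smul]
      exact U.add_mem (U.smul_mem _ h1) (U.smul_mem _ h3))
  have nW : ∀ r v r', σ r = r → σ r' = r' → nf C φ e e' r v r' ∈ W := fun r v r' hr hr' =>
    EW (hUd ▸ (mem_nf em k).2 ⟨r, v, r', hr, hr', rfl⟩)
  have hB : ∀ v : K, x C φ e (v • e') 0 ∈ W := fun v => nf_b em k v ▸ nW _ _ _ z0 z0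
  obtain ⟨A, _, π, πm, πi, πs, πn⟩ := exists_model Wc
  have π1 : π 1 = 0 := by simpa using πm 1 (one_mem _) 1 (one_mem _)
  have πnf : ∀ r v r', σ r = r → σ r' = r' → π (nf C φ e e' r v r') =
      π (z C φ e r) + π (x C φ e (v • e') 0) + π (z C φ e' r') := fun r v r' hr hr' => by
    rw [nf, πm _ (mul_mem (zW eU hr) (hB _)) _ (zW eU' hr'), πm _ (zW eU hr) _ (hB _)]
  have kN : ∀ u : K, TOk P e (u • f') 0 := fun u =>
    m.tok1 he (by simp [k.h₂.sf.self_eq]) (by simp [k.ef]) (map_zero σ)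
  have Ne : ∀ u : K, C.act (C.T e (σ u • f') 0) e = e := fun u => C.T_self (kN _)
  have Ne' : ∀ u : K, C.act (C.T e (σ u • f') 0) e' = e' + u • e := fun u => by
    rw [C.T_perp (kN _) k.ee]; simp [σσ, k.h₂.fe]
  have Nn := fun u : K => nU _ ((Ne u).symm ▸ eU) ((Ne' u).symm ▸ U.add_mem eU' (U.smul_mem _ eU))
  choose N hN using fun u : K => πn _ (Nn u)
  obtain ⟨τ, hτ⟩ := πn t tn
  obtain ⟨d, -, de, -, de', df', -⟩ := m.exists_diag k l0 (inv_ne_zero l0) (by rw [mul_inv_cancel₀ l0, map_one])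
  have dn := nU d (de ▸ U.smul_mem _ eU) (de' ▸ U.smul_mem _ eU')
  obtain ⟨D, hD⟩ := πn _ dn
  have fT : ∀ v, σ (v + σ v) = v + σ v := fun v => by rw [map_add, σσ, add_comm]
  have zl : ∀ u s : K, σ s = s → π (z C φ (e' + u • e) s) = π (z C φ e' s) + π (z C φ e (σ u * u * s)) +
      π (x C φ e ((σ u * s) • e') 0) := fun u s hs => by
    rw [← πm _ (zW eU' hs) _ (zW eU (HatP.nF u hs P)), ← πm _ (mul_mem (zW eU' hs) (zW eU (HatP.nF u hs P))) _
      (hB _), z, m.T_line he he' k.ee hs, map_mul, map_mul]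
    rfl
  have τφ : ∀ j : S, φ j ∈ normalizer (W : Set G) → ∀ F : A →+ A,
      (∀ g ∈ W, F (π g) = π (φ j * g * (φ j)⁻¹)) → ∀ a, τ (F a) = F (τ a) := fun j hj F hF a => by
    obtain ⟨g, hg, rfl⟩ := πs a
    rw [hF g hg, hτ g hg, hτ _ (UFP.conj_mem hj hg), hF _ (UFP.conj_mem tn hg), ← mul_assoc, ← mul_assoc,
      ← (h.tφ j).eq, mul_assoc _ _ t⁻¹, ← mul_inv_rev, ← (h.tφ j).eq]
    congr 1; group
  have e1U := U.add_mem eU' (U.smul_mem 1 eU)
  obtain ⟨g₁, o₁⟩ := Mex _ e1U (fun e1 => by simpa [k.h₂.fe, k.symm.fe] using congrArg (P.B f') e1) 1 (map_one σ)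
  obtain ⟨g₂, o₂⟩ := Mex _ eU' (hh_ne k.symm) 1 (map_one σ)
  obtain ⟨g₃, o₃⟩ := Mex _ eU e0 1 (map_one σ)
  have w1 := oW e1U (fun e1 => by simpa [k.h₂.fe, k.symm.fe] using congrArg (P.B f') e1) o₁
  have w2 := oW eU' (hh_ne k.symm) o₂
  have w3 := oW eU e0 o₃
  obtain ⟨_, ⟨g, o, rfl⟩, e2⟩ := inv_abs (A := A) (Z := fun r => π (z C φ e r)) (Z' := fun r => π (z C φ e' r))
    (B := fun v => π (x C φ e (v • e') 0)) (M := fun s a => ∃ g, O1 C φ t l e s g ∧ a = π g) (N := N) (τ := τ)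
    (d := D) (l := l) (a₀ := π g₁ + π g₂ + π g₃) m
    (fun r s hr hs => by rw [em.z_add he hr hs, πm _ (zW eU hr) _ (zW eU hs)])
    (fun r s hr hs => by rw [em.z_add he' hr hs, πm _ (zW eU' hr) _ (zW eU' hs)])
    (fun u v => by rw [b_add em k, πm _ (hB _) _ (hB _)])
    (fun r v r' hr hr' e1 => by
      rw [← πnf _ _ _ hr hr', ← π1] at e1
      exact nf_inj em k hr hr' z0 z0 ((πi _ (nW _ _ _ hr hr') _ (one_mem _) e1).trans (nf_zero em k).symm))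
    (fun a ha => by
      obtain ⟨g, hg, rfl⟩ := πs a
      rw [hτ g hg] at ha
      have e1 := mul_inv_eq_iff_eq_mul.1 (πi _ (UFP.conj_mem tn hg) _ hg ha)
      obtain ⟨a, -, k1⟩ := Wt g hg
      obtain rfl : a = 1 := by have := k1.tr; rwa [← e1, mul_inv_cancel_right, left_eq_mul] at this
      obtain ⟨r, v, r', hr, hr', rfl⟩ := (mem_nf em k).1 (hUd ▸ (td.tr_one k1).resolve_right fun k' =>
        tW (by simpa using mul_mem (EW k') (inv_mem hg)))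
      exact ⟨r, v, r', hr, hr', πnf _ _ _ hr hr'⟩)
    (fun r hr => by rw [hτ _ (zW eU' hr), z, (h.tφ _).symm.mul_inv_cancel])
    (fun s hs => let ⟨g, o⟩ := Mex e eU e0 s hs; ⟨_, g, o, rfl⟩)
    (fun s _ ⟨g, o, e1⟩ => by rw [e1, hτ _ (oW eU e0 o), tg eU o.1, πm _ (oW eU e0 o) _ (zW eU o.1.hs)])
    (fun s _ s' _ ⟨g, o, e1⟩ ⟨g', o', e2⟩ => ⟨_, o.mul h h2 e0 he l0 o', by
      rw [e1, e2, πm _ (oW eU e0 o) _ (oW eU e0 o')]⟩)
    (fun s _ _ ⟨g, o, e1⟩ ⟨g', o', e2⟩ => by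
      obtain ⟨r, hr, e3⟩ := o.uq h h2 e0 he hl l0 l1 o'
      exact ⟨r, hr, by rw [e1, e2, e3, πm _ (oW eU e0 o) _ (zW eU hr)]⟩)
    (fun r hr => ⟨_, O1.z h h2 e0 he hl l0 hr, rfl⟩)
    (fun u s _ ⟨g, o, e1⟩ => by rw [e1, hN _ _ (oW eU e0 o), (o.1.fix (Ne u)).mul_inv_cancel])
    (fun s _ ⟨g, o, e1⟩ => ⟨φ d * g * (φ d)⁻¹, by
      have := (de ▸ o.conj h he d).smul h he l0; rwa [hl] at this, by
      rw [e1, hD _ (oW eU e0 o)]⟩)
    (by
      have := zl 1 1 (map_one σ)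
      have z2 : ∀ p ∈ U, π (z C φ p 1) + π (z C φ p 1) = 0 := fun p hp => by
        rw [← πm _ (zW hp (map_one σ)) _ (zW hp (map_one σ)), em.z_sq (hU.B hp hp) (map_one σ), π1]
      rw [map_one, mul_one, mul_one] at this
      rw [map_add, map_add, hτ _ w1, hτ _ w2, hτ _ w3, tg e1U o₁.1, tg eU' o₂.1, tg eU o₃.1,
        πm _ w1 _ (zW e1U (map_one σ)), πm _ w2 _ (zW eU' (map_one σ)), πm _ w3 _ (zW eU (map_one σ)), this]
      linear_combination (norm := abel1) z2 e eU + z2 e' eU')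
    (fun u => τφ _ (Nn u) _ (hN u))
    (fun u u' a => by
      obtain ⟨g, hg, rfl⟩ := πs a
      rw [hN _ g hg, hN _ g hg, hN _ _ (UFP.conj_mem (Nn u') hg), map_add, add_smul,
        show C.T e (σ u • f' + σ u' • f') 0 = C.T e (σ u • f') 0 * C.T e (σ u' • f') 0 by
          rw [C.T_mul (kN _) (kN _)]; simp [k.h₂.sf.self_eq], map_mul]
      congr 1; group)
    (fun a => by
      obtain ⟨g, hg, rfl⟩ := πs a
      rw [hN _ g hg, map_zero, zero_smul, C.T_zero k.h₁.se]; simp)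
    (fun u a => by
      obtain ⟨g, hg, rfl⟩ := πs a
      rw [hN _ g hg, hD g hg, hD _ (UFP.conj_mem (Nn u) hg), hN _ _ (UFP.conj_mem dn hg),
        show C.T e (σ (l * l * u) • f') 0 = d * C.T e (σ u • f') 0 * d⁻¹ by
          rw [C.T_conj _ (kN _), de, map_smul (C.act d), df', smul_smul, C.T_smul_left (kN _), smul_smul]
          simp [hl, mul_comm, mul_left_comm], map_mul, map_mul, map_inv]
      congr 1; group)
    (τφ _ dn _ hD)
    (fun u v => by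
      rw [hN _ _ (hB _), em.x_conj _ (tokB em k _), map_smul, Ne, Ne', smul_add, smul_smul, x,
        (m.T_shift (tokB em k v) _).2.2, ← πm _ (hB _) _ (zW eU (fT _)), x, z, ← map_mul,
        C.T_mul (tokB em k _) (m.tok0 he (fT _))]
      simp)
    (fun u r hr => by rw [hN _ _ (zW eU' hr), em.z_conj _ he' hr, Ne', zl _ _ hr])
    (fun v => by
      rw [hD _ (hB _), ← nf_b em k, nf_conj em k de de' z0 z0, hl, mul_inv_cancel₀ l0]; simp)
    (fun r hr => by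
      have hr' : σ (l * l * r) = l * l * r := by simp [hl, hr]
      rw [hD _ (zW eU' hr'), em.z_conj _ he' hr', de', em.z_smul he' hr', map_inv₀, hl]
      congr 2; field_simp)
    hl l1 hs
  exact ⟨g, o, πi _ (mul_mem (oW eU e0 o) (oW eU e0 o)) _ (one_mem _) (by
    rw [πm _ (oW eU e0 o) _ (oW eU e0 o), e2, π1])⟩

end PA

open PA in
theorem Sit.preA (h : Sit C φ t) (hq : ¬ Small σ) (h2 : Two φ.range t)
    (hp : ∀ p s, P.B p p = 0 → σ s = s →
      ∃ g, Mv φ.range (Yg C φ (span K {p})) t (z C φ p s) g ∧ IsPGroup 2 (zpowers g)) :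
    Pre C φ t := by
  obtain ⟨l, hl, l0, l1⟩ : ∃ l, σ l = l ∧ l ≠ 0 ∧ l ≠ 1 := by simpa [Small] using hq
  have ex : ∀ p s, P.B p p = 0 → σ s = s → ∃ g, Ov C φ t p s g := fun p s a b =>
    let ⟨g, c, d⟩ := hp p s a b; ⟨g, b, c, d⟩
  have inv : ∀ p s, p ≠ 0 → P.B p p = 0 → σ s = s → ∃ g, O1 C φ t l p s g ∧ g * g = 1 := fun p s p0 a b => by
    obtain ⟨f, hf⟩ := h.toMod.exists_hp p0 a
    obtain ⟨e', f', k⟩ := h.toMod.exists_hh hf
    exact invol h h2 k hl l0 l1 ex b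
  have one : ∀ p s g, P.B p p = 0 → σ s = s → z C φ p s ≠ 1 → Mv φ.range (Yg C φ (span K {p})) t (z C φ p s) g →
      g * g = 1 → p ≠ 0 ∧ O1 C φ t l p s g := fun p s g a b c d g2 => by
    have p0 : p ≠ 0 := fun e => c ((h.z_eq_one a b).2 (.inl e))
    have o : Ov C φ t p s g := ⟨b, d, HatP.two g2⟩
    refine ⟨p0, (o.or h h2 p0 a hl l0 l1 fun s => ex p s a).resolve_right fun o' => c ?_⟩
    obtain ⟨g', o'', e1⟩ := inv p s p0 a b
    obtain ⟨r, hr, e2⟩ := o''.uq h h2 p0 a hl l0 l1 o'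
    have e3 := (td1 h h2 p0 a).sq_tmul (o.tr h)
    rw [g2, mul_one, e2, mul_assoc, ← mul_assoc (z _ _ _ _), (o''.1.cz h a hr).eq, mul_assoc, h.z_sq a hr,
      mul_one, e1] at e3
    exact e3.symm
  refine { h with two' := h2, inv := fun p s a b => ?_, com := fun p p' s s' g g' a a' c b b' z1 z1' k k' g2 g2' => ?_ }
  · by_cases p0 : p = 0
    · exact ⟨1, ⟨one_mem _, by simp [(h.z_eq_one a b).2 (.inl p0)], CO.of_mem (one_mem _)⟩, mul_one 1⟩
    · obtain ⟨g, o, g2⟩ := inv p s p0 a b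
      exact ⟨g, o.1.mv, g2⟩
  · obtain ⟨p0, o⟩ := one p s g a b z1 k g2
    obtain ⟨p0', o'⟩ := one p' s' g' a' b' z1' k' g2'
    exact comm3 h h2 hl l0 l1 ex p0 p0' a a' c o o'

end CfsgLib.U5
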