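import Cfsg.Agent.Lib.U5.MovB

/-! Involutory hats, the field with four elements -/

set_option autoImplicit false
set_option Elab.async false
set_option linter.unusedSectionVars false

namespace CfsgLib.U5

open Subgroup Module CfsgLib.Forms CfsgLib.LieMult
open CfsgLib.HX (Std CO Two Mv Tr Heis NF Fus4 Has4 M2)
open Submodule (span)
open scoped commutatorElement Pointwise

universe u

variable {K : Type} [Field K] [Finite K] {σ : K →+* K} {V : Type} [AddCommGroup V] [Module K V]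
  [FiniteDimensional K V] {P : PQ σ V} {S : Type} [Group S] [Finite S] {G : Type u} [Group G]
  [Finite G] {C : CG P S} {φ : S →* G} {t : G}

namespace PreB

variable (C φ t) in
/-- the involutions which move `t` to `t z_p` -/
structure Iv (p : V) (g : G) : Prop where
  p0 : p ≠ 0
  pp : P.B p p = 0
  mv : Mv φ.range (Yg C φ (span K {p})) t (z C φ p 1) g
  sq : g * g = 1

theorem two {g : G} (k : g * g = 1) : IsPGroup 2 (zpowers g) :=
  HX.A2D.two_iff.2 (StdInt.two_of_sq k)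

theorem nrm (hq : Small σ) (P : PQ σ V) {μ : K} (h0 : μ ≠ 0) : σ μ * μ = 1 :=
  (hq _ (by rw [map_mul, P.σσ, mul_comm])).resolve_left
    (mul_ne_zero ((map_ne_zero σ).2 h0) h0)

theorem mem_Y {l : S} {p : V} (hl : C.act l p = p) : φ l ∈ Yg C φ (span K {p}) :=
  mem_map_of_mem φ (C.mem_fixG.2 fun x hx => by
    obtain ⟨a, rfl⟩ := Submodule.mem_span_singleton.1 hx
    rw [map_smul, hl])

theorem Iv.cl {p : V} {g : G} (k : Iv C φ t p g) {l : S} (hl : C.act l p = p) : Commute (φ l) g :=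
  k.mv.cY _ (mem_Y hl)

omit [Finite G] in
theorem cm_mul {g g' a a' : G} (h1 : Commute a g) (h2 : Commute a g') (h3 : Commute a' g)
    (h4 : Commute a' g') (h5 : Commute a a') : ⁅g * a, g' * a'⁆ = ⁅g, g'⁆ := by
  have e1 : a * (g' * a') * a⁻¹ = g' * a' := by rw [(h2.mul_right h5).eq, mul_inv_cancel_right]
  have e2 : a' * g⁻¹ * a'⁻¹ = g⁻¹ := by rw [h3.inv_right.eq, mul_inv_cancel_right]
  calc _ = g * (a * (g' * a') * a⁻¹) * g⁻¹ * a'⁻¹ * g'⁻¹ := by group
    _ = g * g' * (a' * g⁻¹ * a'⁻¹) * g'⁻¹ := by rw [e1]; group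
    _ = _ := by rw [e2]; group

section
variable (h : Sit C φ t) (hq : Small σ) (h2 : Two φ.range t) {p p' a a' : V} {g g' k k' : G}
include h

theorem Iv.z1 (m : Iv C φ t p g) : z C φ p 1 ≠ 1 := fun e =>
  ((h.z_eq_one m.pp (map_one σ)).1 e).elim m.p0 one_ne_zero

theorem Iv.cz (m : Iv C φ t p g) (pp : P.B p' p' = 0) (o : P.B p' p = 0) {r : K} (hr : σ r = r) :
    Commute (z C φ p' r) g := m.cl (C.T_fix (h.tok0 pp hr) o (by simp))

theorem zz (pp : P.B p p = 0) (pp' : P.B p' p' = 0) (o : P.B p p' = 0) :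
    Commute (z C φ p 1) (z C φ p' 1) := by
  have := h.z_conj (C.T p 0 1) pp' (map_one σ)
  rw [C.T_fix (h.tok0 pp (map_one σ)) o (by simp)] at this
  exact mul_inv_eq_iff_eq_mul.1 this

theorem Iv.conj (m : Iv C φ t p g) (l : S) : Iv C φ t (C.act l p) (φ l * g * (φ l)⁻¹) :=
  ⟨by simpa using m.p0, by rw [C.B_act, m.pp], h.z_conj l m.pp (map_one σ) ▸ h.mv_conj l m.mv, by
    rw [conj_mul, m.sq]; simp⟩

theorem Iv.tr (m : Iv C φ t p g) {U : Submodule K V} (hU : p ∈ U) :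
    Tr φ.range (Rg C φ U) t (z C φ p 1) g := h.tr_of_mv hU m.mv (two m.sq)

theorem z_E {U : Submodule K V} (hU : TI P U) (hp : p ∈ U) : z C φ p 1 ∈ Eg C φ U :=
  mem_map_of_mem φ (h.T_mem_E hU (h.tok0 (P.mem_perp.1 (hU hp) p hp) (map_one σ)) hp (zero_mem _))

include hq

theorem z_smul (pp : P.B p p = 0) {μ : K} (h0 : μ ≠ 0) : z C φ (μ • p) 1 = z C φ p 1 := by
  rw [h.z_smul pp (map_one σ), nrm hq P h0, one_mul]

theorem Iv.smul {μ : K} (h0 : μ ≠ 0) (m : Iv C φ t (μ • p) g) : Iv C φ t p g := by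
  have pp : P.B p p = 0 := by simpa [h0] using m.pp
  have := m.mv
  rw [z_smul h hq pp h0, Submodule.span_singleton_smul_eq (IsUnit.mk0 μ h0)] at this
  exact ⟨fun e => m.p0 (by rw [e, smul_zero]), pp, this, m.sq⟩

include h2

theorem Iv.uniq (m : Iv C φ t p g) (m' : Iv C φ t p g') : g' = g * 1 ∨ g' = g * z C φ p 1 := by
  have hU : TI P (span K {p}) := ti_span.2 (by simpa using m.pp)
  have D := h.td h2 hU (by simpa using m.p0)
  have s := Submodule.mem_span_singleton_self (R := K) p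
  have zE := z_E h hU s
  have k := D.tr_mul zE zE (D.tr_inv zE (m.tr h s)) (m'.tr h s)
  rw [D.sq _ zE] at k
  rcases D.tr_one k with k | k
  · obtain ⟨r, hr, e⟩ := (h.mem_Z m.pp).1 k
    rw [inv_mul_eq_iff_eq_mul] at e
    rcases hq r hr with rfl | rfl
    · exact .inl (by rw [e, (h.z_eq_one m.pp hr).2 (.inr rfl)])
    · exact .inr e
  · exfalso
    generalize hc : t * (g⁻¹ * g') = c at k
    have e : g' = g * t * c := by rw [← hc, mul_assoc, ← mul_assoc t, h.t2]; group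
    have c1 : Commute (g * t) c := (D.tr_cE (m.tr h s) k).mul_left (D.tH (D.EH k)).symm
    have := m'.sq
    rw [e, c1.symm.mul_mul_mul_comm, D.sq c k, mul_one,
      show g * t * (g * t) = g * t * g⁻¹ * (g * g) * t by group, m.mv.pt, m.sq, mul_one, mul_assoc,
      (D.tH (D.EH zE)).eq, ← mul_assoc, h.t2, one_mul] at this
    exact m.z1 h this

theorem Iv.cm_eq (m : Iv C φ t p g) (m' : Iv C φ t p' g') (n : Iv C φ t p k) (n' : Iv C φ t p' k')
    (o : P.B p p' = 0) : ⁅k, k'⁆ = ⁅g, g'⁆ := by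
  have o' := h.B_comm o
  have s := map_one σ
  rcases m.uniq h hq h2 n with rfl | rfl <;> rcases m'.uniq h hq h2 n' with rfl | rfl
  · simp
  · exact cm_mul (by simp) (by simp) (m.cz h m'.pp o' s) (m'.cz h m'.pp m'.pp s) (by simp)
  · exact cm_mul (m.cz h m.pp m.pp s) (m'.cz h m.pp o s) (by simp) (by simp) (by simp)
  · exact cm_mul (m.cz h m.pp m.pp s) (m'.cz h m.pp o s) (m.cz h m'.pp o' s) (m'.cz h m'.pp m'.pp s)
      (zz h m.pp m'.pp o)

theorem Iv.cm_conj (m : Iv C φ t p g) (m' : Iv C φ t p' g') (n : Iv C φ t a k) (n' : Iv C φ t a' k')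
    (o : P.B a a' = 0) {l : S} {μ μ' : K} (h0 : μ ≠ 0) (h0' : μ' ≠ 0) (e : C.act l p = μ • a)
    (e' : C.act l p' = μ' • a') : φ l * ⁅g, g'⁆ * (φ l)⁻¹ = ⁅k, k'⁆ := by
  rw [conjugate_commutatorElement]
  exact n.cm_eq h hq h2 n' ((e ▸ m.conj h l).smul h hq h0) ((e' ▸ m'.conj h l).smul h hq h0') o

theorem Iv.pt (m : Iv C φ t p g) (m' : Iv C φ t p' g') (o : p' ∈ span K {p}) :
    g' = g * 1 ∨ g' = g * z C φ p 1 := by
  obtain ⟨μ, rfl⟩ := Submodule.mem_span_singleton.1 o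
  exact m.uniq h hq h2 (m'.smul h hq fun e => m'.p0 (by rw [e, zero_smul]))

theorem Iv.dich (m : Iv C φ t p g) (m' : Iv C φ t p' g') (o : P.B p p' = 0) (o1 : p' ∉ span K {p}) :
    ⁅g, g'⁆ = 1 ∨ ⁅g, g'⁆ = z C φ p 1 * z C φ p' 1 := by
  obtain ⟨f, f', hh⟩ := h.exists_hh' m.pp m'.pp o m.p0 o1
  have o' := h.B_comm o
  have hU : TI P (span K {p, p'}) := ti_span.2 (by simp [m.pp, m'.pp, o, o'])
  have s : p ∈ span K {p, p'} := Submodule.subset_span (by simp)
  have s' : p' ∈ span K {p, p'} := Submodule.subset_span (by simp)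
  have D := h.td h2 hU fun e => m.p0 (by rwa [e] at s)
  have cE : ⁅g, g'⁆ ∈ Eg C φ (span K {p, p'}) :=
    D.tr_comm (z_E h hU s) (z_E h hU s') (m.tr h s) (m'.tr h s')
  have ci : ⁅g', g⁆ = ⁅g, g'⁆ := by
    rw [← commutatorElement_inv]; exact inv_eq_of_mul_eq_one_right (D.sq _ cE)
  obtain ⟨c, hc, ec⟩ := cE
  have c2 : c ^ 2 ^ 1 = 1 := by rw [pow_one, pow_two, h.E_sq hU hc]
  have fx : ∀ l, φ l * ⁅g, g'⁆ * (φ l)⁻¹ = ⁅g, g'⁆ → l * c * l⁻¹ = c := fun l e =>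
    h.inj_pow (k := 1) (by rw [conj_pow, c2]; simp) c2 (by rw [map_mul, map_mul, map_inv, ec, e])
  obtain ⟨r, v, r', hr, hr', rfl⟩ := (h.mem_E_line hh).1 hc
  have t1 := h.tok0 m.pp hr
  have t3 := h.tok0 m'.pp hr'
  have t2 : TOk P p (v • p') 0 := h.tok1 m.pp (by simp [m'.pp]) (by simp [o]) (map_zero σ)
  obtain rfl : v = 0 := by
    obtain ⟨μ, hμ⟩ := h.exists_tr (map_one σ)
    have μ0 : μ ≠ 0 := by rintro rfl; simp at hμ
    obtain ⟨d, -, d1, -, d2, -⟩ := h.exists_diag hh μ0 (inv_ne_zero μ0) (by simp [μ0])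
    have := fx d (m.cm_conj h hq h2 m' m m' o μ0 (inv_ne_zero μ0) d1 d2)
    rw [← conj_mul, ← conj_mul, C.T_conj d t1, C.T_conj d t2, C.T_conj d t3, map_zero, map_smul, d1, d2,
      C.T_smul_left t1, C.T_smul_left t3, C.T_smul_left (h.tok1 m.pp (by simp [m'.pp]) (by simp [o])
        (map_zero σ)), smul_zero, smul_zero, mul_zero, smul_smul, smul_smul, mul_comm μ, mul_comm μ⁻¹,
      nrm hq P μ0, nrm hq P (inv_ne_zero μ0), one_mul, one_mul] at this
    have e := (h.E_line_inj hh hr hr' hr hr' this).2.1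
    have e2 : v * (μ + σ μ) = v * (μ + μ) := by
      field_simp at e
      linear_combination e
    rwa [hμ, h.add_self, mul_one, mul_zero] at e2
  rw [zero_smul, C.T_zero hh.h₁.se, mul_one, map_mul] at ec
  change z C φ p r * z C φ p' r' = _ at ec
  obtain ⟨j, j1, j2, -⟩ := h.exists_swap hh
  have e := m.cm_conj h hq h2 m' m' m o' one_ne_zero one_ne_zero (l := j) (by simp [j1]) (by simp [j2])
  rw [ci, ← ec, ← conj_mul, h.z_conj j m.pp hr, h.z_conj j m'.pp hr', j1, j2] at e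
  have z0 := (h.z_eq_one m.pp (map_zero σ)).2 (.inr rfl)
  have z0' := (h.z_eq_one m'.pp (map_zero σ)).2 (.inr rfl)
  have ne : z C φ p 1 ≠ z C φ p' 1 := fun e1 =>
    o1 (h.z_eq_z m.pp m'.pp (map_one σ) (map_one σ) e1 (m.z1 h))
  rcases hq r hr with rfl | rfl <;> rcases hq r' hr' with rfl | rfl
  · exact .inl (by rw [← ec, z0, z0', one_mul])
  · exact absurd (by simpa [z0, z0'] using e) ne
  · exact absurd (by simpa [z0, z0'] using e.symm) ne
  · exact .inr ec.symm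

/-- the other alternative: the elements of order four commute -/
theorem Iv.com4 (m : Iv C φ t p g) (m' : Iv C φ t p' g') (o : P.B p p' = 0) (nc : ¬ Commute g g')
    (n : Iv C φ t a k) (n' : Iv C φ t a' k') (o' : P.B a a' = 0) : Commute (t * k) (t * k') := by
  have s := map_one σ
  have zt : ∀ b, Commute (z C φ b 1) t := fun b => h.tφ _
  have o1 : p' ∉ span K {p} := fun e => nc (by
    rcases m.pt h hq h2 m' e with rfl | rfl
    · simp
    · exact (Commute.refl g).mul_right (m.cz h m.pp m.pp s).symm)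
  by_cases o2 : a' ∈ span K {a}
  · rcases n.pt h hq h2 n' o2 with rfl | rfl
    · simp
    · rw [← mul_assoc]
      exact (Commute.refl _).mul_right ((zt a).mul_right (n.cz h n.pp n.pp s)).symm
  have e := (m.dich h hq h2 m' o o1).resolve_left (mt commutatorElement_eq_one_iff_commute.1 nc)
  obtain ⟨l, hl⟩ := h.trans m.p0 m.pp n.p0 n.pp
  obtain ⟨l', μ, hμ, e1, e2⟩ := h.trans_line (a := C.act l p') n.p0 n.pp (by rw [C.B_act, m'.pp]) n'.pp
    (by rw [← hl, C.B_act, o]) o' (fun k => o1 (by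
      obtain ⟨c, hc⟩ := Submodule.mem_span_singleton.1 k
      rw [← hl, ← map_smul] at hc
      exact Submodule.mem_span_singleton.2 ⟨c, (C.act l).injective hc⟩)) o2
  have μ0 : μ ≠ 0 := by rintro rfl; simp at hμ
  have e3 : C.act (l' * l) p = a := by rw [C.mul_apply, hl, e1]
  have e4 : C.act (l' * l) p' = μ • a' := by rw [C.mul_apply, e2]
  have e5 := m.cm_conj h hq h2 m' n n' o' one_ne_zero μ0 (by rw [e3, one_smul]) e4
  rw [e, ← conj_mul, h.z_conj _ m.pp s, h.z_conj _ m'.pp s, e3, e4, z_smul h hq n'.pp μ0] at e5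
  calc t * k * (t * k') = t * (k * t * k⁻¹) * ⁅k, k'⁆ * (k' * k) := by group
    _ = t * (k' * t * k'⁻¹) * (k' * k) := by
      rw [← e5, n.mv.pt, n'.mv.pt, mul_assoc t (t * _), mul_assoc t (z C φ a 1),
        ← mul_assoc (z C φ a 1), h.z_sq n.pp s, one_mul]
    _ = t * k' * (t * k) := by group

end

omit [Finite G] in
theorem xm {e a b : V} {c d : K} (k : TOk P e a c) (k' : TOk P e b d) :
    x C φ e a c * x C φ e b d = x C φ e (a + b) (c + d + P.B b a) := by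
  rw [x, x, ← map_mul, C.T_mul k k']; rfl

omit [Finite G] in
theorem inv_cj {q s y : G} (h1 : q * s * q⁻¹ = s * y) (c : Commute q y) (y2 : y * y = 1) :
    q⁻¹ * s * q = s * y := by
  have e : q⁻¹ * (s * y) * q = s := by rw [← h1]; group
  calc q⁻¹ * s * q = q⁻¹ * (s * y) * (y * q) := by
        rw [mul_assoc q⁻¹ (s * y), mul_assoc s y, ← mul_assoc y, y2, one_mul, mul_assoc]
    _ = s * y := by rw [← c.eq, ← mul_assoc, e]

theorem Iv.qc (h : Sit C φ t) {p : V} {g : G} (m : Iv C φ t p g) {l : S} (hl : C.act l p = p) :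
    Commute (t * g) (φ l) := ((h.tφ l).mul_right (m.cl hl)).symm

theorem Iv.qt (h : Sit C φ t) {p : V} {g : G} (m : Iv C φ t p g) :
    t * g * t * (t * g)⁻¹ = t * z C φ p 1 := by
  have c : t * z C φ p 1 * t⁻¹ = z C φ p 1 := (h.tφ _).symm.mul_inv_cancel
  calc _ = t * (g * t * g⁻¹) * t⁻¹ := by group
    _ = _ := by rw [m.mv.pt, mul_assoc, c]

theorem Iv.qq (h : Sit C φ t) {p : V} {g : G} (m : Iv C φ t p g) : t * g * (t * g) = z C φ p 1 := by
  calc _ = t * (g * t * g⁻¹) * (g * g) := by group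
    _ = _ := by rw [m.mv.pt, m.sq, mul_one, ← mul_assoc, h.t2, one_mul]

theorem Iv.qj (h : Sit C φ t) {p p' : V} {g : G} (m : Iv C φ t p g) (l : S) (e : C.act l p = p') :
    ∃ g', Iv C φ t p' g' ∧ φ l * (t * g) * (φ l)⁻¹ = t * g' :=
  ⟨_, e ▸ m.conj h l, by rw [← mul_assoc, (h.tφ l).eq]; group⟩

theorem Iv.qtr (h : Sit C φ t) {p : V} {g : G} (m : Iv C φ t p g) {U : Submodule K V}
    (D : TD φ.range (Rg C φ U) (Eg C φ U) t) (hU : TI P U) (hp : p ∈ U) :
    Tr φ.range (Rg C φ U) t (z C φ p 1) (t * g) := by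
  simpa using D.tr_mul (one_mem _) (z_E h hU hp) D.tr_t (m.tr h hp)

theorem zz2 (h : Mod C) {a b : V} (aa : P.B a a = 0) (bb : P.B b b = 0) (ab : P.B a b = 0) :
    C.T (b + a) 0 1 * C.T b 0 1 = C.T a b 1 := C.ext fun v => by
  have ba := h.B_comm ab
  have s := map_one σ
  rw [C.mul_apply, h.z_app bb s, h.z_app (by simp [aa, bb, ab, ba]) s, h.T_app (h.tok1 aa bb ab s)]
  simp only [map_add, map_smul, LinearMap.add_apply, smul_eq_mul, aa, bb, ab, ba, s]
  match_scalars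
  · ring
  · linear_combination P.B b v * h.two
  · ring

theorem zz4 (h : Mod C) (hq : Small σ) {a b : V} (aa : P.B a a = 0) (bb : P.B b b = 0) (ab : P.B a b = 0)
    {ω : K} (hω : ω + σ ω = 1) : C.T (b + a) 0 1 * C.T b 0 1 *
      (C.T (b + σ ω • a) 0 1 * C.T (b + ω • a) 0 1) = C.T a 0 1 := C.ext fun v => by
  have ba := h.B_comm ab
  have s := map_one σ
  have n := nrm hq P (μ := ω) (by rintro rfl; simp at hω)
  rw [zz2 h aa bb ab, C.mul_apply, C.mul_apply, h.z_app (e := b + ω • a) (by simp [aa, bb, ab, ba]) s,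
    h.z_app (by simp [aa, bb, ab, ba]) s, h.T_app (h.tok1 aa bb ab s), h.z_app aa s]
  simp only [map_add, map_smul, map_smulₛₗ, LinearMap.add_apply, LinearMap.smul_apply, smul_eq_mul,
    aa, bb, ab, ba, s, P.σσ]
  match_scalars
  · ring
  · linear_combination (P.B b v + P.B a v) * h.two + P.B a v * hω
  · linear_combination (P.B b v + P.B a v) * h.two + P.B b v * hω + 2 * P.B a v * n

/-- an element which centralises `z_a` and all `x a (δ • n) c` acts linearly on `Q_a / Z_a` -/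
theorem lin (h : Emb C φ) {a n : V} (a0 : a ≠ 0) (aa : P.B a a = 0) (an : P.B a n = 0) (nn : P.B n n = 1) {g : G}
    (hg : g ∈ normalizer (φ.range : Set G)) (h1 : Commute g (z C φ a 1))
    (h2 : ∀ (δ c : K), TOk P a (δ • n) c → Commute g (x C φ a (δ • n) c)) :
    ∃ D : V →ₗ[K] V, D a ∈ span K {a} ∧ ∀ v c v' c', TOk P a v c → TOk P a v' c' →
      g * x C φ a v c * g⁻¹ = x C φ a v' c' → D v - v' ∈ span K {a} := by
  obtain ⟨α, γ, k⟩ := h.exists_act hg
  have s := map_one σ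
  obtain ⟨l, hl⟩ := Submodule.mem_span_singleton.1 ((h.fix_of_z k aa s s (h.z_one_ne a0 aa)
    h1.mul_inv_cancel a).2 (Submodule.mem_span_singleton_self a))
  have l0 : l ≠ 0 := by
    rintro rfl
    exact a0 (γ.map_eq_zero_iff.1 (by rw [← hl, zero_smul]))
  have key : ∀ v c v' c', TOk P a v c → TOk P a v' c' → g * x C φ a v c * g⁻¹ = x C φ a v' c' →
      σ l • γ v - v' ∈ span K {a} := fun v c v' c' o o' e => by
    obtain ⟨o1, e1⟩ := h.act_x k o
    rw [← hl] at o1 e1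
    have o2 : TOk P a (γ v) (α c) := by simpa [l0] using o1.smul_left l⁻¹
    have o3 := o2.smul (σ l)
    rw [P.σσ] at o3
    refine h.x_eq_x a0 o3 o' ?_
    rw [← e, e1, x, x, C.T_smul_left o2]
  have k1 : ∀ δ : K, σ l * P.B n (γ n) * α δ = δ := fun δ => by
    obtain ⟨c, o⟩ := h.exists_tok (a := δ • n) aa (by simp [an])
    obtain ⟨μ, e⟩ := Submodule.mem_span_singleton.1 (key _ _ _ _ o o (h2 δ c o).mul_inv_cancel)
    have := congrArg (P.B n) e
    rw [k.semi] at this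
    simp only [map_sub, map_smul, smul_eq_mul, h.B_comm an, nn] at this
    linear_combination -this
  have k2 : ∀ δ, α δ = δ := fun δ => by
    have := k1 1
    rw [map_one, mul_one] at this
    simpa [this] using k1 δ
  refine ⟨{ toFun := fun v => σ l • γ v
            map_add' := fun v w => by rw [map_add, smul_add]
            map_smul' := fun c v => by rw [k.semi, k2, smul_comm]; rfl }, ?_, key⟩
  change σ l • γ a ∈ _
  rw [← hl]
  exact Submodule.smul_mem _ _ (Submodule.smul_mem _ _ (Submodule.mem_span_singleton_self a))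

section

variable (h : Sit C φ t) (h2 : Two φ.range t) (ex : ∀ p, p ≠ 0 → P.B p p = 0 → ∃ g, Iv C φ t p g)
  (H : ∀ a a' k k', Iv C φ t a k → Iv C φ t a' k' → P.B a a' = 0 → Commute (t * k) (t * k'))
include h h2 ex H

/-- the element `u = [x a b 0, t k]` -/
theorem exists_u {a f b b' : V} (hh : HH P a f b b') {k ka : G} (n : Iv C φ t b' k) (na : Iv C φ t a ka) {u : G}
    (hu : u = x C φ a b 0 * (t * k) * (x C φ a b 0)⁻¹ * (t * k)⁻¹) :
    u * t * u⁻¹ = t * x C φ a b' 1 ∧ u * x C φ a b 0 * u⁻¹ = x C φ a b' 1 * x C φ a b 0 ∧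
      Commute u (t * ka) ∧ ∀ l, C.act l a = a → C.act l b' = b' → Commute u (φ l) := by
  have s := map_one σ
  have aa := hh.h₁.se.self_eq
  have bb := hh.h₂.se.self_eq
  have bb' := hh.h₂.sf.self_eq
  have ba' := h.B_comm hh.ef
  have kb : TOk P a b 0 := h.tok1 aa bb hh.ee (map_zero σ)
  obtain ⟨k', n', e⟩ := n.qj h (C.T a b 0) (p' := b' + a) (by rw [C.T_perp kb hh.ef, hh.h₂.ef, one_smul])
  change x C φ a b 0 * _ * (x C φ a b 0)⁻¹ = _ at e
  have XX : x C φ a b 0 * x C φ a b 0 = 1 := by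
    rw [x, ← map_mul, h.T_sq kb, bb, C.T_zero hh.h₁.se, map_one]
  have zz : z C φ (b' + a) 1 * z C φ b' 1 = x C φ a b' 1 := by
    rw [z, z, ← map_mul, zz2 h.toMod aa bb' hh.ef]; rfl
  have z2 := h.z_sq bb' s
  have f1 : C.act (C.T b' 0 1) b' = b' := C.T_self (h.tok0 bb' s)
  have f2 : C.act (C.T b' 0 1) (b' + a) = b' + a := C.T_fix (h.tok0 bb' s) (by simp [bb', ba']) (by simp)
  have c1 : Commute (t * k') (t * k) := H _ _ _ _ n' n (by simp [bb', hh.ef])
  have hu' : u = t * k' * (t * k)⁻¹ := by rw [hu, e]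
  refine ⟨?_, ?_, ?_, fun l h1 h3 => ?_⟩
  · have e1 : (t * k)⁻¹ * t * (t * k) = t * z C φ b' 1 := inv_cj (n.qt h) (n.qc h f1) z2
    have e2 : t * k' * z C φ b' 1 * (t * k')⁻¹ = z C φ b' 1 := (n'.qc h f2).mul_inv_cancel
    calc _ = t * k' * ((t * k)⁻¹ * t * (t * k)) * (t * k')⁻¹ := by rw [hu']; group
      _ = t * k' * t * (t * k')⁻¹ * (t * k' * z C φ b' 1 * (t * k')⁻¹) := by rw [e1]; group
      _ = _ := by rw [n'.qt h, e2, mul_assoc, zz]
  · have uu : u * u = x C φ a b' 1 := by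
      rw [hu', c1.inv_right.symm.mul_mul_mul_comm, ← mul_inv_rev, n.qq h, n'.qq h,
        inv_eq_of_mul_eq_one_right z2, zz]
    have xi : (x C φ a b 0)⁻¹ = x C φ a b 0 := inv_eq_of_mul_eq_one_right XX
    have e1 : x C φ a b 0 * u⁻¹ = u * x C φ a b 0 := by
      have : x C φ a b 0 * u⁻¹ = x C φ a b 0 * (t * k) * x C φ a b 0 * (t * k)⁻¹ * (x C φ a b 0)⁻¹ := by
        rw [hu]; group
      rw [this, hu, xi]
    rw [mul_assoc, e1, ← mul_assoc, uu]
  · rw [hu']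
    exact (H _ _ _ _ n' na (by simp [aa, ba'])).mul_left (H _ _ _ _ n na ba').inv_left
  · rw [hu']
    exact (n'.qc h (by rw [map_add, h1, h3])).mul_left (n.qc h h3).inv_left

theorem exists_β (hq : Small σ) {a f b b' : V} (hh : HH P a f b b') {k ka : G} (n : Iv C φ t b' k)
    (na : Iv C φ t a ka) {u : G} (hu : u = x C φ a b 0 * (t * k) * (x C φ a b 0)⁻¹ * (t * k)⁻¹) {ω : K}
    (hω : ω + σ ω = 1) : ∃ β c : K, β ≠ ω ∧ TOk P a (ω • b + β • b') c ∧
      u * x C φ a (ω • b) 0 * u⁻¹ = x C φ a (ω • b + β • b') c * (t * ka) := by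
  have s := map_one σ
  have s0 := map_zero σ
  have aa := hh.h₁.se.self_eq
  have bb := hh.h₂.se.self_eq
  have bb' := hh.h₂.sf.self_eq
  have ba := h.B_comm hh.ee
  have ba' := h.B_comm hh.ef
  have ω0 : ω ≠ 0 := by rintro rfl; simp at hω
  have hh' : HH P a f b' b := ⟨hh.h₁, hh.h₂.symm, hh.ef, hh.ee, hh.ff, hh.fe⟩
  have kb : TOk P a b 0 := h.tok1 aa bb hh.ee s0
  have km : TOk P a (ω • b) 0 := h.tok_N hh' ω
  obtain ⟨k1, n1, e1⟩ := n.qj h (C.T a b 0) (p' := b' + a) (by rw [C.T_perp kb hh.ef, hh.h₂.ef, one_smul])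
  obtain ⟨k2, n2, e2⟩ := n.qj h (C.T a (ω • b) 0) (p' := b' + σ ω • a) (by
    rw [C.T_perp km hh.ef]; simp [hh.h₂.ef])
  obtain ⟨k3, n3, e3⟩ := n1.qj h (C.T a (ω • b) 0) (p' := b' + ω • a) (by
    rw [map_add, C.T_perp km hh.ef, C.T_self km]
    simp only [map_smulₛₗ, LinearMap.smul_apply, smul_eq_mul, hh.h₂.ef]
    match_scalars
    · ring
    · linear_combination hω + (1 - ω) * h.two)
  change x C φ a b 0 * _ * (x C φ a b 0)⁻¹ = _ at e1
  rw [e1] at hu
  obtain ⟨m, hm⟩ : ∃ m, m = x C φ a (ω • b) 0 := ⟨_, rfl⟩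
  change x C φ a (ω • b) 0 * _ * (x C φ a (ω • b) 0)⁻¹ = _ at e2 e3
  have cm : Commute (t * ka) m := hm ▸ na.qc h (C.T_self km)
  have mm : m * m = 1 := by
    rw [hm, x, ← map_mul, h.T_sq km]; simp [bb, C.T_zero hh.h₁.se]
  rw [← hm] at e2 e3 ⊢
  have hU := hh'.ti
  have aU : a ∈ span K {a, b'} := Submodule.subset_span (by simp)
  have bU : b' ∈ span K {a, b'} := Submodule.subset_span (by simp)
  have lU : ∀ l : K, b' + l • a ∈ span K {a, b'} := fun l => add_mem bU (Submodule.smul_mem _ _ aU)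
  have D := h.td h2 hU fun e => na.p0 (by rwa [e] at aU)
  have E := fun {p : V} (hp : p ∈ span K {a, b'}) => z_E h hU hp
  have t0 := n.qtr h D hU bU
  have t1 := n1.qtr h D hU (add_mem bU aU)
  have t2 := n2.qtr h D hU (lU _)
  have t3 := n3.qtr h D hU (lU _)
  have ta := na.qtr h D hU aU
  have t4 := D.tr_mul (mul_mem (E (add_mem bU aU)) (E bU)) (mul_mem (E (lU _)) (E (lU _)))
    (D.tr_mul (E (add_mem bU aU)) (E bU) t1 (D.tr_inv (E bU) t0))
    (D.tr_mul (E (lU _)) (E (lU _)) t2 (D.tr_inv (E (lU _)) t3))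
  have z4 : z C φ (b' + a) 1 * z C φ b' 1 * (z C φ (b' + σ ω • a) 1 * z C φ (b' + ω • a) 1) =
      z C φ a 1 := by
    simp only [z, ← map_mul, zz4 h.toMod hq aa bb' hh.ef hω]
  rw [z4] at t4
  have t5 := D.tr_mul (E aU) (E aU) t4 (D.tr_inv (E aU) ta)
  rw [h.z_sq aa s] at t5
  obtain ⟨κ, hκ⟩ : ∃ κ, κ = t * k1 * (t * k)⁻¹ * (t * k2 * (t * k3)⁻¹) * (t * ka)⁻¹ := ⟨_, rfl⟩
  rw [← hκ] at t5
  have o : ∀ l : K, P.B (b' + l • a) a = 0 := fun l => by simp [aa, ba']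
  have cκ : Commute κ (t * ka) := hκ ▸
    (((H _ _ _ _ n1 na (by simp [aa, ba'])).mul_left (H _ _ _ _ n na ba').inv_left).mul_left
      ((H _ _ _ _ n2 na (o _)).mul_left (H _ _ _ _ n3 na (o _)).inv_left)).mul_left (Commute.refl _).inv_left
  have eu : u * m * u⁻¹ = κ * m * (t * ka) := by
    rw [mul_assoc κ, ← cm.eq, hκ, ← e2, ← e3, hu]; group
  have κE : κ ∈ Eg C φ (span K {a, b'}) := (D.tr_one t5).resolve_right fun k => by
    have c : Commute (t * ka) t := by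
      simpa using (D.tr_cE ta k).mul_right cκ.symm.inv_right
    have := na.qt h
    rw [c.mul_inv_cancel, left_eq_mul] at this
    exact na.z1 h this
  have sq : κ * m * (κ * m) = z C φ a 1 := by
    have e4 : u * m * u⁻¹ * (u * m * u⁻¹) = 1 := by rw [conj_mul, mm]; simp
    rw [eu, (cκ.mul_left cm.symm).symm.mul_mul_mul_comm, na.qq h] at e4
    rw [eq_inv_of_mul_eq_one_left e4, inv_eq_of_mul_eq_one_right (h.z_sq aa s)]
  obtain ⟨c, hc, rfl⟩ := κE
  obtain ⟨r, β, r', hr, hr', rfl⟩ := (h.mem_E_line hh').1 hc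
  have fa : C.act (C.T a 0 r * C.T a (β • b') 0 * C.T b' 0 r' * C.T a (ω • b) 0) a = a := by
    rw [C.mul_apply, C.T_self km, h.line_app hh' β hr hr']; simp [aa, ba']
  rw [hm, x, ← map_mul, ← map_mul] at sq
  have sq' := h.inj_fix na.p0 (by rw [C.mul_apply, fa, fa, C.T_self (h.tok0 aa s)]) sq
  have e5 := congrArg (fun y => C.act y f) sq'
  simp only [C.mul_apply (_ * _ * _ * _), C.mul_apply (_ * _ * _), h.line_app hh' β hr hr', h.N_app hh',
    h.z_app aa s] at e5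
  have e6 := congrArg (P.B b) e5
  have e7 := congrArg (P.B f) e5
  simp only [map_add, map_smul, smul_eq_mul, aa, bb, bb', ba, ba', hh.ee, hh.ef, hh.fe, hh.ff,
    h.B_comm hh.fe, h.B_comm hh.ff, hh.h₁.ef, hh.h₁.fe, hh.h₂.ef, hh.h₂.fe, hh.h₁.sf.self_eq] at e6 e7
  obtain rfl : r' = 0 := mul_left_cancel₀ ω0 (by linear_combination e6 - (β + ω * r') * h.two)
  have k1 := h.tok0 aa hr
  have k2 := h.tok_line hh' β
  refine ⟨β, _, fun e => ?_, add_comm (β • b') (ω • b) ▸ zero_add (β • b') ▸ (k1.add k2).add km, ?_⟩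
  · rw [e] at e7
    exact one_ne_zero (α := K) (by linear_combination -e7 + (r + 2 * σ ω * ω) * h.two)
  · rw [eu, hm, C.T_zero hh.h₂.sf, mul_one, C.T_mul k1 k2]
    change x C φ a _ _ * _ * _ = _
    rw [xm (k1.add k2) km]
    simp only [zero_add, add_comm (β • b')]

theorem false (hq : Small σ) : False := by
  have s := map_one σ
  have s0 := map_zero σ
  obtain ⟨a, f, hf⟩ := h.exists_pair
  obtain ⟨b2, b3, hh⟩ := h.exists_hh hf
  have hh' : HH P a f b3 b2 := ⟨hh.h₁, hh.h₂.symm, hh.ef, hh.ee, hh.ff, hh.fe⟩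
  obtain ⟨n, nn, an, -, n2, n3, -⟩ := h.exists_n hh
  obtain ⟨ω, hω⟩ := h.exists_tr s
  have aa := hf.se.self_eq
  have a0 := hp_ne hf
  have b22 := hh.h₂.se.self_eq
  have b33 := hh.h₂.sf.self_eq
  obtain ⟨ka, na⟩ := ex a a0 aa
  obtain ⟨k2, m2⟩ := ex b2 (hp_ne hh.h₂) b22
  obtain ⟨k3, m3⟩ := ex b3 (hp_ne hh.h₂.symm) b33
  obtain ⟨u3, h3⟩ : ∃ u, u = x C φ a b2 0 * (t * k3) * (x C φ a b2 0)⁻¹ * (t * k3)⁻¹ := ⟨_, rfl⟩
  obtain ⟨u2, h2'⟩ : ∃ u, u = x C φ a b3 0 * (t * k2) * (x C φ a b3 0)⁻¹ * (t * k2)⁻¹ := ⟨_, rfl⟩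
  obtain ⟨p1, p2, p3, p4⟩ := exists_u h h2 ex H hh m3 na h3
  obtain ⟨q1, q2, q3, q4⟩ := exists_u h h2 ex H hh' m2 na h2'
  obtain ⟨β, c, βω, oc, p5⟩ := exists_β h h2 ex H hq hh m3 na h3 hω
  have o2 := fun {r : K} (hr : σ r = r) => h.tok1 aa b22 hh.ee hr
  have o3 := fun {r : K} (hr : σ r = r) => h.tok1 aa b33 hh.ef hr
  have oz := h.tok0 aa s
  have P4 : ∀ {v c}, TOk P a v c → P.B v b3 = 0 → Commute u3 (x C φ a v c) := fun o e =>
    p4 _ (C.T_self o) (C.T_fix o hh.ef e)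
  have Q4 : ∀ {v c}, TOk P a v c → P.B v b2 = 0 → Commute u2 (x C φ a v c) := fun o e =>
    q4 _ (C.T_self o) (C.T_fix o hh.ee e)
  have xz : ∀ {v}, TOk P a v 0 → x C φ a v 1 = x C φ a v 0 * x C φ a 0 1 := fun o => by
    rw [xm o oz]; simp
  have xx : ∀ {v}, TOk P a v 1 → P.B v v = 0 → x C φ a v 1 * x C φ a v 1 = 1 := fun o e => by
    rw [x, ← map_mul, h.T_sq o, e, C.T_zero hf.se, map_one]
  obtain ⟨g, hg⟩ : ∃ g, g = u3 * u2 * u3⁻¹ := ⟨_, rfl⟩
  have G1 : ∀ {y}, Commute u2 y → Commute g (u3 * y * u3⁻¹) := fun c => hg ▸ c.conj u3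
  have G2 : ∀ {y}, Commute u2 y → Commute u3 y → Commute g y := fun c c' =>
    hg ▸ (c'.mul_left c).mul_left c'.inv_left
  have gt : Commute g t := by
    have e1 := inv_cj p1 (P4 (o3 s) b33) (xx (o3 s) b33)
    have e2 : u2 * (t * x C φ a b3 1) * u2⁻¹ = t * x C φ a b3 1 := by
      calc _ = u2 * t * u2⁻¹ * (u2 * x C φ a b3 0 * u2⁻¹) * (u2 * x C φ a 0 1 * u2⁻¹) := by
            rw [xz (o3 s0)]; group
        _ = _ := by
            rw [q1, q2, (Q4 oz (by simp)).mul_inv_cancel, xz (o3 s0), mul_assoc t, ← mul_assoc (x C φ a b2 1),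
              xx (o2 s) b22, one_mul, mul_assoc]
    have := G1 (y := t * x C φ a b3 1) (mul_inv_eq_iff_eq_mul.1 e2)
    rwa [← e1, show u3 * (u3⁻¹ * t * u3) * u3⁻¹ = t by group] at this
  obtain ⟨D, -, hD⟩ := lin h.toEmb a0 aa an nn (h.cN gt.symm.symm) (G2 (Q4 oz (by simp)) (P4 oz (by simp)))
    fun δ c o => G2 (Q4 o (by simp [h.B_comm n2])) (P4 o (by simp [h.B_comm n3]))
  have d1 := G1 (Q4 (o2 s0) b22)
  rw [p2, xm (o3 s) (o2 s0)] at d1
  have d2 := G1 (Q4 (h.tok_N hh' ω) (by simp [b22]))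
  rw [p5] at d2
  have d3 : Commute g (x C φ a (ω • b2 + β • b3) c) := by
    have := d2.mul_right (G2 q3 p3).inv_right
    rwa [mul_inv_cancel_right] at this
  have D1 := hD _ _ _ _ ((o3 s).add (o2 s0)) ((o3 s).add (o2 s0)) d1.mul_inv_cancel
  have D2 := hD _ _ _ _ oc oc d3.mul_inv_cancel
  have D3 := hD _ _ _ _ (o3 s0) ((((o3 s).add (o2 s0)).add oz).add (o3 s0)) (by
    have e1 : u3⁻¹ * x C φ a b3 0 * u3 = x C φ a b3 0 := (P4 (o3 s0) b33).inv_mul_cancel
    calc _ = u3 * (u2 * (u3⁻¹ * x C φ a b3 0 * u3) * u2⁻¹) * u3⁻¹ := by rw [hg]; group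
      _ = u3 * x C φ a b2 0 * u3⁻¹ * (u3 * x C φ a 0 1 * u3⁻¹) * (u3 * x C φ a b3 0 * u3⁻¹) := by
        rw [e1, q2, xz (o2 s0)]; group
      _ = _ := by
        rw [p2, (P4 oz (by simp)).mul_inv_cancel, (P4 (o3 s0) b33).mul_inv_cancel, xm (o3 s) (o2 s0),
          xm ((o3 s).add (o2 s0)) oz, xm (((o3 s).add (o2 s0)).add oz) (o3 s0)])
  obtain ⟨μ1, D1⟩ := Submodule.mem_span_singleton.1 D1
  obtain ⟨μ2, D2⟩ := Submodule.mem_span_singleton.1 D2
  obtain ⟨μ3, D3⟩ := Submodule.mem_span_singleton.1 D3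
  replace D1 := congrArg (P.B b2) D1
  replace D2 := congrArg (P.B b2) D2
  replace D3 := congrArg (P.B b2) D3
  simp only [map_add, map_sub, map_smul, map_zero, smul_eq_mul, h.B_comm hh.ee, b22, hh.h₂.ef] at D1 D2 D3
  exact βω (by linear_combination ω * D1 - D2 + (β - ω) * D3)

end

end PreB

theorem Sit.preB (h : Sit C φ t) (hq : Small σ) (h2 : Two φ.range t)
    (hp : ∀ p s, P.B p p = 0 → σ s = s →
      ∃ g, Mv φ.range (Yg C φ (span K {p})) t (z C φ p s) g ∧ IsPGroup 2 (zpowers g)) :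
    Pre C φ t := by
  have ex : ∀ p, p ≠ 0 → P.B p p = 0 → ∃ g, PreB.Iv C φ t p g := fun p p0 pp => by
    obtain ⟨g, m, g2⟩ := hp p 1 pp (map_one σ)
    have D := h.td h2 (U := span K {p}) (ti_span.2 (by simpa using pp)) (by simpa using p0)
    have tr := h.tr_of_mv (Submodule.mem_span_singleton_self p) m g2
    obtain ⟨r, hr, e⟩ := (h.mem_Z pp).1 (D.tr_sq ((h.mem_Z pp).2 ⟨_, map_one σ, rfl⟩) tr)
    rcases hq r hr with rfl | rfl
    · exact ⟨g, p0, pp, m, e.trans ((h.z_eq_one pp hr).2 (.inr rfl))⟩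
    · refine ⟨t * g, p0, pp, ⟨mul_mem (centralizer_le (map_le_range _ _) h.tC) m.cY, ?_, CO.self.mul m.co⟩,
        by rw [D.sq_tmul tr, e, h.z_sq pp hr]⟩
      simpa using (D.tr_mul (one_mem _) ((h.mem_Z pp).2 ⟨_, map_one σ, rfl⟩) D.tr_t tr).tr
  have iv : ∀ {p s g}, P.B p p = 0 → σ s = s → z C φ p s ≠ 1 →
      Mv φ.range (Yg C φ (span K {p})) t (z C φ p s) g → g * g = 1 → PreB.Iv C φ t p g :=
    fun pp hs z1 m g2 => by
      have := not_or.1 (mt (h.z_eq_one pp hs).2 z1)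
      obtain rfl := (hq _ hs).resolve_left this.2
      exact ⟨this.1, pp, m, g2⟩
  refine ⟨h, h2, fun p s pp hs => ?_, fun p p' s s' g g' pp pp' o hs hs' z1 z1' m m' g2 g2' => ?_⟩
  · by_cases z1 : z C φ p s = 1
    · exact ⟨1, ⟨one_mem _, by simp [z1], fun _ _ _ _ => by simp⟩, mul_one 1⟩
    · have := not_or.1 (mt (h.z_eq_one pp hs).2 z1)
      obtain rfl := (hq _ hs).resolve_left this.2
      obtain ⟨g, m⟩ := ex p this.1 pp
      exact ⟨g, m.mv, m.sq⟩
  · by_contra nc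
    exact PreB.false h h2 ex (fun a a' k k' n n' o' =>
      (iv pp hs z1 m g2).com4 h hq h2 (iv pp' hs' z1' m' g2') o nc n n' o') hq

end CfsgLib.U5
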