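import Cfsg.Agent.Lib.U5.Top
import Cfsg.Agent.Lib.U5.Lift

/-! Product case: the two factors -/

set_option autoImplicit false
set_option linter.unusedSectionVars false

namespace CfsgLib.U5

open Subgroup Module CfsgLib.Forms CfsgLib.LieMult
open CfsgLib.HX (Std CO Two Mv Tr Heis NF Fus4 Has4 M2)
open Submodule (span)
open CfsgLib.UFP (mem_cent mem_cent1 conj_mem)
open scoped commutatorElement Pointwise

universe u

variable {K : Type} [Field K] [Finite K] {σ : K →+* K} {V : Type} [AddCommGroup V] [Module K V]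
  [FiniteDimensional K V] {P : PQ σ V} {S : Type} [Group S] [Finite S] {G : Type u} [Group G]
  [Finite G] {C : CG P S} {φ : S →* G} {t : G}

namespace Prod

theorem key {Q : Type*} [Group Q] {x w y z a₁ a₂ a₃ c : Q} (yy : y * y = 1) (r1 : y * x * y = x * a₁)
    (r2 : y * w * y = w * a₂ * c) (r3 : z * x * z⁻¹ = x * c) (r4 : z * w * z⁻¹ = w * a₃) (z1 : z * a₁ = a₁ * z)
    (z2 : z * a₂ = a₂ * z) (zc : z * c = c * z) (w1 : a₁ * w * a₁⁻¹ = w) (wc : c * w * c⁻¹ = w)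
    (h : c * (a₁ * a₃ * a₂) * c = 1) : z * y * (x * w) * (z * y)⁻¹ = x * w := by
  calc _ = z * (y * x * y) * ((y * y)⁻¹ * (y * w * y)) * (y * y)⁻¹ * z⁻¹ := by group
    _ = z * x * z⁻¹ * (z * a₁ * z⁻¹) * (z * w * z⁻¹) * (z * a₂ * z⁻¹) * (z * c * z⁻¹) := by
      rw [yy, r1, r2]; group
    _ = x * (c * (a₁ * w * a₁⁻¹) * c⁻¹) * (c * (a₁ * a₃ * a₂) * c) := by
      rw [r3, r4, z1, z2, zc]; group
    _ = _ := by rw [h, w1, wc, mul_one]

theorem key' {Z : Subgroup G} {x w y z a₁ a₂ a₃ c : centralizer (Z : Set G)}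
    (yy : y.1 * y = 1) (r1 : ∃ g ∈ Z, y.1 * x * y = x * a₁ * g) (r2 : ∃ g ∈ Z, y.1 * w * y = w * a₂ * c * g)
    (r3 : ∃ g ∈ Z, z.1 * x * z.1⁻¹ = x * c * g) (r4 : ∃ g ∈ Z, z.1 * w * z.1⁻¹ = w * a₃ * g)
    (z1 : z.1 * a₁ = a₁ * z) (z2 : z.1 * a₂ = a₂ * z) (zc : z.1 * c = c * z)
    (w1 : ∃ g ∈ Z, a₁.1 * w * a₁.1⁻¹ = w * g) (wc : ∃ g ∈ Z, c.1 * w * c.1⁻¹ = w * g)
    (h : c.1 * (a₁ * a₃ * a₂) * c = 1) : ∃ g ∈ Z, z.1 * y * (x * w) * (z.1 * y)⁻¹ = x * w * g := by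
  have : (Z.subgroupOf (centralizer (Z : Set G))).Normal := ⟨fun g hg n => by
    rw [mem_subgroupOf] at hg ⊢
    simpa only [coe_mul, coe_inv, ← mem_cent.1 n.2 _ hg, mul_inv_cancel_right] using hg⟩
  let π := QuotientGroup.mk' (Z.subgroupOf (centralizer (Z : Set G)))
  have lem : ∀ u v : centralizer (Z : Set G), (∃ g ∈ Z, (u : G) = v * g) ↔ π u = π v := fun u v => by
    rw [eq_comm, QuotientGroup.mk'_apply, QuotientGroup.mk'_apply, QuotientGroup.eq, mem_subgroupOf, coe_mul, coe_inv]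
    exact ⟨fun ⟨g, hg, e⟩ => by rwa [e, inv_mul_cancel_left], fun k => ⟨_, k, by rw [mul_inv_cancel_left]⟩⟩
  have l2 : ∀ u v : centralizer (Z : Set G), (u : G) = v → π u = π v := fun u v e => by rw [Subtype.ext e]
  refine (lem (z * y * (x * w) * (z * y)⁻¹) (x * w)).2 ?_
  have := key (x := π x) (w := π w) (y := π y) (z := π z) (a₁ := π a₁) (a₂ := π a₂) (a₃ := π a₃) (c := π c)
    (l2 (y * y) 1 yy) ((lem (y * x * y) (x * a₁)).1 r1) ((lem (y * w * y) (w * a₂ * c)).1 r2)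
    ((lem (z * x * z⁻¹) (x * c)).1 r3) ((lem (z * w * z⁻¹) (w * a₃)).1 r4) (l2 (z * a₁) (a₁ * z) z1)
    (l2 (z * a₂) (a₂ * z) z2) (l2 (z * c) (c * z) zc) ((lem (a₁ * w * a₁⁻¹) w).1 w1) ((lem (c * w * c⁻¹) w).1 wc)
    (l2 (c * (a₁ * a₃ * a₂) * c) 1 h)
  exact this

variable (C φ) in
/-- the transvections of the two factors -/
def zz (y : V → K → G) (r : K) (p : V) (s : K) : G := z C φ p (r * s) * y p s

variable (C φ) in
/-- the Eichler elements of the two factors -/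
def xx (y : V → K → G) (r : K) (e b : V) : G := x C φ e (r • b) 0 * w y e b

variable {y : V → K → G} {c ρ : K} {e a b p : V} {s : K}

theorem iso (ha : P.B a a = 0) (l l' : K) : P.B (l • a) (l' • a) = 0 := by simp [ha]

theorem pp (hea : P.B e a = 0) (l : K) : P.B e (l • a) = 0 := by simp [hea]

theorem ok (h : Mod C) (he : P.B e e = 0) (ha : P.B a a = 0) (hea : P.B e a = 0) (l : K) : TOk P e (l • a) 0 :=
  h.tok1 he (iso ha l l) (pp hea l) (map_zero σ)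

theorem x_mul {d d' : K} (k : TOk P e a d) (k' : TOk P e b d') :
    x C φ e a d * x C φ e b d' = x C φ e (a + b) (d + d' + P.B b a) := by
  rw [x, x, ← map_mul, C.T_mul k k', x]

variable (h : HQ C φ t y c)
include h

theorem xw (he : P.B e e = 0) (ha : P.B a a = 0) (hea : P.B e a = 0) (l l' : K) :
    Commute (x C φ e (l • a) 0) (w y e (l' • a)) := by
  have := h.toHL.wx he (iso ha l' l') (pp hea l') (ok h.toMod he ha hea l)
  rw [iso ha, iso ha, add_zero, h.toHats.y_zero he, mul_one] at this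
  exact mul_inv_eq_iff_eq_mul.1 this

theorem xx_add (he : P.B e e = 0) (ha : P.B a a = 0) (hea : P.B e a = 0) (r l l' : K) :
    xx C φ y r e ((l + l') • a) = xx C φ y r e (l • a) * xx C φ y r e (l' • a) := by
  simp only [xx, smul_smul]
  rw [(xw h he ha hea (r * l') l).symm.mul_mul_mul_comm, x_mul (ok h.toMod he ha hea _) (ok h.toMod he ha hea _),
    iso ha, add_smul, h.wadd e _ _ he (iso ha l l) (iso ha l' l') (pp hea l) (pp hea l') (iso ha l l'), mul_add,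
    add_smul, add_zero, add_zero]

theorem xx_mul (he : P.B e e = 0) (ha : P.B a a = 0) (hea : P.B e a = 0) (r : K) :
    xx C φ y r e a * xx C φ y (r + 1) e a = x C φ e a 0 := by
  have := xw h he ha hea (r + 1) 1
  rw [one_smul] at this
  rw [xx, xx, this.symm.mul_mul_mul_comm, x_mul (ok h.toMod he ha hea _) (ok h.toMod he ha hea _), iso ha,
    h.toHats.w_sq he ha hea, mul_one, ← add_smul, ← add_assoc, h.toMod.add_self, zero_add, one_smul, add_zero,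
    add_zero]

theorem xx_symm (he : P.B e e = 0) (ha : P.B a a = 0) (hea : P.B e a = 0) {r : K} (hr : σ r = r) :
    xx C φ y r e a = xx C φ y r a e := by
  rw [xx, xx, h.toHats.w_symm he ha hea, x, x, h.toMod.T_symm he (iso ha r r) (pp hea r),
    C.T_smul_left (h.toMod.tok1 ha he (P.B_eq_zero_comm.1 hea) (map_zero σ)), hr, mul_zero]

theorem zz_conj (l : S) (hp : P.B p p = 0) {r : K} (hr : σ r = r) (hs : σ s = s) :
    φ l * zz C φ y r p s * (φ l)⁻¹ = zz C φ y r (C.act l p) s := by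
  rw [zz, zz, ← h.toEmb.z_conj l hp (by rw [map_mul, hr, hs]), ← h.eqv l p s hp hs]; group

theorem xx_conj (l : S) (he : P.B e e = 0) (ha : P.B a a = 0) (hea : P.B e a = 0) (r : K) :
    φ l * xx C φ y r e a * (φ l)⁻¹ = xx C φ y r (C.act l e) (C.act l a) := by
  rw [xx, xx, ← map_smul, ← h.toEmb.x_conj l (ok h.toMod he ha hea r), ← h.toHats.w_conj he ha hea]; group

theorem zz_comm (hp : P.B p p = 0) (ha : P.B a a = 0) (hpa : P.B p a = 0) {r r' s' : K} (hr : σ r = r)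
    (hr' : σ r' = r') (hs : σ s = s) (hs' : σ s' = s') : Commute (zz C φ y r p s) (zz C φ y r' a s') := by
  have e1 : σ (r * s) = r * s := by rw [map_mul, hr, hs]
  have e2 : σ (r' * s') = r' * s' := by rw [map_mul, hr', hs']
  exact ((h.toEmb.z_comm hp ha e1 e2 hpa).mul_right
    (h.toHats.zy ha hp (P.B_eq_zero_comm.1 hpa) hs' e1)).mul_left
    ((h.toHats.zy hp ha hpa hs e2).symm.mul_right (h.com p a s s' hp ha hpa hs hs'))

theorem x_cent {d : K} (k : TOk P e a d) (hp : P.B p p = 0) (h1 : P.B e p = 0) (h2 : P.B a p = 0) :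
    x C φ e a d ∈ centralizer (Zh C φ y p : Set G) :=
  le_centralizer_iff.1 (h.toHats.Zh_cY hp) (HatP.fix_mem (C.T_fix k h1 h2))

theorem x_mod {d d' : K} (k : TOk P e a d) (k' : TOk P e a d') :
    ∃ g ∈ Zh C φ y e, x C φ e a d = x C φ e a d' * g := by
  have M := h.toMod
  have : σ (d + d') = d + d' := by
    rw [map_add]; linear_combination k.trace C - k'.trace C + (σ d' - d) * M.two
  refine ⟨_, h.toHats.z_mem_Zh this, ?_⟩
  rw [show z C φ e (d + d') = x C φ e 0 (d + d') from rfl, x_mul k' (M.tok0 k.sing.self_eq this), add_zero,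
    add_left_comm, M.add_self, map_zero, LinearMap.zero_apply, add_zero, add_zero]

theorem zz_mem {r : K} (hr : σ r = r) (hs : σ s = s) : zz C φ y r p s ∈ Zh C φ y p :=
  mul_mem (h.toHats.z_mem_Zh (by rw [map_mul, hr, hs])) (h.toHats.y_mem_Zh hs)

variable (h1 : ρ * ρ + ρ = c) (h2 : σ ρ = ρ)
include h1 h2

theorem defect (he : P.B e e = 0) (ha : P.B a a = 0) (hb : P.B b b = 0) (hea : P.B e a = 0) (heb : P.B e b = 0)
    (hs : σ s = s) : ∃ D ∈ Zh C φ y e,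
      zz C φ y (ρ + 1) a s * xx C φ y ρ e b * (zz C φ y (ρ + 1) a s)⁻¹ = xx C φ y ρ e b * D := by
  have M := h.toMod
  have H := h.toHats
  have hae := P.B_eq_zero_comm.1 hea
  have hr : σ ((ρ + 1) * s) = (ρ + 1) * s := by rw [map_mul, map_add, map_one, h2, hs]
  have hbe := P.B_eq_zero_comm.1 heb
  have mx : ∀ {v}, TOk P e v 0 → x C φ e v 0 ∈ centralizer (Zh C φ y e : Set G) := fun k => x_cent h k he he k.perp'
  have mw : ∀ l : K, w y e (l • a) ∈ centralizer (Zh C φ y e : Set G) := fun l =>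
    H.w_Zh he (iso ha l l) (pp hea l) he he (pp hea l)
  have zw : ∀ l : K, z C φ a ((ρ + 1) * s) * w y e (l • a) = w y e (l • a) * z C φ a ((ρ + 1) * s) := fun l =>
    mem_cent.1 (H.w_Zh he (iso ha l l) (pp hea l) ha hae (pp ha l)) _ (H.z_mem_Zh hr)
  have Te : C.act (C.T a 0 ((ρ + 1) * s)) e = e := by rw [M.z_app ha hr, hae, mul_zero, zero_smul, add_zero]
  have k1 := ok M he hb heb ρ
  have k2 := ok M he ha hea (c * s * P.B a b)
  have tr : ∀ u v, σ (P.B u v + P.B v u) = P.B u v + P.B v u := fun u v => by rw [map_add, M.conj, M.conj, add_comm]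
  refine key' (x := ⟨_, mx k1⟩) (w := ⟨_, H.w_Zh he hb heb he he heb⟩)
    (y := ⟨_, H.Zh_comm ha he hae (H.y_mem_Zh hs)⟩) (z := ⟨_, H.Zh_comm ha he hae (H.z_mem_Zh hr)⟩)
    (a₁ := ⟨_, mw (s * P.B a (ρ • b))⟩) (a₂ := ⟨_, mw (s * P.B a b)⟩) (a₃ := ⟨_, mw ((ρ + 1) * s * P.B a b)⟩)
    (c := ⟨_, mx k2⟩) (H.y_sq ha hs) ⟨_, H.y_mem_Zh ?_, h.toHL.yx he ha hea k1 hs⟩
    (h.yw e a b s he ha hb hea heb hs) ?_ ?_ (zw _) (zw _)
    (mem_cent.1 (x_cent h k2 ha hea (by simp [ha])) _ (H.z_mem_Zh hr)) ?_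
    ⟨_, H.y_mem_Zh (tr _ _), h.toHL.wx he hb heb k2⟩ ?_
  · rw [map_mul, map_mul, hs, M.conj, M.conj, mul_comm (P.B a _)]
  · have k3 := k1.act C (C.T a 0 ((ρ + 1) * s))
    have e1 := h.toEmb.x_conj (C.T a 0 ((ρ + 1) * s)) k1
    have e2 : (ρ + 1) * s * P.B a (ρ • b) = c * s * P.B a b := by rw [← h1, map_smul, smul_eq_mul]; ring
    rw [Te, M.z_app ha hr, e2] at e1 k3
    obtain ⟨g, hg, e3⟩ := x_mod h k3 (k1.add k2)
    exact ⟨g, hg, by rw [x_mul k1 k2, ← e3, ← e1]; rfl⟩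
  · have e1 := H.w_conj he hb heb (C.T a 0 ((ρ + 1) * s))
    have e2 : P.B b (((ρ + 1) * s * P.B a b) • a) = P.B (((ρ + 1) * s * P.B a b) • a) b := by
      rw [P.B_smul_left, map_smul, map_mul σ, hr, M.conj, smul_eq_mul]; ring
    have e3 := (M.conj _ _).trans e2.symm
    rw [Te, M.z_app ha hr, h.wadd' e _ _ he hb (iso ha _ _) heb (pp hea _) e2, mul_assoc _ (y e _)] at e1
    exact ⟨_, mul_mem (H.y_mem_Zh e3) (H.z_mem_Zh (by rw [map_mul, h.cF, e3])), e1⟩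
  · have e1 := h.ww e b ((s * P.B a (ρ • b)) • a) he hb (iso ha _ _) heb (pp hea _)
    refine ⟨_, mul_mem (H.y_mem_Zh (tr _ _)) (H.z_mem_Zh (by rw [map_mul, h.cF, tr])), Eq.trans ?_
      (congrArg (w y e b * ·) e1)⟩
    simp only [← mul_assoc, H.w_sq he hb heb, one_mul,
      inv_eq_of_mul_eq_one_right (H.w_sq he (iso ha _ _) (pp hea _))]
  · have e1 : s * P.B a (ρ • b) + (ρ + 1) * s * P.B a b + s * P.B a b = 0 := by
      rw [map_smul, smul_eq_mul]; linear_combination (ρ + 1) * s * P.B a b * M.two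
    have wa : ∀ l l' : K, w y e (l • a) * w y e (l' • a) = w y e ((l + l') • a) := fun l l' => by
      rw [add_smul, h.wadd e _ _ he (iso ha l l) (iso ha l' l') (pp hea l) (pp hea l') (iso ha l l')]
    simp only [wa, e1, zero_smul, H.w_zero' he, mul_one]
    rw [x_mul k2 k2, M.vadd_self, iso ha, add_zero, add_zero, x, C.T_zero k1.sing, map_one]

theorem comm1 (he : P.B e e = 0) (ha : P.B a a = 0) (hb : P.B b b = 0) (hea : P.B e a = 0) (heb : P.B e b = 0)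
    (e0 : e ≠ 0) (hs : σ s = s) : Commute (zz C φ y (ρ + 1) a s) (xx C φ y ρ e b) := by
  have M := h.toMod
  have H := h.toHats
  have hr : σ (ρ + 1) = ρ + 1 := by rw [map_add, map_one, h2]
  by_cases hβ : P.B a b = 0
  · exact mem_cent.1 (mul_mem (x_cent h (ok M he hb heb ρ) ha hea (by simp [P.B_eq_zero_comm.1 hβ]))
      (H.w_Zh he hb heb ha (P.B_eq_zero_comm.1 hea) hβ)) _ (zz_mem h hr hs)
  have k1 : HP P a ((P.B a b)⁻¹ • b) := M.hp_iff.2 ⟨ha, iso hb _ _, by simp [hβ]⟩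
  obtain ⟨f, hf, k2⟩ := C.exists_HP (M.hp_disj k1) (M.sing.2 he) e0 (P.mem_perp_span.2 (by
    rintro _ (rfl | rfl)
    exacts [P.B_eq_zero_comm.1 hea, P.B_eq_zero_comm.1 (pp heb _)]))
  rw [P.mem_perp_span] at hf
  have k : HH P e f a ((P.B a b)⁻¹ • b) := ⟨k2, k1, hea, pp heb _, P.B_eq_zero_comm.1 (hf _ (.inl rfl)),
    P.B_eq_zero_comm.1 (hf _ (.inr rfl))⟩
  obtain ⟨μ, μ1, hμ⟩ := M.herm.exists_norm_one_ne_one
  have μ0 : μ ≠ 0 := fun e => by simp [e] at hμ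
  have iμ : (σ μ)⁻¹ = μ := inv_eq_of_mul_eq_one_right hμ
  obtain ⟨d, -, d1, -, d2, d3, -⟩ := M.exists_diag k (inv_ne_zero μ0) μ0 (by rw [inv_mul_cancel₀ μ0, map_one])
  have d4 : C.act d b = μ • b := by
    rw [map_smul, iμ, smul_comm] at d3
    exact smul_right_injective V (inv_ne_zero hβ) d3
  have ν0 : μ * μ + 1 ≠ 0 := fun e => μ1 (M.eq_one_of_sq (by linear_combination e - M.two))
  obtain ⟨l, hl⟩ : ∃ l, μ * μ * l + l = 1 := ⟨(μ * μ + 1)⁻¹, by rw [← add_one_mul, mul_inv_cancel₀ ν0]⟩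
  obtain ⟨D, hD, e1⟩ := defect h h1 h2 he ha (iso hb l l) hea (pp heb l) hs
  have e2 := congrArg (fun g => φ d * g * (φ d)⁻¹) e1
  have c1 : φ d * zz C φ y (ρ + 1) a s * (φ d)⁻¹ = zz C φ y (ρ + 1) a s := by
    rw [zz_conj h d ha hr hs, d2, zz, zz, h.toEmb.z_smul ha (by rw [map_mul, hr, hs]), h.smul a s μ ha hs, hμ,
      one_mul, one_mul]
  have c2 : φ d * xx C φ y ρ e (l • b) * (φ d)⁻¹ = xx C φ y ρ e ((μ * μ * l) • b) := by
    rw [xx_conj h d he (iso hb l l) (pp heb l), d1, map_smul, d4, smul_smul, xx, xx, smul_smul, x, x,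
      C.T_smul_left (ok M he hb heb _), h.wsmul e _ _ he (iso hb _ _) (pp heb _), map_inv₀, iμ, mul_zero,
      smul_smul, smul_smul, smul_smul, show μ * (l * μ) = μ * μ * l by ring,
      show μ * (ρ * (l * μ)) = ρ * (μ * μ * l) by ring]
  have c3 : Commute (φ d) D := H.Zh_fix he (by rw [map_inv₀, ← mul_inv, hμ, inv_one]) d1 hD
  have c4 : Commute D (xx C φ y ρ e (l • b)) := mem_cent.1 (mul_mem
    (x_cent h (ok M he (iso hb l l) (pp heb l) ρ) he he (by simp [P.B_eq_zero_comm.1 heb]))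
    (H.w_Zh he (iso hb l l) (pp heb l) he he (pp heb l))) _ hD
  have e3 : zz C φ y (ρ + 1) a s * xx C φ y ρ e ((μ * μ * l) • b) * (zz C φ y (ρ + 1) a s)⁻¹ =
      xx C φ y ρ e ((μ * μ * l) • b) * D := by
    rw [← c2]
    conv_lhs => rw [← c1]
    calc _ = φ d * (zz C φ y (ρ + 1) a s * xx C φ y ρ e (l • b) * (zz C φ y (ρ + 1) a s)⁻¹) * (φ d)⁻¹ := by group
      _ = _ := by rw [e1, ← mul_assoc, mul_assoc _ D, ← c3.inv_left.eq]; group
  rw [show b = (μ * μ * l + l) • b by rw [hl, one_smul], xx_add h he hb heb]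
  refine mul_inv_eq_iff_eq_mul.1 ?_
  calc _ = (zz C φ y (ρ + 1) a s * xx C φ y ρ e ((μ * μ * l) • b) * (zz C φ y (ρ + 1) a s)⁻¹) *
      (zz C φ y (ρ + 1) a s * xx C φ y ρ e (l • b) * (zz C φ y (ρ + 1) a s)⁻¹) := by group
    _ = _ := by rw [e3, e1, mul_assoc, ← mul_assoc D, c4.eq, mul_assoc _ D, H.Zh_sq he hD, mul_one]

theorem comm2 {p' : V} {s' : K} (hp : P.B p p = 0) (hp' : P.B p' p' = 0) (hs : σ s = s) (hs' : σ s' = s') :
    Commute (zz C φ y (ρ + 1) p s) (zz C φ y ρ p' s') := by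
  have M := h.toMod
  have hr : σ (ρ + 1) = ρ + 1 := by rw [map_add, map_one, h2]
  by_cases hβ : P.B p p' = 0
  · exact zz_comm h hp hp' hβ hr h2 hs hs'
  obtain ⟨a, f, k⟩ := M.exists_hh (M.hp_iff.2 ⟨hp, iso hp' (P.B p p')⁻¹ _, by simp [hβ]⟩)
  have σβ : σ (P.B p p')⁻¹ ≠ 0 := by simpa using hβ
  have a1 : P.B p' a = 0 := by simpa [hβ] using k.fe
  have a2 : P.B p' f = 0 := by simpa [hβ] using k.ff
  have a3 := P.B_eq_zero_comm.1 a1
  have a4 := P.B_eq_zero_comm.1 a2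
  have a5 := P.B_eq_zero_comm.1 k.ee
  have a6 := P.B_eq_zero_comm.1 k.ef
  have ha := k.h₂.se.self_eq
  obtain ⟨b, hb⟩ : ∃ b, b = p' + a := ⟨_, rfl⟩
  obtain ⟨e, he⟩ : ∃ e, e = f + σ (P.B p p')⁻¹ • p := ⟨_, rfl⟩
  have bb : P.B b b = 0 := by simp [hb, hp', ha, a1, a3]
  have ee : P.B e e = 0 := by simp [he, hp, k.h₂.sf.self_eq, k.ef, a6]
  have ea : P.B e a = 1 := by simp [he, k.h₂.fe, k.ee]
  have ep : P.B e p = 0 := by simp [he, hp, a6]
  have eb : P.B e b = 0 := by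
    simp only [hb, he, map_add, LinearMap.add_apply, P.B_smul_left, P.σσ, a4, k.h₂.fe, k.ee, inv_mul_cancel₀ hβ]
    linear_combination M.two
  have ba : P.B b a = 0 := by simp [hb, a1, ha]
  have e0 : e ≠ 0 := fun h0 => by simp [h0] at ea
  have b0 : b ≠ 0 := fun h0 => hβ (by simpa [hb, k.ee] using congrArg (P.B p) h0)
  have kk : TOk P e b 0 := M.tok1 ee bb eb (map_zero σ)
  have e1 := zz_conj h (C.T e b 0) ha h2 hs'
  rw [M.T_app kk, ba, ea, map_zero, zero_mul, add_zero, zero_smul, add_zero, one_smul, hb, add_left_comm, M.vadd_self,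
    add_zero, ← hb] at e1
  have c1 := comm1 h (ρ := ρ + 1) (by linear_combination h1 + (ρ + 1) * M.two) hr bb ha ee ba
    (P.B_eq_zero_comm.1 eb) b0 hs'
  rw [add_assoc, M.add_self, add_zero, ← xx_symm h ee bb eb hr] at c1
  have c2 := comm1 h h1 h2 ee hp bb ep eb e0 hs
  rw [← e1, show φ (C.T e b 0) = _ from (xx_mul h ee bb eb ρ).symm, mul_assoc (xx C φ y ρ e b), ← c1.eq]
  simpa only [mul_inv_rev, mul_assoc, mul_inv_cancel_left] using
    (c2.mul_right (zz_comm h hp ha k.ee hr h2 hs hs')).mul_right c2.inv_right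

omit h1 h2 in
theorem zz_t {r : K} (hp : P.B p p = 0) (hr : σ r = r) (hs : σ s = s) :
    t * zz C φ y r p s * t⁻¹ = zz C φ y (r + 1) p s := by
  have e1 : σ (r * s) = r * s := by rw [map_mul, hr, hs]
  have := h.toHats.zy_t hp e1 hs
  rw [zz, zz, add_mul, one_mul, add_comm, h.toEmb.z_add hp hs e1, inv_eq_of_mul_eq_one_right h.t2]
  rw [mul_assoc t, mul_inv_eq_iff_eq_mul.1 this, ← mul_assoc, ← mul_assoc t, h.t2, one_mul, mul_assoc _ _ (y p s)]

omit h1 h2 in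
theorem zz_mul {r : K} (hp : P.B p p = 0) (hr : σ r = r) (hs : σ s = s) :
    zz C φ y (r + 1) p s * zz C φ y r p s = z C φ p s := by
  have e1 : σ (r * s) = r * s := by rw [map_mul, hr, hs]
  rw [zz, zz, add_mul, one_mul, add_comm, h.toEmb.z_add hp hs e1, mul_assoc _ _ (y p s), mul_assoc,
    h.toHats.zy_sq hp e1 hs, mul_one]

omit h1 h2 in
theorem G0_le {r : K} {H : Subgroup G} (hL : φ.range ≤ H)
    (hz : ∀ p s, P.B p p = 0 → σ s = s → zz C φ y r p s ∈ H) : G0 C φ y ≤ H :=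
  h.toHL.top_G0_le hL fun p s _ hp hs => (H.mul_mem_cancel_left (hL ⟨_, rfl⟩)).1 (hz p s hp hs)

end Prod

theorem HQ.prod {y : V → K → G} {c : K} (h : HQ C φ t y c) {ρ : K} (h1 : ρ * ρ + ρ = c)
    (h2 : σ ρ = ρ) : ∃ φ₁ φ₂, DblP C φ t y c φ₁ φ₂ := by
  have M := h.toMod
  have hr : σ (ρ + 1) = ρ + 1 := by rw [map_add, map_one, h2]
  let L : K → Subgroup G := fun r => closure {g | ∃ p s, P.B p p = 0 ∧ σ s = s ∧ g = Prod.zz C φ y r p s}
  have mL : ∀ r {p s}, P.B p p = 0 → σ s = s → Prod.zz C φ y r p s ∈ L r := fun r p s hp hs =>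
    subset_closure ⟨p, s, hp, hs, rfl⟩
  have LG : ∀ r, σ r = r → L r ≤ G0 C φ y := fun r hr => (closure_le _).2 (by
    rintro _ ⟨p, s, hp, hs, rfl⟩
    exact h.toHats.Zh_le_G0 hp (Prod.zz_mem h hr hs))
  have cL : L (ρ + 1) ≤ centralizer (L ρ : Set G) := (closure_le _).2 (by
    rintro _ ⟨p, s, hp, hs, rfl⟩
    rw [SetLike.mem_coe, centralizer_closure]
    rintro _ ⟨p', s', hp', hs', rfl⟩
    exact (Prod.comm2 h h1 h2 hp hp' hs hs').symm)
  have cm : ∀ a ∈ L (ρ + 1), ∀ b ∈ L ρ, Commute a b := fun a ha b hb => (mem_cent.1 (cL ha) b hb).symm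
  let Γ : Subgroup (S × G) :=
    closure {g | ∃ p s, P.B p p = 0 ∧ σ s = s ∧ g = (C.T p 0 s, Prod.zz C φ y (ρ + 1) p s)}
  have mΓ : ∀ {p s}, P.B p p = 0 → σ s = s → (C.T p 0 s, Prod.zz C φ y (ρ + 1) p s) ∈ Γ := fun hp hs =>
    subset_closure ⟨_, _, hp, hs, rfl⟩
  have hΓ : ∀ g ∈ Γ, g.2 ∈ L (ρ + 1) ∧ t * g.2 * t⁻¹ ∈ L ρ ∧ φ g.1 = g.2 * (t * g.2 * t⁻¹) := fun g hg => by
    induction hg using closure_induction with
    | mem g hg =>
      obtain ⟨p, s, hp, hs, rfl⟩ := hg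
      rw [Prod.zz_t h hp hr hs, add_assoc, M.add_self, add_zero]
      exact ⟨mL _ hp hs, mL _ hp hs, (Prod.zz_mul h hp h2 hs).symm⟩
    | one => simp [one_mem]
    | mul a b _ _ ha hb =>
      rw [Prod.snd_mul, Prod.fst_mul, map_mul, ← conj_mul, ha.2.2, hb.2.2]
      exact ⟨mul_mem ha.1 hb.1, mul_mem ha.2.1 hb.2.1, ((cm _ hb.1 _ ha.2.1).mul_mul_mul_comm _ _).symm⟩
    | inv a _ ha =>
      rw [Prod.snd_inv, Prod.fst_inv, map_inv, ← conj_inv, ha.2.2, (cm _ ha.1 _ ha.2.1).eq, mul_inv_rev _ a.2]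
      exact ⟨inv_mem ha.1, inv_mem ha.2.1, rfl⟩
  let π : Γ →* S := (MonoidHom.fst S G).comp Γ.subtype
  have k2 : ∀ g : Γ, π g = 1 → g.1.2 ∈ L ρ := fun g hg => by
    obtain ⟨-, a2, a3⟩ := hΓ _ g.2
    rw [show g.1.1 = 1 from hg, map_one] at a3
    rw [eq_inv_of_mul_eq_one_left a3.symm]
    exact inv_mem a2
  have hk : π.ker ≤ center Γ := fun g hg => mem_center_iff.2 fun a => Subtype.ext (Prod.ext
    (by rw [coe_mul, coe_mul, Prod.fst_mul, Prod.fst_mul, show g.1.1 = 1 from hg, mul_one, one_mul])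
    (cm _ (hΓ _ a.2).1 _ (k2 g hg)))
  obtain ⟨ι, hι⟩ := M.split π (MonoidHom.range_eq_top.1 (M.gen _ fun p s hp hs => ⟨⟨_, mΓ hp hs⟩, rfl⟩)) hk
  let φ₁ : S →* G := ((MonoidHom.snd S G).comp Γ.subtype).comp ι
  have H : ∀ s, φ₁ s ∈ L (ρ + 1) ∧ t * φ₁ s * t⁻¹ ∈ L ρ ∧ φ s = φ₁ s * (t * φ₁ s * t⁻¹) := fun s => by
    have := hΓ _ (ι s).2
    rwa [show (ι s).1.1 = s from hι s] at this
  have k1 : φ₁.ker ≤ center S := fun s hs => h.ker (by
    rw [MonoidHom.mem_ker, (H s).2.2, show φ₁ s = 1 from hs]; group)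
  have G0L : G0 C φ y ≤ L (ρ + 1) ⊔ L ρ := Prod.G0_le h (by
    rintro _ ⟨s, rfl⟩
    rw [(H s).2.2]
    exact mul_mem_sup (H s).1 (H s).2.1) fun p s hp hs => mem_sup_right (mL ρ hp hs)
  refine ⟨φ₁, (MulAut.conj t).toMonoidHom.comp φ₁, h, k1, fun s hs => k1 (conj_eq_one_iff.1 hs),
    fun s s' => cm _ (H s).1 _ (H s').2.1, fun s => (H s).2.2, fun s => rfl, le_antisymm (sup_le ?_ ?_)
    (Prod.G0_le (r := ρ + 1) h ?_ fun p s hp hs => mem_sup_left ⟨C.T p 0 s, ?_⟩)⟩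
  · rintro _ ⟨s, rfl⟩
    exact LG _ hr (H s).1
  · rintro _ ⟨s, rfl⟩
    exact LG _ h2 (H s).2.1
  · rintro _ ⟨s, rfl⟩
    rw [(H s).2.2]
    exact mul_mem_sup ⟨s, rfl⟩ ⟨s, rfl⟩
  · obtain ⟨g, hg⟩ : ∃ g : Γ, g = ⟨_, mΓ hp hs⟩ := ⟨_, rfl⟩
    have T2 : C.T p 0 s * C.T p 0 s = 1 := by
      rw [C.T_mul (M.tok0 hp hs) (M.tok0 hp hs), add_zero, M.add_self, map_zero, add_zero, C.T_zero (M.sing.2 hp)]
    have g2 : g * g = 1 := hg ▸ Subtype.ext (Prod.ext T2 (h.toHats.Zh_sq hp (Prod.zz_mem h hr hs)))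
    have e1 : π (g⁻¹ * ι (C.T p 0 s)) = 1 := by rw [map_mul, map_inv, hι, hg]; exact inv_mul_cancel _
    obtain ⟨ζ, hζ⟩ : ∃ ζ, ζ = g⁻¹ * ι (C.T p 0 s) := ⟨_, rfl⟩
    rw [← hζ] at e1
    rw [eq_inv_mul_iff_mul_eq] at hζ
    have z2 : ζ * ζ = 1 := by
      have := congrArg ι T2
      rwa [map_mul, map_one, ← hζ, Commute.mul_mul_mul_comm (mem_center_iff.1 (hk e1) g).symm, g2, one_mul] at this
    have z1 : ζ.1.2 = 1 := one_of_odd h.toHL.cent_odd (k := 1) (fun a ha => (mem_cent1.1 (G0L.trans (sup_le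
      (fun a ha => mem_cent1.2 (cm a ha _ (k2 ζ e1)).symm) fun a ha => mem_cent1.2 (cm _ (hΓ _ ζ.2).1 a ha)) ha)).symm)
      (by rw [pow_one, pow_two]; exact congrArg (fun g : Γ => g.1.2) z2)
    have := congrArg (fun g : Γ => g.1.2) hζ
    simp only [coe_mul, Prod.snd_mul, z1, mul_one, hg] at this
    exact this.symm

theorem HQ.exists_root {y : V → K → G} {c : K} (h : HQ C φ t y c) : ∃ ρ, ρ * ρ + ρ = c := by
  have M := h.toMod
  let f : K →+ K := AddMonoidHom.mk' (fun u => u * u + u) fun u v => by linear_combination (u * v) * M.two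
  have hk : f.range.index = 2 := by
    rw [AddSubgroup.index_range, Nat.card_eq_two_iff]
    refine ⟨⟨0, by simp⟩, ⟨1, by simpa [f] using M.add_self 1⟩, by simp, Set.eq_univ_of_forall fun u => ?_⟩
    have k : (u : K) * u + u = 0 := u.2
    have : (u : K) * (u + 1) = 0 := by linear_combination k
    rcases mul_eq_zero.1 this with e | e
    · exact .inl (Subtype.ext e)
    · exact .inr (Subtype.ext (by linear_combination e - M.two : (u : K) = 1))
  have hs : ∀ u, u ∈ f.range → σ u ∈ f.range := by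
    rintro _ ⟨v, rfl⟩
    exact ⟨σ v, by simp [f]⟩
  obtain ⟨d, hd⟩ := M.exists_tr h.cF
  exact hd ▸ (AddSubgroup.add_mem_iff_of_index_two hk).2 ⟨hs d, fun k => P.σσ d ▸ hs _ k⟩

end CfsgLib.U5
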