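import Cfsg.Agent.Lib.U5.TauC
import Cfsg.Agent.Lib.U5.FldA
import Cfsg.Agent.Lib.ClSys.SLPres

/-! Field case: the Steinberg relations -/

set_option autoImplicit false
set_option linter.unusedSectionVars false

namespace CfsgLib.U5

open Subgroup Module CfsgLib.Forms CfsgLib.LieMult
open CfsgLib.HX (Std CO Two Mv Tr Heis NF Fus4 Has4 M2)
open Submodule (span)
open scoped commutatorElement Pointwise

universe u

variable {K : Type} [Field K] [Finite K] {σ : K →+* K} {V : Type} [AddCommGroup V] [Module K V]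
  [FiniteDimensional K V] {P : PQ σ V} {S : Type} [Group S] [Finite S] {G : Type u} [Group G]
  [Finite G] {C : CG P S} {φ : S →* G} {t : G}

/-- the relations which follow directly from the naturality -/
structure StPre {m : ℕ} (σ : K →+* K) (t : G) (X : Fin m → Fin m → K → G) : Prop where
  d4 : 4 ≤ m
  t2 : t * t = 1
  σσ : ∀ c, σ (σ c) = c
  two : ∀ c : K, c + c = 0
  add : ∀ {i j}, i ≠ j → ∀ a b, X i j a * X i j b = X i j (a + b)
  tc : ∀ {i j}, i ≠ j → ∀ a, t * X i j a * t = X j.rev i.rev (σ a)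
  com : ∀ {i j k l}, i ≠ j → k ≠ l → k ≠ k.rev → i ≠ k.rev → j ≠ k → l ≠ i → ∀ a b,
    X i j a * X k l b * X i j a = X k l b
  ch : ∀ {i j k}, i ≠ j → k ≠ i → k ≠ k.rev → i ≠ k.rev → j ≠ k → ∀ a b,
    X i j a * X k i b * X i j a = X k i b * X k j (b * a)

namespace StPre

theorem cmul {g : G} (g2 : g * g = 1) (a b : G) : g * (a * b) * g = g * a * g * (g * b * g) := by
  calc _ = g * a * (g * g) * b * g := by rw [g2]; group
    _ = _ := by group

theorem cfix {g a : G} (g2 : g * g = 1) (k : Commute g a) : g * a * g = a := by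
  rw [k.eq, mul_assoc, g2, mul_one]

/-- the chain relation -/
def Ch {m : ℕ} (X : Fin m → Fin m → K → G) (i j l : Fin m) : Prop :=
  ∀ a b, X i j a * X j l b * X i j a * X j l b = X i l (a * b)

variable {m : ℕ} {X : Fin m → Fin m → K → G} (h : StPre σ t X) {i j k l o : Fin m}
include h

theorem sq (e : i ≠ j) (a : K) : X i j a * X i j a = 1 := by
  have := h.add e 0 0
  rw [add_zero] at this
  rw [h.add e, h.two, mul_eq_left.1 this]

theorem inv (e : i ≠ j) (a : K) : (X i j a)⁻¹ = X i j a := inv_eq_of_mul_eq_one_right (h.sq e a)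

theorem tc' (e : i ≠ j) (a : K) : X i j a = t * X j.rev i.rev (σ a) * t⁻¹ := by
  rw [inv_eq_of_mul_eq_one_right h.t2, h.tc (Fin.rev_injective.ne e.symm), Fin.rev_rev, Fin.rev_rev, h.σσ]

theorem c1 (e : i ≠ j) (e' : k ≠ l) (e1 : i ≠ k.rev) (e2 : j ≠ k) (e3 : l ≠ i) (a b : K) :
    Commute (X i j a) (X k l b) := by
  have c0 : ∀ {i j k l : Fin m}, i ≠ j → k ≠ l → k ≠ k.rev → i ≠ k.rev → j ≠ k → l ≠ i → ∀ a b,
      Commute (X i j a) (X k l b) := fun e e' e0 e1 e2 e3 a b => by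
    have := h.com e e' e0 e1 e2 e3 a b
    rwa [← h.inv e a, mul_inv_eq_iff_eq_mul, h.inv e a] at this
  have := Fin.val_rev i
  have := Fin.val_rev k
  by_cases e0 : k = k.rev
  · exact (c0 e' e (by omega) (by omega) e3 e2 b a).symm
  · exact c0 e e' e0 e1 e2 e3 a b

theorem c2 (e : i ≠ j) (e' : k ≠ l) (e1 : j ≠ l.rev) (e2 : j ≠ k) (e3 : l ≠ i) (a b : K) :
    Commute (X i j a) (X k l b) := by
  rw [h.tc' e, h.tc' e']
  exact (h.c1 (Fin.rev_injective.ne e.symm) (Fin.rev_injective.ne e'.symm) (Fin.rev_injective.ne e1)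
    (Fin.rev_injective.ne e3.symm) (Fin.rev_injective.ne e2.symm) _ _).conj t

theorem chA (e : i ≠ j) (c : Ch X i j l) (a b : K) :
    X j l b * X i j a * X j l b = X i j a * X i l (a * b) := by
  rw [← c a b, ← mul_assoc, ← mul_assoc, ← mul_assoc, h.sq e, one_mul]

theorem chB (e : i ≠ j) (e' : j ≠ l) (e1 : i ≠ l) (c : Ch X i j l) (a b : K) :
    X i j a * X j l b * X i j a = X j l b * X i l (a * b) := by
  rw [← h.inv e1, ← c a b]
  simp only [mul_inv_rev, h.inv e, h.inv e', ← mul_assoc, h.sq e', one_mul]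

theorem ch1 (e : i ≠ j) (e' : j ≠ l) (e1 : i ≠ l) (e2 : i ≠ i.rev) (e3 : j ≠ i.rev) : Ch X i j l :=
  fun a b => by
    rw [mul_assoc, mul_assoc, ← mul_assoc (X j l b), h.ch e' e e2 e3 e1.symm, ← mul_assoc, h.sq e, one_mul]

theorem chT (e : i ≠ j) (e' : j ≠ l) (e1 : i ≠ l) (c : Ch X l.rev j.rev i.rev) : Ch X i j l := fun a b => by
  have r := fun {i j : Fin m} (e : i ≠ j) => Fin.rev_injective.ne e
  rw [h.tc' e, h.tc' e', h.tc' e1, conj_mul, conj_mul, conj_mul, mul_assoc (X _ _ _), mul_assoc (X _ _ _),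
    h.chB (r e'.symm) (r e.symm) (r e1.symm) c, ← mul_assoc (X _ _ _),
    h.sq (r e.symm), one_mul, map_mul, mul_comm (σ a)]

theorem ch2 (e : i ≠ j) (e' : j ≠ l) (e1 : i ≠ l) (e2 : l ≠ l.rev) (e3 : j ≠ l.rev) : Ch X i j l :=
  have r := fun {i j : Fin m} (e : i ≠ j) => Fin.rev_injective.ne e
  h.chT e e' e1 (h.ch1 (r e'.symm) (r e.symm) (r e1.symm) (r e2) (r e3))

omit h in
theorem exists_k (d4 : 4 ≤ m) (i : Fin m) (ho : o = o.rev) : ∃ k, k ≠ i ∧ k ≠ i.rev ∧ k ≠ o := by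
  have := Fin.val_rev i
  have := Fin.val_rev o
  by_cases e : (i : ℕ) = 0 ∨ (i : ℕ) + 1 = m
  · exact ⟨⟨1, by omega⟩, Fin.ne_of_val_ne (by simp; omega), Fin.ne_of_val_ne (by simp; omega),
      Fin.ne_of_val_ne (by simp; omega)⟩
  · exact ⟨⟨0, by omega⟩, Fin.ne_of_val_ne (by simp; omega), Fin.ne_of_val_ne (by simp; omega),
      Fin.ne_of_val_ne (by simp; omega)⟩

theorem ch3 (e : i ≠ o) (ho : o = o.rev) : Ch X i i.rev o := fun α u => by
  obtain ⟨k, k1, k2, k3⟩ := exists_k h.d4 i ho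
  have := Fin.val_rev i
  have := Fin.val_rev o
  have := Fin.val_rev k
  have := Fin.val_rev i.rev
  have y2 := h.sq (show i.rev ≠ o by omega) u
  have a2 := h.sq k1.symm α
  have e1 := h.ch2 k1.symm k2 (by omega) (by omega) (by omega) α 1
  have e2 := cfix y2 (h.c2 (i := i.rev) (j := o) (by omega) k1.symm (by omega) e.symm k2 u α)
  have e3 := h.chA k2 (h.ch1 (l := o) k2 (by omega) k3 (by omega) (by omega)) 1 u
  have e4 := h.chB k1.symm k3 e (h.ch1 k1.symm k3 e (by omega) k2) α u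
  have e5 := h.c1 e k2 (by omega) k3.symm (by omega) (α * u) 1
  have e6 := h.c1 k3 k2 (by omega) k3.symm k2.symm u 1
  have e7 := cfix (h.sq k3 u) (h.c1 k3 e k2 e.symm k3.symm u (α * u))
  rw [mul_one] at e1
  rw [one_mul] at e3
  have e8 : X i.rev o u * X i i.rev α * X i.rev o u = X i i.rev α * X i o (α * u) := by
    rw [← e1, cmul y2, cmul y2, cmul y2, e2, e3]
    generalize X i k α = a, X k i.rev 1 = c, X k o u = d, X i o (α * u) = e at *
    calc _ = a * c * (a * a) * d * a * c * d := by rw [a2]; group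
      _ = a * c * a * (a * d * a * c) * d := by group
      _ = a * c * a * c * (d * e * d) := by rw [e4, (e6.mul_left e5).eq]; group
      _ = _ := by rw [e7]
  rw [mul_assoc, mul_assoc, ← mul_assoc (X i.rev o u), e8, ← mul_assoc, h.sq (by omega), one_mul]

theorem c3 (e : i ≠ o) (ho : o = o.rev) (u α : K) : Commute (X i o u) (X i.rev o α) := by
  obtain ⟨k, k1, k2, k3⟩ := exists_k h.d4 i ho
  have := Fin.val_rev i
  have := Fin.val_rev o
  have := Fin.val_rev k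
  have := Fin.val_rev i.rev
  have e1 := h.ch1 (l := o) k2.symm k3 (by omega) (by omega) (by omega) α 1
  have e2 := h.c2 e k2.symm (by omega) (by omega) k1 u α
  have e3 := h.c1 e k3 (by omega) k3.symm e.symm u 1
  rw [mul_one] at e1
  exact e1 ▸ ((e2.mul_right e3).mul_right e2).mul_right e3

theorem c5 (e : i ≠ j) (e1 : i ≠ i.rev) (e2 : j ≠ j.rev) (e3 : i ≠ j.rev) (a u : K) :
    Commute (X i j a) (X i.rev j.rev u) := by
  have := Fin.val_rev i
  have := Fin.val_rev j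
  have := Fin.val_rev i.rev
  have := Fin.val_rev j.rev
  have n1 : i.rev ≠ j := by omega
  have n2 : i.rev ≠ j.rev := by omega
  have p2 := h.sq n1 1
  have q2 := h.sq n1.symm 1
  have a1 := h.chA e1 (h.ch2 e1 n1 e e2 n2) a 1
  have a2 := cfix q2 (h.c2 n1.symm e1 (by omega) e1.symm n1 1 a)
  have a3 := h.chA e (h.ch1 e n1.symm e1 e1 n1.symm) a 1
  have a4 := cfix (h.sq e1 a) (h.c1 e1 e e1 e1.symm e.symm a a)
  have a5 := cfix p2 (h.c2 n1 e e2 e.symm n1.symm 1 a)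
  have b1 := h.chB n1 e2 n2 (h.ch1 n1 e2 n2 (by omega) (by omega)) 1 u
  have b2 := cfix q2 (h.c1 n1.symm e2 e2 n1 e2.symm 1 u)
  have b3 := h.chB n1.symm n2 e2 (h.ch1 n1.symm n2 e2 e2 n2) 1 u
  have b4 := cfix (h.sq e2 u) (h.c2 e2 n2 (by omega) n2.symm e2.symm u u)
  have b5 := cfix p2 (h.c1 n1 n2 (by omega) n1.symm n2.symm 1 u)
  rw [mul_one] at a1 a3
  rw [one_mul] at b1 b3
  have := (((h.c1 e1 e2 e3 n1 e3.symm a u).conj (X i.rev j 1)).conj (X j i.rev 1)).conj (X i.rev j 1)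
  rwa [h.inv n1, h.inv n1.symm, a1, b1, cmul q2, cmul q2, a2, a3, b2, b3, ← mul_assoc (X i i.rev a), a4,
    ← mul_assoc (X j j.rev u), b4, a5, b5] at this

theorem relA : ClSys.RelA fun (a : ClSys.OffD m) => X a.1.1 a.1.2 := by
  refine ⟨fun a => h.add a.2, ?_, ?_⟩
  · rintro ⟨⟨i, j⟩, e⟩ ⟨⟨k, l⟩, e'⟩ a b e1 e2
    refine Commute.commutator_eq ?_
    dsimp only at e e' e1 e2 ⊢
    by_cases k1 : i = k.rev
    swap; · exact h.c1 e e' k1 e2 e1.symm a b
    by_cases k2 : j = l.rev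
    swap; · exact h.c2 e e' k2 e2 e1.symm a b
    obtain rfl : k = i.rev := by rw [k1, Fin.rev_rev]
    obtain rfl : l = j.rev := by rw [k2, Fin.rev_rev]
    by_cases k3 : j = j.rev
    · exact k3 ▸ h.c3 e k3 a b
    by_cases k4 : i = i.rev
    · rw [h.tc' e, h.tc' e', Fin.rev_rev i, ← k4]
      exact (h.c3 e1.symm k4 _ _).conj t
    · exact h.c5 e k4 k3 e1 a b
  · rintro ⟨⟨i, j⟩, e⟩ ⟨⟨k, l⟩, e'⟩ e1 a b rfl
    dsimp only at e e' e1 ⊢
    rw [h.inv e, h.inv e']
    have := Fin.val_rev i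
    have := Fin.val_rev l
    by_cases k1 : i ≠ i.rev ∧ j ≠ i.rev
    · exact h.ch1 e e' e1 k1.1 k1.2 a b
    by_cases k2 : l ≠ l.rev ∧ j ≠ l.rev
    · exact h.ch2 e e' e1 k2.1 k2.2 a b
    by_cases k3 : l = l.rev
    · obtain rfl : j = i.rev := by omega
      exact h.ch3 e1 k3 a b
    obtain rfl : j = l.rev := by omega
    exact h.chT e e' e1 (h.ch3 (Fin.rev_injective.ne e1.symm) (congrArg _ (by omega))) a b

end StPre

theorem exists_basis_SL {m : ℕ} (b : Basis (Fin m) K V) : ∃ e : Matrix.SpecialLinearGroup (Fin m) K ≃* SLV K V,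
    ∀ i j (k : i ≠ j) a v, (e (Matrix.SpecialLinearGroup.transvection k a)).1 v = v + (a * b.repr v j) • b i := by
  refine ⟨(Matrix.SpecialLinearGroup.toLin_equiv b).trans
    ⟨⟨fun g => ⟨g.1, g.2⟩, fun g => ⟨g.1, g.2⟩, fun _ => rfl, fun _ => rfl⟩, fun _ _ => rfl⟩,
    fun i j k a v => ?_⟩
  change Matrix.toLin b b (1 + Matrix.single i j a) v = _
  rw [map_add, Matrix.toLin_one, LinearMap.add_apply, LinearMap.id_apply, Matrix.toLin_apply,
    Finset.sum_eq_single i (fun l _ e => by simp [Matrix.mulVec, dotProduct, Matrix.single, e.symm]) (by simp)]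
  simp [Matrix.mulVec, dotProduct, Matrix.single]

namespace Tau

variable {y : V → K → G} {c : K} {τ : V → V → G} (h : Tau C φ t y c τ) {m : ℕ} {b : Basis (Fin m) K V}
include h

theorem tzero {p : V} (hp : P.B p p = 0) : τ p 0 = 1 := by
  have := h.tadd p 0 0 hp (map_zero _) (map_zero _)
  rw [add_zero] at this
  exact mul_eq_left.1 this.symm

theorem stPre (hb : Bas P b) (hm : 4 ≤ m) : ∃ X, StPre σ t X ∧
    ∀ i j, i ≠ i.rev → ∀ a, X i j a = τ (b i) (σ a • b j.rev) := by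
  have hM := h.toMod
  have t2 := h.t2
  have b0 : ∀ {i j : Fin m}, j ≠ i.rev → P.B (b i) (b j) = 0 := fun e => by rw [hb, if_neg e]
  have b1 : ∀ {i j : Fin m} (a : K), i ≠ j → P.B (b i) (a • b j.rev) = 0 := fun a e => by
    rw [map_smul, b0 (Fin.rev_injective.ne e.symm), smul_zero]
  let X : Fin m → Fin m → K → G := fun i j a =>
    if i = i.rev then t * τ (b j.rev) (a • b i) * t else τ (b i) (σ a • b j.rev)
  have x1 : ∀ i j, i ≠ i.rev → ∀ a, X i j a = τ (b i) (σ a • b j.rev) := fun i j e a => if_neg e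
  have x0 : ∀ i j, i = i.rev → ∀ a, X i j a = t * τ (b j.rev) (a • b i) * t := fun i j e a => if_pos e
  have n0 : ∀ {i j : Fin m}, i ≠ j → i = i.rev → j.rev ≠ j.rev.rev := fun {i j} e e' => by
    have := Fin.val_rev i
    have := Fin.val_rev j
    have := Fin.val_rev j.rev
    omega
  have b2 : ∀ {i j : Fin m} (a : K), i ≠ j → P.B (b j.rev) (a • b i) = 0 := fun {i j} a e => by
    rw [map_smul, b0 (by rwa [Fin.rev_rev]), smul_zero]
  have nat : ∀ {i j k l : Fin m}, i ≠ j → k ≠ l → k ≠ k.rev → i ≠ k.rev → j ≠ k → ∀ a u,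
      X i j a * X k l u * X i j a = τ (b k) (σ u • b l.rev + (if l = i then σ (u * a) else 0) • b j.rev) := by
    intro i j k l e e' e0 e1 e2 a u
    rw [x1 k l e0]
    by_cases ei : i = i.rev
    · rw [x0 i j ei, h.nat' _ _ _ _ (b0 (n0 e ei)) (b0 e0) (b0 (by rw [Fin.rev_rev]; exact e2.symm)) (b2 a e)
        (by rw [map_smul, b0 e1, smul_zero]) (b1 _ e'), P.B_smul_left, map_smul, hb]
      simp only [Fin.rev_inj, map_mul, smul_eq_mul, mul_ite, mul_one, mul_zero, mul_comm (σ a), ite_mul, zero_mul]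
    · rw [x1 i j ei, h.nat _ _ _ _ (b0 ei) (b0 e0) (b0 fun k => e1 (by rw [k, Fin.rev_rev])) (b1 _ e)
        (b1 _ e2.symm) (b1 _ e'), map_smul, hb, smul_smul]
      simp only [Fin.rev_inj, map_mul, smul_eq_mul, mul_ite, mul_one, mul_zero, ite_mul, zero_mul]
  refine ⟨X, ⟨hm, t2, hM.σσ, hM.add_self, fun {i j} e a a' => ?_, fun {i j} e a => ?_,
    fun {i j k l} e e' e0 e1 e2 e3 a u => ?_, fun {i j k} e e' e0 e1 e2 a u => ?_⟩, x1⟩
  · by_cases ei : i = i.rev
    · rw [x0 i j ei, x0 i j ei, x0 i j ei, add_smul, h.tadd _ _ _ (b0 (n0 e ei)) (b2 _ e) (b2 _ e),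
        StPre.cmul t2]
    · rw [x1 i j ei, x1 i j ei, x1 i j ei, map_add, add_smul, h.tadd _ _ _ (b0 ei) (b1 _ e) (b1 _ e)]
  · by_cases ei : i = i.rev
    · rw [x0 i j ei, x1 _ _ (n0 e ei), hM.σσ, Fin.rev_rev, StPre.cmul t2, StPre.cmul t2, t2]
      simp [← mul_assoc, t2, mul_assoc _ t t]
    rw [x1 i j ei]
    by_cases ej : j.rev = j.rev.rev
    · rw [x0 _ _ ej, Fin.rev_rev i]
    · rw [x1 _ _ ej, Fin.rev_rev i, h.tt _ _ (b0 ei) (by
        rw [P.B_smul_left, map_smul, b0 ej, smul_zero, mul_zero]) (b1 _ e),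
        h.tsmul _ _ _ (b0 ej) (b0 (by rwa [Fin.rev_rev]))]
  · rw [nat e e' e0 e1 e2, if_neg e3, zero_smul, add_zero, x1 k l e0]
  · rw [nat e e' e0 e1 e2, if_pos rfl, h.tadd _ _ _ (b0 e0) (b1 _ e') (b1 _ e2.symm), x1 k i e0, x1 k j e0]

end Tau

theorem Tau.dbl {y : V → K → G} {c : K} {τ : V → V → G} (h : Tau C φ t y c τ) :
    ∃ ψ, DblF C φ t y c ψ := by
  have hM := h.toMod
  obtain ⟨b, hb⟩ := hM.exists_bas
  obtain ⟨X, hX, x1⟩ := h.stPre hb hM.d4
  obtain ⟨ψ₀, hψ⟩ := hX.relA.exists_hom (le_trans (by omega) hM.d4)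
  obtain ⟨e, he⟩ := exists_basis_SL b
  set ψ := ψ₀.comp e.symm.toMonoidHom
  have ti : t⁻¹ = t := inv_eq_of_mul_eq_one_right h.t2
  have a1 : ∀ i j (k : i ≠ j) a, ∃ g : SLV K V, g = e (Matrix.SpecialLinearGroup.transvection k a) ∧
      (∀ v, g.1 v = v + (a * P.B (b j.rev) v) • b i) ∧ ψ g = X i j a := fun i j k a =>
    ⟨_, rfl, fun v => by rw [he, hb.repr], (congrArg ψ₀ (e.symm_apply_apply _)).trans (hψ ⟨(i, j), k⟩ a)⟩
  have gen : ∀ H : Subgroup (SLV K V), (∀ i j, i ≠ j → ∀ a g,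
      (∀ v, g.1 v = v + (a * P.B (b j.rev) v) • b i) → ψ g = X i j a → g ∈ H) → ∀ g, g ∈ H := fun H k g => by
    have := (Classical.sl_eq_top_of_transvection_mem (H.comap e.toMonoidHom) fun i j ij a => by
      obtain ⟨g, rfl, k1, k2⟩ := a1 i j ij a
      exact k i j ij a _ k1 k2).ge (mem_top (e.symm g))
    simpa using this
  have nd : ∀ (g : SLV K V) {w w' : V}, (∀ v, P.B (g.1 v) w = P.B (g.1 v) w') → w = w' := fun g w w' k =>
    sub_eq_zero.1 (C.nondeg _ fun v => by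
      obtain ⟨v, rfl⟩ := g.1.surjective v
      rw [← hM.conj, map_sub, k, sub_self, map_zero])
  have tc : ∀ g g' : SLV K V, (∀ v v', P.B (g.1 v) (g'.1 v') = P.B v v') → t * ψ g * t⁻¹ = ψ g' := by
    intro g g' k
    obtain ⟨g'', k1, k2⟩ := gen
      { carrier := {g | ∃ g' : SLV K V, (∀ v v', P.B (g.1 v) (g'.1 v') = P.B v v') ∧ t * ψ g * t⁻¹ = ψ g'}
        one_mem' := ⟨1, fun _ _ => rfl, by simp⟩
        mul_mem' := by
          rintro a a' ⟨d, k1, k2⟩ ⟨d', k1', k2'⟩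
          exact ⟨d * d', fun v v' => (k1 _ _).trans (k1' v v'), by rw [map_mul, map_mul, ← k2, ← k2', conj_mul]⟩
        inv_mem' := by
          rintro a ⟨d, k1, k2⟩
          exact ⟨d⁻¹, fun v v' => (k1 _ _).symm.trans (by simp), by rw [map_inv, map_inv, ← k2, conj_inv]⟩ }
      (fun i j ij a g k1 k2 => by
        obtain ⟨g', -, k3, k4⟩ := a1 j.rev i.rev (Fin.rev_injective.ne ij.symm) (σ a)
        refine ⟨g', fun v v' => ?_, by rw [k2, k4, ti, hX.tc ij]⟩
        rw [k1, k3, Fin.rev_rev]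
        simp only [map_add, map_smul, LinearMap.add_apply, P.B_smul_left, smul_eq_mul, map_mul, hM.conj, hb i,
          Fin.rev_inj, if_neg ij.symm]
        linear_combination hM.add_self (σ a * P.B (b i) v' * P.B v (b j.rev))) g
    rwa [show g' = g'' from Subtype.ext (LinearEquiv.ext fun v' => nd g fun v => (k v v').trans (k1 v v').symm)]
  have key : ∀ i, i ≠ i.rev → ∀ r, P.B (b i) r = 0 →
      ∃ g : SLV K V, (∀ v, g.1 v = v + P.B r v • b i) ∧ ψ g = τ (b i) r := fun i ei r hr => by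
    have bi : P.B (b i) (b i) = 0 := by rw [hb, if_neg ei]
    have z0 : P.B (b i) 0 = 0 ∧ ∃ g : SLV K V, (∀ v, g.1 v = v + P.B 0 v • b i) ∧ ψ g = τ (b i) 0 :=
      ⟨map_zero _, 1, fun v => by simp, by rw [map_one, h.tzero bi]⟩
    rw [← b.sum_repr r]
    refine (Finset.sum_induction _ (fun r => P.B (b i) r = 0 ∧
      ∃ g : SLV K V, (∀ v, g.1 v = v + P.B r v • b i) ∧ ψ g = τ (b i) r) ?_ z0 fun j _ => ?_).2
    · rintro r r' ⟨k1, g, k2, k3⟩ ⟨k1', g', k2', k3'⟩
      refine ⟨by rw [map_add, k1, k1', add_zero], g * g', fun v => ?_,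
        by rw [map_mul, k3, k3', h.tadd _ _ _ bi k1 k1']⟩
      change g.1 (g'.1 v) = _
      rw [k2, k2', map_add, map_smul, ← hM.conj (b i) r, k1, map_zero, smul_zero, add_zero, P.B_add_left,
        add_smul, add_right_comm, add_assoc]
    by_cases ij : i = j.rev
    · rw [hb.repr, ← ij, hr, zero_smul]; exact z0
    obtain ⟨g, -, k1, k2⟩ := a1 i j.rev ij (σ (b.repr r j))
    rw [Fin.rev_rev] at k1
    rw [x1 _ _ ei, hM.σσ, Fin.rev_rev] at k2
    exact ⟨by rw [map_smul, hb, if_neg fun k => ij (by rw [k, Fin.rev_rev]), smul_zero], g,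
      fun v => by rw [k1, P.B_smul_left], k2⟩
  have ext : ∀ (s : S) (g : SLV K V), (g : V ≃ₗ[K] V) = C.act s → ψ g = φ s := by
    intro s g k
    obtain ⟨g', k1, k2⟩ := (hM.gen_Q hb (H :=
      { carrier := {s | ∃ g : SLV K V, (g : V ≃ₗ[K] V) = C.act s ∧ ψ g = φ s}
        one_mem' := ⟨1, (map_one _).symm, by simp⟩
        mul_mem' := by
          rintro a a' ⟨d, k1, k2⟩ ⟨d', k1', k2'⟩
          exact ⟨d * d', by rw [map_mul, ← k1, ← k1']; rfl, by rw [map_mul, map_mul, k2, k2']⟩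
        inv_mem' := by
          rintro a ⟨d, k1, k2⟩
          exact ⟨d⁻¹, by rw [map_inv, ← k1]; rfl, by rw [map_inv, map_inv, k2]⟩ }) fun i ei a d k => by
      obtain ⟨pp, pa, aa⟩ := hM.tok.1 k
      have ap := k.perp'
      obtain ⟨g1, k1, l1⟩ := key i ei a pa
      obtain ⟨g2, k2⟩ := hM.exists_dual g1
      obtain ⟨g3, k3, l3⟩ := key i ei (σ d • b i) (by rw [map_smul, pp, smul_zero])
      have k4 : ∀ v, g2.1 v = v + P.B (b i) v • a := fun v => nd g1 fun w => by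
        rw [k2, k1]
        simp only [map_add, map_smul, LinearMap.add_apply, P.B_smul_left, smul_eq_mul, hM.conj, pa]
        linear_combination -hM.add_self (P.B (b i) v * P.B w a)
      refine ⟨g1 * g2 * g3, LinearEquiv.ext fun v => ?_, ?_⟩
      · change g1.1 (g2.1 (g3.1 v)) = _
        rw [hM.T_app k, k1, k4, k3]
        simp only [map_add, map_smul, P.B_smul_left, smul_eq_mul, hM.σσ, pp, ap, ← aa, mul_zero, add_zero]
        rw [show σ d * P.B (b i) v = d * P.B (b i) v + P.B (b i) v * (d + σ d) by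
          linear_combination -hM.add_self (d * P.B (b i) v)]
        module
      · rw [map_mul, map_mul, ← tc g1 g2 k2, l1, l3, ti]
        exact (h.ext _ _ _ k).symm).ge (mem_top s)
    rwa [show g = g' from Subtype.ext (k.trans k1.symm)]
  have rng : φ.range ≤ ψ.range := by
    rintro _ ⟨s, rfl⟩
    obtain ⟨g, k⟩ := hM.exists_incl s
    exact ⟨g, ext s g k⟩
  refine ⟨ψ, h.toHQ, (hM.SLV_simp _ inferInstance).resolve_right fun k => h.toEmb.not_cent ?_, ext, tc,
    le_antisymm ?_ (sup_le rng ((closure_le _).2 ?_))⟩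
  · intro g hg
    obtain ⟨g, rfl⟩ := rng hg
    rw [show ψ g = 1 from k.ge (mem_top g)]
    exact one_mem _
  · rintro _ ⟨g, rfl⟩
    refine gen ((G0 C φ y).comap ψ) (fun i j ij a g _ k => ?_) g
    have b0 : ∀ {i j : Fin (finrank K V)}, i ≠ j → i ≠ i.rev → ∀ a : K,
        P.B (b i) (b i) = 0 ∧ P.B (b i) (a • b j.rev) = 0 := fun e e' a =>
      ⟨by rw [hb, if_neg e'], by rw [map_smul, hb, if_neg (Fin.rev_injective.ne e.symm), smul_zero]⟩
    rw [mem_comap, k]
    by_cases ei : i = i.rev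
    · have ej : j.rev ≠ j.rev.rev := by
        have := Fin.val_rev i
        have := Fin.val_rev j
        have := Fin.val_rev j.rev
        omega
      obtain ⟨pp, pa⟩ := b0 (Fin.rev_injective.ne ij.symm) ej (σ (σ a))
      obtain ⟨d, hd⟩ := hM.exists_tok pp pa
      rw [hX.tc' ij, x1 _ _ ej, ti, ← mul_mem_cancel_left (h.mem _ _ pp pa), ← mul_mem_cancel_right
        (h.mem _ (σ d • b j.rev) pp (by rw [map_smul, pp, smul_zero])), ← h.ext _ _ _ hd]
      exact mem_sup_left ⟨_, rfl⟩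
    · rw [x1 _ _ ei]
      exact h.mem _ _ (b0 ij ei 0).1 (b0 ij ei _).2
  · rintro _ ⟨p, s, pp, hs, rfl⟩
    by_cases p0 : p = 0
    · have := h.add p 0 0 pp (map_zero σ) (map_zero σ)
      rw [add_zero] at this
      rw [← zero_smul K p |>.trans p0.symm, h.smul p s 0 pp hs, mul_zero, zero_mul, mul_eq_left.1 this.symm]
      exact one_mem _
    let i : Fin (finrank K V) := ⟨0, by have := hM.d4; omega⟩
    have ei : i ≠ i.rev := Fin.ne_of_val_ne (by have := hM.d4; simp [i]; omega)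
    have bi : P.B (b i) (b i) = 0 := by rw [hb, if_neg ei]
    obtain ⟨l, rfl⟩ := hM.trans (b.ne_zero i) bi p0 pp
    obtain ⟨a, ha⟩ := h.hy _ s bi hs
    obtain ⟨g, -, k⟩ := key i ei (a • b i) (by rw [map_smul, bi, smul_zero])
    rw [← h.eqv l _ s bi hs, ha, ← k]
    exact mul_mem (mul_mem (rng ⟨l, rfl⟩) ⟨g, rfl⟩) (inv_mem (rng ⟨l, rfl⟩))

end CfsgLib.U5
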