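import Cfsg.Agent.Lib.U5.FusB
import Cfsg.Agent.Lib.U5.Mov
import Cfsg.Agent.Lib.U5.PreA
import Cfsg.Agent.Lib.U5.PreB
import Cfsg.Agent.Lib.U5.Stein
import Cfsg.Agent.Lib.U5.Prod
import Cfsg.Agent.Lib.U5.FldC
import Cfsg.Agent.Lib.U5.PrdC

/-! The main theorem -/

set_option autoImplicit false
set_option linter.unusedSectionVars false

namespace CfsgLib.U5

open Subgroup Module CfsgLib.Forms CfsgLib.LieMult
open CfsgLib.HX (Std CO Two Mv Tr Heis NF Fus4 Has4 M2)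
open Submodule (span)
open scoped commutatorElement Pointwise

universe u

variable {K : Type} [Field K] [Finite K] {σ : K →+* K} {V : Type} [AddCommGroup V] [Module K V]
  [FiniteDimensional K V] {P : PQ σ V} {S : Type} [Group S] [Finite S] {G : Type u} [Group G]
  [Finite G] {C : CG P S} {φ : S →* G} {t : G}

theorem Sit.main (h : Sit C φ t) {Gs : Subgroup G} (hG : SLE.Glob Gs t) (hL : φ.range ≤ Gs) :
    Fus4 φ.range t ∧ ∃ ψ : SLV K V →* G, ψ.ker ≤ center (SLV K V) ∧ ψ.range = Gs := by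
  obtain ⟨e, -, f, -, hf⟩ := h.toMod.exists_hp_perp (U := ⊥) disjoint_bot_left
    (by have := h.d4; rw [finrank_bot]; omega)
  have h0 : e ≠ 0 := fun k => by simpa [k] using hf.ef
  have he := hf.se.self_eq
  obtain ⟨g, hg⟩ := h.fus hG hL h0 he
  obtain ⟨p, hp, s, hs, s0, pt⟩ := h.exists_p h0 he hg
  have h1 : z C φ e s ≠ 1 := fun k => ((h.toEmb.z_eq_one he hs).1 k).elim h0 s0
  have h2 := h.two_of he hp hs h1 pt
  have h3 := fun p' r hp' hr => h.exists_mv he hp hs h1 pt (e' := p') (r := r) hp' hr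
  obtain ⟨y, hy⟩ := (em (Small σ)).elim (fun k => h.preB k h2 h3) (fun k => h.preA k h2 h3) |>.hats
  obtain ⟨c, hc⟩ := hy.hl.hq
  refine ⟨hc.fus4, ?_⟩
  obtain ⟨ρ, hρ⟩ := hc.exists_root
  by_cases k : σ ρ = ρ
  · obtain ⟨_, _, d⟩ := hc.prod hρ k
    exact (d.false hG hL).elim
  · obtain ⟨τ, hτ⟩ := hc.tau hρ k
    obtain ⟨ψ, d⟩ := hτ.dbl
    exact ⟨ψ, d.kerψ, d.eq hG hL⟩

end CfsgLib.U5
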