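import Cfsg.Agent.Lib.U5.Odd
import Cfsg.Agent.Lib.HX.Lin

/-! The group of the moving elements -/

set_option autoImplicit false
set_option linter.unusedSectionVars false

namespace CfsgLib.U5

open Subgroup Module CfsgLib.Forms CfsgLib.LieMult
open CfsgLib.HX (Std CO Two Mv Tr Heis NF Fus4 Has4 M2)
open CfsgLib.HX.A2D (two_iff)
open Submodule (span)
open scoped commutatorElement Pointwise

universe u

variable {K : Type} [Field K] [Finite K] {σ : K →+* K} {V : Type} [AddCommGroup V] [Module K V]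
  [FiniteDimensional K V] {P : PQ σ V} {S : Type} [Group S] [Finite S] {G : Type u} [Group G]
  [Finite G] {C : CG P S} {φ : S →* G} {t : G}

namespace TD

variable {H R E : Subgroup G} (h : TD H R E t) {g g' a a' : G}
include h

theorem tH (ha : a ∈ H) : Commute a t := h.tC a ha

theorem EH (ha : a ∈ E) : a ∈ H := h.RH (h.ER ha)

theorem elE : StdL.El E := h.sq

theorem tr_t : Tr H R t 1 t :=
  ⟨centralizer_le h.RH h.tC, CO.self, by simp, two_iff.2 (StdInt.two_of_sq h.t2)⟩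

theorem tr_E (ha : a ∈ E) : Tr H R t 1 a :=
  ⟨h.cen ha, CO.of_mem (h.EH ha), by rw [(h.tH (h.EH ha)).eq]; simp, two_iff.2 (StdInt.two_of_sq (h.sq a ha))⟩

theorem tr_cE (hg : Tr H R t a g) (ha' : a' ∈ E) : Commute g a' := (hg.cR a' (h.ER ha')).symm

theorem tr_one (hg : Tr H R t 1 g) : g ∈ E ∨ t * g ∈ E := by
  have ct : Commute g t := StdL.comm_of_conj (hg.tr.trans (mul_one t))
  obtain ⟨e, he, c, hc, rfl⟩ := h.cR g ct hg.cR
  have := h.two' c hc (by
    have := (h.tH (h.EH he)).inv_left.mul_left ct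
    rwa [inv_mul_cancel_left] at this) (two_iff.2 (by
    have := StdW.two_mul' (h.tr_cE hg (inv_mem he)).symm (StdInt.two_of_sq (h.sq _ (inv_mem he)))
      (two_iff.1 hg.two)
    rwa [inv_mul_cancel_left] at this))
  rcases this with rfl | rfl
  · exact .inl (by rwa [mul_one])
  · exact .inr (by rwa [(h.tH (h.EH he)).eq, ← mul_assoc, h.t2, one_mul])

theorem tr_inv (ha : a ∈ E) (hg : Tr H R t a g) : Tr H R t a g⁻¹ := by
  refine ⟨inv_mem hg.cR, hg.co.inv, ?_, by rw [zpowers_inv]; exact hg.two⟩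
  calc _ = g⁻¹ * (t * a) * (a⁻¹ * g) := by group
    _ = t * (g⁻¹ * (a⁻¹ * g)) := by nth_rewrite 1 [← hg.tr]; group
    _ = _ := by rw [h.elE.inv ha, ← (h.tr_cE hg ha).eq, inv_mul_cancel_left]

theorem mem_S : a ∈ zpowers t ⊔ E ↔ a ∈ E ∨ t * a ∈ E :=
  WD.mem_sup_t h.t2 (centralizer_le_normalizer _ (centralizer_le (fun _ => h.EH) h.tC))

theorem elS : StdL.El (zpowers t ⊔ E) := StdL.El.sup
  (by rintro _ ⟨n, rfl⟩; rw [← (Commute.refl t).mul_zpow, h.t2, one_zpow]) h.elE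
  (by rintro _ ⟨n, rfl⟩ y hy; exact (h.tH (h.EH hy)).symm.zpow_left n)

theorem nmS (ha : a ∈ E) (hg : Tr H R t a g) : StdL.Nm g (zpowers t ⊔ E) := Tech.cj_le_iff.1 (by
  rw [Tech.cj_sup, Tech.cj_zpowers, hg.tr]
  exact sup_le (zpowers_le.2 (mul_mem_sup (mem_zpowers t) ha)) (Tech.cj_le_iff.2 fun x hx => by
    rw [StdL.conj_of_comm (h.tr_cE hg hx)]; exact mem_sup_right hx))

theorem tr_sqS (ha : a ∈ E) (hg : Tr H R t a g) : g * g ∈ zpowers t ⊔ E :=
  h.mem_S.2 (h.tr_one ⟨mul_mem hg.cR hg.cR, hg.co.mul hg.co, by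
    calc _ = g * (g * t * g⁻¹) * g⁻¹ := by group
      _ = _ := by rw [hg.tr, ← conj_mul, hg.tr, StdL.conj_of_comm (h.tr_cE hg ha), mul_assoc, h.sq a ha],
    hg.two.to_le (zpowers_le.2 (mul_mem (mem_zpowers g) (mem_zpowers g)))⟩)

theorem tr_mul (ha : a ∈ E) (ha' : a' ∈ E) (hg : Tr H R t a g) (hg' : Tr H R t a' g') :
    Tr H R t (a * a') (g * g') := by
  have tr : g * g' * t * (g * g')⁻¹ = t * (a * a') := by
    calc _ = g * (g' * t * g'⁻¹) * g⁻¹ := by group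
      _ = _ := by rw [hg'.tr, ← conj_mul, hg.tr, StdL.conj_of_comm (h.tr_cE hg ha'), mul_assoc]
  have cR := mul_mem hg.cR hg'.cR
  refine ⟨cR, hg.co.mul hg'.co, tr, two_iff.2 ⟨3, ?_⟩⟩
  have n := ((h.nmS ha hg).mul (h.nmS ha' hg')).inv
  have hw : g⁻¹ * (g * g') * g * (g * g') ∈ zpowers t ⊔ E := by
    convert mul_mem (h.nmS ha' hg' _ (h.tr_sqS ha hg)) (h.tr_sqS ha' hg') using 1
    group
  generalize g * g' = x at tr cR n hw
  have ct : Commute (x * x) t := StdL.comm_of_conj (by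
    calc _ = x * (x * t * x⁻¹) * x⁻¹ := by group
      _ = _ := by
        rw [tr, ← conj_mul, tr, ← cR _ (h.ER (mul_mem ha ha')), mul_inv_cancel_right, mul_assoc,
          h.sq _ (mul_mem ha ha'), mul_one])
  have cS : StdL.Cm (x * x) (zpowers t ⊔ E) := StdL.Cm.sup (by rintro _ ⟨n, rfl⟩; exact ct.zpow_right n)
    fun y hy => (mul_mem cR cR y (h.ER hy)).symm
  obtain ⟨y, hy, c, hc, e1⟩ := h.cR _ ct (mul_mem cR cR)
  obtain ⟨o, ho, ot, od, ec⟩ := h.two'.dec hc (by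
    have := (h.tH (h.EH hy)).inv_left.mul_left ct
    rwa [e1, inv_mul_cancel_left] at this)
  have e2 : x * x * (x * x) = o * o := by
    rw [e1, (show Commute y c from hc _ (h.EH hy)).symm.mul_mul_mul_comm, h.sq y hy, one_mul]
    exact ec.elim (· ▸ rfl) fun f => by rw [f, Commute.mul_mul_mul_comm ot, h.t2, one_mul]
  have e3 : g⁻¹ * (x * x * (x * x)) * g = x * x * (x * x) := by
    rw [e2, mul_assoc, ← (Commute.mul_right (hg.co o ho ot od) (hg.co o ho ot od)).eq, inv_mul_cancel_left]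
  have hw' := mul_mem hw (n _ hw)
  have e4 : g⁻¹ * (x * x) * g =
      g⁻¹ * x * g * x * (x⁻¹ * (g⁻¹ * x * g * x) * x⁻¹⁻¹) * (x * x)⁻¹ := by group
  generalize g⁻¹ * x * g * x * (x⁻¹ * (g⁻¹ * x * g * x) * x⁻¹⁻¹) = w at hw' e4
  rw [show g⁻¹ * (x * x * (x * x)) * g = g⁻¹ * (x * x) * g * (g⁻¹ * (x * x) * g) by group, e4,
    (cS w hw').inv_left.mul_mul_mul_comm, h.elS w hw', one_mul, ← mul_inv_rev] at e3
  rw [show 2 ^ 3 = 2 * 2 * 2 by norm_num, pow_mul, pow_mul, pow_two, pow_two, pow_two]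
  exact mul_eq_one_iff_inv_eq.2 e3

theorem tr_sq (ha : a ∈ E) (hg : Tr H R t a g) : g * g ∈ E := (h.mem_S.1 (h.tr_sqS ha hg)).elim id fun k => by
    have c := (h.tr_cE hg k).mul_right ((Commute.refl g).mul_right (Commute.refl g)).inv_right
    rw [mul_inv_cancel_right] at c
    obtain rfl : a = 1 := left_eq_mul.1 ((StdL.conj_of_comm c).symm.trans hg.tr)
    rw [h.elS g (h.mem_S.2 (h.tr_one hg))]
    exact one_mem _

theorem tr_comm (ha : a ∈ E) (ha' : a' ∈ E) (hg : Tr H R t a g) (hg' : Tr H R t a' g') :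
    g * g' * g⁻¹ * g'⁻¹ ∈ E := by
  have k := h.tr_sq ha hg
  rw [show g * g' * g⁻¹ * g'⁻¹ = g * g' * (g * g') * (g'⁻¹ * (g * g)⁻¹ * g'⁻¹⁻¹) * (g' * g')⁻¹ by group,
    StdL.conj_of_comm (h.tr_cE hg' (inv_mem k)).inv_left]
  exact mul_mem (mul_mem (h.tr_sq (mul_mem ha ha') (h.tr_mul ha ha' hg hg')) (inv_mem k))
    (inv_mem (h.tr_sq ha' hg'))

theorem sq_tmul (hg : Tr H R t a g) : t * g * (t * g) = a * (g * g) := by
  calc _ = t * (g * t * g⁻¹) * (g * g) := by group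
    _ = _ := by rw [hg.tr, ← mul_assoc t, h.t2, one_mul]

theorem tr_conj {l : G} (hl : l ∈ H) (hR : l ∈ normalizer (R : Set G)) (hg : Tr H R t a g) :
    Tr H R t (l * a * l⁻¹) (l * g * l⁻¹) := by
  refine ⟨StdL.cm_iff.1 ((StdL.cm_iff.2 hg.cR).conj_nm (StdL.nm_iff.2 hR)),
    ((CO.of_mem hl).mul hg.co).mul (CO.of_mem (inv_mem hl)), ?_, two_iff.2 (StdInt.two_conj l (two_iff.1 hg.two))⟩
  calc _ = l * (g * (l⁻¹ * t * l) * g⁻¹) * l⁻¹ := by group
    _ = _ := by rw [mul_assoc l⁻¹, ← (h.tH hl).eq, inv_mul_cancel_left, hg.tr, ← mul_assoc, (h.tH hl).eq]; group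

/-- the group of all such elements -/
theorem exists_sub : ∃ T : Subgroup G, IsPGroup 2 T ∧ ∀ g, g ∈ T ↔ ∃ a ∈ E, Tr H R t a g := by
  refine ⟨{ carrier := {g | ∃ a ∈ E, Tr H R t a g}
            one_mem' := ⟨1, one_mem _, h.tr_E (one_mem _)⟩
            mul_mem' := fun ⟨a, ha, hg⟩ ⟨a', ha', hg'⟩ => ⟨_, mul_mem ha ha', h.tr_mul ha ha' hg hg'⟩
            inv_mem' := fun ⟨a, ha, hg⟩ => ⟨a, ha, h.tr_inv ha hg⟩ }, fun ⟨g, a, ha, hg⟩ => ?_, fun g => Iff.rfl⟩
  obtain ⟨k, hk⟩ := two_iff.1 hg.two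
  exact ⟨k, Subtype.ext hk⟩

end TD

namespace Sit

variable (h : Sit C φ t) {e : V} (he : P.B e e = 0) {p : G} {s : K}
  (hp : p ∈ centralizer (Yg C φ (span K {e}) : Set G)) (hs : σ s = s) (h1 : z C φ e s ≠ 1)
  (pt : p * t * p⁻¹ = t * z C φ e s)
include h

omit h in
theorem mem_range (l : S) : φ l ∈ φ.range := ⟨l, rfl⟩

omit h in
theorem cY_conj' (l : S) {g : G} (k : g ∈ centralizer (Yg C φ (span K {e}) : Set G)) :
    φ l * g * (φ l)⁻¹ ∈ centralizer (Yg C φ (span K {C.act l e}) : Set G) := by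
  rintro _ ⟨y, hy, rfl⟩
  have := k (φ (l⁻¹ * y * l)) ⟨_, fun v hv => by
    obtain ⟨c, rfl⟩ := Submodule.mem_span_singleton.1 hv
    rw [map_smul, C.mul_apply, C.mul_apply, hy _ (Submodule.mem_span_singleton_self _), C.inv_apply], rfl⟩
  rw [map_mul, map_mul, map_inv] at this
  calc _ = φ l * ((φ l)⁻¹ * φ y * φ l * g) * (φ l)⁻¹ := by group
    _ = _ := by rw [this]; group

theorem cY_conj (l : S) {g : G} (k : g ∈ centralizer (Yg C φ (span K {e}) : Set G)) :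
    φ l * g * (φ l)⁻¹ ∈ centralizer (Yg C φ (span K {C.act l e}) : Set G) := cY_conj' l k

theorem t_conj (l : S) {a g : G} (k : g * t * g⁻¹ = t * a) :
    φ l * g * (φ l)⁻¹ * t * (φ l * g * (φ l)⁻¹)⁻¹ = t * (φ l * a * (φ l)⁻¹) := by
  calc _ = φ l * (g * ((φ l)⁻¹ * t * φ l) * g⁻¹) * (φ l)⁻¹ := by group
    _ = _ := by rw [mul_assoc (φ l)⁻¹, ← (h.tφ l).eq, inv_mul_cancel_left, k, ← mul_assoc, (h.tφ l).eq]; group

theorem eq_one_of_cent {a : G} (h1 : a ∈ φ.range) (h2 : a ∈ centralizer (φ.range : Set G)) (a2 : a * a = 1) :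
    a = 1 := by
  have h3 : a ^ Nat.card (φ.range ⊓ centralizer (φ.range : Set G) : Subgroup G) = 1 :=
    congrArg Subtype.val (pow_card_eq_one' (x := (⟨a, h1, h2⟩ : (φ.range ⊓ centralizer (φ.range : Set G) : Subgroup G))))
  rwa [StdInt.odd_pow_sq a2 h.center_odd] at h3

theorem z_Y (he : P.B e e = 0) {r : K} (hr : σ r = r) : z C φ e r ∈ Yg C φ (span K {e}) :=
  ⟨_, fun v hv => by
    obtain ⟨c, rfl⟩ := Submodule.mem_span_singleton.1 hv
    simp [h.T_app (h.tok0 he hr), he], rfl⟩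

theorem mv_conj (l : S) {a g : G} (k : Mv φ.range (Yg C φ (span K {e})) t a g) :
    Mv φ.range (Yg C φ (span K {C.act l e})) t (φ l * a * (φ l)⁻¹) (φ l * g * (φ l)⁻¹) :=
  ⟨h.cY_conj l k.cY, by rw [h.t_conj l k.pt],
    ((CO.of_mem (mem_range l)).mul k.co).mul (CO.of_mem (inv_mem (mem_range l)))⟩

theorem tr_of_mv {U : Submodule K V} (hU : e ∈ U) {a g : G} (k : Mv φ.range (Yg C φ (span K {e})) t a g)
    (h2 : IsPGroup 2 (zpowers g)) : Tr φ.range (Rg C φ U) t a g := by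
  have : Rad C U ≤ C.fixG (span K {e}) :=
    (rad_le_fix U).trans fun s hs v hv => hs v ((Submodule.span_singleton_le_iff_mem _ _).2 hU hv)
  exact ⟨centralizer_le (map_mono this) k.cY, k.co, k.pt, h2⟩

include he hp hs h1 pt

theorem mvC {c : G} (hc : c ∈ centralizer (φ.range : Set G)) (ct : c * t = t * c) : Commute (p * c * p⁻¹) t ∧
    ∃ r, σ r = r ∧ ∃ c' ∈ centralizer (φ.range : Set G), p * c * p⁻¹ = z C φ e r * c' := by
  have m : p * c * p⁻¹ ∈ centralizer (Yg C φ (span K {e}) : Set G) :=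
    mul_mem (mul_mem hp (centralizer_le (map_le_range _ _) hc)) (inv_mem hp)
  have k : Commute (p * c * p⁻¹) t := by
    have := ((Commute.conj_iff p).2 ct).mul_right (show Commute _ _ from m _ (h.z_Y he hs)).symm
    rwa [pt, mul_assoc t, h.z_sq he hs, mul_one] at this
  exact ⟨k, h.cQ (fun h0 => h1 ((h.z_eq_one he hs).2 (.inl h0))) he (h.cN k)
    (centralizer_le (map_mono (rad_le_fix _)) m)⟩

theorem two_of : Two φ.range t := fun c hc ct h2 => by
  obtain ⟨k, hk⟩ := two_iff.1 h2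
  clear h2
  induction k generalizing c with
  | zero => exact .inl (by simpa using hk)
  | succ k ih =>
    rcases ih (c * c) (mul_mem hc hc) (Commute.mul_left ct ct) (by rw [← pow_two, ← pow_mul, ← pow_succ', hk]) with
      e1 | e1
    · exact h.toStd.invol hc ct e1
    · obtain ⟨-, r, hr, c', hc', e2⟩ := h.mvC he hp hs h1 pt hc ct
      have : z C φ e s = t⁻¹ * (c' * c') := by
        rw [eq_inv_mul_iff_mul_eq, ← pt, ← e1, ← conj_mul, e2,
          (show Commute (z C φ e r) c' from hc' _ (mem_range _)).symm.mul_mul_mul_comm, h.z_sq he hr, one_mul]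
      exact absurd (h.eq_one_of_cent (a := z C φ e s) (mem_range _) (by rw [this]; exact mul_mem (inv_mem h.tC) (mul_mem hc' hc'))
        (h.z_sq he hs)) h1

theorem exists_mv₀ : ∃ p', Mv φ.range (Yg C φ (span K {e})) t (z C φ e s) p' := by
  have h0 : e ≠ 0 := fun h0 => h1 ((h.z_eq_one he hs).2 (.inl h0))
  have nO : ∀ o ∈ centralizer (φ.range : Set G), o * t = t * o → Odd (orderOf o) →
      p * o * p⁻¹ ∈ centralizer (φ.range : Set G) := fun o ho ot od => by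
    obtain ⟨k, r, hr, c, hc, e1⟩ := h.mvC he hp hs h1 pt ho ot
    have e2 : z C φ e r * c ^ orderOf o = 1 := by
      rw [← StdInt.odd_pow_sq (h.z_sq he hr) od, ← (show Commute (z C φ e r) c from hc _ (mem_range _)).mul_pow, ← e1,
        conj_pow, pow_orderOf_eq_one, mul_one, mul_inv_cancel]
    rw [h.eq_one_of_cent (a := z C φ e r) (mem_range _) (by rw [eq_inv_of_mul_eq_one_left e2]; exact inv_mem (pow_mem hc _))
      (h.z_sq he hr), one_mul] at e1
    exact e1 ▸ hc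
  obtain ⟨f, hf⟩ := h.exists_hp h0 he
  obtain ⟨e', f', k⟩ := h.exists_hh hf
  obtain ⟨he', -, h3⟩ := h.hp_iff.1 k.h₂
  have ee := k.ee
  have ee' := P.B_eq_zero_comm.1 ee
  have hU : TI P (span K {e, e'}) := ti_span.2 (by simp [he, he', ee, ee'])
  have eU : e ∈ span K {e, e'} := Submodule.subset_span (by simp)
  have eU' : e' ∈ span K {e, e'} := Submodule.subset_span (by simp)
  have d := h.td (h.two_of he hp hs h1 pt) hU fun h4 => h0 (by simpa [h4] using eU)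
  have RY : ∀ {v}, v ∈ span K {e, e'} → (Rg C φ (span K {e, e'}) : Set G) ⊆ Yg C φ (span K {v}) := fun {v} hv =>
    map_mono (f := φ) (show Rad C _ ≤ C.fixG (span K {v}) from
      (rad_le_fix _).trans fun s hs w hw => hs w ((Submodule.span_singleton_le_iff_mem _ _).2 hv hw))
  have zE : ∀ {v}, v ∈ span K {e, e'} → P.B v v = 0 → z C φ v s ∈ Eg C φ (span K {e, e'}) := fun hv h4 =>
    ⟨_, h.T_mem_E hU (h.tok0 h4 hs) hv (zero_mem _), rfl⟩
  have iso : ∀ l : K, P.B (e' + l • e) (e' + l • e) = 0 := fun l => by simp [he, he', ee, ee']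
  have mem : ∀ l : K, e' + l • e ∈ span K {e, e'} := fun l => add_mem eU' (Submodule.smul_mem _ _ eU)
  have ex : ∀ l : K, ∃ g ∈ centralizer (Rg C φ (span K {e, e'}) : Set G), g * t * g⁻¹ = t * z C φ (e' + l • e) s ∧
      ∀ o ∈ centralizer (φ.range : Set G), o * t = t * o → Odd (orderOf o) → g * o * g⁻¹ = p * o * p⁻¹ := fun l => by
    obtain ⟨u, hu⟩ := h.trans h0 he (e' := e' + l • e)
      (fun h4 => by simpa [h3, k.ef] using congrArg (P.B · f') h4) (iso l)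
    refine ⟨_, centralizer_le (RY (mem l)) (hu ▸ h.cY_conj u hp), by rw [h.t_conj u pt, h.z_conj u he hs, hu],
      fun o ho ot od => ?_⟩
    calc _ = φ u * (p * ((φ u)⁻¹ * o * φ u) * p⁻¹) * (φ u)⁻¹ := by group
      _ = _ := by
        rw [mul_assoc (φ u)⁻¹, ← ho _ (mem_range u), inv_mul_cancel_left, nO o ho ot od _ (mem_range u),
          mul_inv_cancel_right]
  have mul : ∀ {g g' a a' : G}, g ∈ centralizer (Rg C φ (span K {e, e'}) : Set G) → a ∈ Eg C φ (span K {e, e'}) →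
      a' ∈ Eg C φ (span K {e, e'}) → g * t * g⁻¹ = t * a → g' * t * g'⁻¹ = t * a' →
      g⁻¹ * g' * t * (g⁻¹ * g')⁻¹ = t * (a * a') ∧ g * g' * t * (g * g')⁻¹ = t * (a * a') :=
    fun {g g' a a'} hg ha ha' e1 e2 => by
      constructor
      · calc _ = g⁻¹ * (g' * t * g'⁻¹) * g := by group
          _ = g⁻¹ * (t * a) * (a * a') * g := by rw [e2, mul_assoc g⁻¹ (t * a), mul_assoc t, ← mul_assoc a, d.sq a ha,
            one_mul]
          _ = _ := by rw [← e1, mul_assoc, hg _ (d.ER (mul_mem ha ha'))]; group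
      · calc _ = g * (g' * t * g'⁻¹) * g⁻¹ := by group
          _ = _ := by rw [e2, ← conj_mul, e1, ← hg _ (d.ER ha'), mul_inv_cancel_right, mul_assoc]
  obtain ⟨μ, hμ⟩ := h.herm.exists_trace_one
  choose g g1 g2 g3 using ex
  have co : ∀ l l', CO φ.range t ((g l)⁻¹ * g l') := fun l l' o ho ot od => by
    calc _ = (g l)⁻¹ * (g l' * o * (g l')⁻¹) * g l' := by group
      _ = _ := by rw [g3 l' o ho ot od, ← g3 l o ho ot od]; group
  have e1 := (mul (mul_mem (inv_mem (g1 0)) (g1 1)) (mul_mem (zE (mem 0) (iso 0)) (zE (mem 1) (iso 1)))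
    (mul_mem (zE (mem μ) (iso μ)) (zE (mem (1 + μ)) (iso _)))
    (mul (g1 0) (zE (mem 0) (iso 0)) (zE (mem 1) (iso 1)) (g2 0) (g2 1)).1
    (mul (g1 μ) (zE (mem μ) (iso μ)) (zE (mem _) (iso _)) (g2 μ) (g2 (1 + μ))).1).2
  have e2 : ∀ l l' : K, z C φ (e' + l • e) s * z C φ (e' + l' • e) s =
      z C φ e ((σ l * l + σ l' * l') * s) * φ (C.T e ((σ (l + l') * s) • e') 0) := fun l l' => by
    have N : ∀ l : K, σ (σ l * l * s) = σ l * l * s := fun l => by rw [map_mul, map_mul, P.σσ, hs, mul_comm l]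
    have t1 : ∀ c : K, TOk P e (c • e') 0 := fun c => h.tok1 he (by simp [he']) (by simp [ee]) (map_zero σ)
    have m1 : ∀ c : K, C.T e (c • e') 0 ∈ C.fixG (P.perp (span K {e, e'})) := fun c =>
      h.T_mem_E hU (t1 c) eU (Submodule.smul_mem _ _ eU')
    have m2 : ∀ l : K, C.T e 0 (σ l * l * s) ∈ C.fixG (P.perp (span K {e, e'})) := fun l =>
      h.T_mem_E hU (h.tok0 he (N l)) eU (zero_mem _)
    have m3 := h.T_mem_E hU (h.tok0 he' hs) eU' (zero_mem _)
    have cm : ∀ {a b : S}, a ∈ C.fixG (P.perp (span K {e, e'})) → b ∈ C.fixG (P.perp (span K {e, e'})) →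
        Commute b a := fun ha hb => h.E_cent hU ha _ (rad_le_fix _ (h.E_le_rad hU hb))
    rw [add_mul, h.z_add he (N l) (N l'), z, z, z, z, ← map_mul, ← map_mul, ← map_mul, h.T_line he he' ee hs,
      h.T_line he he' ee hs, (cm (m1 _) (mul_mem m3 (m2 _))).symm.mul_mul_mul_comm, (cm (m2 _) m3).symm.mul_mul_mul_comm,
      h.E_sq hU m3, one_mul, C.T_mul (t1 _) (t1 _)]
    simp [he', add_mul, add_smul]
  have e3 : z C φ (e' + (0 : K) • e) s * z C φ (e' + (1 : K) • e) s *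
      (z C φ (e' + μ • e) s * z C φ (e' + (1 + μ) • e) s) = z C φ e s := by
    have t1 : TOk P e (s • e') 0 := h.tok1 he (by simp [he']) (by simp [ee]) (map_zero σ)
    have m1 : φ (C.T e (s • e') 0) ∈ Eg C φ (span K {e, e'}) :=
      ⟨_, h.T_mem_E hU t1 eU (Submodule.smul_mem _ _ eU'), rfl⟩
    rw [e2, e2, show μ + (1 + μ) = 1 by linear_combination h.add_self μ,
      show σ μ * μ + σ (1 + μ) * (1 + μ) = 0 by
        rw [map_add, map_one]; linear_combination hμ + h.add_self (σ μ * μ) + h.add_self 1,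
      zero_mul, (h.z_eq_one he (map_zero σ)).2 (.inr rfl)]
    simp [mul_assoc, d.sq _ m1]
  rw [e3] at e1
  have kR := mul_mem (mul_mem (inv_mem (g1 0)) (g1 1)) (mul_mem (inv_mem (g1 μ)) (g1 (1 + μ)))
  have kO := (co 0 1).mul (co μ (1 + μ))
  generalize (g 0)⁻¹ * g 1 * ((g μ)⁻¹ * g (1 + μ)) = k at e1 kR kO
  have kt : Commute (p⁻¹ * k) t := StdL.comm_of_conj (by
    calc _ = p⁻¹ * (k * t * k⁻¹) * p := by group
      _ = t := by rw [e1, ← pt]; group)
  obtain ⟨x, hx, c, hc, ek⟩ := d.cR _ kt (mul_mem (inv_mem (centralizer_le (RY eU) hp)) kR)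
  have ct : Commute c t := by
    have := (d.tH (d.EH hx)).inv_left.mul_left kt
    rwa [ek, inv_mul_cancel_left] at this
  refine ⟨p * c, mul_mem hp (centralizer_le (map_le_range _ _) hc), ?_, ?_⟩
  · rw [← pt, mul_inv_rev, mul_assoc p c, ct.eq]; group
  · rw [show p * c = k * x⁻¹ by rw [eq_mul_inv_iff_mul_eq, mul_assoc, ← hc x (d.EH hx), ← ek, mul_inv_cancel_left]]
    exact kO.mul (CO.of_mem (inv_mem (d.EH hx)))

theorem exists_mv {e' : V} (he' : P.B e' e' = 0) {r : K} (hr : σ r = r) :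
    ∃ g, Mv φ.range (Yg C φ (span K {e'})) t (z C φ e' r) g ∧ IsPGroup 2 (zpowers g) := by
  by_cases c : e' = 0 ∨ r = 0
  · exact ⟨1, ⟨one_mem _, by simp [(h.z_eq_one he' hr).2 c], CO.of_mem (one_mem _)⟩, two_iff.2 ⟨0, by simp⟩⟩
  push Not at c
  obtain ⟨p, m⟩ := h.exists_mv₀ he hp hs h1 pt
  obtain ⟨n, hn, h2⟩ := StdL.exists_odd_two p
  have k : ∀ n : ℕ, CO φ.range t (p ^ n) ∧ p ^ n * t * (p ^ n)⁻¹ = t * z C φ e s ^ n := fun n => by
    induction n with
    | zero => exact ⟨CO.of_mem (by simp), by simp⟩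
    | succ n ih =>
      refine ⟨pow_succ p n ▸ ih.1.mul m.co, ?_⟩
      calc _ = p * (p ^ n * t * (p ^ n)⁻¹) * p⁻¹ := by group
        _ = _ := by
          rw [ih.2, ← conj_mul, m.pt, ← m.cY _ (pow_mem (h.z_Y he hs) n), mul_inv_cancel_right, pow_succ', mul_assoc]
  have h0 := not_or.1 (mt (h.z_eq_one he hs).2 h1)
  obtain ⟨d, hd, hd', -⟩ := h.exists_sqrt (r / s)
  have d0 : d ≠ 0 := fun f => div_ne_zero c.2 h0.2 (by rw [← hd, f, mul_zero])
  obtain ⟨l, hl⟩ := h.trans h0.1 he (smul_ne_zero d0 c.1) (by simp [he'])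
  have := h.mv_conj l ⟨pow_mem m.cY n, (k n).2, (k n).1⟩
  rw [StdInt.odd_pow_sq (h.z_sq he hs) hn, h.z_conj l he hs, hl, h.z_smul he' hs, hd' (by rw [map_div₀, hr, hs]), hd,
    div_mul_cancel₀ _ h0.2, Submodule.span_singleton_smul_eq d0.isUnit] at this
  exact ⟨_, this, two_iff.2 (StdInt.two_conj _ h2)⟩

end Sit

end CfsgLib.U5
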