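import Cfsg.Agent.Lib.U5.AutB
import Cfsg.Agent.Lib.U5.Five
import Cfsg.Agent.Lib.U5.LRa
import Cfsg.Agent.Lib.HX.AutA

/-! Two-elements generated by elements of odd order; the long root data -/

set_option autoImplicit false
set_option linter.unusedSectionVars false

namespace CfsgLib.U5

open Subgroup Module CfsgLib.Forms CfsgLib.LieMult
open CfsgLib.HX (Std CO Two Mv Tr Heis NF Fus4 Has4 M2)
open Submodule (span)
open scoped commutatorElement Pointwise

universe u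

variable {K : Type} [Field K] [Finite K] {σ : K →+* K} {V : Type} [AddCommGroup V] [Module K V]
  [FiniteDimensional K V] {P : PQ σ V} {S : Type} [Group S] [Finite S] {G : Type u} [Group G]
  [Finite G] {C : CG P S} {φ : S →* G} {t : G}

theorem Od_mono {H H' : Subgroup G} (h : H ≤ H') : Od H ≤ Od H' := 
  closure_mono fun _ ho => ⟨h ho.1, ho.2⟩

theorem Od_le (H : Subgroup G) : Od H ≤ H := (closure_le _).2 fun _ ho => ho.1

theorem map_Od {G' : Type*} [Group G'] (f : G →* G') (H : Subgroup G) : (Od H).map f ≤ Od (H.map f) := by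
  rw [Od, MonoidHom.map_closure]
  refine closure_mono ?_
  rintro _ ⟨o, ho, rfl⟩
  exact ⟨mem_map_of_mem f ho.1, ho.2.of_dvd_nat (orderOf_map_dvd f o)⟩

theorem comm_mem_Od {H : Subgroup G} {o g : G} (ho : o ∈ H) (hg : g ∈ H) (h : Odd (orderOf o)) :
    o * g * o⁻¹ * g⁻¹ ∈ Od H := by
  have h1 : g * o⁻¹ * g⁻¹ ∈ Od H := subset_closure ⟨mul_mem (mul_mem hg (inv_mem ho)) (inv_mem hg),
    by rw [← MulAut.conj_apply, (MulAut.conj g).orderOf_eq, orderOf_inv]; exact h⟩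
  have := mul_mem (subset_closure ⟨ho, h⟩ : o ∈ Od H) h1
  rwa [← mul_assoc, ← mul_assoc] at this

theorem conj_mem_Od {H : Subgroup G} {o g : G} (ho : o ∈ Od H) (hg : g ∈ H) : g * o * g⁻¹ ∈ Od H := by
  induction ho using closure_induction with
  | mem x hx =>
    exact subset_closure ⟨mul_mem (mul_mem hg hx.1) (inv_mem hg),
      by rw [← MulAut.conj_apply, (MulAut.conj g).orderOf_eq]; exact hx.2⟩
  | one => simpa using one_mem _
  | mul x y _ _ hx hy => rw [← conj_mul]; exact mul_mem hx hy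
  | inv x _ hx => rw [← conj_inv]; exact inv_mem hx

theorem odd_mem_of_pow {M : Subgroup G} {g : G} (hp : IsPGroup 2 (zpowers g)) {m : ℕ} (hm : Odd m)
    (h : g ^ m ∈ M) : g ∈ M := by
  obtain ⟨k, hk⟩ := Core.isPGroup_zpowers_iff.1 hp
  have hc : m.Coprime (orderOf g) :=
    ((Nat.coprime_two_right.2 hm).pow_right k).coprime_dvd_right (orderOf_dvd_of_pow_eq_one hk)
  obtain ⟨j, hj⟩ := exists_pow_eq_self_of_coprime hc
  exact hj ▸ pow_mem h j

theorem odd_le_of_solv {H N : Subgroup G} (h : H ≤ ⁅H, H⁆) [(N.subgroupOf H).Normal]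
    (hs : Group.IsSolvable (H ⧸ N.subgroupOf H)) : H ≤ N := by
  by_contra hn
  have : Nontrivial (H ⧸ N.subgroupOf H) := by
    rw [QuotientGroup.nontrivial_iff]
    exact fun e => hn (subgroupOf_eq_top.1 e)
  have h1 : commutator H = ⊤ := by
    refine map_injective H.subtype_injective (le_antisymm (map_mono le_top) ?_)
    rw [_root_.commutator_def, map_commutator, ← MonoidHom.range_eq_map, range_subtype]
    exact h
  have h2 := Group.IsSolvable.commutator_lt_top_of_nontrivial (H ⧸ N.subgroupOf H)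
  rw [_root_.commutator_def, ← map_top_of_surjective _ (QuotientGroup.mk'_surjective (N.subgroupOf H)),
    ← map_commutator, ← _root_.commutator_def, h1] at h2
  exact h2.false

theorem odd_pow_two (g : G) : ∃ k, Odd (orderOf (g ^ 2 ^ k)) := by
  obtain ⟨k, m, hm, e⟩ := Nat.exists_eq_two_pow_mul_odd (orderOf_pos g).ne'
  exact ⟨k, hm.of_dvd_nat (orderOf_dvd_of_pow_eq_one (by rw [← pow_mul, ← e, pow_orderOf_eq_one]))⟩

theorem odd_pow_odd (g : G) : ∃ m, Odd m ∧ IsPGroup 2 (zpowers (g ^ m)) := by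
  obtain ⟨k, m, hm, e⟩ := Nat.exists_eq_two_pow_mul_odd (orderOf_pos g).ne'
  exact ⟨m, hm, Core.isPGroup_zpowers_iff.2 ⟨k, by
    rw [← pow_mul, mul_comm, ← e, pow_orderOf_eq_one]⟩⟩

theorem odd_index {X : Type*} [Group X] [Finite X] (N : Subgroup X) [N.Normal]
    (h : ∀ x : X, ∃ m, Odd m ∧ x ^ m ∈ N) : Odd N.index := Nat.not_even_iff_odd.1 fun he => by
  obtain ⟨x, hx⟩ := exists_prime_orderOf_dvd_card' (G := X ⧸ N) 2 he.two_dvd
  obtain ⟨x, rfl⟩ := QuotientGroup.mk_surjective x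
  obtain ⟨m, hm, e⟩ := h x
  have : orderOf (x : X ⧸ N) ∣ m := orderOf_dvd_of_pow_eq_one (by
    rw [← QuotientGroup.mk_pow]; exact (QuotientGroup.eq_one_iff _).2 e)
  rw [hx] at this
  exact hm.not_two_dvd_nat this

theorem odd_map {A : Type*} [Group A] {H : Subgroup G} (f : Od H →* A)
    (hf : ∀ a b, Commute (f a) (f b)) (g : Od H) : Odd (orderOf (f g)) := by
  obtain ⟨g, hg⟩ := g
  induction hg using closure_induction with
  | mem x hx => exact hx.2.of_dvd_nat ((orderOf_map_dvd f _).trans (orderOf_mk _ _).dvd)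
  | one => rw [show (⟨1, one_mem _⟩ : Od H) = 1 from rfl, map_one, orderOf_one]; exact odd_one
  | mul x y hx hy e1 e2 =>
    rw [show (⟨x * y, mul_mem hx hy⟩ : Od H) = ⟨x, hx⟩ * ⟨y, hy⟩ from rfl, map_mul]
    exact (e1.mul e2).of_dvd_nat (hf _ _).orderOf_mul_dvd_mul_orderOf
  | inv x hx e =>
    rwa [show (⟨x⁻¹, inv_mem hx⟩ : Od H) = ⟨x, hx⟩⁻¹ from rfl, map_inv, orderOf_inv]

theorem le_Od_of_perf {H : Subgroup G} (h : H ≤ ⁅H, H⁆) : H ≤ Od H := by
  have : ((Od H).subgroupOf H).Normal := ⟨fun o ho g => conj_mem_Od ho g.2⟩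
  have : Fact (Nat.Prime 2) := ⟨Nat.prime_two⟩
  have h2 : IsPGroup 2 (H ⧸ (Od H).subgroupOf H) := fun x => by
    obtain ⟨x, rfl⟩ := QuotientGroup.mk_surjective x
    obtain ⟨k, hk⟩ := odd_pow_two (x : G)
    exact ⟨k, by
      rw [← QuotientGroup.mk_pow]
      exact (QuotientGroup.eq_one_iff _).2 (subset_closure ⟨pow_mem x.2 _, hk⟩)⟩
  have := h2.isNilpotent
  exact odd_le_of_solv h inferInstance

theorem Mod.fix_od (h : Mod C) {e : V} (h0 : e ≠ 0) (he : P.B e e = 0) :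
    C.fixG (span K {e}) ≤ Od (centralizer {C.T e 0 1}) := by
  have k := h.tok0 he (map_one σ)
  have c : ∀ o μ, σ μ * μ = 1 → C.act o e = μ • e → o ∈ centralizer ({C.T e 0 1} : Set S) := fun o μ hμ ho =>
    mem_centralizer_singleton_iff.2 (mul_inv_eq_iff_eq_mul.1 (by
      rw [C.T_conj o k, ho, map_zero, C.T_smul_left k, smul_zero, mul_comm μ, hμ, one_mul]))
  exact h.fix_le h0 he fun o μ ho hμ e1 y hy =>
    comm_mem_Od (c o μ hμ e1) (c y 1 (by simp) (by rw [hy, one_smul])) ho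

/-- type-free form -/
theorem mem_of_Od' {L : Subgroup G} (hc : ∀ Q ≤ centralizer (L : Set G), IsPGroup 2 Q → IsCyclic Q)
    (hZ : Odd (Nat.card (L ⊓ centralizer (L : Set G) : Subgroup G))) {A : Type*} [CommGroup A]
    (ty : normalizer (L : Set G) →* A)
    (hty : ∀ g, ty g = 1 → ∃ m, Odd m ∧ (g : G) ^ m ∈ L ⊔ centralizer (L : Set G)) {g : G}
    (hg : g ∈ Od (normalizer (L : Set G))) (h2 : IsPGroup 2 (zpowers g)) : g ∈ L := by
  have _ := hZ
  obtain ⟨O, P, h1, hP, pP, h3, -⟩ := HX.Nrm.exists_compl _ hc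
  have hCN := centralizer_le_normalizer (L : Set G)
  have hO : O ≤ normalizer (L : Set G) := fun c hc => hCN ((h1 c).1 hc).1
  have hC : ∀ n ∈ normalizer (L : Set G), ∀ c ∈ centralizer (L : Set G),
      n * c * n⁻¹ ∈ centralizer (L : Set G) :=
    fun n hn c hc => (mem_normalizer_iff.1 (Core.normalizer_le_normalizer_centralizer _ hn) c).1 hc
  let M := (L ⊔ O).subgroupOf (normalizer (L : Set G))
  have : M.Normal := ⟨fun g hg n => by
    obtain ⟨l, hl, o, ho, e⟩ := (Core.mem_sup_of_le_normalizer_left hO).1 hg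
    have := mul_mem (mem_sup_left (T := O) ((mem_normalizer_iff.1 n.2 l).1 hl)) (mem_sup_right ((h1 _).2
      ⟨hC n n.2 o ((h1 o).1 ho).1, ((MulAut.conj n.1).orderOf_eq o).symm ▸ ((h1 o).1 ho).2⟩))
    change n.1 * g.1 * n.1⁻¹ ∈ L ⊔ O
    rw [← show l * o = g.1 from e]
    convert this using 1
    group⟩
  let π := QuotientGroup.mk' M
  have hπ : ∀ g, π g = 1 ↔ g.1 ∈ L ⊔ O := fun g => QuotientGroup.eq_one_iff g
  let T := (P.subgroupOf (normalizer (L : Set G))).map π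
  have t1 : ∀ g : normalizer (L : Set G), g.1 ∈ L ⊔ centralizer (L : Set G) → π g ∈ T := fun g hg => by
    obtain ⟨l, hl, c, hc, e⟩ := (Core.mem_sup_of_le_normalizer_left hCN).1 hg
    obtain ⟨o, ho, p, hp, rfl⟩ := h3 _ hc
    refine ⟨⟨p, hCN (hP hp)⟩, hp, (mul_inv_eq_one.1 ?_).symm⟩
    rw [← map_inv, ← map_mul, hπ]
    have := mul_mem (mem_sup_left (T := O) hl) (mem_sup_right ho)
    change g.1 * p⁻¹ ∈ L ⊔ O
    rwa [← show l * (o * p) = g.1 from e, ← mul_assoc, mul_inv_cancel_right]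
  have tp : IsPGroup 2 T := pP.comap_subtype.map π
  have tc : IsCyclic T := by
    have := hc P hP pP
    have := isCyclic_of_surjective _ (subgroupOfEquivOfLe (hP.trans hCN)).symm.surjective
    exact isCyclic_of_surjective _ (π.subgroupMap_surjective _)
  have t3 : ∀ g : normalizer (L : Set G), Odd (orderOf g.1) → π g ∈ centralizer (T : Set _) :=
    fun g hg => by
      have hn : π g ∈ normalizer (T : Set _) := mem_normalizer_fintype (by
        rintro _ ⟨p, hp, rfl⟩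
        rw [← map_inv, ← map_mul, ← map_mul]
        exact t1 _ (mem_sup_right (hC g g.2 p (hP hp))))
      obtain ⟨j, hj⟩ := TwoGrp.isPGroup_mulAut_of_isCyclic tp (T.normalizerMonoidHom ⟨_, hn⟩)
      have := HX.Nrm.eq_one_of_odd (hg.of_dvd_nat ((orderOf_map_dvd _ _).trans
        ((orderOf_mk _ _).dvd.trans ((orderOf_map_dvd π g).trans (orderOf_coe g).symm.dvd)))) hj
      rwa [← MonoidHom.mem_ker, normalizerMonoidHom_ker] at this
  let ι := inclusion (Od_le (normalizer (L : Set G)))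
  let ρ := π.comp ι
  have t4 : ∀ x : Od (normalizer (L : Set G)), ρ x ∈ centralizer (T : Set _) := by
    rintro ⟨x, hx⟩
    induction hx using closure_induction with
    | mem x hx => exact t3 ⟨x, hx.1⟩ hx.2
    | one => exact (map_one ρ).symm ▸ one_mem _
    | mul x y hx hy e1 e2 => exact (map_mul ρ ⟨x, hx⟩ ⟨y, hy⟩).symm ▸ mul_mem e1 e2
    | inv x hx e => exact (map_inv ρ ⟨x, hx⟩).symm ▸ inv_mem e
  have t5 : Odd (center ρ.range).index := odd_index _ (by
    rintro ⟨_, x, rfl⟩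
    have o1 := odd_map (ty.comp ι) (fun a b => mul_comm _ _) x
    obtain ⟨m, hm, e⟩ := hty (ι x ^ orderOf (ty (ι x))) (by rw [map_pow, pow_orderOf_eq_one])
    refine ⟨orderOf (ty (ι x)) * m, Odd.mul o1 hm, mem_center_iff.2 ?_⟩
    rintro ⟨_, y, rfl⟩
    refine Subtype.ext (t4 y _ ?_).symm
    have := t1 ((ι x ^ orderOf (ty (ι x))) ^ m) e
    rwa [← pow_mul, map_pow] at this)
  obtain ⟨k, hk⟩ := Core.isPGroup_zpowers_iff.1 h2
  have hk' : (⟨g, hg⟩ : Od (normalizer (L : Set G))) ^ 2 ^ k = 1 := Subtype.ext hk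
  have t6 := HX.Nrm.eq_one_of_odd (k := k) (odd_map ((MonoidHom.transferCenterPow ρ.range).comp
    ρ.rangeRestrict) (fun a b => Subtype.ext (mem_center_iff.1 (Subtype.prop _) _)) ⟨g, hg⟩) (by rw [← map_pow, hk', map_one])
  have t7 : ρ ⟨g, hg⟩ ^ (center ρ.range).index = 1 :=
    congrArg (fun z : center ρ.range => (z.1.1 : _ ⧸ M)) t6
  have t8 : ρ ⟨g, hg⟩ = 1 := HX.Nrm.eq_one_of_odd (k := k)
    (t5.of_dvd_nat (orderOf_dvd_of_pow_eq_one t7)) (by rw [← map_pow, hk', map_one])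
  obtain ⟨l, hl, o, ho, e⟩ := (Core.mem_sup_of_le_normalizer_left hO).1 ((hπ _).1 t8)
  replace e : l * o = g := e
  have hlo : Commute l o := ((h1 o).1 ho).1 l hl
  refine odd_mem_of_pow h2 ((h1 o).1 ho).2 ?_
  rw [← e, hlo.mul_pow, pow_orderOf_eq_one, mul_one]
  exact pow_mem hl _

namespace Sit

variable (h : Sit C φ t) {e f : V} {U : Submodule K V}
include h

theorem cj (g : G) : Sit C ((MulAut.conj g).toMonoidHom.comp φ) (g * t * g⁻¹) := 
  ⟨h.toEmb.cj g, by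
    rw [MonoidHom.range_comp]
    exact h.toStd.cj g⟩

theorem tφ (s : S) : Commute (φ s) t := h.tC _ ⟨s, rfl⟩

theorem cN {g : G} (hg : Commute g t) : g ∈ normalizer (φ.range : Set G) := 
  h.CN (mem_centralizer_singleton_iff.2 hg)

theorem mem_of_Od {g : G} (hg : g ∈ Od (centralizer {t})) (h2 : IsPGroup 2 (zpowers g)) :
    g ∈ φ.range := by
  obtain ⟨ty, hty⟩ := h.toEmb.exists_ty
  have := h.toMod.aut_cyc
  let _ : CommGroup (RingAut K) := IsCyclic.commGroup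
  refine mem_of_Od' h.cyc h.toEmb.center_odd ty (fun n hn => ?_) (Od_mono h.CN hg) h2
  obtain ⟨α, γ, k⟩ := h.toEmb.exists_act n.2
  obtain rfl : α = 1 := (hty n α γ k).symm.trans hn
  exact h.toEmb.lin_odd k

theorem Od2_le : Od2 (centralizer {t}) ≤ φ.range := (closure_le _).2 fun g hg =>
  h.mem_of_Od hg.2 (Core.isPGroup_zpowers_iff.2 ⟨1, by rw [pow_one, pow_two, hg.1]⟩)

theorem le_of_perf {H : Subgroup G} (h1 : H ≤ centralizer {t}) (h2 : H ≤ ⁅H, H⁆) : H ≤ φ.range := by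
  have : (φ.range.subgroupOf H).Normal := ⟨fun o ho g =>
    (mem_normalizer_iff.1 (h.CN (h1 g.2)) o).1 ho⟩
  refine odd_le_of_solv h2 (FT.odd_order_solvable (odd_index _ fun g => ?_))
  obtain ⟨m, hm, e⟩ := odd_pow_odd (g : G)
  exact ⟨m, hm, h.mem_of_Od (Od_mono h1 (le_Od_of_perf h2 (pow_mem g.2 m))) e⟩

theorem invol_cent {c : G} (hc : c ∈ centralizer (φ.range : Set G)) (ct : Commute c t) (c2 : c * c = 1) :
    c = 1 ∨ c = t := h.toStd.invol hc ct c2

theorem inner {s : G} (hs : Commute s t) (s2 : s * s = 1) {l : S} (l2 : l * l = 1)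
    (hl : (φ l)⁻¹ * s ∈ centralizer (φ.range : Set G)) : s = φ l ∨ s = t * φ l := by
  have h1 : Commute (φ l) ((φ l)⁻¹ * s) := hl _ ⟨l, rfl⟩
  have h2 : (φ l)⁻¹ * s * ((φ l)⁻¹ * s) = 1 := by
    have := h1.mul_pow 2
    rw [mul_inv_cancel_left, pow_two, pow_two, pow_two, s2, ← map_mul, l2, map_one, one_mul] at this
    exact this.symm
  rcases h.invol_cent hl ((h.tφ l).inv_left.mul_left hs) h2 with e | e
  · exact Or.inl (inv_mul_eq_one.1 e).symm
  · exact Or.inr ((inv_mul_eq_iff_eq_mul.1 e).trans (h.tφ l).eq)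

theorem t_not_mem : t ∉ φ.range := fun ht =>
  h.t1 (HX.Nrm.eq_one_of_odd (k := 1) (h.toEmb.center_odd.of_dvd_nat
    (orderOf_dvd_natCard _ (⟨ht, h.tC⟩ : t ∈ φ.range ⊓ centralizer (φ.range : Set G))))
    (by rw [pow_one, pow_two, h.t2]))

theorem lr (hf : HP P e f) : ∃ (π : G → Wp P e f) (β : LinearMap.BilinForm (Fx σ) (Wp P e f)),
    LR φ.range (Yg C φ (span K {e})) (Rg C φ (span K {e})) t (fun s : Fx σ => z C φ e s) π β ∧
      (∀ a c (ha : a ∈ Wp P e f), TOk P e a c → π (x C φ e a c) = ⟨a, ha⟩) ∧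
      ∀ a b : Wp P e f, (β a b : K) = P.B a b + P.B b a := by
  classical
  have m := h.toMod
  have em := h.toEmb
  have he : P.B e e = 0 := hf.se.self_eq
  have h0 : e ≠ 0 := fun e0 => by simpa [e0] using hf.ef
  have hTI : TI P (span K {e}) := ti_span.2 (by simpa using he)
  have hW : ∀ {a : V}, a ∈ Wp P e f ↔ P.B e a = 0 ∧ P.B f a = 0 := CG.mem_perp_pair
  have hQ : ∀ {g : G}, g ∈ Rg C φ (span K {e}) ↔
      ∃ a c, a ∈ Wp P e f ∧ TOk P e a c ∧ g = x C φ e a c := fun {g} => by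
    constructor
    · rintro ⟨s, hs, rfl⟩
      obtain ⟨a, c, k, k', rfl⟩ := (m.mem_rad_hp hf).1 hs
      exact ⟨a, c, hW.2 ⟨k.perp, k'⟩, k, rfl⟩
    · rintro ⟨a, c, -, k, rfl⟩
      exact (em.mem_Q h0 he).2 ⟨a, c, k, rfl⟩
  obtain ⟨π, hπ⟩ : ∃ π : G → Wp P e f, ∀ a c (ha : a ∈ Wp P e f), TOk P e a c →
      π (x C φ e a c) = ⟨a, ha⟩ := by
    refine ⟨fun g => if k : ∃ a : Wp P e f, ∃ c, TOk P e a c ∧ g = x C φ e a c then k.choose else 0,
      fun a c ha k => ?_⟩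
    have k1 : ∃ a' : Wp P e f, ∃ c', TOk P e a' c' ∧ x C φ e a c = x C φ e a' c' :=
      ⟨⟨a, ha⟩, c, k, rfl⟩
    simp only [dif_pos k1]
    obtain ⟨c', k2, k3⟩ := k1.choose_spec
    have k4 := em.inj_two (m.rad_two hTI) ((m.mem_rad_pt h0 he).2 ⟨_, _, k, rfl⟩)
      ((m.mem_rad_pt h0 he).2 ⟨_, _, k2, rfl⟩) k3
    exact Subtype.ext (C.T_inj hf k k2 (hW.1 ha).2 (hW.1 k1.choose.2).2 k4).1.symm
  have hs : ∀ (s : Fx σ) (a : Wp P e f), ((s • a : Wp P e f) : V) = (s : K) • (a : V) :=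
    fun _ _ => rfl
  have hσ : ∀ s : Fx σ, σ s = s := fun s => s.2
  let β : LinearMap.BilinForm (Fx σ) (Wp P e f) := LinearMap.mk₂ (Fx σ)
    (fun a b => ⟨P.B a b + P.B b a, show σ _ = _ by rw [map_add, m.conj, m.conj, add_comm]; rfl⟩)
    (fun a a' b => Subtype.ext (by
      simp only [Submodule.coe_add, P.B_add_left, P.B_add_right, Subfield.coe_add]; ring))
    (fun s a b => Subtype.ext (by
      simp only [hs, P.B_smul_left, P.B_smul_right, hσ, smul_eq_mul, Subfield.coe_mul]; ring))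
    (fun a b b' => Subtype.ext (by
      simp only [Submodule.coe_add, P.B_add_left, P.B_add_right, Subfield.coe_add]; ring))
    (fun s a b => Subtype.ext (by
      simp only [hs, P.B_smul_left, P.B_smul_right, hσ, smul_eq_mul, Subfield.coe_mul]; ring))
  have hβ : ∀ a b : Wp P e f, (β a b : K) = P.B a b + P.B b a := fun _ _ => rfl
  have xmul : ∀ {a b c d}, TOk P e a c → TOk P e b d →
      x C φ e a c * x C φ e b d = x C φ e (a + b) (c + d + P.B b a) := fun k k' => by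
    rw [x, x, x, ← map_mul, C.T_mul k k']
  have hmul : ∀ g ∈ Rg C φ (span K {e}), ∀ g' ∈ Rg C φ (span K {e}), π (g * g') = π g + π g' :=
    fun g hg g' hg' => by
      obtain ⟨a, c, ha, k, rfl⟩ := hQ.1 hg
      obtain ⟨b, d, hb, k', rfl⟩ := hQ.1 hg'
      rw [xmul k k', hπ _ _ (add_mem ha hb) (k.add k'), hπ _ _ ha k, hπ _ _ hb k']
      rfl
  have hker : ∀ g ∈ Rg C φ (span K {e}), π g = 0 ↔ ∃ s : Fx σ, g = z C φ e s := fun g hg => by
    refine ⟨fun e1 => ?_, fun ⟨s, e1⟩ => e1 ▸ hπ 0 s (zero_mem _) (m.tok0 he s.2)⟩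
    obtain ⟨a, c, ha, k, rfl⟩ := hQ.1 hg
    rw [hπ _ _ ha k] at e1
    obtain rfl : a = 0 := congrArg Subtype.val e1
    have := (m.tok.1 k).2.2
    refine ⟨⟨c, show σ c = c from ?_⟩, rfl⟩
    rw [map_zero] at this
    linear_combination this - m.add_self c
  have hst : ∀ l : S, (∀ v, C.act l v ∈ span K {e} ↔ v ∈ span K {e}) →
      φ l ∈ normalizer (Yg C φ (span K {e}) : Set G) ∧
        φ l ∈ normalizer (Rg C φ (span K {e}) : Set G) := fun l hl =>
    ⟨(em.act_norm (em.act_self l) hl).1, (em.act_norm (em.act_self l) hl).2.1⟩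
  have hnQ : ∀ g, g * t = t * g → (∀ s : Fx σ, g * z C φ e s = z C φ e s * g) →
      g ∈ normalizer (Rg C φ (span K {e}) : Set G) := fun g e1 e2 => by
    obtain ⟨α, γ, k⟩ := em.exists_act (h.cN e1)
    exact (em.act_norm k (em.fix_of_z k he (map_one σ) (map_one σ)
      (fun e3 => by simpa [h0] using (em.z_eq_one he (map_one σ)).1 e3)
      (mul_inv_eq_iff_eq_mul.2 (e2 1)))).2.1
  have hcQ : ∀ g ∈ normalizer (φ.range : Set G), g ∈ centralizer (Rg C φ (span K {e}) : Set G) →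
      ∃ s : Fx σ, ∃ c ∈ centralizer (φ.range : Set G), g = z C φ e s * c := fun g e1 e2 =>
    let ⟨r, hr, c, hc, e3⟩ := em.cQ h0 he e1 e2; ⟨⟨r, hr⟩, c, hc, e3⟩
  have hzQ : ∀ s : Fx σ, z C φ e s ∈ Rg C φ (span K {e}) := fun s =>
    hQ.2 ⟨0, s, zero_mem _, m.tok0 he s.2, rfl⟩
  have hQY : Rg C φ (span K {e}) ≤ Yg C φ (span K {e}) := map_mono (rad_le_fix _)
  have hzi : ∀ s : Fx σ, z C φ e s = 1 → s = 0 := fun s e1 =>
    Subtype.ext (((em.z_eq_one he s.2).1 e1).resolve_left h0)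
  refine ⟨π, β, { h.toStd with
    zadd := fun s r => em.z_add he s.2 r.2
    zinj := hzi
    zQ := hzQ
    πmul := hmul
    πsurj := fun v => ?_
    πker := hker
    comm := fun g hg g' hg' => ?_
    sq := fun g hg => (hker _ (mul_mem hg hg)).1 ?_
    nd := fun v hv => ?_
    two := Subtype.ext m.two
    QY := hQY
    YH := map_le_range _ _
    Yz := ?_
    YQ := ?_
    dim := fun v => ?_
    zC := fun s e1 => hzi s ?_
    perf := ?_
    qy := ?_
    cQY := fun y hy hc => ?_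
    cQ := fun g e1 => hcQ g (h.cN e1)
    nQ := hnQ
    cV := fun g e1 e2 hc => em.cV h0 he (h.cN e1) fun q hq => ?_
    tor := fun l hl => ?_ }, hπ, hβ⟩
  · obtain ⟨c, k⟩ := m.exists_tok he (hW.1 v.2).1
    exact ⟨_, hQ.2 ⟨_, c, v.2, k, rfl⟩, hπ _ _ v.2 k⟩
  · obtain ⟨a, c, ha, k, rfl⟩ := hQ.1 hg
    obtain ⟨b, d, hb, k', rfl⟩ := hQ.1 hg'
    rw [hπ _ _ ha k, hπ _ _ hb k', hβ, ← commutatorElement_def, x, x, ← map_commutatorElement,
      C.T_commutator k k', z]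
    congr 2
    linear_combination -m.add_self (P.B a b)
  · rw [hmul g hg g hg]
    exact Subtype.ext (m.vadd_self _)
  · have h1 : ∀ w ∈ Wp P e f, P.B v w = 0 := fun w hw => by
      by_contra hb
      obtain ⟨θ, hθ⟩ := m.herm.exists_trace_one
      have := congrArg Subtype.val (hv ⟨(θ / P.B v w) • w, Submodule.smul_mem _ _ hw⟩)
      rw [hβ, ← m.conj v, P.B_smul_right, div_mul_cancel₀ _ hb, hθ] at this
      exact one_ne_zero this
    refine Subtype.ext (C.nondeg _ fun u => ?_)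
    have h2 := h1 (u - P.B f u • e - P.B e u • f) (hW.2 ⟨by simp [he, hf.ef], by
      simp [hf.fe, hf.sf.self_eq]⟩)
    have h3 : P.B v e = 0 := P.B_eq_zero_comm.1 (hW.1 v.2).1
    have h4 : P.B v f = 0 := P.B_eq_zero_comm.1 (hW.1 v.2).2
    simpa [h3, h4] using h2
  · rintro _ ⟨l, hl, rfl⟩ s
    have := em.z_conj l he s.2
    rw [hl e (Submodule.mem_span_singleton_self e)] at this
    exact mul_inv_eq_iff_eq_mul.1 this
  · rintro _ ⟨l, hl, rfl⟩
    exact (hst l (fix_le_stb _ hl)).2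
  · by_cases hv : v = 0
    · obtain ⟨e', f', k⟩ := m.exists_hh hf
      refine ⟨⟨e', hW.2 ⟨k.ee, k.fe⟩⟩, fun s e1 => ?_⟩
      have e2 : e' = 0 := by simpa [hv] using congrArg Subtype.val e1
      simpa [e2] using k.h₂.ef
    · obtain ⟨θ, hθ⟩ := m.herm.exists_ne_conj
      refine ⟨θ • v, fun s e1 => hθ ?_⟩
      have : θ = s := smul_left_injective K hv e1
      rw [this]; exact s.2
  · have := em.inj2 ((m.rad_two hTI).to_le (zpowers_le.2 ((m.mem_rad_pt h0 he).2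
      ⟨_, _, m.tok0 he s.2, rfl⟩))) e1
    rw [z, this, map_one]
  · refine fun M hM => map_le_iff_le_comap.2 (m.fix_le h0 he fun o μ _ hμ ho y hy => ?_)
    rw [mem_comap, map_mul, map_mul, map_mul, map_inv, map_inv]
    refine hM _ ⟨o, rfl⟩ (fun s => mul_inv_eq_iff_eq_mul.1 ?_) _ ⟨y, mem_fix_pt.2 hy, rfl⟩
    rw [em.z_conj o he s.2, ho, em.z_smul he s.2, hμ, one_mul]
  · rw [Yg, Rg, ← map_commutator]
    exact map_mono (m.rad_le_comm h0 he)
  · obtain ⟨s, c, hc', e1⟩ := hcQ y (le_normalizer (map_le_range _ _ hy)) hc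
    obtain ⟨l, hl, e2⟩ := mul_mem (inv_mem (hQY (hzQ s))) hy
    rw [e1, inv_mul_cancel_left] at e2
    obtain ⟨μ, hμ⟩ := m.mem_center.1 (em.mem_center (e2 ▸ hc'))
    have e3 : μ = 1 := smul_left_injective K h0 (by
      simpa using (hμ e).symm.trans (hl e (Submodule.mem_span_singleton_self e)))
    have e4 : l = 1 := C.ext fun v => by rw [hμ, e3, one_smul, C.one_apply]
    exact ⟨s, by rw [e1, ← e2, e4, map_one, mul_one]⟩
  · have h1 := (mem_normalizer_iff.1 (hnQ g e1 e2) q).1 hq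
    have h2 : π (g * q * g⁻¹ * q⁻¹) = 0 := by
      rw [hmul _ h1 _ (inv_mem hq), hc q hq, ← hmul _ hq _ (inv_mem hq), mul_inv_cancel]
      exact (hker 1 (one_mem _)).2 ⟨0, ((em.z_eq_one he (map_zero σ)).2 (Or.inr rfl)).symm⟩
    obtain ⟨s, hs⟩ := (hker _ (mul_mem h1 (inv_mem hq))).1 h2
    exact (em.mem_Z he).2 ⟨s, s.2, hs⟩
  · have hl' : (l : K) ≠ 0 := fun e1 => hl (Subtype.ext e1)
    obtain ⟨d, -, d1, -, d2⟩ := m.exists_diag1 hf hl' l.2
    have hd : ∀ v, C.act d v ∈ span K {e} ↔ v ∈ span K {e} := fun v => by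
      simp only [Submodule.mem_span_singleton]
      refine ⟨fun ⟨a, ha⟩ => ⟨a / l, (C.act d).injective ?_⟩, fun ⟨a, ha⟩ => ⟨a * l, ?_⟩⟩
      · rw [map_smul, d1, smul_smul, div_mul_cancel₀ _ hl', ha]
      · rw [← ha, map_smul, d1, smul_smul]
    refine ⟨φ d, ⟨d, rfl⟩, (hst d hd).1, (hst d hd).2, fun g hg => ?_, fun s => ?_⟩
    · obtain ⟨a, c, ha, k, rfl⟩ := hQ.1 hg
      have k1 := k.smul (σ l)
      rw [em.x_conj d k, d1, d2 a (hW.1 ha).1 (hW.1 ha).2, x, C.T_smul_left k, hπ _ _ ha k]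
      rw [P.σσ] at k1
      refine (hπ _ _ (Submodule.smul_mem _ _ ha) k1).trans (Subtype.ext ?_)
      rw [hs, hσ]
    · rw [em.z_conj d he s.2, d1, em.z_smul he s.2, hσ]
      rfl

theorem td (h2 : Two φ.range t) (hU : TI P U) (h0 : U ≠ ⊥) : TD φ.range (Rg C φ U) (Eg C φ U) t := by
  have m := h.toMod
  have em := h.toEmb
  refine { h.toStd with
    two' := h2
    ER := map_mono (m.E_le_rad hU)
    RH := map_le_range _ _
    sq := ?_
    cen := ?_
    EC := ?_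
    cR := fun g e1 e2 => ?_ }
  · rintro _ ⟨s, hs, rfl⟩
    rw [← map_mul, m.E_sq hU hs, map_one]
  · rintro _ ⟨s, hs, rfl⟩ _ ⟨r, hr, rfl⟩
    rw [← map_mul, ← map_mul, m.E_cent hU hs r (rad_le_fix _ hr)]
  · rintro _ ⟨s, hs, rfl⟩ hc
    rw [em.inj2 (Core.isPGroup_zpowers_iff.2 ⟨1, by rw [pow_one, pow_two, m.E_sq hU hs]⟩) hc, map_one]
  · by_cases hd : 2 ≤ finrank K U
    · exact em.cR hU hd (h.cN e1) e2
    obtain ⟨e, he, he0⟩ := (Submodule.ne_bot_iff U).1 h0
    obtain rfl : span K {e} = U := Submodule.eq_of_le_of_finrank_le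
      ((Submodule.span_singleton_le_iff_mem e U).2 he) (by rw [finrank_span_singleton he0]; omega)
    have hee : P.B e e = 0 := hU he e he
    obtain ⟨r, hr, c, hc, e3⟩ := em.cQ he0 hee (h.cN e1) e2
    exact ⟨_, (em.mem_Z hee).2 ⟨r, hr, rfl⟩, c, hc, e3⟩

end Sit

end CfsgLib.U5
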