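import Cfsg.Agent.Lib.U5.PrdA

/-! Product case: conjugates normalising both factors -/

set_option autoImplicit false
set_option linter.unusedSectionVars false

namespace CfsgLib.U5

open Subgroup Module CfsgLib.Forms CfsgLib.LieMult
open CfsgLib.HX (Std CO Two Mv Tr Heis NF Fus4 Has4 M2)
open Submodule (span)
open CfsgLib.UFP (mem_cent mem_cent1 conj_mem conj_mem' norm_conj pgroup_zpowers_of_sq conj_conj)
open scoped commutatorElement Pointwise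

universe u

variable {K : Type} [Field K] [Finite K] {σ : K →+* K} {V : Type} [AddCommGroup V] [Module K V]
  [FiniteDimensional K V] {P : PQ σ V} {S : Type} [Group S] [Finite S] {G : Type u} [Group G]
  [Finite G] {C : CG P S} {φ : S →* G} {t : G}

theorem PrdB_Od {G' : Type*} [Group G'] (f : S →* G') {H : Subgroup S} {H' : Subgroup G'}
    (e : ∀ s ∈ H, f s ∈ H') {s : S} (hs : s ∈ Od H) : f s ∈ Od H' := by
  refine (closure_le (K := (Od H').comap f)).2 ?_ hs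
  rintro o ⟨h1, h2⟩
  exact subset_closure ⟨e o h1, h2.of_dvd_nat (orderOf_map_dvd f o)⟩

theorem PrdB_Od2 {G' : Type*} [Group G'] (f : S →* G') {H : Subgroup S} {H' : Subgroup G'}
    (e : ∀ s ∈ H, f s ∈ H') {s : S} (hs : s ∈ Od2 H) : f s ∈ Od2 H' := by
  refine (closure_le (K := (Od2 H').comap f)).2 ?_ hs
  rintro o ⟨h1, h2⟩
  exact subset_closure ⟨by rw [← map_mul, h1, map_one], PrdB_Od f e h2⟩

theorem Act.PrdB_mul {g k : G} {α : RingAut K} {γ : AV V} (h : Act C φ g α γ)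
    (hk : k ∈ centralizer (φ.range : Set G)) : Act C φ (g * k) α γ :=
  ⟨h.toSI, fun s s' e => by
    rw [← h.conj s s' e, mul_assoc g, ← mem_cent.1 hk _ ⟨s, rfl⟩]; group⟩

theorem Mod.PrdB_T_sq (h : Mod C) {e a : V} (he : P.B e e = 0) (ha : P.B a a = 0) (hea : P.B e a = 0) :
    C.T e a 0 * C.T e a 0 = 1 := by
  have k := h.tok1 he ha hea (map_zero σ)
  rw [C.T_mul k k, h.vadd_self, ha, add_zero, add_zero, C.T_zero k.sing]

/-- an element acting as a graph involution, multiplied by a suitable involution -/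
theorem Emb.PrdB_big (h : Emb C φ) {g : G} {α : RingAut K} {γ : AV V} (k : Act C φ g α γ) (k' : Gr P α γ) :
    ∃ j, j * j = 1 ∧ (∀ H : Subgroup G, (∀ s, Commute g (φ s) → φ s ∈ H) → φ j ∈ Od H) ∧
      ∃ γ', Act C φ (g * φ j) α γ' ∧
        Nat.card (Fx σ) ^ (4 * (finrank K V / 4)) - 1 ∣ Nat.card (Od2 (Cg C γ')) := by
  obtain ⟨j, hj, j2, γ', e, -, d⟩ := h.toMod.gr_big k'
  refine ⟨j, j2, fun H hH => PrdB_Od φ (fun s hs => hH s (h.comm_of_act k hs)) hj, γ', ?_, d⟩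
  have := h.act_mul k (h.act_self j)
  rw [mul_one] at this
  convert this using 1
  ext v
  rw [e, Od_le _ hj v]; rfl

theorem Emb.PrdB_syl (h : Emb C φ) {r a : ℕ} (hr : r.Prime) (hK : ¬ r ∣ Nat.card K - 1) {H : Subgroup S}
    (hd : r ^ a ∣ Nat.card H) : ∃ R ≤ H, Nat.card R = r ^ a ∧
      ∀ s ∈ R, φ s ∈ centralizer (φ.range : Set G) → s = 1 := by
  have := Fact.mk hr
  obtain ⟨R, hR⟩ := Sylow.exists_subgroup_card_pow_prime r hd
  have c : Nat.card (R.map H.subtype) = r ^ a := by rw [card_map_of_injective H.subtype_injective, hR]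
  refine ⟨R.map H.subtype, map_subtype_le R, c, fun s hs e => ?_⟩
  have h1 : orderOf s ∣ r ^ a := c ▸ orderOf_dvd_natCard _ hs
  have h2 : orderOf s ∣ Nat.card K - 1 := (orderOf_dvd_natCard _ (h.mem_center e)).trans h.toMod.card_center_dvd
  exact orderOf_eq_one_iff.1 (Nat.eq_one_of_dvd_coprimes ((hr.coprime_iff_not_dvd.2 hK).pow_left a) h1 h2)

namespace DblP

variable {y : V → K → G} {c : K} {φ₁ φ₂ : S →* G} (h : DblP C φ t y c φ₁ φ₂) {Gs : Subgroup G}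
include h

theorem not_gr_inner {g : G} {α : RingAut K} {γ : AV V} (k : Act C φ₁ (g * t * g⁻¹) α γ)
    (k' : Gr P α γ) {j : S} (j2 : j * j = 1)
    (hj : (φ₂ j)⁻¹ * (g * t * g⁻¹) ∈ centralizer (φ₂.range : Set G)) : False := by
  induction' hn : finrank K (LinearMap.range (nu C j)) using Nat.strong_induction_on with n ih generalizing g j
  by_cases j1 : j = 1
  · subst j1
    rw [map_one, inv_one, one_mul] at hj
    have H := h.toSit.cj g
    have h1 : φ₂.range ≤ _ := H.le_of_perf (fun x hx => mem_cent1.2 (mem_cent.1 hj x hx).symm) h.emb₂.perf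
    have h2 : Nat.card φ.range ≤ Nat.card φ₂.range := by
      rw [← index_ker, ← index_ker]
      refine Nat.le_of_dvd (Nat.pos_of_ne_zero index_ne_zero_of_finite) (index_dvd_of_le fun s hs => ?_)
      rw [MonoidHom.mem_ker] at hs ⊢
      rw [h.ext, ← h.symm.tc, hs]; group
    have h3 := Core.eq_of_le_of_card_le h1 (by rwa [PrdA_range_cj, Coprime.card_conj_smul])
    obtain ⟨e, a, -, -, -, -, he, ha, hea, e0, a0, -, -, -, hT⟩ := h.toMod.gr_T k'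
    have k1 := h.toMod.tok1 he ha hea (map_one σ)
    have T2 : C.T e a 1 * C.T e a 1 = 1 := by
      rw [C.T_mul k1 k1, h.toMod.vadd_self, h.toMod.add_self, ha, add_zero, C.T_zero k1.sing]
    have h4 := H.mem_of_Od (PrdB_Od φ₁ (fun s hs => mem_cent1.2 (h.emb₁.comm_of_act k hs).eq) hT)
      (pgroup_zpowers_of_sq (by rw [← map_mul, T2, map_one]))
    obtain ⟨l, rfl, -⟩ := (h.toMod.T_eq_one k1 e0).1
      (h.emb₁.inj2 (pgroup_zpowers_of_sq T2) (h.c21 (h3 ▸ h4)))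
    exact a0 (Submodule.smul_mem _ _ (Submodule.mem_span_singleton_self e))
  · obtain ⟨k0, hk, k2, lt⟩ := h.toMod.invol_red j2 j1
    have ck : j * k0 = k0 * j := mem_cent1.1 (Od_le _ hk)
    obtain ⟨g', e⟩ := h.toHL.conj_mul (g := g) (k := φ₂ k0) (PrdB_Od φ₂ (fun s hs => mem_cent1.2 (by
      have e1 := mem_cent.1 hj _ ⟨s, rfl⟩
      have e2 : φ₂ j * φ₂ s = φ₂ s * φ₂ j := by rw [← map_mul, mem_cent1.1 hs, map_mul]
      calc _ = φ₂ j * ((φ₂ j)⁻¹ * (g * t * g⁻¹) * φ₂ s) := by group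
        _ = φ₂ j * φ₂ s * ((φ₂ j)⁻¹ * (g * t * g⁻¹)) := by rw [← e1]; group
        _ = _ := by rw [e2]; group)) hk) (by rw [← map_mul, k2, map_one])
    refine ih _ (hn ▸ lt) (g := g') (j := j * k0) (e ▸ k.PrdB_mul (h.c21 ⟨k0, rfl⟩)) ?_ ?_ rfl
    · rw [mul_assoc, ← mul_assoc k0, ← ck, mul_assoc j, k2, mul_one, j2]
    · rw [e, map_mul, show (φ₂ j * φ₂ k0)⁻¹ * (g * t * g⁻¹ * φ₂ k0) =
        (φ₂ k0)⁻¹ * ((φ₂ j)⁻¹ * (g * t * g⁻¹) * φ₂ k0) by group, ← mem_cent.1 hj _ ⟨k0, rfl⟩, inv_mul_cancel_left]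
      exact hj

theorem not_gr_gr {g : G} {α α' : RingAut K} {γ γ' : AV V} (k₁ : Act C φ₁ (g * t * g⁻¹) α γ)
    (k₁' : Gr P α γ) (k₂ : Act C φ₂ (g * t * g⁻¹) α' γ') (k₂' : Gr P α' γ') : False := by
  obtain ⟨j₁, s₁, o₁, δ₁, a₁, d₁⟩ := h.emb₁.PrdB_big k₁ k₁'
  obtain ⟨g₁, e₁⟩ := h.toHL.conj_mul (g := g) (o₁ _ fun s hs => mem_cent1.2 hs.eq) (by rw [← map_mul, s₁, map_one])
  have b₁ := k₂.PrdB_mul (h.symm.c21 ⟨j₁, rfl⟩)
  rw [← e₁] at a₁ b₁
  obtain ⟨j₂, s₂, o₂, δ₂, a₂, d₂⟩ := h.emb₂.PrdB_big b₁ k₂'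
  obtain ⟨g₂, e₂⟩ := h.toHL.conj_mul (g := g₁) (o₂ _ fun s hs => mem_cent1.2 hs.eq) (by rw [← map_mul, s₂, map_one])
  have b₂ := a₁.PrdB_mul (h.c21 ⟨j₂, rfl⟩)
  rw [← e₂] at a₂ b₂
  have H := h.toSit.cj g₂
  have d4 := h.d4
  obtain ⟨r, a, hr, r1, r2, r3⟩ := h.toMod.ppdB (n := 4 * (finrank K V / 4)) (dvd_mul_right _ _) (by omega)
  obtain ⟨R₁, l₁, c₁, i₁⟩ := h.emb₁.PrdB_syl hr r3 (r1.trans d₁)
  obtain ⟨R₂, l₂, c₂, i₂⟩ := h.emb₂.PrdB_syl hr r3 (r1.trans d₂)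
  let f : R₁ × R₂ →* G := MonoidHom.noncommCoprod (φ₁.comp R₁.subtype) (φ₂.comp R₂.subtype) fun a b => h.c12 _ _
  have hf : Function.Injective f := (injective_iff_map_eq_one f).2 fun ⟨p, q⟩ e => by
    have e' : φ₁ p * φ₂ q = 1 := e
    have e1 : p = 1 := Subtype.ext (i₁ p p.2 (by
      rw [eq_inv_of_mul_eq_one_left e']; exact inv_mem (h.c21 ⟨q, rfl⟩)))
    have e2 : q = 1 := Subtype.ext (i₂ q q.2 (by
      rw [eq_inv_of_mul_eq_one_right e']; exact inv_mem (h.symm.c21 ⟨p, rfl⟩)))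
    rw [e1, e2]; rfl
  have hle : f.range ≤ ((MulAut.conj g₂).toMonoidHom.comp φ).range := by
    rintro _ ⟨⟨p, q⟩, rfl⟩
    exact mul_mem
      (H.Od2_le (PrdB_Od2 φ₁ (fun s hs => mem_cent1.2 (h.emb₁.comm_of_act b₂ hs).eq) (l₁ p.2)))
      (H.Od2_le (PrdB_Od2 φ₂ (fun s hs => mem_cent1.2 (h.emb₂.comm_of_act a₂ hs).eq) (l₂ q.2)))
  have h1 := (card_dvd_of_le hle).trans (card_range_dvd _)
  rw [← Nat.card_congr (MonoidHom.ofInjective hf).toEquiv, Nat.card_prod, c₁, c₂, ← pow_add, ← two_mul] at h1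
  exact r2 h1

theorem isU (hG : SLE.Glob Gs t) (hL : φ.range ≤ Gs) :
    UFP.U (normalizer (G0 C φ y : Set G)) t := by
  refine ⟨h.t2, h.toHL.t_norm, fun g hg => h.native hg fun h1 => ?_⟩
  have h2 := h.norm2 hg h1
  have s2 := (h.toSit.cj g).t2
  rcases h.emb₁.invol h1 s2 with ⟨p, p2, e1⟩ | ⟨α, γ, k, k'⟩ <;>
    rcases h.emb₂.invol h2 s2 with ⟨q, q2, e2⟩ | ⟨α', γ', l, l'⟩
  · have hp : φ₁ p ∈ φ₁.range := ⟨p, rfl⟩
    have hq : φ₂ q ∈ φ₂.range := ⟨q, rfl⟩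
    have h3 : (φ₁ p * φ₂ q)⁻¹ * (g * t * g⁻¹) ∈ Gs := hG.mem_of_odd
      (UFP.odd_orderOf h.toHL.cent_odd (h.mem_W (k := (φ₁ p * φ₂ q)⁻¹ * (g * t * g⁻¹))
        (by rw [mul_inv_rev, mul_assoc]; exact mul_mem (inv_mem (h.c21 hq)) e1)
        (by rw [h.cm hp hq, mul_inv_rev, mul_assoc]; exact mul_mem (inv_mem (h.symm.c21 hp)) e2)))
      (by rw [pow_orderOf_eq_one]; exact one_mem _)
    rw [mul_mem_cancel_left (inv_mem (mul_mem (hG.pf_le h.emb₁.perf hp) (hG.pf_le h.emb₂.perf hq)))] at h3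
    exact h.not_mem hG (by simpa [mul_assoc] using hG.nrm.conj_mem _ h3 g⁻¹)
  · exact h.symm.not_gr_inner l l' p2 e1
  · exact h.not_gr_inner k k' q2 e2
  · exact h.not_gr_gr k k' l l' 

end DblP

end CfsgLib.U5
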