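import Cfsg.Agent.Lib.U5.LineB

/-! Involutions over the transvections, additive form -/

set_option autoImplicit false
set_option linter.unusedSectionVars false

namespace CfsgLib.U5

open Subgroup Module CfsgLib.Forms CfsgLib.LieMult
open CfsgLib.HX (Std CO Two Mv Tr Heis NF Fus4 Has4 M2)
open Submodule (span)
open scoped commutatorElement Pointwise

universe u

variable {K : Type} [Field K] [Finite K] {σ : K →+* K} {V : Type} [AddCommGroup V] [Module K V]
  [FiniteDimensional K V] {P : PQ σ V} {S : Type} [Group S] [Finite S] {G : Type u} [Group G]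
  [Finite G] {C : CG P S} {φ : S →* G} {t : G}

theorem inv_abs {A : Type*} [AddCommGroup A] {Z Z' B : K → A} {M : K → A → Prop} {N : K → A →+ A}
    {τ d : A →+ A} {l : K} {a₀ : A} (h : Mod C)
    (Za : ∀ r s, σ r = r → σ s = s → Z (r + s) = Z r + Z s)
    (Za' : ∀ r s, σ r = r → σ s = s → Z' (r + s) = Z' r + Z' s) (Ba : ∀ u v, B (u + v) = B u + B v)
    (inj : ∀ r v r', σ r = r → σ r' = r' → Z r + B v + Z' r' = 0 → r = 0 ∧ v = 0 ∧ r' = 0)
    (ker : ∀ a, τ a = a → ∃ r v r', σ r = r ∧ σ r' = r' ∧ a = Z r + B v + Z' r')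
    (τZ' : ∀ r, σ r = r → τ (Z' r) = Z' r)
    (Mex : ∀ s, σ s = s → ∃ y, M s y) (Mτ : ∀ s y, M s y → τ y = y + Z s)
    (Madd : ∀ s y s' y', M s y → M s' y' → M (s + s') (y + y'))
    (Mu : ∀ s y y', M s y → M s y' → ∃ r, σ r = r ∧ y' = y + Z r) (MZ : ∀ r, σ r = r → M 0 (Z r))
    (MN : ∀ u s y, M s y → N u y = y) (Md : ∀ s y, M s y → M (l * l * s) (d y))
    (τa : τ a₀ = a₀ + B 1) (Nτ : ∀ u a, τ (N u a) = N u (τ a)) (Na : ∀ u u' a, N (u + u') a = N u (N u' a))
    (N0 : ∀ a, N 0 a = a) (dN : ∀ u a, d (N u a) = N (l * l * u) (d a)) (dτ : ∀ a, τ (d a) = d (τ a))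
    (NB : ∀ u v, N u (B v) = B v + Z (v * u + σ (v * u)))
    (NZ' : ∀ u r, σ r = r → N u (Z' r) = Z' r + Z (σ u * u * r) + B (σ u * r))
    (dB : ∀ v, d (B v) = B v) (dZ' : ∀ r, σ r = r → d (Z' (l * l * r)) = Z' r)
    (hl : σ l = l) (l1 : l ≠ 1) {s : K} (hs : σ s = s) : ∃ y, M s y ∧ y + y = 0 := by
  have σσ := P.σσ
  have k2 := h.add_self
  have two : (2 : K) = 0 := h.two
  have Z0 : Z 0 = 0 := by simpa using Za 0 0 (map_zero σ) (map_zero σ)
  have Z0' : Z' 0 = 0 := by simpa using Za' 0 0 (map_zero σ) (map_zero σ)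
  have B0 : B 0 = 0 := by simpa using Ba 0 0
  have Z2 : ∀ r, σ r = r → Z r + Z r = 0 := fun r hr => by rw [← Za _ _ hr hr, k2, Z0]
  have Z2' : ∀ r, σ r = r → Z' r + Z' r = 0 := fun r hr => by rw [← Za' _ _ hr hr, k2, Z0']
  have B2 : ∀ v, B v + B v = 0 := fun v => by rw [← Ba, k2, B0]
  have fN : ∀ u s, σ s = s → σ (σ u * u * s) = σ u * u * s := fun u s hs => by
    rw [map_mul, map_mul, σσ, hs]; ring
  have fT : ∀ v, σ (v + σ v) = v + σ v := fun v => by rw [map_add, σσ, add_comm]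
  have fa : ∀ {r s}, σ r = r → σ s = s → σ (r + s) = r + s := fun hr hs => by rw [map_add, hr, hs]
  have ν : 1 + l * l ≠ 0 := fun e => l1 (h.eq_one_of_sq (by linear_combination e - two))
  have NZ : ∀ u r, σ r = r → N u (Z r) = Z r := fun u r hr => MN _ _ _ (MZ r hr)
  have MZ' : ∀ s y r, M s y → σ r = r → M s (y + Z r) := fun s y r k hr => by
    simpa using Madd _ _ _ _ k (MZ r hr)
  have uq : ∀ s y y' v v', M s y → M s y' → y + B v = y' + B v' → v = v' := fun s y y' v v' k k' e => by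
    obtain ⟨r, hr, rfl⟩ := Mu _ _ _ k k'
    have := (inj r (v + v') 0 hr (map_zero σ) (by
      rw [Ba, Z0']; linear_combination (norm := abel1) -e + B2 v)).2.1
    linear_combination this - v' * two
  obtain ⟨a, τa', r, v, hr, da⟩ : ∃ a, τ a = a + B 1 ∧ ∃ r v, σ r = r ∧ d a = a + Z r + B v := by
    obtain ⟨r, v, r', hr, hr', e⟩ := ker (d a₀ - a₀) (by rw [map_sub, dτ, τa, map_add, dB]; abel)
    obtain ⟨c, rfl⟩ : ∃ c, r' = (1 + l * l) * c := ⟨r' / _, (mul_div_cancel₀ _ ν).symm⟩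
    have hc : σ c = c := mul_left_cancel₀ ν (by simpa [hl] using hr')
    have hc' : σ (l * l * c) = l * l * c := by simp [hl, hc]
    refine ⟨a₀ + Z' (l * l * c), by rw [map_add, τa, τZ' _ hc']; abel, r, v, hr, ?_⟩
    rw [add_mul, one_mul, Za' _ _ hc hc'] at e
    rw [map_add, dZ' _ hc]
    linear_combination (norm := abel1) e + Z2' c hc
  have ex : ∀ u, ∃ y β, M (u + σ u) y ∧ N u a = a + y + B β := fun u => by
    by_cases u0 : u = 0
    · exact ⟨0, 0, by simpa [u0, Z0] using MZ 0 (map_zero σ), by simp [u0, N0, B0]⟩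
    obtain ⟨y, hy⟩ := Mex _ (fT u)
    obtain ⟨r, v, r', hr, hr', e⟩ := ker (N u a - a - y) (by
      rw [map_sub, map_sub, Nτ, τa', map_add, NB, one_mul, Mτ _ _ hy]; abel)
    have e1 := congrArg (N u) e
    rw [map_sub, map_sub, ← Na, k2, N0, MN _ _ _ hy, map_add, map_add, NZ _ _ hr, NB, NZ' _ _ hr'] at e1
    obtain ⟨c, hc, e2⟩ := Mu _ _ _ (MZ 0 (map_zero σ)) (k2 _ ▸ Madd _ _ _ _ hy hy)
    have e3 := (inj (c + (v * u + σ (v * u)) + σ u * u * r') (σ u * r') 0 (fa (fa hc (fT _)) (fN _ _ hr'))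
      (map_zero σ) (by
        rw [Za _ _ (fa hc (fT _)) (fN _ _ hr'), Za _ _ hc (fT _), Z0']
        linear_combination (norm := abel1) -e - e1 - e2 - Z0 - Z2 r hr - B2 v - Z2' r' hr')).2.1
    rw [(mul_eq_zero.1 e3).resolve_left ((map_ne_zero σ).2 u0), Z0'] at e
    exact ⟨_, v, MZ' _ _ r hy hr, by linear_combination (norm := abel1) e⟩
  choose y β hy hN using ex
  have βa : ∀ u u', β (u + u') = β u + β u' := fun u u' => by
    have e := Na u u' a
    rw [hN, hN u', map_add, map_add, hN, MN _ _ _ (hy _), NB] at e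
    have k := MZ' _ _ _ (Madd _ _ _ _ (hy u) (hy u')) (fT (β u' * u))
    rw [add_add_add_comm, ← map_add] at k
    exact uq _ _ _ _ _ (hy _) k (by rw [Ba]; linear_combination (norm := abel1) e)
  have βd : ∀ u, β (l * l * u) = β u := fun u => by
    have e := dN u a
    rw [hN, map_add, map_add, da, dB, map_add, map_add, hN, NZ _ _ hr, NB] at e
    have k := Md _ _ (hy u)
    rw [show l * l * (u + σ u) = l * l * u + σ (l * l * u) by simp [hl, mul_add]] at k
    exact uq _ _ _ _ _ (MZ' _ _ _ (hy _) (fT (v * (l * l * u)))) k (by linear_combination (norm := abel1) -e)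
  obtain ⟨θ, hθ⟩ := h.herm.exists_trace_one
  obtain ⟨u, hu⟩ : ∃ u, θ * s = (1 + l * l) * u := ⟨θ * s / _, (mul_div_cancel₀ _ ν).symm⟩
  have e := congrArg (N (θ * s)) (hN (θ * s))
  have b0 : β (θ * s) = 0 := by rw [hu, add_mul, one_mul, βa, βd, k2]
  rw [← Na, k2, N0, b0, B0, add_zero, map_add, hN, b0, B0, MN _ _ _ (hy _)] at e
  refine ⟨y (θ * s), ?_, by linear_combination (norm := abel1) -e⟩
  have := hy (θ * s)
  rwa [map_mul, hs, ← add_mul, hθ, one_mul] at this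

end CfsgLib.U5
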