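import Cfsg.Agent.Lib.U5.PreA0

/-! Two-elements over the transvections -/

set_option autoImplicit false
set_option linter.unusedSectionVars false

namespace CfsgLib.U5

open Subgroup Module CfsgLib.Forms CfsgLib.LieMult
open CfsgLib.HX (Std CO Two Mv Tr Heis NF Fus4 Has4 M2)
open Submodule (span)
open scoped commutatorElement Pointwise

universe u

variable {K : Type} [Field K] [Finite K] {σ : K →+* K} {V : Type} [AddCommGroup V] [Module K V]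
  [FiniteDimensional K V] {P : PQ σ V} {S : Type} [Group S] [Finite S] {G : Type u} [Group G]
  [Finite G] {C : CG P S} {φ : S →* G} {t : G}

namespace PA

variable (C φ) in
/-- normal form in `E(l)` -/
def nf (e e' : V) (r v r' : K) : G := z C φ e r * x C φ e (v • e') 0 * z C φ e' r'

section Nf

variable (h : Emb C φ) {e f e' f' : V} (k : HH P e f e' f') {r v r' s u s' : K}

theorem hh_ti (k : HH P e f e' f') : TI P (span K {e, e'}) :=
  ti_span.2 (by simp [k.h₁.se.self_eq, k.h₂.se.self_eq, k.ee, k.symm.ee])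

include h k

theorem tokB (v : K) : TOk P e (v • e') 0 :=
  h.toMod.tok1 k.h₁.se.self_eq (by simp [k.h₂.se.self_eq]) (by simp [k.ee]) (map_zero σ)

theorem mem_nf {g : G} : g ∈ Eg C φ (span K {e, e'}) ↔
    ∃ r v r', σ r = r ∧ σ r' = r' ∧ g = nf C φ e e' r v r' := by
  simp only [Eg, mem_map, h.toMod.mem_E_line k, nf, z, x, ← map_mul]
  exact ⟨fun ⟨_, ⟨r, v, r', a, b, c⟩, d⟩ => ⟨r, v, r', a, b, c ▸ d.symm⟩,
    fun ⟨r, v, r', a, b, c⟩ => ⟨_, ⟨r, v, r', a, b, rfl⟩, c.symm⟩⟩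

theorem nf_inj (hr : σ r = r) (hr' : σ r' = r') (hs : σ s = s) (hs' : σ s' = s')
    (e1 : nf C φ e e' r v r' = nf C φ e e' s u s') : r = s ∧ v = u ∧ r' = s' := by
  have m := h.toMod
  simp only [nf, z, x, ← map_mul] at e1
  exact m.E_line_inj k hr hr' hs hs' (h.inj_two (m.rad_two (hh_ti k))
    (m.E_le_rad (hh_ti k) ((m.mem_E_line k).2 ⟨_, _, _, hr, hr', rfl⟩))
    (m.E_le_rad (hh_ti k) ((m.mem_E_line k).2 ⟨_, _, _, hs, hs', rfl⟩)) e1)

theorem b_add (u v : K) : x C φ e ((u + v) • e') 0 = x C φ e (u • e') 0 * x C φ e (v • e') 0 := by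
  rw [x, x, x, ← map_mul, C.T_mul (tokB h k _) (tokB h k _), add_smul]; simp [k.h₂.se.self_eq]

theorem nf_zero : nf C φ e e' 0 0 0 = 1 := by
  simp only [nf, z, x, zero_smul, C.T_zero k.h₁.se, C.T_zero k.h₂.se, map_one, mul_one]

theorem nf_z (r : K) : nf C φ e e' r 0 0 = z C φ e r := by
  simp only [nf, z, x, zero_smul, C.T_zero k.h₁.se, C.T_zero k.h₂.se, map_one, mul_one]

theorem nf_b (v : K) : nf C φ e e' 0 v 0 = x C φ e (v • e') 0 := by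
  simp only [nf, z, C.T_zero k.h₁.se, C.T_zero k.h₂.se, map_one, mul_one, one_mul]

theorem nf_z' (r : K) : nf C φ e e' 0 0 r = z C φ e' r := by
  simp only [nf, z, x, zero_smul, C.T_zero k.h₁.se, map_one, one_mul]

theorem E_comm {a b : G} (ha : a ∈ Eg C φ (span K {e, e'})) (hb : b ∈ Eg C φ (span K {e, e'})) :
    Commute a b := by
  obtain ⟨a, ha, rfl⟩ := ha
  obtain ⟨b, hb, rfl⟩ := hb
  exact Commute.map (h.toMod.E_cent (hh_ti k) hb a (rad_le_fix _ (h.toMod.E_le_rad (hh_ti k) ha))) φ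

theorem nf_mul (hr : σ r = r) (hr' : σ r' = r') (hs : σ s = s) (hs' : σ s' = s') :
    nf C φ e e' r v r' * nf C φ e e' s u s' = nf C φ e e' (r + s) (v + u) (r' + s') := by
  have z0 := map_zero σ
  have a1 := (mem_nf h k).2 ⟨_, _, _, hs, z0, (nf_z h k s).symm⟩
  have a2 := fun v => (mem_nf h k).2 ⟨_, _, _, z0, z0, (nf_b h k v).symm⟩
  have a3 := (mem_nf h k).2 ⟨_, _, _, z0, hr', (nf_z' h k r').symm⟩
  simp only [nf, h.z_add k.h₁.se.self_eq hr hs, h.z_add k.h₂.se.self_eq hr' hs', b_add h k, mul_assoc]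
  rw [(E_comm h k a3 a1).left_comm, (E_comm h k a3 (a2 _)).left_comm, (E_comm h k (a2 _) a1).left_comm]

theorem nf_symm (hr : σ r = r) (hr' : σ r' = r') : nf C φ e' e r' v r = nf C φ e e' r (σ v) r' := by
  have z0 := map_zero σ
  have e1 : x C φ e' (v • e) 0 = x C φ e (σ v • e') 0 := by
    have := C.T_smul_left (tokB h k 1) v
    rw [one_smul, mul_zero] at this
    rw [x, h.toMod.T_symm k.h₂.se.self_eq (by simp [k.h₁.se.self_eq]) (by simp [k.symm.ee]), this, x]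
  rw [nf, e1, ← nf_z h k, ← nf_b h k, ← nf_z' h k, nf_mul h k z0 hr' z0 z0,
    nf_mul h k (by simp) (by simpa) hr z0]
  simp

theorem nf_conj {l : S} {a b : K} (h1 : C.act l e = a • e) (h2 : C.act l e' = b • e') (hr : σ r = r)
    (hr' : σ r' = r') : φ l * nf C φ e e' r v r' * (φ l)⁻¹ =
      nf C φ e e' (σ a * a * r) (σ a * b * v) (σ b * b * r') := by
  have := C.T_smul_left (tokB h k (v * b)) a
  rw [nf, nf, ← h.z_smul k.h₁.se.self_eq hr, ← h.z_smul k.h₂.se.self_eq hr', ← h1, ← h2,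
    ← h.z_conj l k.h₁.se.self_eq hr, ← h.z_conj l k.h₂.se.self_eq hr',
    show x C φ e ((σ a * b * v) • e') 0 = φ l * x C φ e (v • e') 0 * (φ l)⁻¹ by
      rw [h.x_conj l (tokB h k v), h1, map_smul, h2, smul_smul, x, x, this, smul_smul, mul_zero,
        mul_comm v, mul_assoc]]
  group

end Nf

variable (C φ t) in
/-- 2-elements over a transvection -/
structure Ov (p : V) (s : K) (g : G) : Prop where
  hs : σ s = s
  mv : Mv φ.range (Yg C φ (span K {p})) t (z C φ p s) g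
  two : IsPGroup 2 (zpowers g)

variable (C φ t) in
/-- those in the commutator group with the torus -/
def O1 (l : K) (p : V) (s : K) (g : G) : Prop := Ov C φ t p s g ∧ ∃ g₀ s₀ k r, Ov C φ t p s₀ g₀ ∧
  C.act k p = l • p ∧ σ r = r ∧ g = φ k * g₀ * (φ k)⁻¹ * g₀⁻¹ * z C φ p r

variable (h : Sit C φ t) (h2 : Two φ.range t) {p : V} (p0 : p ≠ 0) (hp : P.B p p = 0)
  {s s' r c l : K} {g g' : G} {k k' : S}

theorem Ov.fix (o : Ov C φ t p s g) (e : C.act k p = p) : Commute (φ k) g := o.mv.cY _ (HatP.fix_mem e)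

theorem Ov.same (o : Ov C φ t p s g) (e : C.act k p = C.act k' p) :
    φ k * g * (φ k)⁻¹ = φ k' * g * (φ k')⁻¹ := by
  have := (o.fix (k := k'⁻¹ * k) (by rw [C.mul_apply, e, C.inv_apply])).mul_inv_cancel
  rw [map_mul, map_inv] at this
  conv_rhs => rw [← this]
  group

include h hp

theorem Ov.cz (o : Ov C φ t p s g) (hr : σ r = r) : Commute (z C φ p r) g := o.mv.cY _ (h.z_Y hp hr)

theorem Ov.conj (o : Ov C φ t p s g) (k : S) : Ov C φ t (C.act k p) s (φ k * g * (φ k)⁻¹) :=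
  ⟨o.hs, h.z_conj k hp o.hs ▸ h.mv_conj k o.mv,
    HX.A2D.two_iff.2 (StdInt.two_conj _ (HX.A2D.two_iff.1 o.two))⟩

theorem Ov.smul (o : Ov C φ t (c • p) s g) (c0 : c ≠ 0) : Ov C φ t p (σ c * c * s) g :=
  ⟨HatP.nF c o.hs P, by
    simpa only [Submodule.span_singleton_smul_eq c0.isUnit, h.z_smul hp o.hs] using o.mv, o.two⟩

theorem O1.conj (o : O1 C φ t l p s g) (k : S) : O1 C φ t l (C.act k p) s (φ k * g * (φ k)⁻¹) := by
  obtain ⟨o, g₀, s₀, k', r, o₀, e1, hr, e2⟩ := o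
  refine ⟨o.conj h hp k, _, s₀, k * k' * k⁻¹, r, o₀.conj h hp k, ?_, hr, ?_⟩
  · rw [C.mul_apply, C.inv_apply, C.mul_apply, e1, map_smul]
  · rw [← h.z_conj k hp hr, e2, map_mul, map_mul, map_inv]; group

theorem O1.smul (o : O1 C φ t l (c • p) s g) (c0 : c ≠ 0) : O1 C φ t l p (σ c * c * s) g := by
  obtain ⟨o, g₀, s₀, k', r, o₀, e1, hr, e2⟩ := o
  refine ⟨o.smul h hp c0, _, _, k', _, o₀.smul h hp c0, ?_, HatP.nF c hr P, h.z_smul hp hr c ▸ e2⟩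
  rw [map_smul, smul_comm l] at e1
  exact smul_right_injective V c0 e1

theorem zE (hr : σ r = r) : z C φ p r ∈ Eg C φ (span K {p}) := (h.mem_Z hp).2 ⟨r, hr, rfl⟩

theorem t_mul (o : Ov C φ t p s g) : t * g = g * t * z C φ p s := by
  rw [mul_inv_eq_iff_eq_mul.1 o.mv.pt, mul_assoc, mul_assoc, ← (o.cz h hp o.hs).eq, ← mul_assoc (z _ _ _ _),
    h.z_sq hp o.hs, one_mul]

include p0

theorem Ov.uq (o : Ov C φ t p s g) (o' : Ov C φ t p s' g) : s = s' := by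
  have e := mul_left_cancel (o.mv.pt.symm.trans o'.mv.pt)
  have : z C φ p (s + s') = 1 := by rw [h.z_add hp o.hs o'.hs, e, h.z_sq hp o'.hs]
  rw [h.z_eq_one hp (by rw [map_add, o.hs, o'.hs])] at this
  linear_combination this.resolve_left p0 - s' * h.two

include h2

theorem td1 : TD φ.range (Rg C φ (span K {p})) (Eg C φ (span K {p})) t :=
  h.td h2 (ti_span.2 (by simpa)) (by simpa)

omit h2 p0 hp in
theorem Ov.tr (o : Ov C φ t p s g) : Tr φ.range (Rg C φ (span K {p})) t (z C φ p s) g :=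
  h.tr_of_mv (Submodule.mem_span_singleton_self p) o.mv o.two

theorem Ov.mul (o : Ov C φ t p s g) (o' : Ov C φ t p s' g') : Ov C φ t p (s + s') (g * g') := by
  have k := (td1 h h2 p0 hp).tr_mul (zE h hp o.hs) (zE h hp o'.hs) (o.tr h) (o'.tr h)
  exact ⟨by rw [map_add, o.hs, o'.hs], ⟨mul_mem o.mv.cY o'.mv.cY, h.z_add hp o.hs o'.hs ▸ k.tr, k.co⟩, k.two⟩

theorem Ov.inv (o : Ov C φ t p s g) : Ov C φ t p s g⁻¹ := by
  have k := (td1 h h2 p0 hp).tr_inv (zE h hp o.hs) (o.tr h)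
  exact ⟨o.hs, ⟨inv_mem o.mv.cY, k.tr, k.co⟩, k.two⟩

theorem Ov.zero (o : Ov C φ t p 0 g) : ∃ r, σ r = r ∧ (g = z C φ p r ∨ g = t * z C φ p r) := by
  rcases (td1 h h2 p0 hp).tr_one (HatP.z0 h.toEmb hp ▸ o.tr h) with k | k
  · obtain ⟨r, hr, e⟩ := (h.mem_Z hp).1 k
    exact ⟨r, hr, .inl e⟩
  · obtain ⟨r, hr, e⟩ := (h.mem_Z hp).1 k
    exact ⟨r, hr, .inr (by rw [← e, ← mul_assoc, h.t2, one_mul])⟩

theorem Ov.z (hr : σ r = r) : Ov C φ t p 0 (z C φ p r) := by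
  have k := (td1 h h2 p0 hp).tr_E (zE h hp hr)
  refine ⟨map_zero σ, ⟨?_, (HatP.z0 h.toEmb hp).symm ▸ k.tr, k.co⟩, k.two⟩
  rintro _ ⟨a, ha, rfl⟩
  rw [U5.z, ← map_mul, ← map_mul,
    h.toMod.E_cent (ti_span.2 (by simpa)) ((h.toMod.mem_E_pt hp).2 ⟨r, hr, rfl⟩) a ha]

theorem Ov.mulz (o : Ov C φ t p s g) (hr : σ r = r) : Ov C φ t p s (g * U5.z C φ p r) := by
  simpa using o.mul h h2 p0 hp (Ov.z h h2 p0 hp hr)

theorem Ov.cm (o : Ov C φ t p s g) (e : C.act k p = c • p) (c0 : c ≠ 0) :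
    Ov C φ t p (σ c * c * s + s) (φ k * g * (φ k)⁻¹ * g⁻¹) :=
  ((e ▸ o.conj h hp k).smul h hp c0).mul h h2 p0 hp (o.inv h h2 p0 hp)

/-- elements of odd order with a multiplier of norm one -/
theorem Ov.odd (o : Ov C φ t p s g) (e : C.act k p = c • p) (hc : σ c * c = 1) (ok : Odd (orderOf k)) :
    Commute (φ k) g := by
  have c0 : c ≠ 0 := fun e => by simp [e] at hc
  have o1 := o.cm h h2 p0 hp e c0
  rw [hc, one_mul, h.toMod.add_self] at o1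
  obtain ⟨r, hr, e1⟩ := o1.zero h h2 p0 hp
  have c1 : Commute (φ k) (U5.z C φ p r) := HatP.coc (by rw [h.z_conj k hp hr, e, h.z_smul hp hr, hc, one_mul])
  obtain ⟨a, ha, c2, a2⟩ : ∃ a, φ k * g * (φ k)⁻¹ * g⁻¹ = a ∧ Commute (φ k) a ∧ a * a = 1 := by
    rcases e1 with e1 | e1
    · exact ⟨_, e1, c1, h.z_sq hp hr⟩
    · exact ⟨_, e1, (h.tφ k).mul_right c1, by
        rw [mul_assoc, ← mul_assoc (U5.z _ _ _ _), U5.z, (h.tφ _).eq, ← mul_assoc, ← mul_assoc, h.t2, one_mul]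
        exact h.z_sq hp hr⟩
  rw [mul_inv_eq_iff_eq_mul, mul_inv_eq_iff_eq_mul] at ha
  refine (UFP.comm_of_sq (ok.of_dvd_nat (orderOf_map_dvd φ k)) ?_).symm
  rw [pow_two, mul_assoc (φ k), ha, ← mul_assoc (φ k), ← mul_assoc (φ k), c2.eq, mul_assoc a, ha,
    ← mul_assoc a, ← mul_assoc a, a2, one_mul, mul_assoc]

theorem O1.mulz (o : O1 C φ t l p s g) (hr : σ r = r) : O1 C φ t l p s (g * z C φ p r) := by
  obtain ⟨o, g₀, s₀, k', r', o₀, e1, hr', e2⟩ := o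
  exact ⟨o.mulz h h2 p0 hp hr, g₀, s₀, k', r' + r, o₀, e1, by rw [map_add, hr, hr'], by
    rw [h.z_add hp hr' hr, e2, mul_assoc]⟩

variable (hl : σ l = l) (l0 : l ≠ 0) (l1 : l ≠ 1)
include l0

theorem O1.mul (o : O1 C φ t l p s g) (o' : O1 C φ t l p s' g') : O1 C φ t l p (s + s') (g * g') := by
  obtain ⟨o, g₀, s₀, k, r, o₀, e1, hr, e2⟩ := o
  obtain ⟨o', g₁, s₁, k', r', o₁, e1', hr', e2'⟩ := o'
  rw [o₁.same (e1'.trans e1.symm)] at e2'
  have a := o₁.cm h h2 p0 hp e1 l0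
  have b := o₀.inv h h2 p0 hp
  obtain ⟨c, hc, e3⟩ := (h.mem_Z hp).1 ((td1 h h2 p0 hp).tr_comm (zE h hp b.hs) (zE h hp a.hs) (b.tr h) (a.tr h))
  refine ⟨o.mul h h2 p0 hp o', g₀ * g₁, _, k, c + r + r', o₀.mul h h2 p0 hp o₁, e1, by
    rw [map_add, map_add, hc, hr, hr'], ?_⟩
  rw [mul_inv_eq_iff_eq_mul, mul_inv_eq_iff_eq_mul, mul_assoc (z _ _ _ _),
    ((a.cz h hp hc).mul_right (b.cz h hp hc)).eq] at e3
  rw [h.z_add hp (by rw [map_add, hc, hr]) hr', h.z_add hp hc hr, e2, e2', mul_assoc _ (z C φ p r),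
    ← mul_assoc (z C φ p r), (a.cz h hp hr).eq, mul_assoc _ g₀⁻¹, ← mul_assoc g₀⁻¹, ← mul_assoc g₀⁻¹, e3]
  group

include hl

theorem O1.z (hr : σ r = r) : O1 C φ t l p 0 (z C φ p r) := by
  obtain ⟨f, hf⟩ := h.toMod.exists_hp p0 hp
  obtain ⟨k, -, e, -⟩ := h.toMod.exists_diag1 hf l0 hl
  exact ⟨Ov.z h h2 p0 hp hr, 1, 0, k, r, HatP.z0 h.toEmb hp ▸ Ov.z h h2 p0 hp (map_zero σ), e, hr, by simp⟩

include l1

omit hp p0 h2 hl l0 in
theorem nu : l * l + 1 ≠ 0 := fun e => l1 (h.toMod.eq_one_of_sq (by linear_combination e - h.two))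

theorem O1.uq (o : O1 C φ t l p s g) (o' : O1 C φ t l p s g') : ∃ r, σ r = r ∧ g' = g * U5.z C φ p r := by
  obtain ⟨o, g₀, s₀, k, r, o₀, e1, hr, rfl⟩ := o
  obtain ⟨o', g₁, s₁, k', r', o₁, e1', hr', rfl⟩ := o'
  rw [o₁.same (e1'.trans e1.symm)] at o' ⊢
  have a := o.uq h p0 hp ((o₀.cm h h2 p0 hp e1 l0).mulz h h2 p0 hp hr)
  have b := o'.uq h p0 hp ((o₁.cm h h2 p0 hp e1 l0).mulz h h2 p0 hp hr')
  obtain rfl : s₀ = s₁ := mul_left_cancel₀ (nu h l1) (by rw [hl] at a b; linear_combination b - a)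
  have o2 := (o₀.inv h h2 p0 hp).mul h h2 p0 hp o₁
  rw [h.toMod.add_self] at o2
  obtain ⟨c, hc, e2⟩ := o2.zero h h2 p0 hp
  have hc' := HatP.nF l hc P
  have e3 : φ k * (g₀⁻¹ * g₁) * (φ k)⁻¹ * (g₀⁻¹ * g₁)⁻¹ = U5.z C φ p (σ l * l * c) * U5.z C φ p c := by
    rw [← h.z_smul hp hc, ← e1, ← h.z_conj k hp hc]
    rcases e2 with e2 | e2
    · rw [e2, inv_eq_of_mul_eq_one_right (h.z_sq hp hc)]
    · rw [e2, mul_inv_rev, inv_eq_of_mul_eq_one_right (h.z_sq hp hc), ← mul_assoc (φ k), (h.tφ k).eq,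
        mul_assoc t, mul_assoc t, mul_assoc t, ← mul_assoc _ _ t⁻¹, U5.z, ← map_inv, ← map_mul, ← map_mul,
        ← map_mul, ← mul_assoc t, (h.tφ _).symm.mul_inv_cancel]
  refine ⟨r + (σ l * l * c + c) + r', by rw [map_add, map_add, map_add, hr, hr', hc, hc'], ?_⟩
  have hd : σ (σ l * l * c + c) = σ l * l * c + c := by rw [map_add, hc, hc']
  rw [← h.z_add hp hc' hc] at e3
  rw [h.z_add hp (by rw [map_add, hr, hd]) hr', h.z_add hp hr hd, mul_assoc _ (U5.z C φ p r), ← mul_assoc (U5.z C φ p r),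
    ← mul_assoc (U5.z C φ p r), h.z_sq hp hr, one_mul, ← mul_assoc, mul_assoc _ g₀⁻¹,
    ← (o₀.cz h hp hd).inv_right.eq, ← e3]
  group

variable (ex : ∀ s, σ s = s → ∃ g, Ov C φ t p s g)
include ex

theorem O1.exi (hs : σ s = s) : ∃ g, O1 C φ t l p s g := by
  obtain ⟨f, hf⟩ := h.toMod.exists_hp p0 hp
  obtain ⟨k, -, e, -⟩ := h.toMod.exists_diag1 hf l0 hl
  obtain ⟨g, o⟩ := ex (s / (l * l + 1)) (by simp [hs, hl])
  have := o.cm h h2 p0 hp e l0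
  rw [hl, ← add_one_mul, mul_div_cancel₀ _ (nu h l1)] at this
  exact ⟨_, this, g, _, k, 0, o, e, map_zero σ, by rw [HatP.z0 h.toEmb hp, mul_one]⟩

theorem Ov.or (o : Ov C φ t p s g) : O1 C φ t l p s g ∨ O1 C φ t l p s (t * g) := by
  obtain ⟨g₁, o₁⟩ := O1.exi h h2 p0 hp hl l0 l1 ex o.hs
  have o2 := (o₁.1.inv h h2 p0 hp).mul h h2 p0 hp o
  rw [h.toMod.add_self] at o2
  obtain ⟨c, hc, e | e⟩ := o2.zero h h2 p0 hp
  · exact .inl (inv_mul_eq_iff_eq_mul.1 e ▸ o₁.mulz h h2 p0 hp hc)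
  · right
    rw [inv_mul_eq_iff_eq_mul.1 e, ← mul_assoc, t_mul h hp o₁.1, mul_assoc g₁, ← mul_assoc, mul_assoc g₁, U5.z,
      mul_assoc t, (h.tφ _).eq, ← mul_assoc t, h.t2, one_mul]
    exact (o₁.mulz h h2 p0 hp o.hs).mulz h h2 p0 hp hc

theorem O1.comm (o : O1 C φ t l p s g) (o' : O1 C φ t l p s' g') : Commute g g' := by
  have m := h.toMod
  obtain ⟨g₁, o₁⟩ := O1.exi h h2 p0 hp hl l0 l1 ex (map_one σ)
  obtain ⟨κ, hκ, e1⟩ := (h.mem_Z hp).1 ((td1 h h2 p0 hp).tr_sq (zE h hp (map_one σ)) (o₁.1.tr h))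
  have sq : ∀ s g, O1 C φ t l p s g → g * g = U5.z C φ p (s * κ) := fun s g o => by
    have k1 : ∀ g', O1 C φ t l p s g' → g * g = g' * g' := fun g' o' => by
      obtain ⟨r, hr, rfl⟩ := o'.uq h h2 p0 hp hl l0 l1 o
      rw [mul_assoc, ← mul_assoc (U5.z _ _ _ _), (o'.1.cz h hp hr).eq, mul_assoc, h.z_sq hp hr, mul_one]
    by_cases s0 : s = 0
    · subst s0
      rw [k1 _ (O1.z h h2 p0 hp hl l0 (map_zero σ)), zero_mul, HatP.z0 h.toEmb hp, mul_one]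
    obtain ⟨c, rfl, hc, -⟩ := m.exists_sqrt s
    have c0 : c ≠ 0 := fun e => s0 (by rw [e, mul_zero])
    obtain ⟨f, hf⟩ := m.exists_hp p0 hp
    obtain ⟨k, -, e, -⟩ := m.exists_diag1 hf c0 (hc o.1.hs)
    have := (e ▸ o₁.conj h hp k).smul h hp c0
    rw [hc o.1.hs, mul_one] at this
    rw [k1 _ this, conj_mul, e1, h.z_conj k hp hκ, e, h.z_smul hp hκ, hc o.1.hs]
  have e2 := sq _ _ (o.mul h h2 p0 hp l0 o')
  rw [add_mul, h.z_add hp (by rw [map_mul, hκ, o.1.hs]) (by rw [map_mul, hκ, o'.1.hs]), ← sq _ _ o, ← sq _ _ o',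
    mul_assoc, mul_assoc, mul_left_cancel_iff, ← mul_assoc, ← mul_assoc, mul_right_cancel_iff] at e2
  exact e2.symm

end PA

end CfsgLib.U5
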