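import Cfsg.Agent.Lib.U5.Geo

/-! Radicals -/

set_option autoImplicit false
set_option linter.unusedSectionVars false
set_option linter.unusedSimpArgs false
set_option linter.unusedVariables false

namespace CfsgLib.U5

open Subgroup Module CfsgLib.Forms CfsgLib.LieMult
open CfsgLib.HX (Std CO Two Mv Tr Heis NF Fus4 Has4 M2)
open Submodule (span)
open scoped commutatorElement Pointwise

universe u

variable {K : Type} [Field K] [Finite K] {σ : K →+* K} {V : Type} [AddCommGroup V] [Module K V]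
  [FiniteDimensional K V] {P : PQ σ V} {S : Type} [Group S] [Finite S] {G : Type u} [Group G]
  [Finite G] {C : CG P S} {φ : S →* G} {t : G}

theorem rad_le_fix (U : Submodule K V) : Rad C U ≤ C.fixG U := fun _ hs => hs.1

theorem fix_le_stb (U : Submodule K V) : C.fixG U ≤ Stb C U := fun s hs v =>
  ⟨fun hv => by rw [← (C.act s).injective (hs _ hv)]; exact hv, fun hv => by rw [hs v hv]; exact hv⟩

theorem ti_span {s : Set V} : TI P (span K s) ↔ ∀ a ∈ s, ∀ b ∈ s, P.B a b = 0 := 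
  Submodule.span_le.trans ⟨fun H a ha _ hb => P.mem_perp_span.1 (H hb) a ha,
    fun H _ hb => P.mem_perp_span.2 fun a ha => H a ha _ hb⟩

theorem TI.B_eq {U : Submodule K V} (hU : TI P U) {a b : V} (ha : a ∈ U) (hb : b ∈ U) :
    P.B a b = 0 := P.mem_perp.1 (hU hb) a ha

theorem ti_pt {e : V} (he : P.B e e = 0) : TI P (span K {e}) :=
  ti_span.2 (by rintro _ rfl _ rfl; exact he)

theorem HH.ti {e f e' f' : V} (k : HH P e f e' f') : TI P (span K {e, e'}) :=
  ti_span.2 (by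
    rintro a (rfl | rfl) b (rfl | rfl)
    exacts [k.h₁.se.self_eq, k.ee, k.symm.ee, k.h₂.se.self_eq])

theorem mem_fix_pt {e : V} {s : S} : s ∈ C.fixG (span K {e}) ↔ C.act s e = e :=
  ⟨fun H => H e (Submodule.mem_span_singleton_self e), fun H v hv => by
    obtain ⟨c, rfl⟩ := Submodule.mem_span_singleton.1 hv
    rw [map_smul, H]⟩

theorem stb_perp (U : Submodule K V) : Stb C U ≤ Stb C (P.perp U) := fun s hs v => by
  rw [P.mem_perp, P.mem_perp]
  refine ⟨fun H u hu => by rw [← C.B_act s, H _ ((hs u).2 hu)], fun H u hu => ?_⟩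
  rw [← C.apply_inv s u, C.B_act, H _ ((hs _).1 (by rw [C.apply_inv]; exact hu))]

theorem stb_norm_fix (U : Submodule K V) : Stb C U ≤ normalizer (C.fixG U : Set S) :=
  le_normalizer_iff.2 fun g hg s hs v hv => by
    rw [C.mul_apply, C.mul_apply, hs _ ((inv_mem hg v).2 hv), C.apply_inv]

theorem uni_two (h2 : (2 : K) = 0) {M : ℕ → Submodule K V} (h0 : M 0 = ⊥) {k : ℕ} (hk : M k = ⊤) :
    IsPGroup 2 (Uni C M) := by
  intro s
  have a : ∀ j i, ∀ v ∈ M (i + j + 1), C.act (s ^ 2 ^ j).1 v - v ∈ M i := fun j => by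
    induction j with
    | zero => intro i v hv; simpa using (s.2 i).2 v hv
    | succ j ih =>
      intro i v hv
      have b := ((s ^ 2 ^ j).2 i).2 _ (ih (i + 1) v (by rwa [add_right_comm i 1 j]))
      rw [pow_succ, pow_mul, sq, Subgroup.coe_mul, C.mul_apply]
      generalize C.act (s ^ 2 ^ j).1 = g at b ⊢
      rw [show g (g v) - v = g (g v - v) - (g v - v) + (2 : K) • (g v - v) by rw [map_sub]; module, h2,
        zero_smul, add_zero]
      exact b
  refine ⟨k - 1, Subtype.ext (C.ext fun v => ?_)⟩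
  rw [OneMemClass.coe_one, C.one_apply, ← sub_eq_zero, ← Submodule.mem_bot K, ← h0]
  rcases k with _ | k
  · rw [hk]; trivial
  · exact a _ 0 v (by rw [zero_add, Nat.add_sub_cancel, hk]; trivial)

namespace Mod

variable (h : Mod C) {U : Submodule K V} {e f e' f' : V}
include h

theorem T_mem_rad (hU : TI P U) {p a : V} {c : K} (k : TOk P p a c) (hp : p ∈ U)
    (ha : a ∈ P.perp U) : C.T p a c ∈ Rad C U := 
  ⟨fun v hv => C.T_fix k (hU.B_eq hp hv) (P.mem_perp'.1 ha v hv), fun v hv => by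
    rw [C.T_perp k (P.mem_perp.1 hv p hp), add_sub_cancel_left]; exact U.smul_mem _ hp⟩

theorem T_mem_E (hU : TI P U) {p a : V} {c : K} (k : TOk P p a c) (hp : p ∈ U) (ha : a ∈ U) :
    C.T p a c ∈ C.fixG (P.perp U) := 
  fun _ hv => C.T_fix k (P.mem_perp.1 hv p hp) (P.mem_perp.1 hv a ha)

theorem E_le_rad (hU : TI P U) : C.fixG (P.perp U) ≤ Rad C U := fun _ hs =>
  ⟨fun v hv => hs v (hU hv), fun v hv => by rw [hs v hv, sub_self]; exact zero_mem _⟩

theorem fix_range {s : S} (hs : s ∈ C.fixG U) (v : V) : C.act s v - v ∈ P.perp U :=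
  P.mem_perp.2 fun w hw => by rw [map_sub, ← C.B_act s w v, hs w hw, sub_self]

theorem E_range {s : S} (hs : s ∈ C.fixG (P.perp U)) (v : V) : C.act s v - v ∈ U := by
  have := h.fix_range hs v
  rwa [P.perp_perp C.nondeg] at this

theorem mem_rad_hp (hf : HP P e f) {s : S} :
    s ∈ Rad C (span K {e}) ↔ ∃ a c, TOk P e a c ∧ P.B f a = 0 ∧ s = C.T e a c := by
  have he := hf.se.self_eq
  have m : ∀ {a c}, TOk P e a c → C.T e a c ∈ Rad C (span K {e}) := fun k =>
    h.T_mem_rad (ti_pt he) k (Submodule.mem_span_singleton_self e) (P.mem_perp_span_singleton.2 k.perp)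
  refine ⟨fun hs => ?_, by rintro ⟨a, c, k, -, rfl⟩; exact m k⟩
  have a1 := mem_fix_pt.1 (rad_le_fix _ hs)
  have a2 : P.B e (C.act s f) = 1 := by rw [← hf.ef, ← C.B_act s e f, a1]
  obtain ⟨a, c, k, k1, k2, -⟩ := C.exists_T_map hf (C.sing_act s hf.sf) (by rw [a2]; exact one_ne_zero)
  rw [a2, one_smul] at k2
  refine ⟨a, c, k, k1, (inv_mul_eq_one.1 (C.ext fun v => ?_)).symm⟩
  have a3 := mul_mem (inv_mem (m k)) hs
  have a4 : C.act ((C.T e a c)⁻¹ * s) f = f := by rw [C.mul_apply, C.inv_apply_eq k2]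
  generalize (C.T e a c)⁻¹ * s = u at a3 a4
  obtain ⟨w, w1, w2, w3⟩ := h.hp_decomp hf v
  obtain ⟨l, hl⟩ := Submodule.mem_span_singleton.1 (a3.2 w (P.mem_perp_span_singleton.2 w1))
  have a5 := congrArg (P.B f) hl
  rw [map_sub, ← C.B_act u f w, a4, sub_self, map_smul, hf.fe, smul_eq_mul, mul_one] at a5
  rw [a5, zero_smul] at hl
  rw [C.one_apply, w3, map_add, map_add, map_smul, map_smul, a4, mem_fix_pt.1 (rad_le_fix _ a3),
    sub_eq_zero.1 hl.symm]

theorem mem_rad_pt (h0 : e ≠ 0) (he : P.B e e = 0) {s : S} :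
    s ∈ Rad C (span K {e}) ↔ ∃ a c, TOk P e a c ∧ s = C.T e a c := by
  obtain ⟨f, hf⟩ := h.exists_hp h0 he
  refine ⟨fun hs => ?_, ?_⟩
  · obtain ⟨a, c, k, -, e1⟩ := (h.mem_rad_hp hf).1 hs
    exact ⟨a, c, k, e1⟩
  · rintro ⟨a, c, k, rfl⟩
    exact h.T_mem_rad (ti_pt he) k (Submodule.mem_span_singleton_self e)
      (P.mem_perp_span_singleton.2 k.perp)

theorem mem_E_pt (he : P.B e e = 0) {s : S} :
    s ∈ C.fixG (P.perp (span K {e})) ↔ ∃ r, σ r = r ∧ s = C.T e 0 r := by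
  refine ⟨fun hs => ?_, ?_⟩
  · by_cases h0 : e = 0
    · subst h0
      refine ⟨0, map_zero σ, C.ext fun v => ?_⟩
      rw [hs v (P.mem_perp_span_singleton.2 (by simp)), h.z_app he (map_zero σ)]; simp
    obtain ⟨f, hf⟩ := h.exists_hp h0 he
    obtain ⟨a, c, k, k1, rfl⟩ := (h.mem_rad_hp hf).1 (h.E_le_rad (ti_pt he) hs)
    have a1 : a = 0 := C.nondeg a fun v => by
      obtain ⟨w, w1, w2, w3⟩ := h.hp_decomp hf v
      have := hs w (P.mem_perp_span_singleton.2 w1)
      rw [C.T_perp k w1, add_eq_left, smul_eq_zero, or_iff_left h0] at this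
      rw [w3]
      simp [this, h.B_comm k1, h.B_comm k.perp]
    subst a1
    exact ⟨c, (h.eq_of_add (by simpa using (h.tok.1 k).2.2)).symm, rfl⟩
  · rintro ⟨r, hr, rfl⟩
    exact h.T_mem_E (ti_pt he) (h.tok0 he hr) (Submodule.mem_span_singleton_self e) (zero_mem _)

theorem E_sq (hU : TI P U) {s : S} (hs : s ∈ C.fixG (P.perp U)) : s * s = 1 := C.ext fun v => by
  have := hs _ (hU (h.E_range hs v))
  rw [map_sub, h.vsub_eq, h.vsub_eq, add_comm (C.act s v)] at this
  rw [C.mul_apply, C.one_apply, add_right_cancel this]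

theorem E_cent (hU : TI P U) : C.fixG (P.perp U) ≤ centralizer (C.fixG U : Set S) := fun s hs =>
  mem_centralizer_iff.2 fun g hg => C.ext fun v => by
    have a1 := hg _ (h.E_range hs v)
    have a2 := hs _ (h.fix_range hg v)
    rw [map_sub] at a1 a2
    rw [C.mul_apply, C.mul_apply]
    linear_combination (norm := module) a1 - a2

/-- `s - 1` is self-adjoint for `s ∈ E(U)` -/
theorem E_adj (hU : TI P U) {s : S} (hs : s ∈ C.fixG (P.perp U)) (v w : V) :
    P.B (C.act s v - v) w = P.B v (C.act s w - w) := by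
  have a1 := hU.B_eq (h.E_range hs v) (h.E_range hs w)
  have a2 := C.B_act s v w
  simp only [P.B_sub_left, P.B_sub_right] at a1 ⊢
  linear_combination a2 - a1 + (P.B v w - P.B v (C.act s w)) * h.two

theorem E_eq (hU : TI P U) :
    C.fixG (P.perp U) = closure {s | ∃ p ∈ U, ∃ r, σ r = r ∧ s = C.T p 0 r} := by
  refine le_antisymm ?_ ((closure_le _).2 ?_)
  swap
  · rintro _ ⟨p, hp, r, hr, rfl⟩
    exact h.T_mem_E hU (h.tok0 (hU.B_eq hp hp) hr) hp (zero_mem _)
  suffices H : ∀ W : Submodule K V, ∀ s ∈ C.fixG (P.perp U), s ∈ C.fixG W →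
      s ∈ closure {s | ∃ p ∈ U, ∃ r, σ r = r ∧ s = C.T p 0 r} from
    fun s hs => H _ s hs hs
  intro W
  induction W using WellFoundedGT.induction with
  | ind W ih =>
  intro s hs hW
  by_cases H : ∀ u, P.B u (C.act s u - u) = 0
  · obtain ⟨θ, hθ⟩ := h.herm.exists_trace_one
    have a : ∀ v w, P.B v (C.act s w - w) + P.B w (C.act s v - v) = 0 := fun v w => by
      have a1 := H (v + w)
      have a2 := H v
      have a3 := H w
      simp only [map_add, map_sub, LinearMap.add_apply] at a1 a2 a3 ⊢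
      linear_combination a1 - a2 - a3
    rw [show s = 1 from C.ext fun w => by
      rw [C.one_apply, ← sub_eq_zero]
      refine PQ.Nondeg.right C.nondeg _ fun v => ?_
      have a1 := a v w
      have a2 := a (θ • v) w
      rw [map_smul (C.act s), ← smul_sub, P.B_smul_left, P.B_smul_right] at a2
      linear_combination a2 - θ * a1 - P.B v (C.act s w - w) * hθ +
        θ * P.B v (C.act s w - w) * h.two]
    exact one_mem _
  obtain ⟨u, hu⟩ := not_forall.1 H
  have hp := h.E_range hs u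
  have a1 := h.E_adj hU hs u
  obtain ⟨p, e1⟩ : ∃ p, p = C.act s u - u := ⟨_, rfl⟩
  rw [← e1] at hu hp a1
  have a2 : P.B p u = P.B u p := by rw [a1, e1]
  have hr : σ (P.B u p)⁻¹ = (P.B u p)⁻¹ := by rw [map_inv₀, h.conj, a2]
  have pp := hU.B_eq hp hp
  have m := h.T_mem_E hU (h.tok0 pp hr) hp (zero_mem _)
  have a3 : u ∉ W := fun hw => hu (by rw [e1, hW u hw, sub_self, map_zero])
  have := ih (W ⊔ span K {u}) (left_lt_sup.2 fun e => a3 (e (Submodule.mem_span_singleton_self u)))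
    _ (mul_mem hs m) (fun v hv => by
      obtain ⟨w, hw, _, hx, rfl⟩ := Submodule.mem_sup.1 hv
      obtain ⟨c, rfl⟩ := Submodule.mem_span_singleton.1 hx
      rw [map_add, map_smul, C.mul_apply, C.mul_apply, h.z_app pp hr, h.z_app pp hr, a1 w, hW w hw,
        sub_self, map_zero, mul_zero, zero_smul, add_zero, hW w hw, a2, inv_mul_cancel₀ hu, one_smul,
        map_add, hs p (hU hp), e1, h.vsub_eq, ← add_assoc, h.vadd_self, zero_add])
  refine (mul_mem_cancel_right (Subgroup.subset_closure ?_)).1 this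
  exact ⟨p, hp, _, hr, rfl⟩

theorem rad_eq (hU : TI P U) :
    Rad C U = closure {s | ∃ p ∈ U, ∃ a ∈ P.perp U, ∃ c, TOk P p a c ∧ s = C.T p a c} := by
  refine le_antisymm ?_ ((closure_le _).2 ?_)
  swap
  · rintro _ ⟨p, hp, a, ha, c, k, rfl⟩
    exact h.T_mem_rad hU k hp ha
  suffices H : ∀ W : Submodule K V, U ≤ W → W ≤ P.perp U → ∀ s ∈ Rad C U, s ∈ C.fixG W →
      s ∈ closure {s | ∃ p ∈ U, ∃ a ∈ P.perp U, ∃ c, TOk P p a c ∧ s = C.T p a c} from
    fun s hs => H U le_rfl hU s hs hs.1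
  intro W
  induction W using WellFoundedGT.induction with
  | ind W ih =>
  intro w1 w2 s hs hW
  by_cases H : s ∈ C.fixG (P.perp U)
  · rw [h.E_eq hU] at H
    refine closure_mono ?_ H
    rintro _ ⟨p, hp, r, hr, rfl⟩
    exact ⟨p, hp, 0, zero_mem _, r, h.tok0 (hU.B_eq hp hp) hr, rfl⟩
  obtain ⟨u, hu, u1⟩ : ∃ u ∈ P.perp U, C.act s u ≠ u := by
    by_contra H'
    exact H fun u hu => by by_contra H''; exact H' ⟨u, hu, H''⟩
  have a3 : u ∉ W := fun hw => u1 (hW u hw)
  obtain ⟨a, a1, a2⟩ := P.exists_dual_vec C.nondeg W a3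
  have ha : a ∈ P.perp U := P.mem_perp'.2 fun w hw => a2 w (w1 hw)
  have hp := hs.2 u hu
  obtain ⟨c, k⟩ := h.exists_tok (hU.B_eq hp hp) (P.mem_perp.1 ha _ hp)
  have := ih (W ⊔ span K {u}) (left_lt_sup.2 fun e => a3 (e (Submodule.mem_span_singleton_self u)))
    (le_sup_of_le_left w1) (sup_le w2 ((Submodule.span_singleton_le_iff_mem _ _).2 hu))
    _ (mul_mem hs (h.T_mem_rad hU k hp ha)) (fun v hv => by
      obtain ⟨w, hw, _, hx, rfl⟩ := Submodule.mem_sup.1 hv
      obtain ⟨d, rfl⟩ := Submodule.mem_span_singleton.1 hx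
      rw [map_add, map_smul, C.mul_apply, C.mul_apply,
        C.T_fix k (P.mem_perp.1 (w2 hw) _ hp) (a2 w hw), hW w hw, C.T_perp k (P.mem_perp.1 hu _ hp),
        a1, one_smul, map_add, hs.1 _ hp, h.vsub_eq, ← add_assoc, h.vadd_self, zero_add])
  refine (mul_mem_cancel_right (Subgroup.subset_closure ?_)).1 this
  exact ⟨_, hp, a, ha, c, k, rfl⟩

theorem rad_sq {s : S} (hs : s ∈ Rad C U) : s * s ∈ C.fixG (P.perp U) := fun v hv => by
  have := hs.1 _ (hs.2 v hv)
  rw [map_sub, h.vsub_eq, h.vsub_eq, add_comm (C.act s v)] at this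
  rw [C.mul_apply, add_right_cancel this]

theorem rad_two (hU : TI P U) : IsPGroup 2 (Rad C U) := fun s =>
  ⟨2, Subtype.ext (by
    have := h.E_sq hU (h.rad_sq s.2)
    rw [SubgroupClass.coe_pow, OneMemClass.coe_one, ← this]
    norm_num [pow_succ, mul_assoc])⟩

theorem stb_norm (U : Submodule K V) : Stb C U ≤ normalizer (C.fixG U : Set S) ⊓
    normalizer (Rad C U : Set S) ⊓ normalizer (C.fixG (P.perp U) : Set S) := by
  refine le_inf (le_inf (stb_norm_fix U) (le_normalizer_iff.2 fun g hg s hs => ⟨?_, fun v hv => ?_⟩))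
    ((stb_perp U).trans (stb_norm_fix _))
  · exact le_normalizer_iff.1 (stb_norm_fix U) g hg s hs.1
  · have := (hg _).2 (hs.2 _ ((inv_mem (stb_perp U hg) v).2 hv))
    rwa [map_sub, C.apply_inv, ← C.mul_apply, ← C.mul_apply] at this

theorem tok_line (k : HH P e f e' f') (v : K) : TOk P e (v • e') 0 :=
  h.tok1 k.h₁.se.self_eq (by simp [k.h₂.se.self_eq]) (by simp [k.ee]) (map_zero σ)

theorem line_app (k : HH P e f e' f') {r r' : K} (v : K) (hr : σ r = r) (hr' : σ r' = r') (x : V) :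
    C.act (C.T e 0 r * C.T e (v • e') 0 * C.T e' 0 r') x =
      x + (r * P.B e x + σ v * P.B e' x) • e + (v * P.B e x + r' * P.B e' x) • e' := by
  simp only [C.mul_apply, h.z_app k.h₁.se.self_eq hr, h.z_app k.h₂.se.self_eq hr',
    h.T_app (h.tok_line k v), map_add, map_smul, map_zero, P.B_smul_left, smul_eq_mul, k.ee,
    k.h₁.se.self_eq, k.h₂.se.self_eq]
  module

theorem mem_E_line (k : HH P e f e' f') {s : S} : s ∈ C.fixG (P.perp (span K {e, e'})) ↔
    ∃ r v r' : K, σ r = r ∧ σ r' = r' ∧ s = C.T e 0 r * C.T e (v • e') 0 * C.T e' 0 r' := by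
  have he : e ∈ span K {e, e'} := Submodule.subset_span (by simp)
  have he' : e' ∈ span K {e, e'} := Submodule.subset_span (by simp)
  refine ⟨fun hs => ?_, ?_⟩
  swap
  · rintro ⟨r, v, r', hr, hr', rfl⟩
    exact mul_mem (mul_mem (h.T_mem_E k.ti (h.tok0 k.h₁.se.self_eq hr) he (zero_mem _))
      (h.T_mem_E k.ti (h.tok_line k v) he (Submodule.smul_mem _ _ he')))
      (h.T_mem_E k.ti (h.tok0 k.h₂.se.self_eq hr') he' (zero_mem _))
  obtain ⟨r, v, a1⟩ := Submodule.mem_span_pair.1 (h.E_range hs f)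
  obtain ⟨u, r', a2⟩ := Submodule.mem_span_pair.1 (h.E_range hs f')
  have b1 := h.E_adj k.ti hs f f
  have b2 := h.E_adj k.ti hs f f'
  have b3 := h.E_adj k.ti hs f' f'
  simp only [← a1, ← a2, P.B_add_left, P.B_add_right, P.B_smul_left, P.B_smul_right, k.h₁.ef, k.h₁.fe,
    k.h₂.ef, k.h₂.fe, k.ef, k.fe, k.symm.ef, k.symm.fe, mul_zero, mul_one, add_zero,
    zero_add] at b1 b2 b3
  refine ⟨r, v, r', b1, b3, C.ext fun x => ?_⟩
  obtain ⟨w, w1, -, w3, -, w5⟩ := h.hh_decomp k x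
  rw [h.line_app k v b1 b3, b2]
  conv_lhs => rw [w5]
  rw [map_add, map_add, map_add, map_add, map_smul, map_smul, map_smul, map_smul,
    hs w (CG.mem_perp_pair.2 ⟨w1, w3⟩), hs e (k.ti he), hs e' (k.ti he'), eq_sub_iff_add_eq.1 a1 |>.symm,
    eq_sub_iff_add_eq.1 a2 |>.symm]
  linear_combination (norm := module) -w5

theorem E_line_inj (k : HH P e f e' f') {r v r' s u s' : K} (hr : σ r = r) (hr' : σ r' = r')
    (hs : σ s = s) (hs' : σ s' = s') (e1 : C.T e 0 r * C.T e (v • e') 0 * C.T e' 0 r' =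
      C.T e 0 s * C.T e (u • e') 0 * C.T e' 0 s') : r = s ∧ v = u ∧ r' = s' := by
  have a1 := congrArg (fun g => P.B f (C.act g f)) e1
  have a2 := congrArg (fun g => P.B f' (C.act g f)) e1
  have a3 := congrArg (fun g => P.B f' (C.act g f')) e1
  simp only [h.line_app k _ hr hr', h.line_app k _ hs hs', P.B_add_right, P.B_smul_right, k.h₁.ef,
    k.h₁.fe, k.h₂.ef, k.h₂.fe, k.ef, k.fe, k.symm.ef, k.symm.fe, mul_zero, mul_one, add_zero,
    zero_add, add_right_inj] at a1 a2 a3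
  exact ⟨a1, a2, a3⟩

/-- the pointwise stabiliser of a non-degenerate subspace is generated by transvections -/
theorem fix_gen (hU : Disjoint U (P.perp U)) (big : 4 ≤ finrank K (P.perp U) ∨ ¬ Small σ)
    {H : Subgroup S} (hH : ∀ p ∈ P.perp U, ∀ s, P.B p p = 0 → σ s = s → C.T p 0 s ∈ H) :
    C.fixG U ≤ H := by
  intro y hy
  let T₀ : Subgroup (P.perp U ≃ₗ[K] P.perp U) :=
    { carrier := {g | ∃ s ∈ H ⊓ C.fixG U, ∀ w : P.perp U, C.act s w = g w}
      one_mem' := ⟨1, one_mem _, fun w => C.one_apply _⟩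
      mul_mem' := by
        rintro a b ⟨s, hs, a1⟩ ⟨s', hs', a2⟩
        exact ⟨s * s', mul_mem hs hs', fun w => by rw [C.mul_apply, a2, a1]; rfl⟩
      inv_mem' := by
        rintro a ⟨s, hs, a1⟩
        exact ⟨s⁻¹, inv_mem hs, fun w => C.inv_apply_eq (by rw [a1]; simp)⟩ }
  have hW := h.herm.restrict (P.perp U)
  have nd := P.restrict_nondeg_iff.2 (P.disjoint_perp_perp C.nondeg hU)
  have hd : ∀ g : P.perp U ≃ₗ[K] P.perp U, g ∈ (LinearEquiv.det (R := K) (M := P.perp U)).ker ↔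
      LinearMap.det g.toLinearMap = 1 := fun g => by
    rw [MonoidHom.mem_ker, ← LinearEquiv.coe_det, Units.val_eq_one]
  have m : C.act y ∈ linStab (P.perp U) := fun v => (stb_perp U (fix_le_stb U hy) v).symm
  obtain ⟨⟨s, hs, a1⟩, -⟩ := hW.mem_of_transvections nd
    (T := T₀ ⊓ ((P.restrict (P.perp U)).isom ⊓ LinearEquiv.det.ker)) (fun g x d xx hd' hg => by
      obtain ⟨g', b1, b2, b3⟩ := hW.exists_transvection nd xx hd'
      obtain rfl : g = g' := LinearEquiv.ext fun v => by rw [hg, b3]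
      have e1 := (h.eq_of_add hd').symm
      refine ⟨⟨C.T x 0 d, ⟨hH _ x.2 d xx e1, fun u hu => C.T_fix (h.tok0 xx e1)
        (P.mem_perp'.1 x.2 u hu) (by simp)⟩, fun w => ?_⟩, b1, (hd g).2 b2⟩
      rw [h.z_app (e := x) xx e1, hg]; rfl)
    (big.imp id h.exists_big) (fun t ht => ⟨ht.2.1, (hd t).1 ht.2.2⟩) (linStabRes _ ⟨_, m⟩)
    (P.isIso_linStabRes _ (C.iso y)) (by
      have b1 := (C.act y).toLinearMap.det_eq_det_mul_det (P.perp U) fun v hv => (m v).1 hv
      rw [h.det, show (P.perp U).mapQ (P.perp U) (C.act y).toLinearMap _ = LinearMap.id from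
        Submodule.linearMap_qext _ (LinearMap.ext fun v => (Submodule.Quotient.eq _).2
          (h.fix_range hy v)), LinearMap.det_id, mul_one] at b1
      exact b1.symm)
  obtain rfl : s = y := C.inj (P.eq_of_eqOn_perp C.nondeg hU (fun w hw => by rw [hs.2 w hw, hy w hw])
    fun w hw => a1 ⟨w, hw⟩)
  exact hs.1

theorem T_mem_Q {a : V} {c : K} (k : TOk P e a c) : C.T e a c ∈ Rad C (span K {e}) :=
  h.T_mem_rad (ti_pt k.sing.self_eq) k (Submodule.mem_span_singleton_self e)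
    (P.mem_perp_span_singleton.2 k.perp)

/-- a transvection is a commutator of Eichler elements -/
theorem z_eq_comm {a b : V} (he : P.B e e = 0) (k : HP P a b) (ha : P.B e a = 0) (hb : P.B e b = 0)
    {r : K} (hr : σ r = r) : ∃ θ : K, TOk P e a 0 ∧ TOk P e (θ • b) 0 ∧
      C.T e 0 r = ⁅C.T e a 0, C.T e (θ • b) 0⁆ := by
  obtain ⟨θ, hθ⟩ := h.exists_tr hr
  have k1 := h.tok1 he k.se.self_eq ha (map_zero σ)
  have k2 := h.tok1 (a := θ • b) he (by simp [k.sf.self_eq]) (by simp [hb]) (map_zero σ)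
  refine ⟨θ, k1, k2, ?_⟩
  rw [C.T_commutator k1 k2, P.B_smul_left, P.B_smul_right, k.ef, k.fe, mul_one, mul_one, h.sub_eq,
    add_comm, hθ]

theorem rad_le_comm (h0 : e ≠ 0) (he : P.B e e = 0) :
    Rad C (span K {e}) ≤ ⁅Rad C (span K {e}), C.fixG (span K {e})⁆ := by
  have hZ : ∀ r, σ r = r → C.T e 0 r ∈ ⁅Rad C (span K {e}), C.fixG (span K {e})⁆ := fun r hr => by
    obtain ⟨f, hf⟩ := h.exists_hp h0 he
    obtain ⟨a, b, k⟩ := h.exists_hh hf
    obtain ⟨θ, k1, k2, e1⟩ := h.z_eq_comm he k.h₂ k.ee k.ef hr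
    rw [e1]
    exact commutator_mem_commutator (h.T_mem_Q k1) (rad_le_fix _ (h.T_mem_Q k2))
  have a1 : ∀ a c d, TOk P e a c → TOk P e a d → C.T e a d ∈ ⁅Rad C (span K {e}), C.fixG (span K {e})⁆ →
      C.T e a c ∈ ⁅Rad C (span K {e}), C.fixG (span K {e})⁆ := fun a c d k k' H => by
    have hr : σ (c + d) = c + d := by
      rw [map_add]; linear_combination k.trace C - k'.trace C + (σ d - c) * h.two
    have := mul_mem (hZ _ hr) H
    rw [C.T_mul (h.tok0 he hr) k', zero_add, map_zero, add_zero, add_assoc, h.add_self,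
      add_zero] at this
    exact this
  intro s hs
  obtain ⟨a, c, k, rfl⟩ := (h.mem_rad_pt h0 he).1 hs
  have a2 := h.iso_span (ti_pt he) (by rw [finrank_span_singleton h0]; have := h.d4; omega)
    (P.mem_perp_span_singleton.2 k.perp)
  suffices H : ∃ d, TOk P e a d ∧ C.T e a d ∈ ⁅Rad C (span K {e}), C.fixG (span K {e})⁆ from
    H.elim fun d hd => a1 a c d k hd.1 hd.2
  refine AddSubgroup.closure_induction (p := fun a _ => ∃ d, TOk P e a d ∧
    C.T e a d ∈ ⁅Rad C (span K {e}), C.fixG (span K {e})⁆) ?_ ⟨0, h.tok0 he (map_zero σ),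
      hZ 0 (map_zero σ)⟩ ?_ ?_ a2
  · rintro a ⟨ha, aa⟩
    rw [P.mem_perp_span_singleton] at ha
    by_cases H : a ∈ span K {e}
    · obtain ⟨l, rfl⟩ := Submodule.mem_span_singleton.1 H
      obtain ⟨b1, -, b3⟩ := h.T_shift (h.tok0 he (map_zero σ)) l
      rw [zero_add] at b1 b3
      exact ⟨0, b1, b3 ▸ hZ _ (by rw [zero_add, map_add, h.σσ, add_comm])⟩
    obtain ⟨f, b, k⟩ := h.exists_hh' he aa ha h0 H
    have k1 := h.tok1 he k.h₂.sf.self_eq k.ef (map_zero σ)
    have m : C.T a 0 1 ∈ C.fixG (span K {e}) :=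
      mem_fix_pt.2 (C.T_fix (h.tok0 aa (map_one σ)) k.symm.ee (by simp))
    have := commutator_mem_commutator m (h.T_mem_Q k1)
    have k2 := k1.act C (C.T a 0 1)
    rw [commutatorElement_def, C.T_conj _ k1, C.T_inv k1, commutator_comm] at this
    rw [mem_fix_pt.1 m, h.z_app aa (map_one σ), k.h₂.ef, mul_one, one_smul] at this k2
    rw [C.T_mul k2 (k1.neg C)] at this
    have k3 := k2.add (k1.neg C)
    rw [add_neg_cancel_comm] at this k3
    exact ⟨_, k3, this⟩
  · rintro a b _ _ ⟨c, k1, m1⟩ ⟨d, k2, m2⟩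
    exact ⟨_, k1.add k2, C.T_mul k1 k2 ▸ mul_mem m1 m2⟩
  · rintro a _ ⟨c, k1, m1⟩
    exact ⟨_, k1.neg C, C.T_inv k1 ▸ inv_mem m1⟩

/-- the stabiliser of `e` is `Q_e` times the stabiliser of a hyperbolic pair -/
theorem fix_decomp (hf : HP P e f) {s : S} (hs : C.act s e = e) :
    ∃ u ∈ Rad C (span K {e}), u⁻¹ * s ∈ C.fixG (span K {e, f}) := by
  have a2 : P.B e (C.act s f) = 1 := by rw [← hf.ef, ← C.B_act s e f, hs]
  obtain ⟨a, c, k, -, k2, -⟩ := C.exists_T_map hf (C.sing_act s hf.sf) (by rw [a2]; exact one_ne_zero)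
  rw [a2, one_smul] at k2
  refine ⟨_, h.T_mem_Q k, fun v hv => ?_⟩
  obtain ⟨x, y, rfl⟩ := Submodule.mem_span_pair.1 hv
  rw [map_add, map_smul, map_smul, C.mul_apply, C.mul_apply, hs, C.inv_apply_eq k2,
    C.inv_apply_eq (C.T_self k)]

theorem perf : (⊤ : Subgroup S) ≤ ⁅(⊤ : Subgroup S), (⊤ : Subgroup S)⁆ := by
  rw [top_le_iff]
  refine h.gen _ fun p s pp hs => ?_
  by_cases p0 : p = 0
  · subst p0
    rw [h.T_zero' _ (h.tok0 pp hs)]
    exact one_mem _
  exact commutator_mono le_top le_top (h.rad_le_comm p0 pp (h.T_mem_Q (h.tok0 pp hs)))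

/-- `Q_e` fixes only the point `e` -/
theorem rad_fix_pt (h0 : e ≠ 0) (he : P.B e e = 0) {p : V}
    (hp : ∀ s ∈ Rad C (span K {e}), C.act s p ∈ span K {p}) : p ∈ span K {e} := by
  have a1 : ∀ {v : V} {c : K}, c ≠ 0 → p + c • e ∈ span K {p} → p ∈ span K {e} := fun c0 H => by
    obtain ⟨l, hl⟩ := Submodule.mem_span_singleton.1 ((Submodule.smul_mem_iff _ c0).1
      ((add_mem_cancel_left (Submodule.mem_span_singleton_self p)).1 H))
    have l0 : l ≠ 0 := by rintro rfl; exact h0 (by rw [← hl, zero_smul])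
    exact Submodule.mem_span_singleton.2 ⟨l⁻¹, by rw [← hl, smul_smul, inv_mul_cancel₀ l0, one_smul]⟩
  by_cases b : P.B e p = 0
  · rw [← P.perp_perp C.nondeg (span K {e}), P.mem_perp]
    by_contra H
    obtain ⟨a, ha, a2⟩ : ∃ a ∈ P.perp (span K {e}), P.B a p ≠ 0 := by
      by_contra H'
      exact H fun a ha => by by_contra H''; exact H' ⟨a, ha, H''⟩
    obtain ⟨c, k⟩ := h.exists_tok he (P.mem_perp_span_singleton.1 ha)
    have := hp _ (h.T_mem_Q k)
    rw [C.T_perp k b] at this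
    exact H fun w hw => P.mem_perp'.1 hw p (a1 (v := p) a2 this)
  · have := hp _ (h.T_mem_Q (h.tok0 he (map_one σ)))
    rw [h.z_app he (map_one σ), one_mul] at this
    exact a1 (v := p) b this

theorem mem_fix_of_two {s : S} (h2 : IsPGroup 2 (zpowers s)) {p : V}
    (hp : C.act s p ∈ span K {p}) : C.act s p = p := by
  obtain ⟨l, hl⟩ := Submodule.mem_span_singleton.1 hp
  obtain ⟨k, hk⟩ := h2 ⟨s, mem_zpowers s⟩
  have e1 : s ^ 2 ^ k = 1 := congrArg Subtype.val hk
  have a1 : ∀ n : ℕ, C.act (s ^ n) p = l ^ n • p := fun n => by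
    induction n with
    | zero => simp
    | succ n ih => rw [pow_succ, C.mul_apply, ← hl, map_smul, ih, smul_smul, pow_succ']
  have a2 : ∀ n : ℕ, l ^ 2 ^ n = 1 → l = 1 := fun n => by
    induction n with
    | zero => simp
    | succ n ih => exact fun H => ih (h.eq_one_of_sq (by rw [← H, pow_succ, pow_mul, sq]))
  by_cases p0 : p = 0
  · rw [p0, map_zero]
  have a3 := a1 (2 ^ k)
  rw [e1, C.one_apply] at a3
  rw [← hl, a2 k (smul_left_injective K p0 (by simpa using a3.symm)), one_smul]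

end Mod

end CfsgLib.U5
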