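import Cfsg.Agent.Lib.U5.Odd
import Cfsg.Agent.Lib.Forms.Normal

/-! Transvections of a symmetric bilinear space in characteristic two -/

set_option autoImplicit false
set_option linter.unusedSectionVars false

namespace CfsgLib.U5

open Subgroup Module CfsgLib.Forms CfsgLib.LieMult
open CfsgLib.HX (Std CO Two Mv Tr Heis NF Fus4 Has4 M2)
open Submodule (span)
open scoped commutatorElement Pointwise

universe u

variable {K : Type} [Field K] [Finite K] {σ : K →+* K} {V : Type} [AddCommGroup V] [Module K V]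
  [FiniteDimensional K V] {P : PQ σ V} {S : Type} [Group S] [Finite S] {G : Type u} [Group G]
  [Finite G] {C : CG P S} {φ : S →* G} {t : G}

theorem card_dvd_of_trans {H A : Type*} [Group H] [Finite H] [MulAction H A] {X : Set H} {U : Set A}
    (hX : ∀ g ∈ X, ∀ a ∈ U, g • a ∈ U) (ht : ∀ a ∈ U, ∀ b ∈ U, ∃ g ∈ closure X, g • a = b)
    (h0 : U.Nonempty) : U.ncard ∣ Nat.card (closure X) := by
  have h1 : ∀ g ∈ closure X, ∀ a ∈ U, g • a ∈ U := by
    intro g hg
    induction hg using closure_induction with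
    | mem g hg => exact hX g hg
    | one => intro a ha; rwa [one_smul]
    | mul g k _ _ h1 h2 => intro a ha; rw [mul_smul]; exact h1 _ (h2 a ha)
    | inv g _ h1 =>
      have h2 : ∀ n : ℕ, ∀ a ∈ U, g ^ n • a ∈ U := fun n => by
        induction n with
        | zero => intro a ha; rwa [pow_zero, one_smul]
        | succ n ih => intro a ha; rw [pow_succ, mul_smul]; exact ih _ (h1 a ha)
      have h3 : g⁻¹ = g ^ (orderOf g - 1) := by
        rw [inv_eq_iff_mul_eq_one, ← pow_succ', Nat.sub_add_cancel (orderOf_pos g),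
          pow_orderOf_eq_one]
      rw [h3]
      exact h2 _
  obtain ⟨a, ha⟩ := h0
  have h2 : MulAction.orbit (closure X) a = U := by
    ext b
    refine ⟨?_, fun hb => ?_⟩
    · rintro ⟨g, rfl⟩
      exact h1 g g.2 a ha
    · obtain ⟨g, hg, e⟩ := ht a ha b hb
      exact ⟨⟨g, hg⟩, e⟩
  rw [← h2, ← MulAction.index_stabilizer]
  exact index_dvd_card _

theorem braid_mem_Od {H : Type*} [Group H] {M : Subgroup H} {s t : H} (hs : s ∈ M) (ht : t ∈ M)
    (t2 : t * t = 1) (s2 : s * s = 1) (h : s * t * s = t * s * t) : s * t ∈ Od M := by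
  refine subset_closure ⟨mul_mem hs ht, Odd.of_dvd_nat (n := 3) (by decide)
    (orderOf_dvd_of_pow_eq_one ?_)⟩
  calc (s * t) ^ 3 = s * t * s * (t * s * t) := by rw [pow_succ, pow_two]; simp only [mul_assoc]
    _ = t * (s * (t * t) * s) * t := by rw [h]; simp only [mul_assoc]
    _ = 1 := by rw [t2, mul_one, s2, mul_one, t2]

theorem card_Od2_dvd {H G' : Type*} [Group H] [Finite H] [Group G'] [Finite G'] (f : H →* G')
    (hf : Function.Injective f) {M : Subgroup G'} (hM : ∀ g, f g ∈ M) :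
    Nat.card (Od2 (⊤ : Subgroup H)) ∣ Nat.card (Od2 M) := by
  rw [← card_map_of_injective hf]
  refine card_dvd_of_le ?_
  rw [Od2, MonoidHom.map_closure]
  refine closure_mono ?_
  rintro _ ⟨g, ⟨h1, h2⟩, rfl⟩
  exact ⟨by rw [← map_mul, h1, map_one],
    Od_mono (by rintro _ ⟨k, -, rfl⟩; exact hM k) (map_Od f ⊤ ⟨g, h2, rfl⟩)⟩

theorem ncard_ne_zero_sub {F W : Type} [Field F] [Finite F] [AddCommGroup W] [Module F W]
    [FiniteDimensional F W] (U : Submodule F W) :
    ((U : Set W) \ {0}).ncard = Nat.card F ^ finrank F U - 1 := by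
  haveI : Finite W := Module.finite_of_finite F
  rw [Set.ncard_sdiff_singleton_of_mem U.zero_mem, ← Module.natCard_eq_pow_finrank,
    ← Nat.card_coe_set_eq]
  rfl

namespace SymD

variable {F W H : Type} [Field F] [Finite F] [AddCommGroup W] [Module F W] [FiniteDimensional F W]
  [Group H] [Finite H] {β : LinearMap.BilinForm F W} {ρ : H →* (W ≃ₗ[F] W)} {τ : W → H}
  (h : SymD β ρ τ)
include h

theorem ext' {g k : H} (e : ∀ v, ρ g v = ρ k v) : g = k := h.inj (LinearEquiv.ext e)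

omit h in
theorem mul_app (g k : H) (v : W) : ρ (g * k) v = ρ g (ρ k v) := by rw [map_mul]; rfl

theorem sqrt (c : F) : ∃ d, d ^ 2 = c := by
  have h2 := h.two
  exact Finite.surjective_of_injective (f := fun d : F => d ^ 2) (fun a b e => by
    have : (a - b) ^ 2 = 0 := by
      change a ^ 2 = b ^ 2 at e
      linear_combination e + (b ^ 2 - a * b) * h2
    exact sub_eq_zero.1 (pow_eq_zero_iff two_ne_zero |>.1 this)) c

theorem sq_inj {a b : F} (e : a ^ 2 = b ^ 2) : a = b := by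
  have : (a - b) ^ 2 = 0 := by linear_combination e + (b ^ 2 - a * b) * h.two
  exact sub_eq_zero.1 (pow_eq_zero_iff two_ne_zero |>.1 this)

theorem nondeg : β.Nondegenerate :=
  ⟨h.nd, fun v hv => h.nd v fun w => by rw [h.symm, hv]⟩

theorem refl' : β.IsRefl := fun v w e => by rw [h.symm, e]

theorem tau_sq {a : W} (ha : β a a = 0) : τ a * τ a = 1 := h.ext' fun v => by
  simp only [mul_app, h.tau a ha, map_add, map_smul, ha, map_one, LinearEquiv.coe_one, id_eq]
  linear_combination (norm := module) h.two • (β a v • a)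

theorem tau_zero : τ 0 = 1 := h.ext' fun v => by simp [h.tau 0 (by simp)]

theorem tau_iso {a : W} (ha : β a a = 0) (v w : W) : β (ρ (τ a) v) (ρ (τ a) w) = β v w := by
  simp only [h.tau a ha, map_add, map_smul, LinearMap.add_apply, LinearMap.smul_apply, ha,
    smul_eq_mul, h.symm v a]
  linear_combination (β a v * β a w) * h.two

theorem tau_conj {g : H} (hg : ∀ v w, β (ρ g v) (ρ g w) = β v w) {a : W} (ha : β a a = 0) :
    g * τ a * g⁻¹ = τ (ρ g a) := by
  rw [mul_inv_eq_iff_eq_mul]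
  exact h.ext' fun v => by
    simp only [mul_app, h.tau a ha, h.tau _ ((hg a a).trans ha), map_add, map_smul, hg]

theorem link {a b : W} (ha : β a a = 0) (hb : β b b = 0) (hab : β a b = 1) :
    τ a * τ b ∈ Od (⊤ : Subgroup H) := by
  refine braid_mem_Od (mem_top _) (mem_top _) (h.tau_sq hb) (h.tau_sq ha) (h.ext' fun v => ?_)
  have hba : β b a = 1 := by rw [h.symm, hab]
  simp only [mul_app, h.tau a ha, h.tau b hb, map_add, map_smul, ha, hb, hab, hba, smul_eq_mul]
  linear_combination (norm := module) h.two • (β a v • a) - h.two • (β b v • b)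

theorem add_iso {a b : W} (ha : β a a = 0) (hb : β b b = 0) : β (a + b) (a + b) = 0 := by
  simp only [map_add, LinearMap.add_apply, ha, hb, h.symm b a]
  linear_combination β a b * h.two

theorem link2 {e a a' : W} (he : β e e = 0) (ha : β a a = 0) (ha' : β a' a' = 0)
    (h2 : β e a' = 0) (h3 : β a a' = 1) : τ (a + e) * τ a ∈ Od (⊤ : Subgroup H) := by
  have := mul_mem (h.link (h.add_iso ha he) ha' (by simp [h2, h3]))
    (h.link ha' ha (by rw [h.symm, h3]))
  rwa [mul_assoc, ← mul_assoc (τ a'), h.tau_sq ha', one_mul] at this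

theorem sieg {e a : W} (he : β e e = 0) (ha : β a a = 0) (h1 : β e a = 0) (v : W) :
    ρ (τ (a + e) * τ a * τ e) v = v + β a v • e + β e v • a := by
  have h2 : β a e = 0 := by rw [h.symm, h1]
  simp only [mul_app, h.tau a ha, h.tau e he, h.tau _ (h.add_iso ha he), map_add, map_smul, ha, he,
    h1, h2, LinearMap.add_apply, smul_eq_mul]
  linear_combination (norm := module) h.two • (β a v • a) + h.two • (β e v • e)

theorem od_core {e a b a' b' c' : W} (he : β e e = 0) (ha : β a a = 0) (hb : β b b = 0)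
    (hea : β e a = 0) (heb : β e b = 0) (hab : β a b = 0) (ha' : β a' a' = 0) (hb' : β b' b' = 0)
    (hc' : β c' c' = 0) (h1 : β e a' = 0) (h2 : β e b' = 0) (h3 : β e c' = 0) (k1 : β a a' = 1)
    (k2 : β b b' = 1) (k3 : β (a + b) c' = 1) : τ e ∈ Od (⊤ : Subgroup H) := by
  have hc := h.add_iso ha hb
  have e1 : τ (a + e) * τ a * τ e * (τ (b + e) * τ b * τ e) =
      τ (a + b + e) * τ (a + b) * τ e := h.ext' fun v => by
    have hae : β a e = 0 := by rw [h.symm, hea]
    rw [mul_app, h.sieg he ha hea, h.sieg he hb heb, h.sieg he hc (by simp [hea, heb])]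
    simp only [map_add, map_smul, he, heb, hae, hab, LinearMap.add_apply, smul_eq_mul]
    module
  have e2 := h.link2 he ha ha' h1 k1
  have e3 := conj_mem_Od (h.link2 he hb hb' h2 k2) (mem_top (τ e))
  have e4 := h.link2 he hc hc' h3 k3
  have e5 := mul_mem (inv_mem e4) (mul_mem e2 e3)
  have e6 : (τ e)⁻¹ = τ e := inv_eq_of_mul_eq_one_right (h.tau_sq he)
  rwa [e6, show τ (a + e) * τ a * (τ e * (τ (b + e) * τ b) * τ e) =
    τ (a + e) * τ a * τ e * (τ (b + e) * τ b * τ e) by simp only [mul_assoc], e1,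
    inv_mul_cancel_left] at e5

theorem od {e a a' : W} (he : β e e = 0) (ha : β a a = 0) (ha' : β a' a' = 0) (h1 : β e a = 0)
    (h2 : β e a' = 0) (h3 : β a a' = 1) (h4 : Nat.card F = 2 → ∃ b b', β b b = 0 ∧ β b' b' = 0 ∧
      β b b' = 1 ∧ β e b = 0 ∧ β e b' = 0 ∧ β a b = 0 ∧ β a' b = 0 ∧ β a b' = 0) :
    τ e ∈ Od (⊤ : Subgroup H) ∧ τ (a + e) * τ a * τ e ∈ Od (⊤ : Subgroup H) := by
  suffices k : τ e ∈ Od (⊤ : Subgroup H) from ⟨k, mul_mem (h.link2 he ha ha' h2 h3) k⟩
  by_cases hF : Nat.card F = 2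
  · obtain ⟨b, b', k1, k2, k3, k4, k5, k6, k7, -⟩ := h4 hF
    exact h.od_core he ha k1 h1 k4 k6 ha' k2 ha' h2 k5 h2 h3 k3 (by simp [h3, h.symm b a', k7])
  · obtain ⟨l, l0, l1⟩ : ∃ l : F, l ≠ 0 ∧ l ≠ 1 := by
      by_contra! k
      exact hF ((Nat.card_eq_two_iff' (0 : F)).2 ⟨1, one_ne_zero, fun y hy => k y hy⟩)
    have l2 : 1 + l ≠ 0 := fun e => l1 (by linear_combination e - h.two)
    refine h.od_core (b := l • a) (b' := l⁻¹ • a') (c' := (1 + l)⁻¹ • a') he ha (by simp [ha]) h1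
      (by simp [h1]) (by simp [ha]) ha' (by simp [ha']) (by simp [ha']) h2 (by simp [h2])
      (by simp [h2]) h3 (by simp [h3, l0]) ?_
    simp only [map_add, map_smul, LinearMap.add_apply, LinearMap.smul_apply, h3, smul_eq_mul]
    field_simp

omit h in
theorem exists_perp {k : ℕ} (x : Fin k → W) :
    ∃ U : Submodule F W, finrank F W ≤ finrank F U + k ∧ ∀ v ∈ U, ∀ i, β (x i) v = 0 := by
  refine ⟨LinearMap.ker (LinearMap.pi fun i => β (x i)), ?_, fun v hv i => congrFun hv i⟩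
  have h1 := LinearMap.finrank_range_add_finrank_ker (LinearMap.pi fun i => β (x i))
  have h2 := Submodule.finrank_le (LinearMap.range (LinearMap.pi fun i => β (x i)))
  rw [finrank_fin_fun] at h2
  omega

omit h in
theorem exists_ne {k : ℕ} (x : Fin k → W) (hk : k < finrank F W) :
    ∃ e, e ≠ 0 ∧ ∀ i, β (x i) e = 0 := by
  obtain ⟨U, h1, h2⟩ := exists_perp (β := β) x
  obtain ⟨e, he, h0⟩ := Submodule.exists_mem_ne_zero_of_ne_bot (p := U) (by
    rintro rfl
    rw [finrank_bot] at h1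
    omega)
  exact ⟨e, h0, h2 e he⟩

theorem exists_hp {k : ℕ} (x : Fin k → W) (hk : 2 * k < finrank F W) :
    ∃ a a', (∀ i, β (x i) a = 0) ∧ (∀ i, β (x i) a' = 0) ∧ β a a' = 1 := by
  obtain ⟨U, h1, h2⟩ := exists_perp (β := β) x
  obtain ⟨a, ha, b, hb, hab⟩ : ∃ a ∈ U, ∃ b ∈ U, β a b ≠ 0 := by
    by_contra! k
    have h3 : U ≤ β.orthogonal U := fun v hv u hu => k u hu v hv
    have h4 := Submodule.finrank_mono h3
    rw [LinearMap.BilinForm.finrank_orthogonal h.nondeg] at h4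
    omega
  exact ⟨a, (β a b)⁻¹ • b, h2 a ha, h2 _ (U.smul_mem _ hb), by simp [hab]⟩

theorem exists_w0 : ∃ w, ∀ v, β v v = β w v ^ 2 := by
  choose s hs using h.sqrt
  let f : W →ₗ[F] F :=
    { toFun := fun v => s (β v v)
      map_add' := fun v w => h.sq_inj (by
        rw [hs, add_sq, hs, hs]
        simp only [map_add, LinearMap.add_apply, h.symm w v]
        linear_combination (β v w - s (β v v) * s (β w w)) * h.two)
      map_smul' := fun c v => h.sq_inj (by
        simp only [RingHom.id_apply, smul_eq_mul, mul_pow, hs, map_smul, LinearMap.smul_apply]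
        ring) }
  obtain ⟨w, hw⟩ := (LinearMap.injective_iff_surjective_of_finrank_eq_finrank
    (f := (β : W →ₗ[F] Module.Dual F W)) Subspace.dual_finrank_eq.symm).1
    ((injective_iff_map_eq_zero _).2 fun v hv => h.nd v fun w => by rw [hv]; rfl) f
  exact ⟨w, fun v => by rw [hw]; exact (hs _).symm⟩

theorem w_ne {w : W} (hw : ∀ v, β v v = β w v ^ 2) : β w w ≠ 0 := by
  intro h0
  let β' : LinearMap.BilinForm F W := β + (β w).smulRight (β w)
  have e : ∀ a v, β' a v = β a v + β w a * β w v := fun a v => by simp [β']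
  have nd : ∀ a, (∀ v, β' a v = 0) → a = 0 := fun a ha => by
    have e1 : a + β w a • w = 0 := h.nd _ fun v => by
      have := ha v
      rw [e] at this
      simpa using this
    have e2 : β w a = 0 := by
      have := congrArg (β w) e1
      simpa [h0] using this
    simpa [e2] using e1
  have k := even_finrank_of_alt β' (fun v => by
    rw [e, hw]
    linear_combination (β w v ^ 2) * h.two)
    ⟨nd, fun v hv => nd v fun u => by rw [← hv u, e, e, h.symm v u, mul_comm]⟩
  rw [h.d5] at k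
  exact absurd k (by decide)

theorem exists_T : ∃ e a w, β e e = 0 ∧ β a a = 0 ∧ β e a = 0 ∧ e ≠ 0 ∧ a ∉ span F {e} ∧
    β w w = 1 ∧ β e w = 0 ∧ β a w = 0 ∧ τ (a + e) * τ a ∈ Od (⊤ : Subgroup H) := by
  obtain ⟨w, hw⟩ := h.exists_w0
  have w0 := h.w_ne hw
  have w1 : β w w = 1 := mul_left_cancel₀ w0 (by rw [← pow_two, ← hw, mul_one])
  have hi : ∀ v, β w v = 0 → β v v = 0 := fun v e => by rw [hw, e]; simp
  obtain ⟨a, a', k1, k2, k3⟩ := h.exists_hp ![w] (by rw [h.d5]; decide)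
  obtain ⟨e, e0, k4⟩ := exists_ne (β := β) ![w, a, a'] (by rw [h.d5]; decide)
  have m1 : β w a = 0 := k1 0
  have m2 : β w a' = 0 := k2 0
  have m3 : β w e = 0 := k4 0
  have m4 : β e a = 0 := (h.symm _ _).trans (k4 1)
  have m5 : β e a' = 0 := (h.symm _ _).trans (k4 2)
  refine ⟨e, a, w, hi e m3, hi a m1, m4, e0, fun k => ?_, w1, (h.symm _ _).trans m3,
    (h.symm _ _).trans m1, h.link2 (hi e m3) (hi a m1) (hi a' m2) m5 k3⟩
  obtain ⟨c, rfl⟩ := Submodule.mem_span_singleton.1 k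
  simp [m5] at k3

theorem exists_w : ∃ w, (∀ v, β v v = β w v ^ 2) ∧ (β w w = 0 → τ w ∈ Od (⊤ : Subgroup H)) :=
  h.exists_w0.imp fun _ hw => ⟨hw, fun e => absurd e (h.w_ne hw)⟩

theorem trans_nd {U : Submodule F W} (hU : ∀ a ∈ U, β a a = 0)
    (nd : ∀ a ∈ U, (∀ v ∈ U, β a v = 0) → a = 0) {x y : W} (hx : x ∈ U) (x0 : x ≠ 0) (hy : y ∈ U)
    (y0 : y ≠ 0) : ∃ g ∈ closure (τ '' U), ρ g x = y := by
  have step : ∀ x ∈ U, ∀ y ∈ U, β x y ≠ 0 → ∃ g ∈ closure (τ '' U), ρ g x = y := by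
    intro x hx y hy e
    obtain ⟨c, hc⟩ := h.sqrt (β x y)⁻¹
    have hu := U.smul_mem c (U.add_mem hx hy)
    refine ⟨τ (c • (x + y)), subset_closure ⟨_, hu, rfl⟩, ?_⟩
    rw [h.tau _ (hU _ hu)]
    simp only [map_add, map_smul, LinearMap.add_apply, LinearMap.smul_apply, hU x hx, h.symm y x,
      smul_eq_mul]
    have e1 : c ^ 2 * β x y = 1 := by rw [hc, inv_mul_cancel₀ e]
    linear_combination (norm := module) e1 • (x + y) + h.two • x
  obtain ⟨z, hz, k1, k2⟩ : ∃ z ∈ U, β x z ≠ 0 ∧ β z y ≠ 0 := by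
    obtain ⟨u, hu, e1⟩ : ∃ u ∈ U, β x u ≠ 0 := by
      by_contra! k
      exact x0 (nd x hx k)
    obtain ⟨v, hv, e2⟩ : ∃ v ∈ U, β y v ≠ 0 := by
      by_contra! k
      exact y0 (nd y hy k)
    rw [h.symm] at e2
    by_cases e3 : β u y = 0
    · by_cases e4 : β x v = 0
      · exact ⟨u + v, U.add_mem hu hv, by simpa [e4] using e1, by simpa [e3] using e2⟩
      · exact ⟨v, hv, e4, e2⟩
    · exact ⟨u, hu, e1, e3⟩
  obtain ⟨g, hg, e1⟩ := step x hx z hz k1
  obtain ⟨g', hg', e2⟩ := step z hz y hy k2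
  exact ⟨g' * g, mul_mem hg' hg, by rw [mul_app, e1, e2]⟩

theorem exists_nd {w : W} (hw : ∀ v, β v v = β w v ^ 2)
    (nd : ∀ a, β w a = 0 → (∀ v, β w v = 0 → β a v = 0) → a = 0) {k : ℕ}
    (hk : 2 * k ≤ finrank F W) : ∃ U : Submodule F W, finrank F U = 2 * k ∧
      (∀ a ∈ U, β w a = 0) ∧ ∀ a ∈ U, (∀ v ∈ U, β a v = 0) → a = 0 := by
  induction k with
  | zero => exact ⟨⊥, finrank_bot _ _, by simp, by simp⟩
  | succ k ih =>
    obtain ⟨U, h1, h2, h3⟩ := ih (by omega)
    have hi : ∀ v, β w v = 0 → β v v = 0 := fun v e => by rw [hw, e]; simp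
    have hc : IsCompl U (β.orthogonal U) :=
      (LinearMap.BilinForm.isCompl_orthogonal_iff_disjoint h.refl').2
        (Submodule.disjoint_def.2 fun a ha ha' => h3 a ha fun v hv => by
          rw [h.symm]; exact ha' v hv)
    obtain ⟨a, ⟨ha, ha'⟩, a0⟩ := Submodule.exists_mem_ne_zero_of_ne_bot
      (p := β.orthogonal U ⊓ LinearMap.ker (β w)) (fun e => by
        have e1 := Submodule.finrank_sup_add_finrank_inf_eq (β.orthogonal U) (LinearMap.ker (β w))
        have e2 := Submodule.finrank_le (β.orthogonal U ⊔ LinearMap.ker (β w))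
        have e3 := LinearMap.finrank_range_add_finrank_ker (β w)
        have e4 := Submodule.finrank_le (LinearMap.range (β w))
        rw [e, finrank_bot, LinearMap.BilinForm.finrank_orthogonal h.nondeg] at e1
        rw [finrank_self] at e4
        omega)
    obtain ⟨b, hb, hb', hab⟩ : ∃ b ∈ β.orthogonal U, β w b = 0 ∧ β a b = 1 := by
      obtain ⟨v, hv, e⟩ : ∃ v, β w v = 0 ∧ β a v ≠ 0 := by
        by_contra! k
        exact a0 (nd a ha' k)
      obtain ⟨u, hu, r, hr, rfl⟩ := Submodule.mem_sup.1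
        (hc.sup_eq_top ▸ Submodule.mem_top : v ∈ U ⊔ β.orthogonal U)
      have e1 : β a u = 0 := by rw [h.symm]; exact ha u hu
      rw [map_add, h2 u hu, zero_add] at hv
      rw [map_add, e1, zero_add] at e
      exact ⟨(β a r)⁻¹ • r, Submodule.smul_mem _ _ hr, by simp [hv], by simp [e]⟩
    have haa := hi a ha'
    have hbb := hi b hb'
    have hba : β b a = 1 := by rw [h.symm, hab]
    have hmem : ∀ x ∈ U ⊔ span F {a} ⊔ span F {b}, ∃ u ∈ U, ∃ s t : F, x = u + s • a + t • b := by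
      intro x hx
      obtain ⟨y, hy, z, hz, rfl⟩ := Submodule.mem_sup.1 hx
      obtain ⟨u, hu, y', hy', rfl⟩ := Submodule.mem_sup.1 hy
      obtain ⟨s, rfl⟩ := Submodule.mem_span_singleton.1 hy'
      obtain ⟨t, rfl⟩ := Submodule.mem_span_singleton.1 hz
      exact ⟨u, hu, s, t, rfl⟩
    refine ⟨U ⊔ span F {a} ⊔ span F {b}, ?_, fun x hx => ?_, fun x hx e => ?_⟩
    · rw [Submodule.finrank_sup_span_singleton, Submodule.finrank_sup_span_singleton, h1]
      · rfl
      · intro e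
        rw [hb a e] at hab
        exact zero_ne_one hab
      · intro e
        obtain ⟨u, hu, y, hy, e⟩ := Submodule.mem_sup.1 e
        obtain ⟨s, rfl⟩ := Submodule.mem_span_singleton.1 hy
        rw [← e] at hba
        simp [ha u hu, haa] at hba
    · obtain ⟨u, hu, s, t, rfl⟩ := hmem x hx
      have : β w a = 0 := ha'
      simp [h2 u hu, this, hb']
    · obtain ⟨u, hu, s, t, rfl⟩ := hmem x hx
      have e1 := e a (Submodule.mem_sup_left (Submodule.mem_sup_right
        (Submodule.mem_span_singleton_self a)))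
      have e2 := e b (Submodule.mem_sup_right (Submodule.mem_span_singleton_self b))
      simp [ha u hu, hb u hu, haa, hbb, hab, hba] at e1 e2
      subst e1 e2
      simp only [zero_smul, add_zero] at e ⊢
      exact h3 u hu fun v hv => e v (Submodule.mem_sup_left (Submodule.mem_sup_left hv))

theorem sym_cong {U : Submodule F W} (hU : ∀ a ∈ U, β a a = 0)
    (nd : ∀ a ∈ U, (∀ v ∈ U, β a v = 0) → a = 0) {x y : W} (hx : x ∈ U) (x0 : x ≠ 0) (hy : y ∈ U)
    (y0 : y ≠ 0) : τ x * τ y ∈ Od (⊤ : Subgroup H) := by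
  have one : ∀ x ∈ U, x ≠ 0 → ∃ u ∈ U, β x u = 1 := fun x hx x0 => by
    obtain ⟨u, hu, e1⟩ : ∃ u ∈ U, β x u ≠ 0 := by
      by_contra! k
      exact x0 (nd x hx k)
    exact ⟨(β x u)⁻¹ • u, U.smul_mem _ hu, by simp [e1]⟩
  have tr : ∀ x y, ∀ u ∈ U, τ x * τ u ∈ Od (⊤ : Subgroup H) → τ u * τ y ∈ Od (⊤ : Subgroup H) →
      τ x * τ y ∈ Od (⊤ : Subgroup H) := fun x y u hu e1 e2 => by
    have := mul_mem e1 e2
    rwa [mul_assoc, ← mul_assoc (τ u), h.tau_sq (hU u hu), one_mul] at this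
  have step : ∀ x ∈ U, ∀ y ∈ U, y ≠ 0 → (∀ c : F, x ≠ c • y) →
      τ x * τ y ∈ Od (⊤ : Subgroup H) := fun x hx y hy y0 hc => by
    obtain ⟨u, hu, e1⟩ := one y hy y0
    obtain ⟨v, hv, e2, e3⟩ : ∃ v ∈ U, β y v = 0 ∧ β x v ≠ 0 := by
      by_contra! k
      refine hc (β x u) (sub_eq_zero.1 (nd _ (U.sub_mem hx (U.smul_mem _ hy)) fun v hv => ?_))
      have := k (v - β y v • u) (U.sub_mem hv (U.smul_mem _ hu)) (by simp [e1])
      simp only [map_sub, map_smul, smul_eq_mul, LinearMap.sub_apply, LinearMap.smul_apply]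
        at this ⊢
      linear_combination this
    have hz := U.add_mem hu (U.smul_mem ((1 - β x u) / β x v) hv)
    refine tr x y _ hz (h.link (hU x hx) (hU _ hz) ?_) (h.link (hU _ hz) (hU y hy) ?_)
    · simp [e3]
    · rw [h.symm]
      simp [e1, e2]
  by_cases hc : ∀ c : F, x ≠ c • y
  · exact step x hx y hy y0 hc
  · push Not at hc
    obtain ⟨c, hc⟩ := hc
    obtain ⟨u, hu, e1⟩ := one x hx x0
    refine tr x y u hu (h.link (hU x hx) (hU u hu) e1) (step u hu y hy y0 fun d e => ?_)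
    rw [e, hc] at e1
    simp [hU y hy] at e1

theorem sym_four {w : W} (hw : ∀ v, β v v = β w v ^ 2) :
    Nat.card F ^ 4 - 1 ∣ Nat.card (Od2 (⊤ : Subgroup H)) := by
  have hww := h.w_ne hw
  have hi : ∀ v, β w v = 0 → β v v = 0 := fun v e => by rw [hw, e]; simp
  have nd : ∀ a, β w a = 0 → (∀ v, β w v = 0 → β a v = 0) → a = 0 := fun a ha e =>
    h.nd a fun v => by
      have := e (v - (β w v / β w w) • w) (by simp [hww])
      simpa [h.symm a w, ha] using this
  have hU : finrank F (LinearMap.ker (β w)) = 4 := by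
    have := Module.Dual.finrank_ker_add_one_of_ne_zero (f := β w) (fun e => hww (by rw [e]; rfl))
    rw [h.d5] at this
    omega
  letI : MulAction H W := MulAction.compHom W ρ
  let X : Set H := {g | ∃ x d, β w x = 0 ∧ β w d = 0 ∧ x ≠ 0 ∧ d ≠ 0 ∧ β x d = 0 ∧ g = τ x * τ d}
  have step : ∀ x y, β w x = 0 → β w y = 0 → β x y ≠ 0 → ∃ g ∈ closure X, ρ g x = y := by
    intro x y hx hy e
    obtain ⟨c, hc⟩ := h.sqrt (β x y)⁻¹
    have e1 : c ^ 2 * β x y = 1 := by rw [hc, inv_mul_cancel₀ e]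
    obtain ⟨d, d0, k⟩ := exists_ne (β := β) ![w, x, y] (by rw [h.d5]; decide)
    have k0 : β w d = 0 := k 0
    have k1 : β x d = 0 := k 1
    have k2 : β y d = 0 := k 2
    have hu : β w (c • (x + y)) = 0 := by simp [hx, hy]
    refine ⟨τ (c • (x + y)) * τ d, subset_closure ⟨_, d, hu, k0, fun e2 => ?_, d0,
      by simp [k1, k2], rfl⟩, ?_⟩
    · have := congrArg (β x) e2
      simp only [map_add, map_smul, hi x hx, smul_eq_mul, zero_add, map_zero] at this
      rw [pow_two, mul_assoc, this, mul_zero] at e1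
      exact zero_ne_one e1
    · rw [mul_app, h.tau d (hi d k0), h.symm d x, k1, zero_smul, add_zero, h.tau _ (hi _ hu)]
      simp only [map_add, map_smul, LinearMap.add_apply, LinearMap.smul_apply, hi x hx, h.symm y x,
        smul_eq_mul]
      linear_combination (norm := module) e1 • (x + y) + h.two • x
  have h4 := card_dvd_of_trans (H := H) (X := X)
    (U := (LinearMap.ker (β w) : Set W) \ {0}) (by
      rintro _ ⟨x, d, hx, hd, -, -, -, rfl⟩ a ⟨ha, a0⟩
      change ρ (τ x * τ d) a ∈ _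
      refine ⟨?_, fun e => a0 ((ρ (τ x * τ d)).map_eq_zero_iff.1 e)⟩
      have ha' : β w a = 0 := ha
      change β w _ = 0
      rw [mul_app, h.tau d (hi d hd), h.tau x (hi x hx)]
      simp [ha', hx, hd])
    (by
      rintro x ⟨hx, x0⟩ y ⟨hy, y0⟩
      obtain ⟨z, hz, k1, k2⟩ : ∃ z, β w z = 0 ∧ β x z ≠ 0 ∧ β z y ≠ 0 := by
        obtain ⟨u, hu, e1⟩ : ∃ u, β w u = 0 ∧ β x u ≠ 0 := by
          by_contra! k
          exact x0 (nd x hx k)
        obtain ⟨v, hv, e2⟩ : ∃ v, β w v = 0 ∧ β y v ≠ 0 := by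
          by_contra! k
          exact y0 (nd y hy k)
        rw [h.symm y] at e2
        by_cases e3 : β u y = 0
        · by_cases e4 : β x v = 0
          · exact ⟨u + v, by simp [hu, hv], by simpa [e4] using e1, by simpa [e3] using e2⟩
          · exact ⟨v, hv, e4, e2⟩
        · exact ⟨u, hu, e1, e3⟩
      obtain ⟨g, hg, e1⟩ := step x z hx hz k1
      obtain ⟨g', hg', e2⟩ := step z y hz hy k2
      exact ⟨g' * g, mul_mem hg' hg, by
        change ρ (g' * g) x = y
        rw [mul_app, e1, e2]⟩)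
    (by
      obtain ⟨a, a0, ha⟩ := exists_ne (β := β) ![w] (by rw [h.d5]; decide)
      exact ⟨a, ha 0, a0⟩)
  rw [ncard_ne_zero_sub, hU] at h4
  refine h4.trans (card_dvd_of_le (closure_mono ?_))
  rintro _ ⟨x, d, hx, hd, x0, d0, e, rfl⟩
  refine ⟨?_, h.sym_cong (U := LinearMap.ker (β w)) hi nd hx x0 hd d0⟩
  have e1 := h.tau_conj (h.tau_iso (hi x hx)) (hi d hd)
  rw [h.tau x (hi x hx), e, zero_smul, add_zero,
    inv_eq_of_mul_eq_one_right (h.tau_sq (hi x hx))] at e1
  rw [← mul_assoc, e1, h.tau_sq (hi d hd)]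

theorem big (hw : (∀ v, β v v = 0) ∨ ∃ w, (∀ v, β v v = β w v ^ 2) ∧ β w w ≠ 0) {n : ℕ}
    (hn : Even n) (h0 : 0 < n) (h1 : n ≤ finrank F W) :
    Nat.card F ^ n - 1 ∣ Nat.card (Od2 (⊤ : Subgroup H)) := by
  obtain ⟨w, hw⟩ := h.exists_w0
  refine Dvd.dvd.trans ?_ (h.sym_four hw)
  rw [h.d5] at h1
  obtain ⟨k, rfl⟩ := hn
  obtain rfl | rfl : k = 1 ∨ k = 2 := by omega
  · have := Nat.sub_dvd_pow_sub_pow (Nat.card F ^ 2) 1 2
    rwa [one_pow, ← pow_mul] at this
  · rfl

end SymD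

end CfsgLib.U5
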