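import Cfsg.Agent.Lib.U5.Heis

/-! Field case: the transvections -/

set_option autoImplicit false
set_option linter.unusedSectionVars false

namespace CfsgLib.U5

open Subgroup Module CfsgLib.Forms CfsgLib.LieMult
open CfsgLib.HX (Std CO Two Mv Tr Heis NF Fus4 Has4 M2)
open Submodule (span)
open scoped commutatorElement Pointwise

universe u

variable {K : Type} [Field K] [Finite K] {σ : K →+* K} {V : Type} [AddCommGroup V] [Module K V]
  [FiniteDimensional K V] {P : PQ σ V} {S : Type} [Group S] [Finite S] {G : Type u} [Group G]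
  [Finite G] {C : CG P S} {φ : S →* G} {t : G}

namespace TauP

theorem solve2 (h : Mod C) {l l' κ κ' : K} (hκ : σ κ = κ) (hκ' : σ κ' = κ') (hD : σ l * l' + σ l' * l ≠ 0) :
    ∃ m, σ l * m + σ m * l = κ ∧ σ l' * m + σ m * l' = κ' := by
  have e : σ (σ l * l' + σ l' * l) = σ l * l' + σ l' * l := by
    simp only [map_add, map_mul, P.σσ]; ring
  obtain ⟨D, hd⟩ : ∃ D, σ l * l' + σ l' * l = D := ⟨_, rfl⟩
  rw [hd] at hD e
  refine ⟨(κ' * l + κ * l') / D, ?_, ?_⟩ <;>
    rw [map_div₀, e, map_add, map_mul, map_mul, hκ, hκ'] <;> field_simp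
  · linear_combination (σ l * κ' * l) * h.two + κ * hd
  · linear_combination (σ l' * κ * l') * h.two + κ' * hd

theorem extend_add (h : Mod C) {A : Type*} [AddCommGroup A] {p : V} (h0 : p ≠ 0) (hp : P.B p p = 0) (f : V → A)
    (ha : ∀ r r', P.B p r = 0 → P.B p r' = 0 → P.B r r = 0 → P.B r' r' = 0 →
      P.B r r' = P.B r' r → f (r + r') = f r + f r') : ∃ f' : V → A,
      (∀ r, P.B p r = 0 → P.B r r = 0 → f' r = f r) ∧
      ∀ r r', P.B p r = 0 → P.B p r' = 0 → f' (r + r') = f' r + f' r' := by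
  obtain ⟨q, hq⟩ := h.exists_hp h0 hp
  obtain ⟨a, b, k⟩ := h.exists_hh hq
  have pa := k.ee
  have pb := k.ef
  obtain ⟨aa, bb, ab⟩ := h.hp_iff.1 k.h₂
  have ba := k.h₂.fe
  have lin : ∀ u, P.B p u = 0 → P.B u u = 0 → ∀ m m' : K, f ((m + m') • u) = f (m • u) + f (m' • u) :=
    fun u h1 h2 m m' => by
      rw [add_smul]; exact ha _ _ (by simp [h1]) (by simp [h1]) (by simp [h2]) (by simp [h2]) (by simp [h2])
  have mv : ∀ u v (m m' : K), P.B p u = 0 → P.B p v = 0 → P.B v v = 0 → P.B (u + m • v) (u + m • v) = 0 →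
      P.B (u + m' • v) (u + m' • v) = 0 → f (u + m • v) - f (m • v) = f (u + m' • v) - f (m' • v) := by
    intro u v m m' h1 h2 h3 h4 h5
    have e1 := ha (u + m • v) ((m' - m) • v) (by simp [h1, h2]) (by simp [h2]) h4 (by simp [h3]) (by
      simp [h3] at h4 h5 ⊢
      linear_combination h5 - h4 + (σ m * P.B v u - σ m' * P.B v u) * h.two)
    have e2 := lin v h2 h3 m (m' - m)
    rw [add_assoc, ← add_smul] at e1
    rw [add_sub_cancel] at e1 e2
    rw [e1, e2]; abel
  obtain ⟨ω, hω⟩ := h.exists_tr (map_one σ)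
  choose c hc using fun w : V => h.exists_tr (h.conj w w)
  let E : V → K → K → A := fun w l m => f (w + l • a + m • b) - f (l • a) - f (m • b)
  have key : ∀ w, P.B p w = 0 → P.B a w = 0 → P.B b w = 0 → ∀ l m, σ l * m + σ m * l = P.B w w →
      E w l m = E w 1 (c w) := by
    intro w pw aw bw
    have wa := h.B_comm aw
    have wb := h.B_comm bw
    have iso : ∀ l m : K, σ l * m + σ m * l = P.B w w → P.B (w + l • a + m • b) (w + l • a + m • b) = 0 :=
      fun l m e => by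
        simp [aa, bb, ab, ba, aw, bw, wa, wb]
        linear_combination e + P.B w w * h.two
    have m1 : ∀ l m m' : K, σ l * m + σ m * l = P.B w w → σ l * m' + σ m' * l = P.B w w → E w l m = E w l m' :=
      fun l m m' e e' => by
        have := mv (w + l • a) b m m' (by simp [pw, pa]) pb bb (iso _ _ e) (iso _ _ e')
        simp only [E]
        rw [sub_right_comm, this, sub_right_comm]
    have m2 : ∀ l l' m : K, σ l * m + σ m * l = P.B w w → σ l' * m + σ m * l' = P.B w w → E w l m = E w l' m :=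
      fun l l' m e e' => by
        have := mv (w + m • b) a l l' (by simp [pw, pb]) pa aa (by rw [add_right_comm]; exact iso _ _ e)
          (by rw [add_right_comm]; exact iso _ _ e')
        simp only [E]
        rw [add_right_comm w (l • a), this, add_right_comm w (m • b)]
    have m3 : ∀ l l' m m' : K, σ l * l' + σ l' * l ≠ 0 → σ l * m + σ m * l = P.B w w →
        σ l' * m' + σ m' * l' = P.B w w → E w l m = E w l' m' := fun l l' m m' hD e e' => by
      obtain ⟨n, h1, h2⟩ := solve2 h (h.conj w w) (h.conj w w) hD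
      rw [m1 _ _ _ e h1, m2 _ _ _ h1 h2, m1 _ _ _ h2 e']
    have c1 : σ 1 * c w + σ (c w) * 1 = P.B w w := by simpa using hc w
    intro l m e
    by_cases hl : σ l + l = 0
    · by_cases l0 : l = 0
      · subst l0
        have z : P.B w w = 0 := by simpa using e.symm
        rw [m1 0 m 0 e (by simp [z]), m2 0 1 0 (by simp [z]) (by simp [z]), m1 1 0 _ (by simp [z]) c1]
      · obtain ⟨n, h1, -⟩ := solve2 h (l := ω) (l' := 1) (h.conj w w) (h.conj w w) (by simp [add_comm, hω])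
        rw [m3 l ω m n (by
          rw [h.eq_of_add hl, mul_comm (σ ω), ← mul_add, hω, mul_one]; exact l0) e h1]
        exact m3 _ _ _ _ (by simp [add_comm, hω]) h1 c1
    · exact m3 _ _ _ _ (by simpa using hl) e c1
  have add : ∀ w w', P.B p w = 0 → P.B a w = 0 → P.B b w = 0 → P.B p w' = 0 → P.B a w' = 0 → P.B b w' = 0 →
      E (w + w') 1 (c (w + w')) = E w 1 (c w) + E w' 1 (c w') := by
    intro w w' pw aw bw pw' aw' bw'
    have wa := h.B_comm aw
    have wb := h.B_comm bw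
    have wa' := h.B_comm aw'
    have wb' := h.B_comm bw'
    obtain ⟨n, h1, h2⟩ := solve2 h (l := ω) (l' := 1) (κ' := P.B w w' + P.B w' w + (σ (c w) * ω + σ ω * c w))
      (h.conj w' w') (by simp only [map_add, map_mul, h.conj, P.σσ]; ring) (by simp [add_comm, hω])
    have h3 := hc w
    rw [map_one] at h2
    have e1 := ha (w + (1 : K) • a + c w • b) (w' + ω • a + n • b) (by simp [pw, pa, pb]) (by simp [pw', pa, pb])
      (by simp [aa, bb, ab, ba, aw, bw, wa, wb]; linear_combination h3 + P.B w w * h.two)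
      (by simp [aa, bb, ab, ba, aw', bw', wa', wb']; linear_combination h1 + P.B w' w' * h.two)
      (by
        simp [aa, bb, ab, ba, aw, bw, wa, wb, aw', bw', wa', wb']
        linear_combination h2 + (P.B w w' + σ (c w) * ω - σ n) * h.two)
    rw [← key (w + w') (by simp [pw, pw']) (by simp [aw, aw']) (by simp [bw, bw']) (1 + ω) (c w + n) (by
      simp only [map_add, map_one, LinearMap.add_apply]
      linear_combination h1 + h2 + h3 + (σ (c w) * ω + σ ω * c w) * h.two), ← key w' pw' aw' bw' ω n h1]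
    simp only [E]
    rw [show w + w' + (1 + ω) • a + (c w + n) • b = w + (1 : K) • a + c w • b + (w' + ω • a + n • b) by module, e1,
      lin a pa aa, lin b pb bb]
    abel
  let π : V → V := fun v => v - P.B b v • a - P.B a v • b
  have πp : ∀ v, P.B p v = 0 → P.B p (π v) = 0 := fun v hv => by simp [π, hv, pa, pb]
  have πa : ∀ v, P.B a (π v) = 0 := fun v => by simp [π, aa, ab]
  have πb : ∀ v, P.B b (π v) = 0 := fun v => by simp [π, bb, ba]
  refine ⟨fun v => E (π v) 1 (c (π v)) + f (P.B b v • a) + f (P.B a v • b), fun r pr rr => ?_, fun r r' pr pr' => ?_⟩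
  · have e : π r + P.B b r • a + P.B a r • b = r := by simp only [π]; abel
    simp only []
    rw [← key _ (πp r pr) (πa r) (πb r) (P.B b r) (P.B a r) (by
      simp [π, aa, bb, ab, ba, rr, h.conj]
      linear_combination (P.B r b * P.B a r + P.B r a * P.B b r) * h.two)]
    simp only [E]
    rw [e]; abel
  · have e : π (r + r') = π r + π r' := by simp only [π, map_add]; module
    simp only []
    rw [e, add _ _ (πp r pr) (πa r) (πb r) (πp r' pr') (πa r') (πb r'), map_add, map_add, lin a pa aa, lin b pb bb]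
    abel

end TauP

open scoped IsMulCommutative in
/-- a function on the isotropic vectors of `p^⊥` which is additive on trace-orthogonal pairs extends -/
theorem Mod.extend (h : Mod C) {p : V} (h0 : p ≠ 0) (hp : P.B p p = 0) (f : V → G)
    (hc : ∀ r r', P.B p r = 0 → P.B p r' = 0 → P.B r r = 0 → P.B r' r' = 0 → Commute (f r) (f r'))
    (ha : ∀ r r', P.B p r = 0 → P.B p r' = 0 → P.B r r = 0 → P.B r' r' = 0 →
      P.B r r' = P.B r' r → f (r + r') = f r * f r') : ∃ f' : V → G,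
      (∀ r, P.B p r = 0 → P.B r r = 0 → f' r = f r) ∧
      ∀ r r', P.B p r = 0 → P.B p r' = 0 → f' (r + r') = f' r * f' r' := by
  classical
  let X : Set G := {g | ∃ r, (P.B p r = 0 ∧ P.B r r = 0) ∧ g = f r}
  haveI : IsMulCommutative (closure X) := isMulCommutative_closure (by
    rintro _ ⟨r, ⟨h1, h2⟩, rfl⟩ _ ⟨r', ⟨h3, h4⟩, rfl⟩
    exact hc r r' h1 h3 h2 h4)
  let g : V → Additive (closure X) := fun r =>
    if k : P.B p r = 0 ∧ P.B r r = 0 then Additive.ofMul ⟨f r, subset_closure ⟨r, k, rfl⟩⟩ else 0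
  obtain ⟨f', h1, h2⟩ := TauP.extend_add h h0 hp g fun r r' a1 a2 a3 a4 a5 => by
    have a6 : P.B p (r + r') = 0 ∧ P.B (r + r') (r + r') = 0 :=
      ⟨by simp [a1, a2], by simp [a3, a4, a5, h.add_self]⟩
    simp only [g, dif_pos a6, dif_pos (And.intro a1 a3), dif_pos (And.intro a2 a4)]
    exact Subtype.ext (ha r r' a1 a2 a3 a4 a5)
  refine ⟨fun r => ((f' r).toMul : closure X), fun r a1 a2 => ?_, fun r r' a1 a2 => ?_⟩
  · simp only [h1 r a1 a2, g, dif_pos (And.intro a1 a2)]; rfl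
  · simp only [h2 r r' a1 a2]; rfl

namespace TauP

theorem ind1 (h : Mod C) {p : V} (pp : P.B p p = 0) {Q : V → Prop} (h1 : ∀ b, P.B p b = 0 → P.B b b = 0 → Q b)
    (h2 : ∀ b b', P.B p b = 0 → P.B p b' = 0 → Q b → Q b' → Q (b + b')) {b : V} (pb : P.B p b = 0) : Q b := by
  classical
  have hr : finrank K (span K {p}) ≤ 1 := (finrank_span_le_card _).trans (by simp)
  have h5 := h.d5
  have := h.iso_span (ti_pt pp) (by omega) (P.mem_perp_span_singleton.2 pb)
  suffices Q b ∧ P.B p b = 0 from this.1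
  clear pb
  induction this using AddSubgroup.closure_induction with
  | mem v hv => exact ⟨h1 v (P.mem_perp_span_singleton.1 hv.1) hv.2, P.mem_perp_span_singleton.1 hv.1⟩
  | zero => exact ⟨h1 0 (by simp) (by simp), by simp⟩
  | add v v' _ _ i1 i2 => exact ⟨h2 v v' i1.2 i2.2 i1.1 i2.1, by simp [i1.2, i2.2]⟩
  | neg v _ i => rwa [h.vneg_eq]

variable (C φ) in
/-- the transvection of an isotropic pair -/
def τ0 (y : V → K → G) (ρ : K) (p r : V) : G := x C φ p (ρ • r) 0 * w y p r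

variable {y : V → K → G} {c ρ : K} {p a b r r' u : V} {d d' s : K} {g : G}

theorem tok (h : Mod C) (pp : P.B p p = 0) (pr : P.B p r = 0) (rr : P.B r r = 0) (l : K) : TOk P p (l • r) 0 :=
  h.tok1 pp (by simp [rr]) (by simp [pr]) (map_zero σ)

theorem xx (k : TOk P p a d) (k' : TOk P p b d') :
    x C φ p a d * x C φ p b d' = x C φ p (a + b) (d + d' + P.B b a) := by
  rw [x, x, ← map_mul, C.T_mul k k', x]

theorem xz (h : Mod C) (k : TOk P p a d) (hs : σ s = s) : x C φ p a d * z C φ p s = x C φ p a (d + s) := by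
  have := xx (C := C) (φ := φ) k (h.tok0 (h.tok.1 k).1 hs)
  rw [add_zero, map_zero, LinearMap.zero_apply, add_zero] at this
  exact this

omit [Finite G] in
theorem cjm (hg : g * g = 1) (a b : G) : g * (a * b) * g = g * a * g * (g * b * g) := by
  calc _ = g * a * (g * g) * b * g := by rw [hg]; group
    _ = _ := by group

theorem fB (h : Mod C) (a b : V) : σ (P.B a b + P.B b a) = P.B a b + P.B b a := by
  rw [map_add, h.conj, h.conj, add_comm]

section
variable (h : HQ C φ t y c)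
include h

theorem Zx (hg : g ∈ Zh C φ y p) (k : TOk P p a d) : Commute g (x C φ p a d) :=
  (h.toHats.Zh_cY (h.toMod.tok.1 k).1 hg _ (HatP.fix_mem (C.T_self k))).symm

theorem Zw (hg : g ∈ Zh C φ y p) (pp : P.B p p = 0) (pa : P.B p a = 0) (aa : P.B a a = 0) : Commute g (w y p a) :=
  h.toHats.w_Zh pp aa pa pp pp pa g hg

theorem ZZ (hg : g ∈ Zh C φ y p) {g' : G} (hg' : g' ∈ Zh C φ y p) (pp : P.B p p = 0) : Commute g g' :=
  h.toHats.Zh_comm pp pp pp hg' g hg

theorem wx (pa : P.B p a = 0) (aa : P.B a a = 0) (k : TOk P p b d) :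
    w y p a * x C φ p b d = x C φ p b d * w y p a * y p (P.B a b + P.B b a) := by
  have pp := (h.toMod.tok.1 k).1
  have e := h.toHL.wx pp aa pa k
  have hf := fB h.toMod a b
  rw [mul_inv_eq_iff_eq_mul] at e
  rw [e, mul_assoc, ← (Zx h (h.toHats.y_mem_Zh hf) k).eq, mul_assoc, ← mul_assoc (y p _), h.toHats.y_sq pp hf, one_mul]

theorem ww (pp : P.B p p = 0) (pa : P.B p a = 0) (aa : P.B a a = 0) (pb : P.B p b = 0) (bb : P.B b b = 0) :
    w y p a * w y p b = w y p b * w y p a * (y p (P.B a b + P.B b a) * z C φ p (c * (P.B a b + P.B b a))) := by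
  rw [add_comm, ← h.ww p b a pp bb aa pb pa]
  have e1 := h.toHats.w_sq pp aa pa
  have e2 := h.toHats.w_sq pp bb pb
  have hf := fB h.toMod b a
  have k : w y p b * w y p a * w y p b * w y p a ∈ Zh C φ y p := by
    rw [h.ww p b a pp bb aa pb pa]
    exact mul_mem (h.toHats.y_mem_Zh hf) (h.toHats.z_mem_Zh (by rw [map_mul, hf, h.cF]))
  have k2 := h.toHats.Zh_sq pp k
  calc w y p a * w y p b = w y p b * w y p b * w y p a * w y p b * (w y p a * w y p a) := by rw [e1, e2]; simp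
    _ = w y p b * (w y p b * w y p a * w y p b * w y p a) * w y p a := by group
    _ = w y p b * (w y p a * (w y p b * w y p a * w y p b * w y p a)) := by
      rw [mul_assoc, (Zw h k pp pa aa).eq]
    _ = _ := (mul_assoc _ _ _).symm

theorem tmul (pp : P.B p p = 0) (pr : P.B p r = 0) (rr : P.B r r = 0) (pr' : P.B p r' = 0) (rr' : P.B r' r' = 0) :
    τ0 C φ y ρ p r * τ0 C φ y ρ p r' = x C φ p (ρ • (r + r')) (σ ρ * ρ * P.B r' r) * (w y p r * w y p r') *
      y p (ρ * P.B r r' + σ ρ * P.B r' r) := by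
  have k := tok h.toMod pp pr rr ρ
  have k' := tok h.toMod pp pr' rr' ρ
  have hf := fB h.toMod r (ρ • r')
  have e := xx (C := C) (φ := φ) k k'
  rw [τ0, τ0, mul_assoc, ← mul_assoc (w y p r), wx h pr rr k', mul_assoc _ (y p _),
    (Zw h (h.toHats.y_mem_Zh hf) pp pr' rr').eq]
  simp only [← mul_assoc]
  rw [e]
  simp [mul_assoc, mul_left_comm]

variable (h1 : σ ρ * ρ = c) (h3 : σ ρ = ρ + 1)
include h1 h3

theorem tcomm (pp : P.B p p = 0) (pr : P.B p r = 0) (rr : P.B r r = 0) (pr' : P.B p r' = 0) (rr' : P.B r' r' = 0) :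
    Commute (τ0 C φ y ρ p r) (τ0 C φ y ρ p r') := by
  have m := h.toMod
  have hf := fB m r r'
  have hz : σ (c * (P.B r r' + P.B r' r)) = c * (P.B r r' + P.B r' r) := by rw [map_mul, hf, h.cF]
  have hy : σ (ρ * P.B r r' + σ ρ * P.B r' r) = ρ * P.B r r' + σ ρ * P.B r' r := by
    simp only [map_add, map_mul, m.conj, P.σσ]; ring
  have k : TOk P p (ρ • (r + r')) (c * P.B r' r) := m.tok.2 ⟨pp, by simp [pr, pr'], by
    simp [rr, rr', m.conj, h.cF]; linear_combination (-P.B r r' - P.B r' r) * h1⟩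
  have cz := h.toHats.z_mem_Zh (p := p) hz
  show _ = _
  rw [tmul h pp pr rr pr' rr', tmul h pp pr' rr' pr rr, h1, ww h pp pr rr pr' rr',
    (ZZ h (h.toHats.y_mem_Zh hf) cz pp).eq, ← mul_assoc (w y p r' * w y p r),
    ← ((Zw h cz pp pr' rr').mul_right (Zw h cz pp pr rr)).eq]
  simp only [← mul_assoc]
  rw [xz m k hz, mul_assoc _ (y p _), ← h.add _ _ _ pp hf hy, add_comm r' r]
  congr 2
  · congr 2; linear_combination c * P.B r' r * m.two
  · linear_combination (P.B r' r - P.B r r') * h3 + P.B r' r * m.two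

theorem tadd0 (pp : P.B p p = 0) (pr : P.B p r = 0) (rr : P.B r r = 0) (pr' : P.B p r' = 0) (rr' : P.B r' r' = 0)
    (e : P.B r r' = P.B r' r) : τ0 C φ y ρ p (r + r') = τ0 C φ y ρ p r * τ0 C φ y ρ p r' := by
  have m := h.toMod
  have hf : σ (P.B r r') = P.B r r' := by rw [m.conj, e]
  have hz : σ (c * P.B r r') = c * P.B r r' := by rw [map_mul, hf, h.cF]
  have k := tok m pp (r := r + r') (by simp [pr, pr']) (by simp [rr, rr', e, m.add_self]) ρ
  have cz := h.toHats.z_mem_Zh (p := p) hz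
  rw [tmul h pp pr rr pr' rr', τ0, h.wadd' p r r' pp rr rr' pr pr' e, mul_assoc (w y p r * w y p r'),
    (ZZ h (h.toHats.y_mem_Zh hf) cz pp).eq, ← mul_assoc (w y p r * w y p r'),
    ← ((Zw h cz pp pr rr).mul_right (Zw h cz pp pr' rr')).eq]
  simp only [← mul_assoc]
  rw [xz m k hz, zero_add, h1, ← e]
  congr 2
  linear_combination (-P.B r r') * h3 - ρ * P.B r r' * m.two

end

variable (C φ) in
/-- `τ` extends `τ0` additively -/
structure Ex (t : G) (y : V → K → G) (c ρ : K) (τ : V → V → G) : Prop extends HQ C φ t y c where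
  hN : σ ρ * ρ = c
  hT : σ ρ = ρ + 1
  iso : ∀ p r, P.B p p = 0 → P.B p r = 0 → P.B r r = 0 → τ p r = τ0 C φ y ρ p r
  tadd : ∀ p r r', P.B p p = 0 → P.B p r = 0 → P.B p r' = 0 → τ p (r + r') = τ p r * τ p r'

theorem exists_ex (h : HQ C φ t y c) (h1 : σ ρ * ρ = c) (h3 : σ ρ = ρ + 1) : ∃ τ, Ex C φ t y c ρ τ := by
  have m := h.toMod
  have : ∀ p, ∃ f : V → G, P.B p p = 0 → (∀ r, P.B p r = 0 → P.B r r = 0 → f r = τ0 C φ y ρ p r) ∧
      ∀ r r', P.B p r = 0 → P.B p r' = 0 → f (r + r') = f r * f r' := by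
    intro p
    by_cases pp : P.B p p = 0
    · by_cases p0 : p = 0
      · subst p0
        refine ⟨fun _ => 1, fun _ => ⟨fun r pr rr => ?_, fun _ _ _ _ => (mul_one _).symm⟩⟩
        rw [τ0, x, m.T_zero' _ (tok m pp pr rr ρ), map_one, h.toHats.w_zero rr, mul_one]
      · obtain ⟨f, hf⟩ := m.extend p0 pp (τ0 C φ y ρ p) (fun r r' a1 a2 a3 a4 => tcomm h h1 h3 pp a1 a3 a2 a4)
          fun r r' a1 a2 a3 a4 a5 => tadd0 h h1 h3 pp a1 a3 a2 a4 a5
        exact ⟨f, fun _ => hf⟩
    · exact ⟨fun _ => 1, fun e => absurd e pp⟩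
  choose τ hτ using this
  exact ⟨τ, h, h1, h3, fun p r pp => (hτ p pp).1 r, fun p r r' pp => (hτ p pp).2 r r'⟩

namespace Ex

variable {τ : V → V → G} (h : Ex C φ t y c ρ τ)
include h

theorem t0 (pp : P.B p p = 0) : τ p 0 = 1 := by
  have := h.tadd p 0 0 pp (by simp) (by simp)
  rwa [add_zero, left_eq_mul] at this

theorem tsq (pp : P.B p p = 0) (pr : P.B p r = 0) : τ p r * τ p r = 1 := by
  rw [← h.tadd p r r pp pr pr, h.toMod.vadd_self, h.t0 pp]

theorem tcomm (pp : P.B p p = 0) (pr : P.B p r = 0) (pr' : P.B p r' = 0) : Commute (τ p r) (τ p r') := by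
  show _ = _
  rw [← h.tadd p r r' pp pr pr', add_comm, h.tadd p r' r pp pr' pr]

theorem mem (pp : P.B p p = 0) (pr : P.B p r = 0) : τ p r ∈ G0 C φ y := by
  refine ind1 h.toMod pp (Q := fun r => τ p r ∈ G0 C φ y) (fun b pb bb => ?_) (fun b b' e e' i i' => ?_) pr
  · rw [h.iso p b pp pb bb]
    exact mul_mem (mem_sup_left ⟨_, rfl⟩) (h.toHats.w_mem pp bb pb)
  · rw [h.tadd p b b' pp e e']; exact mul_mem i i'

theorem tsmul (pp : P.B p p = 0) (pr : P.B p r = 0) (l : K) : τ (l • p) r = τ p (σ l • r) := by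
  have lp : P.B (l • p) (l • p) = 0 := by simp [pp]
  refine ind1 h.toMod pp (Q := fun r => τ (l • p) r = τ p (σ l • r)) (fun b pb bb => ?_) (fun b b' e e' i i' => ?_) pr
  · rw [h.iso _ b lp (by simp [pb]) bb, h.iso p _ pp (by simp [pb]) (by simp [bb]), τ0, τ0, h.wsmul p b l pp bb pb, x, x,
      C.T_smul_left (tok h.toMod pp pb bb ρ), mul_zero, smul_comm]
  · rw [h.tadd _ b b' lp (by simp [e]) (by simp [e']), smul_add, h.tadd p _ _ pp (by simp [e]) (by simp [e']), i, i']

theorem teqv (pp : P.B p p = 0) (pr : P.B p r = 0) (l : S) :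
    φ l * τ p r * (φ l)⁻¹ = τ (C.act l p) (C.act l r) := by
  have lp : P.B (C.act l p) (C.act l p) = 0 := by rw [C.B_act, pp]
  refine ind1 h.toMod pp (Q := fun r => φ l * τ p r * (φ l)⁻¹ = τ (C.act l p) (C.act l r)) (fun b pb bb => ?_)
    (fun b b' e e' i i' => ?_) pr
  · rw [h.iso _ b pp pb bb, h.iso _ _ lp (by rw [C.B_act, pb]) (by rw [C.B_act, bb]), τ0, τ0,
      ← h.toHats.w_conj pp bb pb, ← map_smul, ← h.toEmb.x_conj l (tok h.toMod pp pb bb ρ)]
    group
  · rw [map_add, h.tadd p b b' pp e e', h.tadd _ _ _ lp (by rw [C.B_act, e]) (by rw [C.B_act, e']), ← i, ← i']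
    group

theorem tx (a : V) (d : K) : t * x C φ p a d * t = x C φ p a d := by
  rw [x, ← (h.toSit.tφ _).eq, mul_assoc, h.t2, mul_one]

theorem tt0 (pp : P.B p p = 0) (pr : P.B p r = 0) (rr : P.B r r = 0) :
    t * τ p r * t = x C φ p (σ ρ • r) 0 * w y p r := by
  have m := h.toMod
  have e1 := h.toHats.w_t pp rr pr
  have e2 := h.toHats.w_sq pp rr pr
  have e3 : t * w y p r * t = x C φ p r 0 * w y p r := by
    rw [mul_inv_eq_iff_eq_mul] at e1
    rw [mul_assoc, e1, ← mul_assoc, ← mul_assoc, h.t2, one_mul]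
  have e4 := xx (C := C) (φ := φ) (tok m pp pr rr ρ) (m.tok1 pp rr pr (map_zero σ))
  calc t * τ p r * t = t * x C φ p (ρ • r) 0 * t * (t * w y p r * t) := by
        rw [h.iso p r pp pr rr, τ0, cjm h.t2]
    _ = _ := by rw [h.tx, e3, ← mul_assoc, e4, h.hT, add_smul]; simp [rr]

theorem tt (pp : P.B p p = 0) (rr : P.B r r = 0) (pr : P.B p r = 0) : t * τ p r * t = τ r p := by
  have m := h.toMod
  have rp := m.B_comm pr
  rw [h.tt0 pp pr rr, h.iso r p rr rp pp, τ0, h.toHats.w_symm pp rr pr, x, x,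
    m.T_symm rr (a := ρ • p) (by simp [pp]) (by simp [rp]), C.T_smul_left (m.tok1 pp rr pr (map_zero σ)), mul_zero]

theorem self (pp : P.B p p = 0) (l : K) : τ p (l • p) = z C φ p (ρ * l + σ (ρ * l)) * y p (l + σ l) := by
  have := (h.toMod.T_shift (h.toMod.tok0 pp (map_zero σ)) (ρ * l)).2.2
  rw [zero_add, zero_add] at this
  rw [h.iso p _ pp (by simp [pp]) (by simp [pp]), τ0, h.toHats.w_self pp, smul_smul, x, this, z]

theorem hy (pp : P.B p p = 0) (hs : σ s = s) : y p s = τ p ((s * σ ρ) • p) := by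
  have m := h.toMod
  rw [h.self pp, show ρ * (s * σ ρ) + σ (ρ * (s * σ ρ)) = 0 by
    simp only [map_mul, hs, P.σσ]; linear_combination ρ * s * σ ρ * m.two, HatP.z0 h.toEmb pp, one_mul]
  congr 1
  simp only [map_mul, hs, P.σσ]
  linear_combination -s * h.hT - s * ρ * m.two

/-- the action of `y u s` modulo `Zh p` -/
theorem ymod (pp : P.B p p = 0) (uu : P.B u u = 0) (pu : P.B p u = 0) (hs : σ s = s) (pr : P.B p r = 0)
    (rr : P.B r r = 0) : ∃ g ∈ Zh C φ y p, y u s * τ p r * y u s = τ p (r + (s * σ ρ * P.B u r) • u) * g := by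
  have m := h.toMod
  have q := h.toHQ
  have k := tok m pp pr rr ρ
  have e1 := h.toHL.yx pp uu pu k hs
  obtain ⟨g, hg, e2⟩ := h.yw p u r s pp uu rr pu pr hs
  have hf : σ (s * (P.B u (ρ • r) * P.B (ρ • r) u)) = s * (P.B u (ρ • r) * P.B (ρ • r) u) := by
    rw [map_mul, map_mul, hs, m.conj, m.conj, mul_comm (P.B (ρ • r) u)]
  have lu : ∀ l : K, P.B (l • u) (l • u) = 0 := fun l => by simp [uu]
  have pl : ∀ l : K, P.B p (l • u) = 0 := fun l => by simp [pu]
  have e3 := ww q pp (pl (s * P.B u (ρ • r))) (lu _) pr rr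
  have hf' := fB m ((s * P.B u (ρ • r)) • u) r
  have g1 := mul_mem (h.toHats.y_mem_Zh (p := p) hf') (h.toHats.z_mem_Zh (p := p) (s := c * _) (by rw [map_mul, hf', h.cF]))
  have g2 := h.toHats.y_mem_Zh (p := p) hf
  generalize y p _ * z C φ p _ = g' at e3 g1
  generalize y p _ = g'' at e1 g2
  have k' := tok m pp pu uu (c * s * P.B u r)
  have e4 := wx q (pl (s * P.B u (ρ • r) + s * P.B u r)) (lu _) k'
  have e5 := h.wadd p _ _ pp (lu (s * P.B u (ρ • r))) (lu (s * P.B u r)) (pl _) (pl _) (by simp [uu])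
  rw [show P.B ((s * P.B u (ρ • r) + s * P.B u r) • u) ((c * s * P.B u r) • u) +
    P.B ((c * s * P.B u r) • u) ((s * P.B u (ρ • r) + s * P.B u r) • u) = 0 by simp [uu], h.toHats.y_zero pp,
    mul_one, add_smul, e5] at e4
  have e6 : τ p ((s * σ ρ * P.B u r) • u) = x C φ p ((c * s * P.B u r) • u) 0 *
      (w y p ((s * P.B u (ρ • r)) • u) * w y p ((s * P.B u r) • u)) := by
    rw [h.iso p _ pp (pl _) (lu _), τ0, ← e5, ← add_smul, smul_smul, ← h.hN, h.hT]
    congr 3
    · ring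
    · simp; ring
  refine ⟨g' * g'' * g, mul_mem (mul_mem g1 g2) hg, ?_⟩
  have c1 := ((Zw q (mul_mem g1 g2) pp (pl (s * P.B u r)) (lu _)).mul_right (Zx q (mul_mem g1 g2) k')).eq
  calc y u s * τ p r * y u s = y u s * x C φ p (ρ • r) 0 * y u s * (y u s * w y p r * y u s) := by
        rw [h.iso p r pp pr rr, τ0, cjm (h.toHats.y_sq uu hs)]
    _ = x C φ p (ρ • r) 0 * (w y p ((s * P.B u (ρ • r)) • u) * (g'' * w y p r)) *
        (w y p ((s * P.B u r) • u) * x C φ p ((c * s * P.B u r) • u) 0) * g := by rw [e1, e2]; group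
    _ = x C φ p (ρ • r) 0 * w y p r * w y p ((s * P.B u (ρ • r)) • u) * (g' * g'' *
        (w y p ((s * P.B u r) • u) * x C φ p ((c * s * P.B u r) • u) 0)) * g := by
      rw [(Zw q g2 pp pr rr).eq, ← mul_assoc _ (w y p r), e3]; group
    _ = x C φ p (ρ • r) 0 * w y p r * (w y p ((s * P.B u (ρ • r)) • u) * w y p ((s * P.B u r) • u) *
        x C φ p ((c * s * P.B u r) • u) 0) * (g' * g'' * g) := by rw [c1]; group
    _ = _ := by rw [e4, h.tadd p _ _ pp pr (pl _), e6, h.iso p r pp pr rr, τ0]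

theorem yadd (pp : P.B p p = 0) (uu : P.B u u = 0) (hs : σ s = s) (pr : P.B p r = 0) (pr' : P.B p r' = 0) :
    y u s * τ p (r + r') * y u s = y u s * τ p r * y u s * (y u s * τ p r' * y u s) := by
  rw [h.tadd p r r' pp pr pr', cjm (h.toHats.y_sq uu hs)]

theorem Zτ (pp : P.B p p = 0) (hg : g ∈ Zh C φ y p) (pr : P.B p r = 0) : Commute g (τ p r) := by
  have m := h.toMod
  refine ind1 m pp (Q := fun v => Commute g (τ p v)) (fun b pb bb => ?_) (fun b b' e e' i i' => ?_) pr
  · rw [h.iso p b pp pb bb]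
    exact (Zx h.toHQ hg (tok m pp pb bb ρ)).mul_right (Zw h.toHQ hg pp pb bb)
  · rw [h.tadd p b b' pp e e']; exact i.mul_right i'

theorem ymod' (pp : P.B p p = 0) (uu : P.B u u = 0) (pu : P.B p u = 0) (hs : σ s = s) (pr : P.B p r = 0) :
    ∃ g ∈ Zh C φ y p, y u s * τ p r * y u s = τ p (r + (s * σ ρ * P.B u r) • u) * g := by
  refine ind1 h.toMod pp
    (Q := fun r => ∃ g ∈ Zh C φ y p, y u s * τ p r * y u s = τ p (r + (s * σ ρ * P.B u r) • u) * g)
    (fun b pb bb => h.ymod pp uu pu hs pb bb) ?_ pr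
  rintro b b' e e' ⟨g, hg, i⟩ ⟨g', hg', i'⟩
  refine ⟨g * g', mul_mem hg hg', ?_⟩
  have cz := (h.Zτ pp hg (r := b' + (s * σ ρ * P.B u b') • u) (by simp [e', pu])).eq
  have ea : b + b' + (s * σ ρ * P.B u (b + b')) • u =
      (b + (s * σ ρ * P.B u b) • u) + (b' + (s * σ ρ * P.B u b') • u) := by
    simp only [map_add]; module
  rw [h.yadd pp uu hs e e', i, i', ea, h.tadd p (b + (s * σ ρ * P.B u b) • u) (b' + (s * σ ρ * P.B u b') • u) pp
    (by simp [e, pu]) (by simp [e', pu])]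
  calc _ = τ p (b + (s * σ ρ * P.B u b) • u) * (g * τ p (b' + (s * σ ρ * P.B u b') • u)) * g' := by group
    _ = _ := by rw [cz]; group

theorem yperp0 (pp : P.B p p = 0) (uu : P.B u u = 0) (pu : P.B p u = 0) (hs : σ s = s) (pb : P.B p b = 0)
    (ub : P.B u b = 0) (bb : P.B b b = 0) : y u s * τ p b * y u s = τ p b := by
  have m := h.toMod
  have up := m.B_comm pu
  have c1 : Commute (x C φ p (ρ • b) 0) (y u s) := h.toHats.y_fix uu hs (by
    rw [m.T_app (tok m pp pb bb ρ)]; simp [pu, m.B_comm ub])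
  have c2 : Commute (y u s) (w y p b) := h.toHats.w_Zh pp bb pb uu up ub _ (h.toHats.y_mem_Zh hs)
  rw [h.iso p b pp pb bb, τ0, (c1.symm.mul_right c2).eq, mul_assoc, h.toHats.y_sq uu hs, mul_one]

theorem yperp (pp : P.B p p = 0) (uu : P.B u u = 0) (pu : P.B p u = 0) (hs : σ s = s) (pr : P.B p r = 0)
    (ur : P.B u r = 0) : y u s * τ p r * y u s = τ p r := by
  have m := h.toMod
  have up := m.B_comm pu
  by_cases p0 : p = 0
  · have : ∀ v, τ p v = 1 := fun v => by
      have := h.tsmul pp (r := v) (by simp [p0]) 0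
      rwa [map_zero, zero_smul, zero_smul, h.t0 pp, ← p0] at this
    rw [this, mul_one, h.toHats.y_sq uu hs]
  by_cases h1 : u ∈ span K {p}
  · obtain ⟨l, rfl⟩ := Submodule.mem_span_singleton.1 h1
    rw [h.smul _ _ _ pp hs, (h.Zτ pp (h.toHats.y_mem_Zh (HatP.nF l hs P)) pr).eq, mul_assoc,
      h.toHats.y_sq pp (HatP.nF l hs P), mul_one]
  obtain ⟨f, f', k⟩ := m.exists_hh' pp uu pu p0 h1
  obtain ⟨n, nn, pn, fn, un, f'n, hn⟩ := m.exists_n k
  have main : ∀ β : K, y u s * τ p (β • n) * y u s = τ p (β • n) := by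
    obtain ⟨μ, μ1, μN⟩ := m.herm.exists_norm_one_ne_one
    have μ0 : μ ≠ 0 := by rintro rfl; simp at μN
    have ν1 : 1 + σ μ / μ ≠ 0 := fun e => μ1 (m.eq_one_of_sq (by
      have := m.eq_of_add e
      rw [eq_div_iff μ0, one_mul] at this
      rw [← μN, ← this]))
    obtain ⟨l, -, lu, -, ln, lv⟩ := m.exists_diag5 k.h₂ nn un f'n μ0
    have lp : C.act l p = p := lv p up (m.B_comm k.ef) (m.B_comm pn)
    intro β₀
    obtain ⟨β, rfl⟩ : ∃ β, β₀ = β + σ μ / μ * β := ⟨β₀ / (1 + σ μ / μ), by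
      rw [← one_add_mul, mul_div_cancel₀ _ ν1]⟩
    have pb : ∀ β : K, P.B p (β • n) = 0 := fun β => by simp [pn]
    obtain ⟨g, hg, e⟩ := h.ymod' pp uu pu hs (pb β)
    rw [show P.B u (β • n) = 0 by simp [un], mul_zero, zero_smul, add_zero] at e
    have cy : φ l * y u s * (φ l)⁻¹ = y u s := by rw [h.toHats.eqv l u s uu hs, lu, h.smul _ _ _ uu hs, μN, one_mul]
    have cg : φ l * g * (φ l)⁻¹ = g := HatP.cjc (h.toHats.Zh_fix pp (μ := 1) (by simp) (by rw [lp, one_smul]) hg)
    have cτ : φ l * τ p (β • n) * (φ l)⁻¹ = τ p ((σ μ / μ * β) • n) := by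
      rw [h.teqv pp (pb β), lp, map_smul, ln, smul_smul, mul_comm]
    have e' : y u s * τ p ((σ μ / μ * β) • n) * y u s = τ p ((σ μ / μ * β) • n) * g := by
      rw [← cτ]
      calc _ = φ l * y u s * (φ l)⁻¹ * (φ l * τ p (β • n) * (φ l)⁻¹) * (φ l * y u s * (φ l)⁻¹) := by rw [cy]
        _ = φ l * (y u s * τ p (β • n) * y u s) * (φ l)⁻¹ := by group
        _ = φ l * τ p (β • n) * (φ l)⁻¹ * (φ l * g * (φ l)⁻¹) := by rw [e]; group
        _ = _ := by rw [cg]
    rw [add_smul, h.yadd pp uu hs (pb _) (pb _), e, e', mul_assoc, ← mul_assoc g, (h.Zτ pp hg (pb _)).eq,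
      mul_assoc _ g, h.toHats.Zh_sq pp hg, mul_one, h.tadd p _ _ pp (pb _) (pb _)]
  obtain ⟨v, v1, v2, v3, v4, e⟩ := m.hh_decomp k r
  rw [pr, ur, zero_smul, zero_smul, add_zero, add_zero, hn v v1 v2 v3 v4, add_assoc] at e
  have a1 : P.B p (P.B f r • p + P.B f' r • u) = 0 := by simp [pp, pu]
  rw [e, h.yadd pp uu hs (by simp [pn]) a1, main, h.yperp0 pp uu pu hs a1 (by simp [up, uu]) (by simp [pp, uu, pu, up]),
    h.tadd p _ _ pp (by simp [pn]) a1]

/-- the action of `y u s` -/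
theorem yact (pp : P.B p p = 0) (uu : P.B u u = 0) (pu : P.B p u = 0) (hs : σ s = s) (pr : P.B p r = 0) :
    y u s * τ p r * y u s = τ p (r + (s * σ ρ * P.B u r) • u) := by
  have m := h.toMod
  by_cases p0 : p = 0
  · have : ∀ v, τ p v = 1 := fun v => by
      have := h.tsmul pp (r := v) (by simp [p0]) 0
      rwa [map_zero, zero_smul, zero_smul, h.t0 pp, ← p0] at this
    rw [this, this, mul_one, h.toHats.y_sq uu hs]
  by_cases h1 : u ∈ span K {p}
  · obtain ⟨l, rfl⟩ := Submodule.mem_span_singleton.1 h1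
    rw [h.yperp pp uu pu hs pr (by simp [pr])]
    simp [pr]
  obtain ⟨f, f', k⟩ := m.exists_hh' pp uu pu p0 h1
  obtain ⟨-, ff, uf⟩ := m.hp_iff.1 k.h₂
  have pf := k.ef
  have A : ∀ β β' : K, τ p ((β + β') • f' + (s * σ ρ * (β + β')) • u) =
      τ p (β • f' + (s * σ ρ * β) • u) * τ p (β' • f' + (s * σ ρ * β') • u) := fun β β' => by
    rw [← h.tadd p _ _ pp (by simp [pf, pu]) (by simp [pf, pu])]
    congr 1; module
  have main : ∀ β : K, y u s * τ p (β • f') * y u s = τ p (β • f' + (s * σ ρ * β) • u) := by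
    obtain ⟨μ, μ1, μN⟩ := m.herm.exists_norm_one_ne_one
    have μ0 : μ ≠ 0 := by rintro rfl; simp at μN
    have σμ : σ μ = μ⁻¹ := eq_inv_of_mul_eq_one_left μN
    have μ2 : 1 + μ * μ ≠ 0 := fun e => μ1 (m.eq_one_of_sq (m.eq_of_add e).symm)
    obtain ⟨l, -, lp, -, lu, lf, -⟩ := m.exists_diag k (inv_ne_zero μ0) μ0 (by rw [inv_mul_cancel₀ μ0, map_one])
    intro β₀
    obtain ⟨β, rfl⟩ : ∃ β, β₀ = β + μ * μ * β := ⟨β₀ / (1 + μ * μ), by
      rw [← one_add_mul, mul_div_cancel₀ _ μ2]⟩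
    obtain ⟨g, hg, e⟩ := h.ymod pp uu pu hs (r := β • f') (by simp [pf]) (by simp [ff])
    rw [show P.B u (β • f') = β by simp [uf]] at e
    have cy : φ l * y u s * (φ l)⁻¹ = y u s := by rw [h.toHats.eqv l u s uu hs, lu, h.smul _ _ _ uu hs, μN, one_mul]
    have cg : φ l * g * (φ l)⁻¹ = g := HatP.cjc (h.toHats.Zh_fix pp (by rw [map_inv₀, ← mul_inv, μN, inv_one]) lp hg)
    have cτ : ∀ n n' : K, φ l * τ p (n • f' + n' • u) * (φ l)⁻¹ = τ p ((μ * μ * n) • f' + (μ * μ * n') • u) :=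
      fun n n' => by
        rw [h.teqv pp (by simp [pf, pu]), lp, map_add, map_smul, map_smul, lf, lu, h.tsmul pp (by simp [pf, pu]),
          map_inv₀, σμ, inv_inv]
        congr 1; module
    have e' : y u s * τ p ((μ * μ * β) • f') * y u s =
        τ p ((μ * μ * β) • f' + (s * σ ρ * (μ * μ * β)) • u) * g := by
      have a1 := cτ β 0
      have a2 := cτ β (s * σ ρ * β)
      rw [mul_zero, zero_smul, add_zero, add_zero] at a1
      rw [show s * σ ρ * (μ * μ * β) = μ * μ * (s * σ ρ * β) by ring, ← a1, ← a2]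
      calc _ = φ l * y u s * (φ l)⁻¹ * (φ l * τ p (β • f') * (φ l)⁻¹) * (φ l * y u s * (φ l)⁻¹) := by rw [cy]
        _ = φ l * (y u s * τ p (β • f') * y u s) * (φ l)⁻¹ := by group
        _ = φ l * τ p (β • f' + (s * σ ρ * β) • u) * (φ l)⁻¹ * (φ l * g * (φ l)⁻¹) := by rw [e]; group
        _ = _ := by rw [cg]
    obtain ⟨s₁, s₂, a1, a2, a3⟩ := (h.toHats.mem_Zh pp).1 hg
    have cc : Commute g (τ p ((μ * μ * β) • f' + (s * σ ρ * (μ * μ * β)) • u)) := by
      refine ind1 m pp (Q := fun v => Commute g (τ p v)) (fun b pb bb => ?_) (fun b b' e e' i i' => ?_)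
        (by simp [pf, pu])
      · rw [h.iso p b pp pb bb]
        exact (Zx h.toHQ hg (tok m pp pb bb ρ)).mul_right (Zw h.toHQ hg pp pb bb)
      · rw [h.tadd p b b' pp e e']; exact i.mul_right i'
    rw [A, add_smul, h.yadd pp uu hs (by simp [pf]) (by simp [pf]), e, e', mul_assoc, ← mul_assoc g, cc.eq,
      mul_assoc _ g, h.toHats.Zh_sq pp hg, mul_one]
  have e : r = P.B u r • f' + (r + P.B u r • f') := by rw [add_comm r, ← add_assoc, m.vadd_self, zero_add]
  have pr' : P.B p (r + P.B u r • f') = 0 := by simp [pr, pf]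
  conv_lhs => rw [e, h.yadd pp uu hs (by simp [pf]) pr', main,
    h.yperp pp uu pu hs pr' (by simp [uf, m.add_self]), ← h.tadd p _ _ pp (by simp [pf, pu]) pr']
  rw [add_right_comm, ← e]

theorem nat0 (aa : P.B a a = 0) (pp : P.B p p = 0) (ap : P.B a p = 0) (ab : P.B a b = 0) (pb : P.B p b = 0)
    (bb : P.B b b = 0) (pr : P.B p r = 0) : τ a b * τ p r * τ a b = τ p (r + P.B a r • b) := by
  have m := h.toMod
  have pa := m.B_comm ap
  have ba := m.B_comm ab
  have bp := m.B_comm pb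
  have h1 := map_one σ
  have k := tok m aa ab bb ρ
  have act : ∀ u, P.B u u = 0 → P.B p u = 0 → ∀ v, P.B p v = 0 →
      y u 1 * τ p v * (y u 1)⁻¹ = τ p (v + (σ ρ * P.B u v) • u) := fun u uu pu v pv => by
    rw [inv_eq_of_mul_eq_one_right (h.toHats.y_sq uu h1), h.yact pp uu pu h1 pv, one_mul]
  have cj : ∀ g g' v : G, g * g' * v * (g * g')⁻¹ = g * (g' * v * g'⁻¹) * g⁻¹ := fun g g' v => by group
  have e : τ a b * τ p r * τ a b = τ a b * τ p r * (τ a b)⁻¹ := by rw [inv_eq_of_mul_eq_one_right (h.tsq aa ab)]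
  rw [e, h.iso a b aa ab bb, τ0, w, cj, cj, cj, act a aa pa r pr, act b bb pb _ (by simp [pr, pa]),
    act (b + a) (by simp [aa, bb, ab, ba]) (by simp [pa, pb]) _ (by simp [pr, pa, pb]), x,
    h.teqv pp (by simp [pr, pa, pb]), m.T_app k, m.T_app k]
  simp only [map_add, map_smul, LinearMap.map_smulₛₗ, LinearMap.add_apply, LinearMap.smul_apply, smul_eq_mul, aa, bb,
    ab, ba, ap, bp, mul_zero, add_zero, zero_smul, map_zero, zero_mul]
  congr 1
  match_scalars
  · ring
  · linear_combination (σ ρ * P.B a r + σ ρ * P.B b r) * m.two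
  · linear_combination P.B a r * h.hT + (σ ρ * P.B b r + ρ * P.B a r) * m.two

theorem nat1' (pp : P.B p p = 0) (pb : P.B p b = 0) (pr : P.B p r = 0) :
    t * τ p b * t * τ p r * (t * τ p b * t) = τ p (r + P.B b r • p) := by
  have m := h.toMod
  revert r
  refine ind1 m pp
    (Q := fun b => ∀ {r}, P.B p r = 0 → t * τ p b * t * τ p r * (t * τ p b * t) = τ p (r + P.B b r • p))
    (fun b pb bb r pr => ?_) (fun b b' pb pb' i i' r pr => ?_) pb
  · rw [h.tt pp bb pb, h.nat0 bb pp (m.B_comm pb) (m.B_comm pb) pp pp pr]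
  calc _ = t * τ p b * t * (t * τ p b' * t * τ p r * (t * τ p b' * t)) * (t * τ p b * t) := by
        conv_lhs => rw [mul_assoc, mul_assoc, add_comm b, h.tadd p b' b pp pb' pb, cjm h.t2, ← mul_assoc, ← mul_assoc,
          (h.tcomm pp pb' pb).eq, cjm h.t2]
        group
    _ = _ := by
      rw [i' pr, i (by simp [pr, pp])]
      congr 1
      simp only [map_add, map_smul, m.B_comm pb, smul_zero, add_zero, LinearMap.add_apply]
      module

theorem ext (k : TOk P p a d) : x C φ p a d = τ p a * (t * τ p a * t) * τ p (σ d • p) := by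
  have m := h.toMod
  obtain ⟨pp, pa, -⟩ := m.tok.1 k
  revert d
  refine ind1 m pp (Q := fun a => ∀ {d}, TOk P p a d → x C φ p a d = τ p a * (t * τ p a * t) * τ p (σ d • p))
    (fun b pb bb d k => ?_) (fun b b' pb pb' i i' d k => ?_) pa
  · have hd : σ d = d := (m.eq_of_add ((m.tok.1 k).2.2.trans bb)).symm
    have e1 := wx h.toHQ pb bb (tok m pp pb bb (σ ρ))
    rw [show P.B b (σ ρ • b) + P.B (σ ρ • b) b = 0 by simp [bb], h.toHats.y_zero pp, mul_one] at e1
    have e2 := xx (C := C) (φ := φ) (tok m pp pb bb ρ) (tok m pp pb bb (σ ρ))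
    rw [← add_smul, show ρ + σ ρ = 1 by linear_combination h.hT + ρ * m.two, one_smul,
      show 0 + 0 + P.B (σ ρ • b) (ρ • b) = 0 by simp [bb]] at e2
    rw [h.tt0 pp pb bb, h.iso p b pp pb bb, τ0, h.self pp, hd, hd, m.add_self, h.toHats.y_zero pp, mul_one,
      mul_assoc (x C φ p _ 0), ← mul_assoc (w y p b), e1, mul_assoc _ (w y p b), h.toHats.w_sq pp bb pb, mul_one, e2,
      map_mul, hd, show ρ * d + σ ρ * d = d by linear_combination d * h.hT + ρ * d * m.two,
      xz m (m.tok1 pp bb pb (map_zero σ)) hd, zero_add]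
  · obtain ⟨d₁, k₁⟩ := m.exists_tok pp pb
    have k₂ : TOk P p b' (d + d₁ + P.B b' b) := m.tok.2 ⟨pp, pb', by
      have e1 := (m.tok.1 k).2.2
      have e2 := (m.tok.1 k₁).2.2
      simp only [map_add, LinearMap.add_apply, m.conj] at e1 ⊢
      linear_combination e1 + e2 + (P.B b b + P.B b b' + P.B b' b) * m.two⟩
    have e1 := xx (C := C) (φ := φ) k₁ k₂
    rw [show d₁ + (d + d₁ + P.B b' b) + P.B b' b = d by linear_combination (d₁ + P.B b' b) * m.two] at e1
    have lp : ∀ l : K, P.B p (l • p) = 0 := fun l => by simp [pp]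
    have tb : ∀ v, P.B p v = 0 → t * τ p v * t * (t * τ p v * t) = 1 := fun v pv => by
      rw [← cjm h.t2, h.tsq pp pv, mul_one, h.t2]
    have sw : ∀ v v', P.B p v = 0 → P.B p v' = 0 →
        t * τ p v * t * τ p v' = τ p v' * τ p (P.B v v' • p) * (t * τ p v * t) := fun v v' pv pv' => by
      rw [← h.tadd p _ _ pp pv' (lp _), ← h.nat1' pp pv pv', mul_assoc _ _ (t * τ p v * t), tb v pv, mul_one]
    have sw0 : ∀ v (l : K), P.B p v = 0 → t * τ p v * t * τ p (l • p) = τ p (l • p) * (t * τ p v * t) :=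
      fun v l pv => by rw [sw v _ pv (lp l), map_smul, m.B_comm pv, smul_zero, zero_smul, h.t0 pp, mul_one]
    rw [← e1, i k₁, i' k₂, h.tadd p b b' pp pb pb', cjm h.t2]
    have e2 : τ p (σ d₁ • p) * τ p b' * τ p (σ (d + d₁ + P.B b' b) • p) = τ p b' * τ p ((σ d + P.B b b') • p) := by
      rw [← h.tadd p _ _ pp (lp _) pb', ← h.tadd p _ _ pp (by simp [pp, pb']) (lp _), ← h.tadd p _ _ pp pb' (lp _)]
      congr 1
      simp only [map_add, m.conj]
      match_scalars
      · linear_combination σ d₁ * m.two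
      · ring
    have e3 : τ p (P.B b b' • p) * τ p ((σ d + P.B b b') • p) = τ p (σ d • p) := by
      rw [← h.tadd p _ _ pp (lp _) (lp _), ← add_smul, add_comm, add_assoc, m.add_self, add_zero]
    calc _ = τ p b * (t * τ p b * t) * (τ p (σ d₁ • p) * τ p b') *
          (t * τ p b' * t * τ p (σ (d + d₁ + P.B b' b) • p)) := by group
      _ = τ p b * (t * τ p b * t * τ p b') * τ p ((σ d + P.B b b') • p) * (t * τ p b' * t) := by
          rw [sw0 b' _ pb', ← mul_assoc, mul_assoc _ (_ * τ p b'), e2]; group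
      _ = τ p b * τ p b' * τ p (P.B b b' • p) * (t * τ p b * t * τ p ((σ d + P.B b b') • p)) * (t * τ p b' * t) := by
          rw [sw b b' pb pb']; group
      _ = τ p b * τ p b' * (τ p (σ d • p) * (t * τ p b * t)) * (t * τ p b' * t) := by
          rw [sw0 b _ pb, ← e3]; group
      _ = τ p b * τ p b' * (t * τ p b * t) * (τ p (σ d • p) * (t * τ p b' * t)) := by
          rw [← sw0 b _ pb]; group
      _ = _ := by rw [← sw0 b' _ pb']; group

end Ex

end TauP

end CfsgLib.U5
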