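import Cfsg.Agent.Lib.U5.LineB

/-! Functions with values in the centre of the radical of a line -/

set_option autoImplicit false
set_option linter.unusedSectionVars false

namespace CfsgLib.U5

open Subgroup Module CfsgLib.Forms CfsgLib.LieMult
open CfsgLib.HX (Std CO Two Mv Tr Heis NF Fus4 Has4 M2)
open Submodule (span)
open scoped commutatorElement Pointwise

universe u

variable {K : Type} [Field K] [Finite K] {σ : K →+* K} {V : Type} [AddCommGroup V] [Module K V]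
  [FiniteDimensional K V] {P : PQ σ V} {S : Type} [Group S] [Finite S] {G : Type u} [Group G]
  [Finite G] {C : CG P S} {φ : S →* G} {t : G}

namespace Emb

variable (h : Emb C φ) {a f a' f' : V}
include h

omit h in
variable (C φ) in
/-- coordinates in `E(l)` -/
def tbL (a a' : V) (r v r' : K) : G := φ (C.T a 0 r * C.T a (v • a') 0 * C.T a' 0 r')

theorem tb_mem (k : HH P a f a' f') {κ : G} (hκ : κ ∈ Eg C φ (span K {a, a'})) :
    ∃ r v r' : K, σ r = r ∧ σ r' = r' ∧ κ = tbL C φ a a' r v r' := by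
  obtain ⟨s, hs, rfl⟩ := hκ
  obtain ⟨r, v, r', h1, h2, rfl⟩ := (h.toMod.mem_E_line k).1 hs
  exact ⟨r, v, r', h1, h2, rfl⟩

theorem tb_inj (k : HH P a f a' f') {r v r' s u s' : K} (hr : σ r = r) (hr' : σ r' = r') (hs : σ s = s)
    (hs' : σ s' = s') (e : tbL C φ a a' r v r' = tbL C φ a a' s u s') : r = s ∧ v = u ∧ r' = s' := by
  have m := h.toMod
  exact m.E_line_inj k hr hr' hs hs' (h.inj_two (m.rad_two k.ti)
    (m.E_le_rad k.ti ((m.mem_E_line k).2 ⟨r, v, r', hr, hr', rfl⟩))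
    (m.E_le_rad k.ti ((m.mem_E_line k).2 ⟨s, u, s', hs, hs', rfl⟩)) e)

theorem tb_zero (k : HH P a f a' f') : tbL C φ a a' 0 0 0 = 1 := by
  rw [tbL, zero_smul, C.T_zero k.h₁.se, C.T_zero k.h₂.se, mul_one, mul_one, map_one]

theorem tb_swap (k : HH P a f a' f') {r r' : K} (hr : σ r = r) (hr' : σ r' = r') (v : K) :
    tbL C φ a a' r v r' = tbL C φ a' a r' (σ v) r := by
  refine congrArg φ (C.ext fun x => ?_)
  rw [h.toMod.line_app k v hr hr', h.toMod.line_app k.symm _ hr' hr, P.σσ]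
  module

theorem tb_mul (k : HH P a f a' f') {r r' s s' : K} (hr : σ r = r) (hr' : σ r' = r') (hs : σ s = s)
    (hs' : σ s' = s') (v u : K) :
    tbL C φ a a' r v r' * tbL C φ a a' s u s' = tbL C φ a a' (r + s) (v + u) (r' + s') := by
  have m := h.toMod
  obtain ⟨he, -, -⟩ := m.hp_iff.1 k.h₁
  obtain ⟨he', -, -⟩ := m.hp_iff.1 k.h₂
  rw [tbL, tbL, ← map_mul]
  refine congrArg φ (C.ext fun x => ?_)
  rw [C.mul_apply, m.line_app k v hr hr', m.line_app k u hs hs',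
    m.line_app k _ (by rw [map_add, hr, hs]) (by rw [map_add, hr', hs'])]
  simp only [map_add, map_smul, he, he', k.ee, m.B_comm k.ee, smul_zero, add_zero]
  module

theorem tb_fix {r r' : K} (hr : σ r = r) (hr' : σ r' = r') (v u : K) :
    σ (r' + v * u + σ v * σ u + σ u * u * r) = r' + v * u + σ v * σ u + σ u * u * r := by
  simp only [map_add, map_mul, P.σσ, hr, hr']; ring

theorem tb_conj (k : HH P a f a' f') {r r' : K} (hr : σ r = r) (hr' : σ r' = r') (v u : K) :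
    x C φ a' (u • f) 0 * tbL C φ a a' r v r' * (x C φ a' (u • f) 0)⁻¹ =
      tbL C φ a a' r (v + r * σ u) (r' + v * u + σ v * σ u + σ u * u * r) := by
  have m := h.toMod
  obtain ⟨he, -, ef⟩ := m.hp_iff.1 k.h₁
  obtain ⟨he', -, -⟩ := m.hp_iff.1 k.h₂
  rw [mul_inv_eq_iff_eq_mul, tbL, tbL, x, ← map_mul, ← map_mul]
  refine congrArg φ (C.ext fun x => ?_)
  rw [C.mul_apply (C.T a' (u • f) 0), C.mul_apply _ (C.T a' (u • f) 0), m.line_app k v hr hr',
    m.line_app k _ hr (h.tb_fix hr hr' v u),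
    m.N_app k.symm, m.N_app k.symm]
  simp only [map_add, map_smul, map_mul, he', k.ee, m.B_comm k.ee, smul_zero, add_zero, ef, k.h₁.fe, k.fe,
    m.B_comm k.fe, P.σσ, hr, smul_eq_mul, mul_one, mul_zero]
  match_scalars
  · ring
  · linear_combination (-(r * u * P.B a' x)) * m.two
  · linear_combination (-(v * u * P.B a' x + r * σ u * u * P.B a' x)) * m.two
  · ring

theorem tb_tr {v : K} (H : ∀ u, v * u + σ v * σ u = 0) : v = 0 := by
  obtain ⟨ω, hω⟩ := h.toMod.exists_tr (map_one σ)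
  by_contra v0
  have := H (v⁻¹ * ω)
  rw [← map_mul, mul_inv_cancel_left₀ v0, hω] at this
  exact one_ne_zero this

theorem tb_half (k : HH P a f a' f') {r v r' : K} (hr : σ r = r) (hr' : σ r' = r')
    (h2 : ∀ u : K, Commute (x C φ a' (u • f) 0) (tbL C φ a a' r v r')) : r = 0 ∧ v = 0 := by
  have H := fun u => h.tb_inj k hr (h.tb_fix hr hr' v u) hr hr'
    ((h.tb_conj k hr hr' v u).symm.trans (HatP.cjc (h2 u)))
  have r0 : r = 0 := by simpa using (H 1).2.1
  exact ⟨r0, h.tb_tr fun u => by linear_combination (H u).2.2 - σ u * u * r0⟩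

theorem tb_coc (k : HH P a f a' f') (ε : V → V → G)
    (hE : ∀ p ∈ span K {a, a'}, ∀ q ∈ span K {a, a'}, ε p q ∈ Eg C φ (span K {a, a'}))
    (h0 : ∀ p ∈ span K {a, a'}, ∀ u v : K, ε (u • p) (v • p) = 1)
    (hc : ∀ p ∈ span K {a, a'}, ∀ q ∈ span K {a, a'}, ∀ r ∈ span K {a, a'},
      ε p q * ε (p + q) r = ε q r * ε p (q + r))
    (h2 : ∀ u : K, ∀ p ∈ span K {a, a'}, ∀ q ∈ span K {a, a'},
      x C φ a' (u • f) 0 * ε p q * (x C φ a' (u • f) 0)⁻¹ =
        ε (C.act (C.T a' (u • f) 0) p) (C.act (C.T a' (u • f) 0) q)) {c : K} (c0 : c ≠ 0) :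
    ∃ w r' : K → K, (∀ u, σ (r' u) = r' u ∧ ε (c • a) (u • a') = tbL C φ a a' 0 (w u) (r' u)) ∧
      ∀ u v, r' (c * σ v) + (r' u + w u * v + σ (w u) * σ v) = r' (c * σ v + u) := by
  have m := h.toMod
  obtain ⟨he', -, -⟩ := m.hp_iff.1 k.h₂
  have m1 : ∀ u : K, u • a ∈ span K {a, a'} := fun u =>
    Submodule.smul_mem _ _ (Submodule.subset_span (Set.mem_insert _ _))
  have m0 : a' ∈ span K {a, a'} := Submodule.subset_span (Set.mem_insert_of_mem _ rfl)
  have m2 : ∀ u : K, u • a' ∈ span K {a, a'} := fun u => Submodule.smul_mem _ _ m0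
  choose r w r' hr hr' e using fun u : K => h.tb_mem k (hE _ (m1 c) _ (m2 u))
  have key : ∀ u v, r (c * σ v) + r u = r (c * σ v + u) ∧
      w (c * σ v) + (w u + r u * σ v) = w (c * σ v + u) ∧
      r' (c * σ v) + (r' u + w u * v + σ (w u) * σ v + σ v * v * r u) = r' (c * σ v + u) := fun u v => by
    have e1 := h2 v _ (m1 c) _ (m2 u)
    have e2 : C.act (C.T a' (v • f) 0) (c • a) = c • a + (c * σ v) • a' := by
      rw [m.N_app k.symm]
      simp only [map_smul, k.h₁.fe, m.B_comm k.ee, smul_eq_mul, mul_one, mul_zero, zero_mul, zero_smul, add_zero,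
        mul_comm c, one_mul]
    have e3 : C.act (C.T a' (v • f) 0) (u • a') = u • a' := by
      rw [map_smul, C.T_self (m.tok_N k.symm v)]
    have e4 := hc _ (m1 c) _ (m2 (c * σ v)) _ (m2 u)
    rw [e2, e3] at e1
    rw [h0 _ m0, one_mul, ← add_smul, ← e1, e, e, e, h.tb_conj k (hr _) (hr' _),
      h.tb_mul k (hr _) (hr' _) (hr _) (h.tb_fix (hr _) (hr' _) _ _)] at e4
    exact h.tb_inj k (by rw [map_add, hr, hr]) (by rw [map_add, hr', h.tb_fix (hr _) (hr' _)]) (hr _) (hr' _) e4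
  have sy : ∀ u s, r u * s = r s * u := fun u s => by
    have a1 := (key u (σ (c⁻¹ * s))).2.1
    have a2 := (key s (σ (c⁻¹ * u))).2.1
    rw [P.σσ, mul_inv_cancel_left₀ c0] at a1 a2
    rw [add_comm u s, ← a1] at a2
    refine mul_left_cancel₀ (inv_ne_zero c0) ?_
    linear_combination -a2
  obtain ⟨ω, hω⟩ := m.exists_tr (map_one σ)
  have r1 : r 1 = 0 := by
    have a1 := sy ω 1
    have a2 := congrArg σ a1
    rw [mul_one, map_mul, hr, hr] at a2
    linear_combination -(r 1) * hω - a1 - a2 + r ω * m.two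
  have r0 : ∀ u, r u = 0 := fun u => by simpa [r1] using sy u 1
  exact ⟨w, r', fun u => ⟨hr' u, by rw [e, r0]⟩, fun u v => by simpa [r0] using (key u v).2.2⟩

/-- an element of `E(l)` which is fixed by the root groups of the Levi factor is trivial -/
theorem fixE (k : HH P a f a' f') {κ : G} (hκ : κ ∈ Eg C φ (span K {a, a'}))
    (h1 : ∀ u : K, Commute (x C φ a (u • f') 0) κ) (h2 : ∀ u : K, Commute (x C φ a' (u • f) 0) κ) : κ = 1 := by
  obtain ⟨r, v, r', hr, hr', rfl⟩ := h.tb_mem k hκ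
  obtain ⟨rfl, rfl⟩ := h.tb_half k hr hr' h2
  rw [h.tb_swap k hr hr'] at h1
  rw [(h.tb_half k.symm hr' hr h1).1, h.tb_zero k]

/-- an equivariant symmetric cocycle with values in `E(l)` is trivial -/
theorem coc (k : HH P a f a' f') (ε : V → V → G)
    (hE : ∀ p ∈ span K {a, a'}, ∀ q ∈ span K {a, a'}, ε p q ∈ Eg C φ (span K {a, a'}))
    (hs : ∀ p ∈ span K {a, a'}, ∀ q ∈ span K {a, a'}, ε p q = ε q p)
    (h0 : ∀ p ∈ span K {a, a'}, ∀ u v : K, ε (u • p) (v • p) = 1)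
    (hc : ∀ p ∈ span K {a, a'}, ∀ q ∈ span K {a, a'}, ∀ r ∈ span K {a, a'},
      ε p q * ε (p + q) r = ε q r * ε p (q + r))
    (h1 : ∀ u : K, ∀ p ∈ span K {a, a'}, ∀ q ∈ span K {a, a'},
      x C φ a (u • f') 0 * ε p q * (x C φ a (u • f') 0)⁻¹ =
        ε (C.act (C.T a (u • f') 0) p) (C.act (C.T a (u • f') 0) q))
    (h2 : ∀ u : K, ∀ p ∈ span K {a, a'}, ∀ q ∈ span K {a, a'},
      x C φ a' (u • f) 0 * ε p q * (x C φ a' (u • f) 0)⁻¹ =
        ε (C.act (C.T a' (u • f) 0) p) (C.act (C.T a' (u • f) 0) q)) : ε a a' = 1 := by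
  have m1 : a ∈ span K {a, a'} := Submodule.subset_span (Set.mem_insert _ _)
  have m0 : a' ∈ span K {a, a'} := Submodule.subset_span (Set.mem_insert_of_mem _ rfl)
  obtain ⟨w, r', e1, e2⟩ := h.tb_coc k ε hE h0 hc h2 one_ne_zero
  have r0 : ∀ u, r' u = 0 := fun u => by
    obtain ⟨a1, a2⟩ := e1 u
    by_cases u0 : u = 0
    · rw [u0, zero_smul, ← zero_smul K a, h0 _ m1, ← h.tb_zero k, ← u0] at a2
      rw [← (h.tb_inj k (by rw [u0, map_zero]) (by rw [u0, map_zero]) (by rw [u0, map_zero]) a1 a2).2.2, u0]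
    · rw [hs _ (Submodule.smul_mem _ _ m1) _ (Submodule.smul_mem _ _ m0), h.tb_swap k (map_zero σ) a1] at a2
      rw [Set.pair_comm] at hE h0 hc h1
      obtain ⟨w', r'', e3, -⟩ := h.tb_coc k.symm ε hE h0 hc h1 u0
      exact (h.tb_inj k.symm a1 (map_zero σ) (map_zero σ) (e3 1).1 (a2.symm.trans (e3 1).2)).1
  have w0 : w 1 = 0 := h.tb_tr fun v => by simpa [r0] using e2 1 v
  have := (e1 1).2
  rwa [one_smul, one_smul, r0, w0, h.tb_zero k] at this

end Emb

theorem Hats.tb_hat {y : V → K → G} (h : Hats C φ t y) {U : Submodule K V} (hU : TI P U) {a : G}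
    (ha : a ∈ Eg C φ U) : ∃ g ∈ Eh C φ y U, g * t * g⁻¹ = t * a := by
  obtain ⟨a, ha, rfl⟩ := ha
  have h4 := h.toMod.E_eq hU
  rw [SetLike.mem_coe, h4] at ha
  induction ha using closure_induction with
  | mem _ hx =>
    obtain ⟨p, hp, s, hs, rfl⟩ := hx
    exact ⟨_, y_Eh hp hs, (h.mv p s (hU.B hp hp) hs).pt⟩
  | one => exact ⟨1, one_mem _, by simp⟩
  | mul a b _ hb ea eb =>
    obtain ⟨g, hg, ea⟩ := ea
    obtain ⟨g', hg', eb⟩ := eb
    refine ⟨g * g', mul_mem hg hg', ?_⟩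
    calc _ = g * (g' * t * g'⁻¹) * g⁻¹ := by group
      _ = g * t * g⁻¹ * (g * φ b * g⁻¹) := by rw [eb]; group
      _ = _ := by
        rw [ea, h.Eh_comm hU g hg _ (h.E_le_Eh hU ⟨b, h4 ▸ hb, rfl⟩), mul_inv_cancel_right, map_mul, mul_assoc]
  | inv a ha ea => rwa [inv_eq_of_mul_eq_one_right (h.toMod.E_sq hU (h4 ▸ ha))]

/-- the kernel lemma for a totally isotropic subspace -/
theorem Hats.ker2 {y : V → K → G} (h : Hats C φ t y) {U : Submodule K V} (hU : TI P U) (h0 : U ≠ ⊥) {g k : G}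
    (h1 : g ∈ centralizer (Rg C φ U : Set G)) (h2 : g ∈ centralizer (Eh C φ y U : Set G))
    (hk : k ∈ Rg C φ U ⊔ Eh C φ y U) (e1 : g * t * g⁻¹ = t * k) :
    ∃ e ∈ Eh C φ y U, ∃ o ∈ centralizer (φ.range : Set G), Commute o t ∧ Odd (orderOf o) ∧ g = e * o := by
  have td := h.toSit.td h.two' hU h0
  have EC : Eh C φ y U ≤ centralizer (Rg C φ U : Set G) := fun e he => by
    obtain ⟨_, -, k⟩ := h.Eh_tr hU h0 he
    exact k.cR
  have tR : t ∈ centralizer (Rg C φ U : Set G) := centralizer_le td.RH h.tC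
  have kR : k ∈ centralizer (Rg C φ U : Set G) := by
    rw [← inv_mul_cancel_left t k, ← e1]
    exact mul_mem (inv_mem tR) (mul_mem (mul_mem h1 tR) (inv_mem h1))
  have kE : k ∈ Eh C φ y U := by
    rw [← SetLike.mem_coe, coe_mul_of_right_le_normalizer_left _ _
      (EC.trans (centralizer_le_normalizer _))] at hk
    obtain ⟨r, hr, e, he, rfl⟩ := hk
    obtain ⟨e', he', c, hc, e2⟩ := td.cR r (h.tC r (td.RH hr)) ((mul_mem_cancel_right (EC he)).1 kR)
    obtain ⟨s, hs, e3⟩ : c ∈ Rg C φ U := (mul_mem_cancel_left (td.ER he')).1 (e2 ▸ hr)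
    rw [← e3, h.toEmb.inj2 ((h.toMod.rad_two hU).to_le (zpowers_le.2 hs)) (e3 ▸ hc), map_one, mul_one] at e2
    exact mul_mem (h.E_le_Eh hU (e2 ▸ he')) he
  have kt : k * t = t * k := by
    have e2 : t * k * (t * k) = 1 := by rw [← e1, conj_mul, h.t2, mul_one, mul_inv_cancel]
    rw [← inv_eq_of_mul_eq_one_right e2, mul_inv_rev, inv_eq_of_mul_eq_one_right h.t2,
      inv_eq_of_mul_eq_one_right (h.Eh_sq hU kE)]
  obtain ⟨e, he, e2⟩ := h.tb_hat hU (h.Eh_ker hU h0 kE kt)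
  have ct : Commute (e⁻¹ * g) t := HatP.coc (by
    calc _ = e⁻¹ * (g * t * g⁻¹) * e := by group
      _ = _ := by rw [e1, ← e2]; group)
  obtain ⟨e', he', c, hc, e3⟩ := td.cR _ ct (mul_mem (inv_mem (EC he)) h1)
  obtain ⟨o, ho, ot, od, ec⟩ := h.two'.dec hc (by
    have c0 : Commute e' t := h.tC e' (td.RH (td.ER he'))
    have := c0.inv_left.mul_left ct
    rwa [e3, inv_mul_cancel_left] at this)
  have m := mul_mem he (h.E_le_Eh hU he')
  rw [inv_mul_eq_iff_eq_mul, ← mul_assoc] at e3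
  refine ⟨_, m, o, ho, ot, od, ?_⟩
  rcases ec with rfl | rfl
  · exact e3
  obtain ⟨p, hp, p0⟩ := Submodule.exists_mem_ne_zero_of_ne_bot h0
  have pp := hU.B hp hp
  have m1 : y p 1 ∈ Eh C φ y U := y_Eh hp (map_one σ)
  have c1 : Commute (y p 1) g := h2 _ m1
  have c2 : Commute (y p 1) (e * e') := h.Eh_comm hU _ m1 _ m
  have c3 : Commute (y p 1) o := (h.mv p 1 pp (map_one σ)).co o ho ot od
  have c4 := HatP.cjc ((c2.inv_right.mul_right c1).mul_right c3.inv_right)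
  rw [e3, inv_mul_cancel_left, mul_inv_cancel_right, (h.mv p 1 pp (map_one σ)).pt, mul_eq_left,
    h.toEmb.z_eq_one pp (map_one σ)] at c4
  exact (c4.elim p0 one_ne_zero).elim

end CfsgLib.U5
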