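import Cfsg.Agent.Lib.U5.TauA
import Cfsg.Agent.Lib.U5.TauB0

/-! Transvections with centres on a totally isotropic line -/

set_option autoImplicit false
set_option linter.unusedSectionVars false

namespace CfsgLib.U5

open Subgroup Module CfsgLib.Forms CfsgLib.LieMult
open CfsgLib.HX (Std CO Two Mv Tr Heis NF Fus4 Has4 M2)
open Submodule (span)
open scoped commutatorElement Pointwise

universe u

variable {K : Type} [Field K] [Finite K] {σ : K →+* K} {V : Type} [AddCommGroup V] [Module K V]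
  [FiniteDimensional K V] {P : PQ σ V} {S : Type} [Group S] [Finite S] {G : Type u} [Group G]
  [Finite G] {C : CG P S} {φ : S →* G} {t : G}

namespace TauP

section pure

omit [Finite G]

theorem tb_sq {a b : G} (c : Commute a b) : a * b * (a * b) = a * a * (b * b) := by
  rw [mul_assoc, ← mul_assoc b, ← c.eq]; group

theorem tb_cm1 {A B e : G} (h2 : Commute e B) : ⁅A * e, B⁆ = ⁅A, B⁆ := by
  rw [commutatorElement_def, commutatorElement_def, mul_assoc A, h2.eq, mul_inv_rev]; group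

theorem tb_cm2 {A B Z : G} (h1 : Commute Z A) (h2 : Commute Z ⁅A, B⁆) : ⁅A, Z * B⁆ = ⁅A, B⁆ := by
  have e : ⁅A, Z * B⁆ = Z * ⁅A, B⁆ * Z⁻¹ := by
    rw [commutatorElement_def, commutatorElement_def, ← mul_assoc A, ← h1.eq]; group
  rw [e, h2.eq, mul_inv_cancel_right]

theorem tb_three {X Y Z a b : G} (a2 : a * a = 1) (b2 : b * b = 1) (ab : Commute a b) (aY : Commute a Y)
    (bY : Commute b Y) (bZ : Commute b Z) : X * (a * b) * (Y * a) * (Z * b) = X * Y * Z := by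
  calc _ = X * a * (b * Y) * a * (Z * b) := by group
    _ = X * (a * Y) * (b * a) * (b * Z) := by rw [bY.eq, bZ.eq]; group
    _ = X * Y * (a * a) * (b * b) * Z := by rw [aY.eq, ← ab.eq]; group
    _ = _ := by rw [a2, b2, mul_one, mul_one]

theorem tb_coc {A B D X Y W : G} (x2 : X * X = 1) (y2 : Y * Y = 1) (XA : Commute X A) (XB : Commute X B)
    (XW : Commute X W) (AW : Commute A W) (BW : Commute B W) (YB : Commute Y B) (YD : Commute Y D)
    (YW : Commute Y W) (DW : Commute D W) (YA : Commute Y A) (AB : Commute A B) (AD : Commute A D) :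
    X * A * B * (W * X * D) = Y * B * D * (W * A * Y) := by
  calc _ = X * (A * B * W * X) * D := by group
    _ = X * X * (A * B * W) * D := by rw [← ((XA.mul_right XB).mul_right XW).eq]; group
    _ = W * (A * (B * D)) := by rw [x2, one_mul, (AW.mul_left BW).eq]; group
    _ = (B * D * W) * A := by rw [(AB.mul_right AD).eq, (BW.mul_left DW).eq]; group
    _ = Y * (Y * (B * D * W * A)) := by rw [← mul_assoc Y Y, y2, one_mul]
    _ = _ := by rw [(((YB.mul_right YD).mul_right YW).mul_right YA).eq]; group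

end pure

variable (C φ) in
/-- the elements to which the kernel lemma applies -/
structure Dd (t : G) (y : V → K → G) (U : Submodule K V) (g : G) : Prop where
  cE : g ∈ centralizer (Eh C φ y U : Set G)
  n : g ∈ normalizer ((Rg C φ U ⊔ Eh C φ y U : Subgroup G) : Set G)
  tt : t * g * t * g⁻¹ ∈ Rg C φ U ⊔ Eh C φ y U

theorem Dd.mul {y : V → K → G} {U : Submodule K V} {g g' : G} (t2 : t * t = 1) (h : Dd C φ t y U g)
    (h' : Dd C φ t y U g') : Dd C φ t y U (g * g') := by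
  refine ⟨mul_mem h.cE h'.cE, mul_mem h.n h'.n, ?_⟩
  have e : t * (g * g') * t * (g * g')⁻¹ = t * g * t * g⁻¹ * (g * (t * g' * t * g'⁻¹) * g⁻¹) := by
    rw [cjm t2]; group
  rw [e]
  exact mul_mem h.tt ((mem_normalizer_iff.1 h.n _).1 h'.tt)

/-- the defect of additivity -/
def eps (τ : V → V → G) (b q r : V) : G := τ (q + r) b * τ q b * τ r b

namespace Ex

variable {y : V → K → G} {c ρ : K} {τ : V → V → G} (h : Ex C φ t y c ρ τ) {U : Submodule K V} {p q a b b' r : V}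
  {d : K} {g : G}
include h

theorem τE (hU : TI P U) (hq : q ∈ U) (hb : b ∈ P.perp U) (hg : g ∈ Eh C φ y U) : Commute (τ q b) g := by
  have m := h.toMod
  refine closure_induction (p := fun g _ => Commute (τ q b) g) ?_ (Commute.one_right _)
    (fun _ _ _ _ i j => i.mul_right j) (fun _ _ i => i.inv_right) hg
  rintro _ ⟨p, hp, s, hs, rfl | rfl⟩
  · have e := h.teqv (hU.B hq hq) (hb q hq) (C.T p 0 s)
    rw [m.z_app (hU.B hp hp) hs, m.z_app (hU.B hp hp) hs, hU.B hp hq, hb p hp, mul_zero, zero_smul, add_zero,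
      add_zero] at e
    exact (HatP.coc e).symm
  · have e := h.yperp (hU.B hq hq) (hU.B hp hp) (hU.B hq hp) hs (hb q hq) (hb p hp)
    nth_rewrite 2 [← inv_eq_of_mul_eq_one_right (h.toHats.y_sq (hU.B hp hp) hs)] at e
    exact (HatP.coc e).symm

theorem τU (hU : TI P U) (hq : q ∈ U) (hp : p ∈ U) : τ q p ∈ Eh C φ y U := by
  rw [h.iso q p (hU.B hq hq) (hU.B hq hp) (hU.B hp hp)]
  exact mul_mem (h.toHats.E_le_Eh hU (mem_map_of_mem φ (h.toMod.T_mem_E hU
      (tok h.toMod (hU.B hq hq) (hU.B hq hp) (hU.B hp hp) ρ) hq (U.smul_mem ρ hp))))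
    (mul_mem (mul_mem (y_Eh (U.add_mem hp hq) (map_one σ)) (y_Eh hp (map_one σ))) (y_Eh hq (map_one σ)))

theorem τadd (hU : TI P U) (hq : q ∈ U) (hp : p ∈ U) (hr : r ∈ U) : τ (q + p) r = τ q r * τ p r := by
  have hs := U.add_mem hq hp
  rw [← h.tt (hU.B hr hr) (hU.B hs hs) (hU.B hr hs), h.tadd r q p (hU.B hr hr) (hU.B hr hq) (hU.B hr hp), cjm h.t2,
    h.tt (hU.B hr hr) (hU.B hq hq) (hU.B hr hq), h.tt (hU.B hr hr) (hU.B hp hp) (hU.B hr hp)]

theorem τR (hU : TI P U) (hq : q ∈ U) (hb : b ∈ P.perp U) (hp : p ∈ U) (ha : a ∈ P.perp U) (k : TOk P p a d) :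
    τ q b * x C φ p a d * τ q b = x C φ p a d * τ q (P.B a b • p) := by
  have m := h.toMod
  have qq := hU.B hq hq
  have qp : P.B q (P.B a b • p) = 0 := hU.B hq (U.smul_mem _ hp)
  have e := h.teqv qq (r := P.B a b • p + b) (by rw [map_add, qp, hb q hq, add_zero]) (C.T p a d)
  have e1 : C.act (C.T p a d) q = q := by
    rw [m.T_app k]; simp [m.B_comm (ha q hq), hU.B hp hq]
  have e2 : C.act (C.T p a d) (P.B a b • p + b) = b := by
    rw [m.T_app k]
    simp [m.B_comm (ha p hp), hU.B hp hp, hb p hp]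
    rw [add_right_comm, m.vadd_self, zero_add]
  rw [e1, e2, h.tadd q _ _ qq qp (hb q hq), mul_inv_eq_iff_eq_mul] at e
  rw [x, ← e, mul_assoc, mul_assoc, h.tsq qq (hb q hq), mul_one]

theorem τinv (pp : P.B p p = 0) (pr : P.B p r = 0) : (τ p r)⁻¹ = τ p r := inv_eq_of_mul_eq_one_right (h.tsq pp pr)

theorem τN (hU : TI P U) (hq : q ∈ U) (hb : b ∈ P.perp U) :
    τ q b ∈ normalizer ((Rg C φ U ⊔ Eh C φ y U : Subgroup G) : Set G) ∧
      t * τ q b * t * τ q b ∈ Rg C φ U ⊔ Eh C φ y U := by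
  have m := h.toMod
  have qq := hU.B hq hq
  constructor
  · have key : Rg C φ U ⊔ Eh C φ y U ≤ (Rg C φ U ⊔ Eh C φ y U).comap (MulAut.conj (τ q b)).toMonoidHom := by
      refine sup_le ?_ fun g hg => ?_
      · refine map_le_iff_le_comap.2 ((m.rad_eq hU).le.trans ((closure_le _).2 ?_))
        rintro _ ⟨p, hp, a, ha, d, k, rfl⟩
        change τ q b * x C φ p a d * (τ q b)⁻¹ ∈ Rg C φ U ⊔ Eh C φ y U
        rw [h.τinv qq (hb q hq), h.τR hU hq hb hp ha k]
        exact mul_mem_sup (mem_map_of_mem φ (m.T_mem_rad hU k hp ha)) (h.τU hU hq (U.smul_mem _ hp))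
      · change τ q b * g * (τ q b)⁻¹ ∈ Rg C φ U ⊔ Eh C φ y U
        rw [HatP.cjc (h.τE hU hq hb hg)]
        exact mem_sup_right hg
    exact mem_normalizer_fintype fun n hn => key hn
  · obtain ⟨d, k⟩ := m.exists_tok qq (hb q hq)
    have e : t * τ q b * t * τ q b = τ q (σ d • q) * (x C φ q b d)⁻¹ := by
      rw [h.ext k, mul_inv_rev, mul_inv_cancel_left, mul_inv_rev, mul_inv_rev, mul_inv_rev, h.τinv qq (hb q hq),
        inv_eq_of_mul_eq_one_right h.t2, mul_assoc t]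
    rw [e]
    exact mul_mem (mem_sup_right (h.τU hU hq (U.smul_mem _ hq)))
      (inv_mem (mem_sup_left (mem_map_of_mem φ (m.T_mem_rad hU k hq hb))))

theorem dd (hU : TI P U) (hq : q ∈ U) (hb : b ∈ P.perp U) : Dd C φ t y U (τ q b) :=
  ⟨fun _ hg => (h.τE hU hq hb hg).eq.symm, (h.τN hU hq hb).1, by
    rw [h.τinv (hU.B hq hq) (hb q hq)]; exact (h.τN hU hq hb).2⟩

theorem act1 (hU : TI P U) (hq : q ∈ U) (hb : b ∈ P.perp U) (hp : p ∈ U) (ha : a ∈ P.perp U) (k : TOk P p a d)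
    (hg : g ∈ Eh C φ y U) : τ q b * (x C φ p a d * g) * (τ q b)⁻¹ = x C φ p a d * (τ q (P.B a b • p) * g) := by
  rw [h.τinv (hU.B hq hq) (hb q hq), ← mul_assoc, mul_assoc _ g, ← (h.τE hU hq hb hg).eq, ← mul_assoc,
    h.τR hU hq hb hp ha k, mul_assoc]

theorem ker3 (hU : TI P U) (h0 : U ≠ ⊥) (hd : Dd C φ t y U g)
    (hR : ∀ p ∈ U, ∀ a ∈ P.perp U, ∀ d, TOk P p a d → g * x C φ p a d * g⁻¹ = x C φ p a d) :
    (∀ q ∈ U, ∀ b ∈ P.perp U, Commute (τ q b) g) ∧ (g * g = 1 → g ∈ Eh C φ y U) := by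
  have h1 : g ∈ centralizer (Rg C φ U : Set G) := by
    rw [Rg, h.toMod.rad_eq hU, MonoidHom.map_closure, centralizer_closure]
    rintro _ ⟨_, ⟨p, hp, a, ha, d, k, rfl⟩, rfl⟩
    exact (HatP.coc (hR p hp a ha d k)).eq.symm
  obtain ⟨e, he, o, ho, ot, oo, rfl⟩ := h.toHats.ker2 hU h0 h1 hd.cE hd.tt (by
    rw [← mul_assoc, ← mul_assoc, ← mul_assoc t, h.t2, one_mul])
  refine ⟨fun q hq b hb => (h.τE hU hq hb he).mul_right
    (h.toHats.G0_co (h.mem (hU.B hq hq) (hb q hq)) o ho ot oo), fun e2 => ?_⟩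
  obtain ⟨_, -, k⟩ := h.toHats.Eh_tr hU h0 he
  have c : Commute e o := k.co o ho ot oo
  rw [tb_sq c, h.toHats.Eh_sq hU he, one_mul] at e2
  have : o = 1 := orderOf_eq_one_iff.1 (Nat.eq_one_of_dvd_coprimes (Nat.coprime_two_right.2 oo) dvd_rfl
    (orderOf_dvd_of_pow_eq_one (by rw [sq, e2])))
  rwa [this, mul_one]

theorem eps_ker (hU : TI P U) (h0 : U ≠ ⊥) (hq : q ∈ U) (hr : r ∈ U) (hb : b ∈ P.perp U) :
    (∀ q' ∈ U, ∀ b' ∈ P.perp U, Commute (τ q' b') (eps τ b q r)) ∧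
      (eps τ b q r * eps τ b q r = 1 → eps τ b q r ∈ Eh C φ y U) := by
  have hs := U.add_mem hq hr
  refine h.ker3 hU h0 (((h.dd hU hs hb).mul h.t2 (h.dd hU hq hb)).mul h.t2 (h.dd hU hr hb)) fun p hp a ha d k => ?_
  have hm := U.smul_mem (P.B a b) hp
  have e1 := h.τU hU hq hm
  have e2 := h.τU hU hr hm
  calc _ = τ (q + r) b * (τ q b * (τ r b * (x C φ p a d * 1) * (τ r b)⁻¹) * (τ q b)⁻¹) * (τ (q + r) b)⁻¹ := by
        rw [eps]; group
    _ = _ := by
        rw [h.act1 hU hr hb hp ha k (one_mem _), mul_one, h.act1 hU hq hb hp ha k e2,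
          h.act1 hU hs hb hp ha k (mul_mem e1 e2), h.τadd hU hq hr hm, h.toHats.Eh_sq hU (mul_mem e1 e2), mul_one]

theorem com_mem (hU : TI P U) (h0 : U ≠ ⊥) (ha : a ∈ U) (hp : p ∈ U) (hb : b ∈ P.perp U) (hb' : b' ∈ P.perp U) :
    ⁅τ a b, τ p b'⁆ ∈ Eh C φ y U := by
  have a2 := h.tsq (hU.B ha ha) (hb a ha)
  have p2 := h.tsq (hU.B hp hp) (hb' p hp)
  rw [commutatorElement_def, inv_eq_of_mul_eq_one_right a2, inv_eq_of_mul_eq_one_right p2]
  obtain ⟨h1, h2⟩ := h.ker3 hU h0 ((((h.dd hU ha hb).mul h.t2 (h.dd hU hp hb')).mul h.t2 (h.dd hU ha hb)).mul h.t2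
    (h.dd hU hp hb')) fun q hq u hu d k => by
      have e1 := h.τU hU ha (U.smul_mem (P.B u b) hq)
      have e2 := h.τU hU hp (U.smul_mem (P.B u b') hq)
      calc _ = τ a b * (τ p b' * (τ a b * (τ p b' * (x C φ q u d * 1) * (τ p b')⁻¹) * (τ a b)⁻¹) * (τ p b')⁻¹) *
            (τ a b)⁻¹ := by group
        _ = _ := by
          rw [h.act1 hU hp hb' hq hu k (one_mem _), mul_one, h.act1 hU ha hb hq hu k e2,
            h.act1 hU hp hb' hq hu k (mul_mem e1 e2), h.act1 hU ha hb hq hu k (mul_mem e2 (mul_mem e1 e2)),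
            ← mul_assoc (τ a _), h.toHats.Eh_sq hU (mul_mem e1 e2), mul_one]
  refine h2 ?_
  calc _ = (τ a b * τ p b' * τ a b * τ p b' * τ a b) * τ p b' * τ a b * τ p b' := by group
    _ = (τ a b * τ a b) * τ p b' * (τ a b * (τ p b' * τ p b') * τ a b) * τ p b' := by
      rw [← (h1 a ha b hb).eq]; group
    _ = 1 := by rw [a2, p2, mul_one, a2, mul_one, one_mul, p2]

theorem com_fix (hU : TI P U) (h0 : U ≠ ⊥) (ha : a ∈ U) (hp : p ∈ U) (hb : b ∈ P.perp U) (hb' : b' ∈ P.perp U)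
    {l : S} {μ ν ν' : K} (la : C.act l a = a) (lp : C.act l p = p + μ • a) (lb : C.act l b = b + ν • a)
    (lb' : C.act l b' = b' + ν' • a) : Commute (φ l) ⁅τ a b, τ p b'⁆ := by
  have hc := h.com_mem hU h0 ha hp hb hb'
  have aa := hU.B ha ha
  have hm := U.smul_mem μ ha
  have hs := U.add_mem hp hm
  have e1 := h.τU hU ha (U.smul_mem ν ha)
  have e2 := h.τU hU hs (U.smul_mem ν' ha)
  have e3 : τ (p + μ • a) b' * τ (p + μ • a) (ν' • a) =
      eps τ b' p (μ • a) * τ (μ • a) b' * τ (p + μ • a) (ν' • a) * τ p b' := by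
    rw [eps, mul_assoc _ (τ (μ • a) b') (τ (μ • a) b'), h.tsq (hU.B hm hm) (hb' _ hm), mul_one, mul_assoc _ (τ p b'),
      (h.τE hU hp hb' e2).eq, mul_assoc, mul_assoc, h.tsq (hU.B hp hp) (hb' _ hp), mul_one]
  refine HatP.coc ?_
  rw [conjugate_commutatorElement, h.teqv aa (hb a ha), h.teqv (hU.B hp hp) (hb' p hp), la, lp, lb, lb',
    h.tadd _ _ _ aa (hb a ha) (hU.B ha (U.smul_mem ν ha)),
    h.tadd _ _ _ (hU.B hs hs) (hb' _ hs) (hU.B hs (U.smul_mem ν' ha)),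
    tb_cm1 ((h.τE hU hs hb' e1).symm.mul_right (h.toHats.Eh_comm hU _ e1 _ e2)), e3]
  refine tb_cm2 ((((h.eps_ker hU h0 hp hm hb').1 a ha b hb).symm.mul_left ?_).mul_left (h.τE hU ha hb e2).symm)
    (((((h.τE hU hs hb' hc).mul_left (h.τE hU hp hb' hc)).mul_left (h.τE hU hm hb' hc)).mul_left
      (h.τE hU hm hb' hc)).mul_left (h.toHats.Eh_comm hU _ e2 _ hc))
  rw [h.tsmul aa (hb' a ha)]
  exact h.tcomm aa (by simp [hb' a ha]) (hb a ha)

theorem N_act {f f' v : V} (k : HH P a f p f') (l : K) (av : P.B a v = 0) :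
    C.act (C.T a (l • f') 0) v = v + (σ l * P.B f' v) • a := by
  rw [h.toMod.N_app k, av, zero_mul, zero_smul, add_zero]

theorem ne_bot {f f' : V} (k : HH P a f p f') : span K {a, p} ≠ ⊥ := fun e =>
  h.toMod.hp_ne k.h₁ ((Submodule.mem_bot K).1 (e ▸ Submodule.subset_span (by simp)))

theorem c1 (aa : P.B a a = 0) (pp : P.B p p = 0) (ap : P.B a p = 0) (ab : P.B a b = 0) (pb : P.B p b = 0)
    (ab' : P.B a b' = 0) (pb' : P.B p b' = 0) : Commute (τ a b) (τ p b') := by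
  have m := h.toMod
  by_cases h1 : a ∈ span K {p}
  · obtain ⟨l, rfl⟩ := Submodule.mem_span_singleton.1 h1
    rw [h.tsmul pp pb]
    exact h.tcomm pp (by simp [pb]) pb'
  by_cases h2 : p ∈ span K {a}
  · obtain ⟨l, rfl⟩ := Submodule.mem_span_singleton.1 h2
    rw [h.tsmul aa ab']
    exact h.tcomm aa ab (by simp [ab'])
  obtain ⟨f, f', k⟩ := m.exists_hh' aa pp ap (fun e => h1 (e ▸ zero_mem _)) h2
  have hU := k.ti
  have h0 := h.ne_bot k
  have ha : a ∈ span K {a, p} := Submodule.subset_span (by simp)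
  have hp : p ∈ span K {a, p} := Submodule.subset_span (by simp)
  have hb : b ∈ P.perp (span K {a, p}) := P.mem_perp_span.2 (by simp [ab, pb])
  have hb' : b' ∈ P.perp (span K {a, p}) := P.mem_perp_span.2 (by simp [ab', pb'])
  have hc := h.com_mem hU h0 ha hp hb hb'
  have n1 : ∀ u : K, Commute (x C φ a (u • f') 0) ⁅τ a b, τ p b'⁆ := fun u =>
    h.com_fix hU h0 ha hp hb hb' (by rw [h.N_act k u aa, m.B_comm k.ef, mul_zero, zero_smul, add_zero])
      (h.N_act k u ap) (h.N_act k u ab) (h.N_act k u ab')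
  have n2 : ∀ u : K, Commute (x C φ p (u • f) 0) ⁅τ a b, τ p b'⁆ := fun u => by
    rw [← commutatorElement_inv]
    exact (h.com_fix hU h0 hp ha hb' hb (by rw [h.N_act k.symm u pp, k.fe, mul_zero, zero_smul, add_zero])
      (h.N_act k.symm u (m.B_comm ap)) (h.N_act k.symm u pb') (h.N_act k.symm u pb)).inv_right
  obtain ⟨α, hα, j⟩ := h.toHats.Eh_tr hU h0 hc
  have e : α = t⁻¹ * (⁅τ a b, τ p b'⁆ * t * ⁅τ a b, τ p b'⁆⁻¹) := by rw [j.tr, inv_mul_cancel_left]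
  have ct : ∀ l, Commute (φ l) t := fun l => h.tC _ ⟨l, rfl⟩
  have e1 : α = 1 := h.toEmb.fixE k hα
    (fun u => e ▸ (ct _).inv_right.mul_right (((n1 u).mul_right (ct _)).mul_right (n1 u).inv_right))
    (fun u => e ▸ (ct _).inv_right.mul_right (((n2 u).mul_right (ct _)).mul_right (n2 u).inv_right))
  have e2 := j.tr
  rw [e1, mul_one, mul_inv_eq_iff_eq_mul] at e2
  exact commutatorElement_eq_one_iff_commute.1 (h.toEmb.fixE k (h.toHats.Eh_ker hU h0 hc e2) n1 n2)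

theorem cU (hU : TI P U) (hq : q ∈ U) (hr : r ∈ U) (hb : b ∈ P.perp U) : Commute (τ q b) (τ r b) :=
  h.c1 (hU.B hq hq) (hU.B hr hr) (hU.B hq hr) (hb q hq) (hb r hr) (hb q hq) (hb r hr)

theorem eps_mem (hU : TI P U) (h0 : U ≠ ⊥) (hq : q ∈ U) (hr : r ∈ U) (hb : b ∈ P.perp U) :
    eps τ b q r ∈ Eh C φ y U := by
  have hs := U.add_mem hq hr
  refine (h.eps_ker hU h0 hq hr hb).2 ?_
  rw [eps, tb_sq ((h.cU hU hs hr hb).mul_left (h.cU hU hq hr hb)), tb_sq (h.cU hU hs hq hb),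
    h.tsq (hU.B hs hs) (hb _ hs), h.tsq (hU.B hq hq) (hb _ hq), h.tsq (hU.B hr hr) (hb _ hr), mul_one, mul_one]

theorem eps_col (pp : P.B p p = 0) (pb : P.B p b = 0) (u v : K) : eps τ b (u • p) (v • p) = 1 := by
  have e : ∀ l : K, P.B p (l • b) = 0 := fun l => by simp [pb]
  rw [eps, ← add_smul, h.tsmul pp pb, h.tsmul pp pb, h.tsmul pp pb, map_add, add_smul, h.tadd p _ _ pp (e _) (e _),
    mul_assoc, ← h.tadd p _ _ pp (e _) (e _), h.tsq pp (by simp [pb])]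

theorem eps_conj (hU : TI P U) (ha : a ∈ U) (hq : q ∈ U) (hr : r ∈ U) (hb : b ∈ P.perp U) {l : S} {β : V → K}
    (hl : ∀ v, P.B a v = 0 → C.act l v = v + β v • a) :
    φ l * eps τ b q r * (φ l)⁻¹ = eps τ b (C.act l q) (C.act l r) := by
  have mem : ∀ v ∈ U, C.act l v ∈ U := fun v hv => by
    rw [hl v (hU.B ha hv)]; exact U.add_mem hv (U.smul_mem _ ha)
  have hs := U.add_mem hq hr
  have hm := U.smul_mem (β b) ha
  have e : ∀ v ∈ U, φ l * τ v b * (φ l)⁻¹ = τ (C.act l v) b * τ (C.act l v) (β b • a) := fun v hv => by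
    rw [h.teqv (hU.B hv hv) (hb v hv), hl b (hb a ha),
      h.tadd _ _ _ (hU.B (mem v hv) (mem v hv)) (hb _ (mem v hv)) (hU.B (mem v hv) hm)]
  have e1 := h.τU hU (mem q hq) hm
  have e2 := h.τU hU (mem r hr) hm
  rw [eps, eps, ← conj_mul, ← conj_mul, e _ hs, e _ hq, e _ hr, map_add, h.τadd hU (mem q hq) (mem r hr) hm]
  exact tb_three (h.toHats.Eh_sq hU e1) (h.toHats.Eh_sq hU e2) (h.toHats.Eh_comm hU _ e1 _ e2)
    (h.τE hU (mem q hq) hb e1).symm (h.τE hU (mem q hq) hb e2).symm (h.τE hU (mem r hr) hb e2).symm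

theorem coc' {f f' : V} (k : HH P a f p f') (hb : b ∈ P.perp (span K {a, p})) (θ : G → G)
    (θm : ∀ e ∈ Eh C φ y (span K {a, p}), ∀ e' ∈ Eh C φ y (span K {a, p}), θ (e * e') = θ e * θ e') (θ1 : θ 1 = 1)
    (θc : ∀ l e, φ l * θ e * (φ l)⁻¹ = θ (φ l * e * (φ l)⁻¹))
    (θE : ∀ q ∈ span K {a, p}, ∀ r ∈ span K {a, p}, θ (eps τ b q r) ∈ Eg C φ (span K {a, p})) :
    θ (eps τ b a p) = 1 := by
  have hU := k.ti
  have h0 := h.ne_bot k
  have ha : a ∈ span K {a, p} := Submodule.subset_span (by simp)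
  have hp : p ∈ span K {a, p} := Submodule.subset_span (by simp)
  refine h.toEmb.coc k (fun q r => θ (eps τ b q r)) θE (fun q hq r hr => ?_)
    (fun q hq u v => by rw [h.eps_col (hU.B hq hq) (hb q hq), θ1]) (fun q hq r hr s hs => ?_)
    (fun u q hq r hr => ?_) (fun u q hq r hr => ?_)
  · rw [eps, eps, add_comm, mul_assoc, (h.cU hU hq hr hb).eq, mul_assoc]
  · have h1 := add_mem hq hr
    have h2 := add_mem hr hs
    have h3 := add_mem h1 hs
    rw [← θm _ (h.eps_mem hU h0 hq hr hb) _ (h.eps_mem hU h0 h1 hs hb),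
      ← θm _ (h.eps_mem hU h0 hr hs hb) _ (h.eps_mem hU h0 hq h2 hb), eps, eps, eps, eps, ← add_assoc,
      tb_coc (h.tsq (hU.B h1 h1) (hb _ h1)) (h.tsq (hU.B h2 h2) (hb _ h2)) (h.cU hU h1 hq hb) (h.cU hU h1 hr hb)
        (h.cU hU h1 h3 hb) (h.cU hU hq h3 hb) (h.cU hU hr h3 hb) (h.cU hU h2 hr hb) (h.cU hU h2 hs hb)
        (h.cU hU h2 h3 hb) (h.cU hU hs h3 hb) (h.cU hU h2 hq hb) (h.cU hU hq hr hb) (h.cU hU hq hs hb)]
  · rw [x, θc, h.eps_conj hU ha hq hr hb fun v hv => h.N_act k u hv]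
  · rw [x, θc, h.eps_conj hU hp hq hr hb fun v hv => h.N_act k.symm u hv]

theorem eps_ind (aa : P.B a a = 0) (pp : P.B p p = 0) (ap : P.B a p = 0) (ab : P.B a b = 0) (pb : P.B p b = 0)
    {Q : G → Prop} (h1 : Q 1) (h2 : ∀ f f', HH P a f p f' → Q (eps τ b a p)) : Q (eps τ b a p) := by
  by_cases k1 : a ∈ span K {p}
  · obtain ⟨l, rfl⟩ := Submodule.mem_span_singleton.1 k1
    have := h.eps_col pp pb l 1
    rw [one_smul] at this
    rwa [this]
  by_cases k2 : p ∈ span K {a}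
  · obtain ⟨l, rfl⟩ := Submodule.mem_span_singleton.1 k2
    have := h.eps_col aa ab 1 l
    rw [one_smul] at this
    rwa [this]
  obtain ⟨f, f', k⟩ := h.toMod.exists_hh' aa pp ap (fun e => k1 (e ▸ zero_mem _)) k2
  exact h2 f f' k

theorem eps_t (aa : P.B a a = 0) (pp : P.B p p = 0) (ap : P.B a p = 0) (ab : P.B a b = 0) (pb : P.B p b = 0) :
    eps τ b a p * t = t * eps τ b a p := by
  refine h.eps_ind aa pp ap ab pb (Q := fun g => g * t = t * g) (by simp) fun f f' k => ?_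
  have hU := k.ti
  have h0 := h.ne_bot k
  have hb : b ∈ P.perp (span K {a, p}) := P.mem_perp_span.2 (by simp [ab, pb])
  have ti : t⁻¹ = t := inv_eq_of_mul_eq_one_right h.t2
  have := h.coc' k hb (fun e => t⁻¹ * (e * t * e⁻¹)) (fun e he e' he' => ?_) (by simp) (fun l e => ?_)
    fun q hq r hr => ?_
  · rwa [inv_mul_eq_one, eq_mul_inv_iff_mul_eq, eq_comm] at this
  · have h1 : t * e' * t⁻¹ ∈ Eh C φ y (span K {a, p}) := (mem_normalizer_iff.1 (h.toHats.Eh_t hU) _).1 he'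
    have h2 := h.toHats.Eh_comm hU _ (mul_mem h1 (inv_mem he')) _ (inv_mem he)
    rw [ti] at h2 ⊢
    calc _ = t * e * (t * t) * e' * t * e'⁻¹ * e⁻¹ := by rw [h.t2]; group
      _ = t * e * t * (t * e' * t * e'⁻¹ * e⁻¹) := by group
      _ = _ := by rw [h2]; group
  · have ct : Commute (φ l) t := h.tC _ ⟨l, rfl⟩
    calc _ = φ l * t⁻¹ * (φ l)⁻¹ * (φ l * e * (φ l)⁻¹ * (φ l * t * (φ l)⁻¹) * (φ l * e * (φ l)⁻¹)⁻¹) := by group
      _ = _ := by rw [HatP.cjc ct, HatP.cjc ct.inv_right]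
  · obtain ⟨α, hα, j⟩ := h.toHats.Eh_tr hU h0 (h.eps_mem hU h0 hq hr hb)
    rwa [j.tr, inv_mul_cancel_left]

theorem A1 (aa : P.B a a = 0) (pp : P.B p p = 0) (ap : P.B a p = 0) (ab : P.B a b = 0) (pb : P.B p b = 0) :
    τ (a + p) b = τ a b * τ p b := by
  have e : eps τ b a p = 1 := by
    refine h.eps_ind aa pp ap ab pb (Q := fun g => g = 1) rfl fun f f' k => ?_
    have hU := k.ti
    have h0 := h.ne_bot k
    have hb : b ∈ P.perp (span K {a, p}) := P.mem_perp_span.2 (by simp [ab, pb])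
    exact h.coc' k hb id (fun _ _ _ _ => rfl) rfl (fun _ _ => rfl) fun q hq r hr =>
      h.toHats.Eh_ker hU h0 (h.eps_mem hU h0 hq hr hb)
        (h.eps_t (hU.B hq hq) (hU.B hr hr) (hU.B hq hr) (hb q hq) (hb r hr))
  rw [eps, mul_assoc, mul_eq_one_iff_eq_inv, mul_inv_rev, h.τinv aa ab, h.τinv pp pb] at e
  rw [e, (h.c1 aa pp ap ab pb ab pb).eq]

end Ex

end TauP

end CfsgLib.U5
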