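import Cfsg.Agent.Lib.U5.Five

/-! A biadditive map which is compatible with the torus vanishes -/

set_option autoImplicit false
set_option linter.unusedSectionVars false

namespace CfsgLib.U5

open Subgroup Module CfsgLib.Forms CfsgLib.LieMult
open CfsgLib.HX (Std CO Two Mv Tr Heis NF Fus4 Has4 M2)
open Submodule (span)
open scoped commutatorElement Pointwise

universe u

variable {K : Type} [Field K] [Finite K] {σ : K →+* K} {V : Type} [AddCommGroup V] [Module K V]
  [FiniteDimensional K V] {P : PQ σ V} {S : Type} [Group S] [Finite S] {G : Type u} [Group G]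
  [Finite G] {C : CG P S} {φ : S →* G} {t : G}

theorem Mod.biadd (h : Mod C) (g : K → K → K) (h1 : ∀ β β' ξ, g (β + β') ξ = g β ξ + g β' ξ)
    (h2 : ∀ β ξ ξ', g β (ξ + ξ') = g β ξ + g β ξ')
    (h3 : ∀ κ β ξ, κ ≠ 0 → σ κ * κ * g (κ * β) ξ = g β (κ * κ * ξ))
    (h4 : ∀ κ β ξ, σ κ * κ = 1 → κ ^ 3 = 1 → g β (κ * ξ) = g β ξ) (β ξ : K) : g β ξ = 0 := by
  obtain ⟨κ, hκ⟩ := h.exists_tr (map_one σ)
  have e : σ κ = κ + 1 := by linear_combination hκ - κ * h.two
  have k0 : κ ≠ 0 := by rintro rfl; simp at hκ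
  have k1 : κ + 1 ≠ 0 := by rw [← e]; exact (map_ne_zero σ).2 k0
  by_cases hN : σ κ * κ = 1
  · have e4 := h4 κ β (ξ / (κ + 1)) hN (by rw [e] at hN; linear_combination (κ - 1) * hN + (κ - 1) * h.two)
    have e5 := h2 β (κ * (ξ / (κ + 1))) (ξ / (κ + 1))
    rwa [e4, h.add_self, ← add_one_mul, mul_div_cancel₀ _ k1] at e5
  · have a := h3 κ β ξ k0
    have b := h3 (κ + 1) β ξ k1
    rw [show (κ + 1) * (κ + 1) * ξ = κ * κ * ξ + ξ by linear_combination κ * ξ * h.two, add_one_mul κ β, h1, h2,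
      show σ (κ + 1) * (κ + 1) = σ κ * κ by rw [map_add, map_one, e]; linear_combination (κ + 1) * h.two] at b
    refine (mul_eq_zero.1 (?_ : (σ κ * κ - 1) * g β ξ = 0)).resolve_left (sub_ne_zero.2 hN)
    linear_combination b - a

end CfsgLib.U5
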