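import Cfsg.Agent.Lib.U5.TauC1
import Cfsg.Agent.Lib.U5.TauC0

/-! Naturality of the transvections -/

set_option autoImplicit false
set_option linter.unusedSectionVars false

namespace CfsgLib.U5

open Subgroup Module CfsgLib.Forms CfsgLib.LieMult
open CfsgLib.HX (Std CO Two Mv Tr Heis NF Fus4 Has4 M2)
open Submodule (span)
open scoped commutatorElement Pointwise

universe u

variable {K : Type} [Field K] [Finite K] {σ : K →+* K} {V : Type} [AddCommGroup V] [Module K V]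
  [FiniteDimensional K V] {P : PQ σ V} {S : Type} [Group S] [Finite S] {G : Type u} [Group G]
  [Finite G] {C : CG P S} {φ : S →* G} {t : G}

namespace TauP

namespace Ex

variable {y : V → K → G} {c ρ : K} {τ : V → V → G} (h : Ex C φ t y c ρ τ) {p a b r u : V} {d : K} {g : G}
include h

omit h in
variable (C φ) in
/-- the group generated by `Q_p` and the transvections `τ p r` with `r ⊥ a` -/
def JJ (τ : V → V → G) (a p : V) (g : G) : Prop :=
  ∃ u d r, TOk P p u d ∧ P.B p r = 0 ∧ P.B a r = 0 ∧ g = x C φ p u d * τ p r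

theorem JJ_mul (ap : P.B a p = 0) {g' : G} (h1 : JJ C φ τ a p g) (h2 : JJ C φ τ a p g') : JJ C φ τ a p (g * g') := by
  obtain ⟨u, d, r, k, pr, ar, rfl⟩ := h1
  obtain ⟨u', d', r', k', pr', ar', rfl⟩ := h2
  have pp := (h.toMod.tok.1 k).1
  refine ⟨_, _, P.B u' r • p + r + r', k.add k', by simp [pp, pr, pr'], by simp [ap, ar, ar'], ?_⟩
  rw [← xx k k', h.tadd p _ _ pp (by simp [pp, pr]) pr', h.tadd p _ _ pp (by simp [pp]) pr]
  calc _ = x C φ p u d * (τ p r * x C φ p u' d' * (τ p r * τ p r)) * τ p r' := by rw [h.tsq pp pr]; group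
    _ = x C φ p u d * (τ p r * x C φ p u' d' * τ p r) * τ p r * τ p r' := by group
    _ = _ := by rw [h.cX k' pr]; group

theorem JJ_τ (pp : P.B p p = 0) (pr : P.B p r = 0) (ar : P.B a r = 0) : JJ C φ τ a p (τ p r) :=
  ⟨0, 0, r, h.toMod.tok0 pp (map_zero σ), pr, ar, by
    rw [show x C φ p 0 0 = 1 from HatP.z0 h.toEmb pp, one_mul]⟩

theorem JJ_p (ap : P.B a p = 0) (pr : P.B p r = 0) (h1 : JJ C φ τ a p g) : JJ C φ τ a p (τ p r * g * τ p r) := by
  obtain ⟨u, d, r', k, pr', ar', rfl⟩ := h1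
  have pp := (h.toMod.tok.1 k).1
  refine ⟨u, d, P.B u r • p + r', k, by simp [pp, pr'], by simp [ap, ar'], ?_⟩
  rw [cjm (h.tsq pp pr), h.cX k pr, (h.tcomm pp pr pr').eq, mul_assoc (τ p r'), h.tsq pp pr, mul_one,
    h.tadd p _ _ pp (by simp [pp]) pr', mul_assoc]

theorem JJ_a (aa : P.B a a = 0) (ap : P.B a p = 0) (ab : P.B a b = 0) (pb : P.B p b = 0) (h1 : JJ C φ τ a p g) :
    JJ C φ τ a p (τ a b * g * τ a b) := by
  obtain ⟨u, d, r', k, pr', ar', rfl⟩ := h1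
  have m := h.toMod
  have pp := (m.tok.1 k).1
  have pa := m.B_comm ap
  have k' := tok m pp pa aa (σ (P.B u b))
  rw [cjm (h.tsq aa ab), h.aX aa ap ab pb k, xx k k', (h.c1 aa pp ap ab pb ar' pr').eq, mul_assoc (τ p r'),
    h.tsq aa ab, mul_one, mul_assoc, ← h.tadd p _ _ pp (by simp [pp, pa, pb]) pr']
  exact ⟨_, _, _, k.add k', by simp [pp, pa, pb, pr'], by simp [aa, ap, ab, ar'], rfl⟩

theorem JJ_φ {l : S} (lp : C.act l p = p) (la : C.act l a = a) (h1 : JJ C φ τ a p g) :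
    JJ C φ τ a p (φ l * g * (φ l)⁻¹) := by
  obtain ⟨u, d, r', k, pr', ar', rfl⟩ := h1
  have pp := (h.toMod.tok.1 k).1
  have k' := k.act C l
  have e1 := h.toEmb.x_conj l k
  have e2 := h.teqv pp pr' l
  rw [lp] at k' e1 e2
  refine ⟨_, d, C.act l r', k', by rw [← C.B_act l, lp] at pr'; exact pr', by rw [← C.B_act l, la] at ar'; exact ar', ?_⟩
  rw [← e1, ← e2]; group

theorem tform (aa : P.B a a = 0) (ab : P.B a b = 0) :
    ∃ d, TOk P a b d ∧ t * τ a b * t = τ a b * (x C φ a b d * τ a (σ d • a)) := by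
  obtain ⟨d, k⟩ := h.toMod.exists_tok aa ab
  refine ⟨d, k, ?_⟩
  rw [h.ext k, mul_assoc (_ * _) (τ a _), h.tsq aa (by simp [aa]), mul_one, ← mul_assoc (τ a b), h.tsq aa ab, one_mul]

theorem mform (aa : P.B a a = 0) (pp : P.B p p = 0) (ap : P.B a p = 0) (ab : P.B a b = 0) (pb : P.B p b = 0) :
    ∃ μ : G, (∀ g, t * τ a b * t * g * (t * τ a b * t) = τ a b * (μ * g * μ⁻¹) * τ a b) ∧
      (∀ r, P.B p r = 0 → μ * τ p r * μ⁻¹ = τ p (r + (P.B b r • a + P.B a r • b))) ∧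
      ∀ g, JJ C φ τ a p g → JJ C φ τ a p (μ * g * μ⁻¹) := by
  have m := h.toMod
  obtain ⟨d, k, e⟩ := h.tform aa ab
  have pa := m.B_comm ap
  have a1 : P.B a (σ d • a) = 0 := by simp [aa]
  have a2 : P.B p (σ d • a) = 0 := by simp [pa]
  have lp : C.act (C.T a b d) p = p := C.T_fix k ap (m.B_comm pb)
  have cj : ∀ g, x C φ a b d * τ a (σ d • a) * g * (x C φ a b d * τ a (σ d • a))⁻¹ =
      φ (C.T a b d) * (τ a (σ d • a) * g * τ a (σ d • a)) * (φ (C.T a b d))⁻¹ := fun g => by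
    rw [mul_inv_rev, inv_eq_of_mul_eq_one_right (h.tsq aa a1), x]; group
  refine ⟨x C φ a b d * τ a (σ d • a), fun g => ?_, fun r pr => ?_, fun g hg => ?_⟩
  · have e' : t * τ a b * t = (x C φ a b d * τ a (σ d • a))⁻¹ * τ a b := by
      have : t * τ a b * t * (t * τ a b * t) = 1 := by rw [← cjm h.t2, h.tsq aa ab, mul_one, h.t2]
      rw [← inv_eq_of_mul_eq_one_right this, e, mul_inv_rev, inv_eq_of_mul_eq_one_right (h.tsq aa ab)]
    calc _ = τ a b * (x C φ a b d * τ a (σ d • a)) * g * ((x C φ a b d * τ a (σ d • a))⁻¹ * τ a b) := by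
          rw [← e, ← e']
      _ = _ := by group
  · rw [cj, h.nat0 aa pp ap a1 a2 (by simp [aa]) pr, h.teqv pp (by simp [pr, pa]), lp, m.T_app k]
    congr 1
    simp only [map_add, map_smul, smul_eq_mul, aa, m.B_comm ab, mul_zero, add_zero]
    match_scalars
    · ring
    · linear_combination σ d * P.B a r * m.two
    · ring
  · rw [cj]
    exact h.JJ_φ lp (C.T_self k) (h.JJ_a aa ap a1 a2 hg)

theorem lemE (h0 : p ≠ 0) (aa : P.B a a = 0) (pp : P.B p p = 0) (ap : P.B a p = 0) (ab : P.B a b = 0)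
    (pb : P.B p b = 0) (pr : P.B p r = 0) :
    ∃ g ∈ Zh C φ y p, τ a b * τ p r * τ a b = τ p (r + P.B a r • b) * g := by
  have m := h.toMod
  have pa := m.B_comm ap
  have lp : ∀ l : K, P.B p (l • p) = 0 := fun l => by simp [pp]
  have la : ∀ l : K, P.B a (l • p) = 0 := fun l => by simp [ap]
  obtain ⟨r', er⟩ : ∃ r', r' = r + P.B a r • b := ⟨_, rfl⟩
  have pr' : P.B p r' = 0 := by simp [er, pr, pb]
  rw [← er]
  have A2 := h.tsq aa ab
  have T2 := h.tsq pp pr'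
  obtain ⟨X, eX⟩ : ∃ X, X = τ a b * τ p r * τ a b := ⟨_, rfl⟩
  rw [← eX]
  have X2 : X * X = 1 := by rw [eX, ← cjm A2, h.tsq pp pr, mul_one, A2]
  have XZ : ∀ g ∈ Zh C φ y p, Commute g X := fun g hg => by
    obtain ⟨l, rfl⟩ := (h.mem_Zh' pp).1 hg
    have := (h.c1 aa pp ap ab pb (la l) (lp l)).symm
    rw [eX]
    exact (this.mul_right (h.tcomm pp (lp l) pr)).mul_right this
  have Z : ∀ l : K, τ p (l • p) ∈ Zh C φ y p := fun l => (h.mem_Zh' pp).2 ⟨l, rfl⟩
  have Di : (X * τ p r')⁻¹ = τ p r' * X := by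
    rw [mul_inv_rev, inv_eq_of_mul_eq_one_right X2, inv_eq_of_mul_eq_one_right T2]
  have cQ : X * τ p r' ∈ centralizer (Rg C φ (span K {p}) : Set G) := fun q hq => by
    obtain ⟨u, d, k, rfl⟩ := (h.toEmb.mem_Q h0 pp).1 hq
    have k' := tok m pp pa aa (σ (P.B u b))
    have pw : P.B p (σ (P.B u a) • b + (σ (P.B u a) * P.B u b) • p + σ (P.B u b) • a) = 0 := by simp [pp, pa, pb]
    have e1 : τ p r * (τ a b * x C φ p u d * τ a b) * τ p r = τ a b * x C φ p u d * τ a b * τ p (P.B u r' • p) := by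
      rw [h.aX aa ap ab pb k, cjm (h.tsq pp pr), xx k k', h.cX (k.add k') pr, (h.tcomm pp pr pw).eq,
        mul_assoc _ (τ p r), h.tsq pp pr, mul_one, mul_assoc, mul_assoc, (h.tcomm pp (lp _) pw).eq]
      congr 4
      simp [er, P.σσ, mul_comm]
    have e2 : X * x C φ p u d * X = x C φ p u d * τ p (P.B u r' • p) := by
      calc _ = τ a b * (τ p r * (τ a b * x C φ p u d * τ a b) * τ p r) * τ a b := by rw [eX]; group
        _ = τ a b * τ a b * x C φ p u d * (τ a b * τ p (P.B u r' • p) * τ a b) := by rw [e1]; group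
        _ = _ := by rw [A2, one_mul, (h.c1 aa pp ap ab pb (la _) (lp _)).eq, mul_assoc _ (τ a b), A2, mul_one]
    refine (HatP.coc ?_).symm.eq
    calc _ = X * (τ p r' * x C φ p u d * τ p r') * X := by rw [Di]; group
      _ = X * x C φ p u d * X * τ p (P.B u r' • p) := by
        rw [h.cX k pr', mul_assoc, mul_assoc, (XZ _ (Z _)).eq]; group
      _ = _ := by rw [e2, mul_assoc, h.tsq pp (lp _), mul_one]
  have cZ : X * τ p r' ∈ centralizer (Zh C φ y p : Set G) := fun g hg =>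
    ((XZ g hg).mul_right (h.Zτ pp hg pr')).eq
  have nJ : ∀ r, P.B p r = 0 → ∃ n, JJ C φ τ a p n ∧ t * τ p r * t = τ p r * n := fun r pr => by
    obtain ⟨d, k, e⟩ := h.tform pp pr
    exact ⟨_, ⟨_, _, _, k, lp _, la _, rfl⟩, e⟩
  have kJ : JJ C φ τ a p (t * (X * τ p r') * t * (X * τ p r')⁻¹) := by
    obtain ⟨μ, e1, e2, e3⟩ := h.mform aa pp ap ab pb
    obtain ⟨n, hn, en⟩ := nJ r pr
    obtain ⟨n', hn', en'⟩ := nJ r' pr'
    have j1 := h.JJ_a aa ap ab pb (h.JJ_mul ap (h.JJ_τ (r := P.B b r • a + P.B a r • b) pp (by simp [pa, pb])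
      (by simp [aa, ab])) (e3 n hn))
    have j2 := h.JJ_mul ap j1 (h.JJ_p ap pr' hn')
    have j3 := h.JJ_a aa ap ab pb (h.JJ_p ap pr (h.JJ_a aa ap ab pb j2))
    have e4 : t * X * t = X * (τ a b * (τ p (P.B b r • a + P.B a r • b) * (μ * n * μ⁻¹)) * τ a b) := by
      rw [eX, cjm h.t2, cjm h.t2, e1, en, ← cjm A2, ← mul_assoc (τ p r), ← h.tadd p _ _ pp pr (by simp [pa, pb]),
        ← e2 r pr]
      group
    convert j3 using 1
    rw [Di, cjm h.t2, e4, en', eX]; group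
  obtain ⟨u, d, r₀, k, pr₀, -, ek⟩ := kJ
  have tQ : t ∈ centralizer (Rg C φ (span K {p}) : Set G) := centralizer_le (map_le_range _ _) h.tC
  have hk := h.cJ h0 k pr₀ (by rw [← ek]; exact mul_mem (mul_mem (mul_mem tQ cQ) tQ) (inv_mem cQ))
  obtain ⟨k', hk', o, ho, ot, od, e⟩ := h.toHats.ker_lem h0 pp cQ cZ hk (by
    rw [← ek, ← mul_assoc, ← mul_assoc, ← mul_assoc, h.t2, one_mul])
  have XG : X ∈ G0 C φ y := by rw [eX]; exact mul_mem (mul_mem (h.mem aa ab) (h.mem pp pr)) (h.mem aa ab)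
  have c1 : Commute k' o := h.toHats.G0_co (h.toHats.Zh_le_G0 pp hk') o ho ot od
  have c2 : Commute X (X * τ p r') := by
    rw [e]; exact (XZ k' hk').symm.mul_right (h.toHats.G0_co XG o ho ot od)
  have D2 : (k' * o) ^ 2 = 1 := by
    rw [← e, pow_two, ← mul_assoc, ← c2.eq, ← mul_assoc, X2, one_mul, T2]
  rw [c1.mul_pow, pow_two, h.toHats.Zh_sq pp hk', one_mul] at D2
  have : orderOf o = 1 := (Nat.coprime_two_right.2 od).eq_one_of_dvd (orderOf_dvd_of_pow_eq_one D2)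
  rw [orderOf_eq_one_iff.1 this, mul_one] at e
  exact ⟨k', hk', by rw [← (h.Zτ pp hk' pr').eq, ← e, mul_assoc, T2, mul_one]⟩

theorem nat (aa : P.B a a = 0) (pp : P.B p p = 0) (ap : P.B a p = 0) (ab : P.B a b = 0) (pb : P.B p b = 0)
    (pr : P.B p r = 0) : τ a b * τ p r * τ a b = τ p (r + P.B a r • b) := by
  have m := h.toMod
  have pa := m.B_comm ap
  have N0 : ∀ b r, P.B a b = 0 → P.B p b = 0 → P.B p r = 0 → P.B a r = 0 → τ a b * τ p r * τ a b = τ p r :=
    fun b r ab pb pr ar => by rw [(h.c1 aa pp ap ab pb ar pr).eq, mul_assoc, h.tsq aa ab, mul_one]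
  have cn : ∀ {u v : G}, Commute u v → ∀ q, u * v * q * (u * v) = u * (v * q * v) * u := fun e q => by
    nth_rw 2 [e.eq]; group
  by_cases p0 : p = 0
  · have : ∀ v, τ p v = 1 := fun v => by
      have := h.tsmul pp (r := v) (by simp [p0]) 0
      rwa [map_zero, zero_smul, zero_smul, h.t0 pp, ← p0] at this
    rw [this, this, mul_one, h.tsq aa ab]
  by_cases h1 : a ∈ span K {p}
  · have ar : P.B a r = 0 := by
      obtain ⟨l, rfl⟩ := Submodule.mem_span_singleton.1 h1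
      simp [pr]
    rw [N0 b r ab pb pr ar, ar, zero_smul, add_zero]
  obtain ⟨f', f, k⟩ := m.exists_hh' pp aa pa p0 h1
  have k' := k.symm
  obtain ⟨n, nn, an, fn, pn, f'n, hn⟩ := m.exists_n k'
  obtain ⟨-, ff, af⟩ := m.hp_iff.1 k.h₂
  have pf := k.ef
  have sa : ∀ β : K, P.B a (β • n) = 0 := fun β => by simp [an]
  have sp : ∀ β : K, P.B p (β • n) = 0 := fun β => by simp [pn]
  have sf : ∀ ξ : K, P.B p (ξ • f) = 0 := fun β => by simp [pf]
  have lp : ∀ l : K, P.B p (l • p) = 0 := fun l => by simp [pp]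
  have s3 : ∀ ξ β l : K, P.B p (ξ • f + β • n + l • p) = 0 := fun ξ β l => by simp [pf, pn, pp]
  have ex : ∀ β ξ : K, ∃ l : K, τ a (β • n) * τ p (ξ • f) * τ a (β • n) = τ p (ξ • f + (ξ * β) • n + l • p) :=
    fun β ξ => by
      obtain ⟨g, hg, e⟩ := h.lemE p0 aa pp ap (sa β) (sp β) (sf ξ)
      obtain ⟨l, rfl⟩ := (h.mem_Zh' pp).1 hg
      refine ⟨l, ?_⟩
      rw [e, ← h.tadd p _ _ pp (by simp [pf, pn]) (lp l), map_smul, af, smul_eq_mul, mul_one, smul_smul]
  choose g hg using ex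
  have un : ∀ β ξ l : K, τ a (β • n) * τ p (ξ • f) * τ a (β • n) = τ p (ξ • f + (ξ * β) • n + l • p) → g β ξ = l :=
    fun β ξ l e => by
      rw [hg, h.tadd p _ _ pp (by simp [pf, pn]) (lp _), h.tadd p _ (l • p) pp (by simp [pf, pn]) (lp _),
        mul_right_inj] at e
      exact m.eq_of_add (h.self_inj p0 pp (by rw [add_smul, h.tadd p _ _ pp (lp _) (lp _), e, h.tsq pp (lp _)]))
  have cj : ∀ (s : S) (β ξ : K), τ (C.act s a) (β • C.act s n) * τ (C.act s p) (ξ • C.act s f) *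
      τ (C.act s a) (β • C.act s n) = τ (C.act s p) (ξ • C.act s f + (ξ * β) • C.act s n + g β ξ • C.act s p) :=
    fun s β ξ => by
      simp only [← map_smul, ← map_add]
      rw [← h.teqv aa (sa β), ← h.teqv pp (sf ξ), ← h.teqv pp (s3 _ _ _), ← hg]; group
  have g0 := m.biadd g (fun β β' ξ => un _ _ _ ?_) (fun β ξ ξ' => un _ _ _ ?_) (fun κ β ξ κ0 => ?_)
    fun κ β ξ κ1 κ3 => un _ _ _ ?_
  · have N1 : ∀ β r, P.B p r = 0 → τ a (β • n) * τ p r * τ a (β • n) = τ p (r + P.B a r • β • n) := fun β r pr => by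
      have e : r = P.B a r • f + (r + P.B a r • f) := by rw [add_comm r, ← add_assoc, m.vadd_self, zero_add]
      have pr' : P.B p (r + P.B a r • f) = 0 := by simp [pr, pf]
      conv_lhs => rw [e, h.tadd p _ _ pp (sf _) pr', cjm (h.tsq aa (sa β)), hg, g0,
        N0 _ _ (sa β) (sp β) pr' (by simp [af, m.add_self]), ← h.tadd p _ _ pp (s3 _ _ _) pr']
      rw [zero_smul, add_zero, add_right_comm, ← e, smul_smul]
    have e := m.dec5 k' an fn pn f'n hn b
    rw [ab, pb, zero_smul, zero_smul, add_zero, add_zero, add_assoc] at e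
    generalize P.B n b = β, P.B f b = α, P.B f' b = γ at e
    have a1 : P.B a (α • a + γ • p) = 0 := by simp [aa, ap]
    have a2 : P.B p (α • a + γ • p) = 0 := by simp [pa, pp]
    calc _ = τ a (β • n) * (τ a (α • a + γ • p) * τ p r * τ a (α • a + γ • p)) * τ a (β • n) := by
          rw [← cn (h.tcomm aa (sa β) a1), ← h.tadd a _ _ aa (sa β) a1, ← e]
      _ = _ := by
          rw [h.nat0 aa pp ap a1 a2 (by simp [aa, pp, ap, pa]) pr, N1 β _ (by simp [pr, pa, pp]), e]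
          congr 1
          simp only [map_add, map_smul, a1, smul_eq_mul, mul_zero, add_zero]
          module
  · have a1 : P.B p ((ξ * β') • n + g β' ξ • p) = 0 := by simp [pn, pp]
    calc _ = τ a (β • n) * (τ a (β' • n) * τ p (ξ • f) * τ a (β' • n)) * τ a (β • n) := by
          rw [← cn (h.tcomm aa (sa β) (sa β')), ← h.tadd a _ _ aa (sa β) (sa β'), ← add_smul]
      _ = _ := by
          rw [hg β', add_assoc, h.tadd p _ _ pp (sf ξ) a1, cjm (h.tsq aa (sa β)), hg,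
            N0 _ _ (sa β) (sp β) a1 (by simp [an, ap]), ← h.tadd p _ _ pp (s3 _ _ _) a1]
          congr 1; module
  · rw [add_smul, h.tadd p _ _ pp (sf ξ) (sf ξ'), cjm (h.tsq aa (sa β)), hg, hg,
      ← h.tadd p _ _ pp (s3 _ _ _) (s3 _ _ _)]
    congr 1; module
  · have σ0 : σ κ ≠ 0 := (map_ne_zero σ).2 κ0
    obtain ⟨s, -, e1, e2, e3, -, e4⟩ := m.exists_diag k' σ0 (inv_ne_zero σ0) (by rw [mul_inv_cancel₀ σ0, map_one])
    have := cj s β (κ * κ * ξ)
    rw [e1, e2, e3, e4 n an fn pn f'n, h.tsmul aa (sa _), h.tsmul pp (by simp [pf]), h.tsmul pp (by simp [pf, pn, pp]),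
      map_inv₀, P.σσ, smul_smul, smul_smul, smul_smul,
      show κ⁻¹ * (κ * κ * ξ) * κ⁻¹ = ξ by field_simp] at this
    rw [un (κ * β) ξ ((σ κ * κ)⁻¹ * g β (κ * κ * ξ)) (by rw [this]; congr 1; match_scalars <;> field_simp)]
    field_simp
  · have κ0 : κ ≠ 0 := by rintro rfl; simp at κ1
    have σκ : σ κ = κ * κ := by linear_combination κ * κ * κ1 - σ κ * κ3
    have i1 : (κ * κ)⁻¹ = κ := inv_eq_of_mul_eq_one_right (by linear_combination κ3)
    obtain ⟨s, -, e1, e2, e3, e4⟩ := m.exists_diag5 k.h₂ nn an fn κ0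
    have := cj s β ξ
    rw [e1, e2, e3, e4 p ap k'.fe (m.B_comm pn), h.tsmul aa (by simp [an]), σκ, i1, mul_div_cancel_right₀ _ κ0,
      smul_smul, smul_smul, smul_smul, show κ * κ * β * κ = β by linear_combination β * κ3, mul_comm ξ κ] at this
    rw [this]; congr 1; module

theorem nat' (aa : P.B a a = 0) (pp : P.B p p = 0) (ap : P.B a p = 0) (ab : P.B a b = 0) (pb : P.B p b = 0)
    (pr : P.B p r = 0) : t * τ a b * t * τ p r * (t * τ a b * t) = τ p (r + P.B b r • a) := by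
  have m := h.toMod
  have pa := m.B_comm ap
  obtain ⟨μ, e1, e2, -⟩ := h.mform aa pp ap ab pb
  rw [e1, e2 r pr, h.nat aa pp ap ab pb (by simp [pr, pa, pb])]
  congr 1
  simp only [map_add, map_smul, aa, ab, smul_eq_mul, mul_zero, add_zero]
  rw [add_assoc, add_assoc, m.vadd_self, add_zero]

end Ex

end TauP


theorem HQ.tau {y : V → K → G} {c : K} (h : HQ C φ t y c) {ρ : K} (h1 : ρ * ρ + ρ = c)
    (h2 : σ ρ ≠ ρ) : ∃ τ, Tau C φ t y c τ := by
  have m := h.toMod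
  have h3 : σ ρ = ρ + 1 := by
    have e := congrArg σ h1
    rw [map_add, map_mul, h.cF, ← h1] at e
    have : (σ ρ - ρ) * (σ ρ - (ρ + 1)) = 0 := by
      linear_combination e + (ρ * ρ + ρ - σ ρ * ρ - σ ρ) * m.two
    exact sub_eq_zero.1 ((mul_eq_zero.1 this).resolve_left (sub_ne_zero.2 h2))
  obtain ⟨τ, k⟩ := TauP.exists_ex h (by rw [h3, ← h1]; ring) h3
  exact ⟨τ, h, fun p r pp pr => k.mem pp pr, k.tadd, fun p r pp pr => k.tsq pp pr, fun p r l pp pr => k.tsmul pp pr l,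
    fun p r pp rr pr => k.tt pp rr pr, fun a b p r a1 a2 a3 a4 a5 a6 => k.nat a1 a2 a3 a4 a5 a6,
    fun a b p r a1 a2 a3 a4 a5 a6 => k.nat' a1 a2 a3 a4 a5 a6, fun p a d hk => k.ext hk,
    fun p s pp hs => ⟨_, k.hy pp hs⟩⟩

end CfsgLib.U5
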