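import Cfsg.Agent.Lib.U5.TauB

/-! The action of the transvections on the radical of a point -/

set_option autoImplicit false
set_option linter.unusedSectionVars false

namespace CfsgLib.U5

open Subgroup Module CfsgLib.Forms CfsgLib.LieMult
open CfsgLib.HX (Std CO Two Mv Tr Heis NF Fus4 Has4 M2)
open Submodule (span)
open scoped commutatorElement Pointwise

universe u

variable {K : Type} [Field K] [Finite K] {σ : K →+* K} {V : Type} [AddCommGroup V] [Module K V]
  [FiniteDimensional K V] {P : PQ σ V} {S : Type} [Group S] [Finite S] {G : Type u} [Group G]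
  [Finite G] {C : CG P S} {φ : S →* G} {t : G}

namespace TauP

namespace Ex

variable {y : V → K → G} {c ρ : K} {τ : V → V → G} (h : Ex C φ t y c ρ τ) {p a b r u : V} {d : K} {g : G}
include h

theorem xinv (k : TOk P p u d) (aa : P.B a a = 0) (ab : P.B a b = 0) (pa : P.B p a = 0) (pb : P.B p b = 0) :
    τ a b * x C φ p u d = x C φ p u d * τ (a + P.B u a • p) (b + P.B u b • p) := by
  have m := h.toMod
  have A : ∀ v, P.B p v = 0 → C.act (C.T p u d)⁻¹ v = v + P.B u v • p := fun v hv => C.inv_apply_eq (by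
    rw [map_add, map_smul, C.T_self k, m.T_app k, hv]; simp [add_assoc, m.vadd_self])
  have := h.teqv aa ab (C.T p u d)⁻¹
  rw [A a pa, A b pb, map_inv, inv_inv] at this
  rw [← this, x]; group

theorem xinv' (k : TOk P p u d) (pr : P.B p r = 0) :
    τ p r * x C φ p u d = x C φ p u d * τ p r * τ p (P.B u r • p) := by
  obtain ⟨pp, pu, -⟩ := h.toMod.tok.1 k
  rw [h.xinv k pp pr pp pr, h.toMod.B_comm pu, zero_smul, add_zero, h.tadd p _ _ pp pr (by simp [pp]), mul_assoc]

theorem cX (k : TOk P p u d) (pr : P.B p r = 0) : τ p r * x C φ p u d * τ p r = x C φ p u d * τ p (P.B u r • p) := by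
  obtain ⟨pp, -, -⟩ := h.toMod.tok.1 k
  rw [h.xinv' k pr, mul_assoc _ (τ p r), (h.tcomm pp pr (by simp [pp])).eq, mul_assoc, mul_assoc, h.tsq pp pr, mul_one]

theorem aX (aa : P.B a a = 0) (ap : P.B a p = 0) (ab : P.B a b = 0) (pb : P.B p b = 0) (k : TOk P p u d) :
    τ a b * x C φ p u d * τ a b = x C φ p u d * x C φ p (σ (P.B u b) • a) 0 *
      τ p (σ (P.B u a) • b + (σ (P.B u a) * P.B u b) • p + σ (P.B u b) • a) := by
  have m := h.toMod
  obtain ⟨pp, pu, -⟩ := m.tok.1 k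
  have pa := m.B_comm ap
  rw [h.xinv k aa ab pa pb]
  generalize P.B u a = l
  generalize P.B u b = n
  have k' := tok m pp pa aa (σ n)
  have pr : P.B p (σ n • a) = 0 := by simp [pa]
  have pq : P.B p (σ l • (b + n • p)) = 0 := by simp [pb, pp]
  have e1 := h.ext k'
  have e2 := h.xinv' k' pr
  rw [show P.B (σ n • a) (σ n • a) = 0 by simp [aa], zero_smul, h.t0 pp, mul_one] at e2
  rw [map_zero, zero_smul, h.t0 pp, mul_one, ← h.tsmul pp pa, h.tt (by simp [pp]) aa (by simp [pa]),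
    h.tsmul pp pa] at e1
  have e3 : τ a (n • p) = x C φ p (σ n • a) 0 * τ p (σ n • a) := by
    rw [← e2, e1, ← mul_assoc, h.tsq pp pr, one_mul]
  rw [h.A1 (p := l • p) aa (by simp [pp]) (by simp [ap]) (by simp [ab, ap]) (by simp [pb, pp]),
    h.tsmul pp (by simp [pb, pp]), add_comm b, h.tadd a _ _ aa (by simp [ap]) ab, add_comm _ b, mul_assoc (τ a _),
    (h.c1 aa pp ap ab pb (by simp [ab, ap]) pq).eq, mul_assoc, mul_assoc, mul_assoc, h.tsq aa ab, mul_one, e3,
    mul_assoc, ← h.tadd p _ _ pp pr pq, mul_assoc]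
  congr 3
  module

theorem mem_Zh' (pp : P.B p p = 0) : g ∈ Zh C φ y p ↔ ∃ l : K, g = τ p (l • p) := by
  have m := h.toMod
  rw [h.toHats.mem_Zh pp]
  refine ⟨fun ⟨s, r, hs, hr, e⟩ => ?_, fun ⟨l, e⟩ => ⟨_, _, ?_, ?_, e.trans (h.self pp l)⟩⟩
  · obtain ⟨l, h1, h2⟩ := solve2 m (l := σ ρ) (l' := 1) hs hr (by
      rw [P.σσ, map_one, h.hT, mul_one, one_mul, ← add_assoc, m.add_self, zero_add]; exact one_ne_zero)
    refine ⟨l, ?_⟩
    rw [h.self pp, e, ← h1, ← h2, P.σσ, map_one, map_mul, one_mul, mul_one, mul_comm (σ ρ)]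
  · rw [map_add, P.σσ, add_comm]
  · rw [map_add, P.σσ, add_comm]

theorem self_inj (h0 : p ≠ 0) (pp : P.B p p = 0) {l : K} (e : τ p (l • p) = 1) : l = 0 := by
  rw [h.self pp] at e
  obtain ⟨h1, h2⟩ := h.toHats.Zh_inj h0 pp (by rw [map_add, P.σσ, add_comm]) (by rw [map_add, P.σσ, add_comm]) e
  rw [map_mul, h.hT] at h1
  linear_combination (ρ + 1) * h2 - h1

theorem cJ (h0 : p ≠ 0) (k : TOk P p u d) (pr : P.B p r = 0)
    (e : x C φ p u d * τ p r ∈ centralizer (Rg C φ (span K {p}) : Set G)) : x C φ p u d * τ p r ∈ Zh C φ y p := by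
  have m := h.toMod
  obtain ⟨pp, pu, hd⟩ := m.tok.1 k
  have fx : ∀ l : K, σ (l + σ l) = l + σ l := fun l => by rw [map_add, P.σσ, add_comm]
  have key : ∀ v, P.B p v = 0 → P.B v r + σ (P.B v r) = 0 ∧
      P.B u v + P.B v u + (ρ * P.B v r + σ (ρ * P.B v r)) = 0 := fun v pv => by
    obtain ⟨d', k'⟩ := m.exists_tok pp pv
    have e1 := mem_centralizer_iff.1 e _ (mem_map_of_mem φ (m.T_mem_Q k'))
    have e2 : x C φ p v d' * x C φ p u d = x C φ p u d * x C φ p v d' * z C φ p (P.B u v + P.B v u) := by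
      rw [xx k k', xx k' k, xz m (k.add k') (fB m u v), add_comm v u]
      congr 1
      linear_combination -P.B v u * m.two
    rw [← x, mul_assoc, h.xinv' k' pr, ← mul_assoc, e2, mul_assoc _ (τ p r), (h.tcomm pp pr (by simp [pp])).eq,
      ← mul_assoc, ← mul_assoc, mul_left_inj, mul_right_inj, h.self pp] at e1
    have e3 := h.toEmb.z_add pp (fB m u v) (fB m u v)
    rw [m.add_self, HatP.z0 h.toEmb pp] at e3
    nth_rewrite 2 [e1] at e3
    rw [← mul_assoc, ← h.toEmb.z_add pp (fB m u v) (fx _)] at e3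
    exact (h.toHats.Zh_inj h0 pp (by rw [map_add, fB m, fx]) (fx _) e3.symm).symm
  have sc : ∀ w, (∀ v, P.B p v = 0 → P.B v w + σ (P.B v w) = 0) → ∀ v, P.B p v = 0 → P.B v w = 0 :=
    fun w hw v pv => by
      have a1 := hw v pv
      have a2 := hw (σ ρ • v) (by simp [pv])
      simp only [LinearMap.map_smulₛₗ₂, smul_eq_mul, map_mul, P.σσ] at a2
      rw [h.hT] at a2
      linear_combination (ρ + 1) * a1 - a2
  have sp : ∀ w, (∀ v, P.B p v = 0 → P.B v w = 0) → ∃ l : K, l • p = w := fun w hw => by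
    rw [← Submodule.mem_span_singleton, ← P.perp_perp C.nondeg (span K {p})]
    exact fun v hv => hw v (P.mem_perp_span_singleton.1 hv)
  have hr := sc r fun v pv => (key v pv).1
  obtain ⟨l, rfl⟩ := sp u (sc u fun v pv => by
    have := (key v pv).2
    rwa [hr v pv, mul_zero, map_zero, add_zero, add_zero, add_comm, ← m.conj v u] at this)
  obtain ⟨l', rfl⟩ := sp r hr
  have hd' : σ d = d := (m.eq_of_add (by simpa [pp] using hd)).symm
  have := (m.T_shift (m.tok0 pp hd') l).2.2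
  rw [zero_add] at this
  refine mul_mem ?_ ((h.mem_Zh' pp).2 ⟨_, rfl⟩)
  rw [x, this]
  exact h.toHats.z_mem_Zh (by rw [add_assoc, map_add, fx, hd'])

end Ex

end TauP

end CfsgLib.U5
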