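import Cfsg.Agent.Lib.U5.Line
import Cfsg.Agent.Lib.U5.Inv
import Cfsg.Agent.Lib.SLE.NG
import Cfsg.Agent.Lib.UFP.NU

/-! The normaliser of the group generated by the hats -/

set_option autoImplicit false
set_option linter.unusedSectionVars false

namespace CfsgLib.U5

open Subgroup Module CfsgLib.Forms CfsgLib.LieMult
open CfsgLib.HX (Std CO Two Mv Tr Heis NF Fus4 Has4 M2)
open Submodule (span)
open scoped commutatorElement Pointwise

universe u

variable {K : Type} [Field K] [Finite K] {σ : K →+* K} {V : Type} [AddCommGroup V] [Module K V]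
  [FiniteDimensional K V] {P : PQ σ V} {S : Type} [Group S] [Finite S] {G : Type u} [Group G]
  [Finite G] {C : CG P S} {φ : S →* G} {t : G}

theorem TD.iso_of {H R E Gs G₁ : Subgroup G} (h : TD H R E t) (hG : SLE.Glob Gs t) (hL : H ≤ Gs) (ht : t ∉ Gs)
    (h4 : ∀ e ∈ E, ∃ p ∈ Gs, p * p = 1 ∧ CO H t p ∧ p ∈ centralizer (R : Set G) ∧ p * t * p⁻¹ = t * e) :
    UFP.Iso G₁ t R := by
  have := hG.nrm
  have h0 := h.ER
  have h1 := h.RH
  have h2 := h.sq
  have dec : ∀ g ∈ Gs, g ∈ centralizer (R : Set G) → g * t = t * g → ∃ e ∈ E,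
      ∃ o ∈ centralizer (H : Set G), o * t = t * o ∧ Odd (orderOf o) ∧ g = e * o := fun g g1 g2 g3 => by
    obtain ⟨e, he, c, hc, rfl⟩ := h.cR g g3 g2
    have eL := h1 (h0 he)
    obtain ⟨o, o1, o2, o3, rfl | rfl⟩ := h.two'.dec hc (mul_left_cancel (a := e) (by
      rw [← mul_assoc, g3, ← mul_assoc, ← mul_assoc, h.tC e eL]))
    · exact ⟨e, he, c, hc, o2, o3, rfl⟩
    · exact absurd ((Gs.mul_mem_cancel_right (hG.mem_of_odd o3 (by rw [pow_orderOf_eq_one]; exact one_mem _))).1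
        ((Gs.mul_mem_cancel_left (hL eL)).1 g1)) ht
  have key : ∀ k, ∀ d ∈ Gs, d ∈ centralizer (R : Set G) → d * t * d = t → d ^ 2 ^ k = 1 → d ∈ E := by
    intro k
    induction k with
    | zero => intro d _ _ _ e; rw [pow_zero, pow_one] at e; exact e ▸ one_mem _
    | succ k ih =>
      intro d d1 d2 d3 d4
      have hd := ih (d * d) (mul_mem d1 d1) (mul_mem d2 d2) (by
        rw [show d * d * t * (d * d) = d * (d * t * d) * d by group, d3, d3]) (by
        rw [← pow_two, ← pow_mul, ← pow_succ', d4])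
      have dd : d * d = 1 := by
        obtain ⟨p, p1, p2, p3, p4, p5⟩ := h4 _ hd
        obtain ⟨e, he, o, o1, o2, o3, e1⟩ := dec (p⁻¹ * d) (mul_mem (inv_mem p1) d1) (mul_mem (inv_mem p4) d2) (by
            rw [eq_inv_of_mul_eq_one_left (h2 _ hd)] at p5
            calc _ = p⁻¹ * (d * t * d * (d * d)⁻¹) * d := by group
              _ = _ := by rw [d3, ← p5]; group)
        have c1 : Commute e p := p4 e (h0 he)
        have c2 : Commute p o := p3 o o1 o2 o3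
        have c3 : Commute e o := o1 e (h1 (h0 he))
        have e2 : d * d = o * o := by
          rw [inv_mul_eq_iff_eq_mul.1 e1, ← pow_two, (c1.symm.mul_right c2).mul_pow, c3.mul_pow, pow_two, pow_two,
            pow_two, p2, h2 e he, one_mul, one_mul]
        have := h2 _ hd
        rw [e2] at this ⊢
        exact UFP.eq_one_of_odd (UFP.pgroup_zpowers_of_sq this) (mem_zpowers _) o3 (by
          rw [← pow_two, ← pow_mul, mul_comm, pow_mul, pow_orderOf_eq_one, one_pow])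
      obtain ⟨e, he, o, o1, o2, o3, rfl⟩ := dec d d1 d2 (by
        rw [← d3, mul_assoc (d * t), dd, mul_one, d3])
      rw [← pow_two, (show Commute e o from o1 e (h1 (h0 he))).mul_pow, pow_two, pow_two, h2 e he, one_mul] at dd
      rwa [UFP.eq_one_of_odd (UFP.pgroup_zpowers_of_sq dd) (mem_zpowers _) o3 (pow_orderOf_eq_one o), mul_one]
  intro m _ hm P hP _ p1 p2
  have tR : t ∈ centralizer (R : Set G) := centralizer_le h1 h.tC
  obtain ⟨k, hk⟩ := hP ⟨_, mul_mem (inv_mem p1) p2⟩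
  refine h0 (key k _ ?_ (mul_mem (inv_mem tR) (mul_mem (mul_mem hm tR) (inv_mem hm))) ?_ (congrArg Subtype.val hk))
  · simpa [commutatorElement_def, mul_assoc] using
      hG.comm_le (commutator_mem_commutator (mem_top t⁻¹) (mem_top m))
  · rw [show t⁻¹ * (m * t * m⁻¹) * t * (t⁻¹ * (m * t * m⁻¹)) = t⁻¹ * (m * (t * t) * m⁻¹) by group, h.t2,
      inv_eq_of_mul_eq_one_right h.t2]; group

theorem top_ne {e f : V} (k : HP P e f) : e ≠ 0 := fun e0 => by simpa [e0] using k.ef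

theorem top_not_mem {e f e' f' : V} (k : HH P e f e' f') : e' ∉ span K {e} := fun e0 => by
  obtain ⟨l, rfl⟩ := Submodule.mem_span_singleton.1 e0
  simpa [k.ef] using k.h₂.ef

theorem top_orth {U : Submodule K V} (hU : TI P U) {a b : V} (ha : a ∈ U) (hb : b ∈ U) : P.B a b = 0 := hU hb a ha

theorem top_fix_anti {U U' : Submodule K V} (h : U ≤ U') : C.fixG U' ≤ C.fixG U := fun _ hs v hv => hs v (h hv)

theorem top_rad_le_stb {U U' : Submodule K V} (hU : TI P U') (h : U ≤ U') : Rad C U ≤ Stb C U' := by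
  have k : ∀ s ∈ Rad C U, ∀ v ∈ U', C.act s v ∈ U' := fun s hs v hv => by
    simpa using add_mem (h (hs.2 v (P.perp_anti h (hU hv)))) hv
  exact fun s hs v => ⟨fun hv => by simpa [C.inv_apply] using k _ (inv_mem hs) _ hv, k s hs v⟩

theorem Mod.top_hh (h : Mod C) : ∃ e f e' f', HH P e f e' f' := by
  obtain ⟨e, -, f, -, k⟩ := h.exists_hp_perp (U := ⊥) disjoint_bot_left (by have := h.d4; simp; omega)
  exact ⟨e, f, h.exists_hh k⟩

theorem Mod.top_T_zero (h : Mod C) {a : V} {c : K} (k : TOk P 0 a c) : C.T 0 a c = 1 :=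
  C.ext fun v => by simp [h.T_app k, C.one_apply]


namespace HL

variable {y : V → K → G} (h : HL C φ t y) {Gs : Subgroup G}
include h

theorem top_L_le : φ.range ≤ G0 C φ y := le_sup_left

theorem top_Zh_le {p : V} (hp : P.B p p = 0) : Zh C φ y p ≤ G0 C φ y :=
  (closure_le _).2 (by
    rintro _ ⟨s, hs, rfl | rfl⟩
    exacts [h.top_L_le ⟨_, rfl⟩, h.y_mem hp hs])

theorem top_G0_le {H : Subgroup G} (hL : φ.range ≤ H) (hy : ∀ p s, p ≠ 0 → P.B p p = 0 → σ s = s → y p s ∈ H) :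
    G0 C φ y ≤ H :=
  sup_le hL ((closure_le _).2 (by
    rintro _ ⟨p, s, hp, hs, rfl⟩
    by_cases h0 : p = 0
    · rw [h0, h.y_zero' hs]; exact one_mem H
    · exact hy p s h0 hp hs))

theorem top_z_ne {p : V} (h0 : p ≠ 0) (hp : P.B p p = 0) : z C φ p 1 ≠ 1 := fun e => by
  simpa [h0] using (h.z_eq_one hp (map_one σ)).1 e


theorem cent_le {g : G} (hg : g * t = t * g) : g ∈ normalizer (G0 C φ y : Set G) := by
  obtain ⟨α, γ, k⟩ := h.exists_act (h.cN hg)
  refine mem_normalizer_fintype fun a ha => (h.top_G0_le (H := (G0 C φ y).comap (MulAut.conj g).toMonoidHom)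
    (fun a ha => h.top_L_le (UFP.conj_mem (h.cN hg) ha)) fun p s h0 hp hs => ?_) ha
  show g * y p s * g⁻¹ ∈ G0 C φ y
  have h0' : γ p ≠ 0 := by simpa using h0
  have hp' : P.B (γ p) (γ p) = 0 := by rw [k.B_eq, hp, map_zero]
  have hs' : σ (α s) = α s := by rw [← h.aut_comm, hs]
  have e1 : g * y p s * g⁻¹ * t * (g * y p s * g⁻¹)⁻¹ = t * z C φ (γ p) (α s) := by
    calc _ = g * (y p s * (g⁻¹ * (t * g)) * (y p s)⁻¹) * g⁻¹ := by group
      _ = g * t * g⁻¹ * (g * z C φ p s * g⁻¹) := by rw [← hg, inv_mul_cancel_left, (h.mv p s hp hs).pt]; group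
      _ = _ := by rw [hg, mul_inv_cancel_right, h.act_z k hp hs]
  rcases h.chr h0' hp' hs' (g := g * y p s * g⁻¹) (by
    rw [show g * y p s * g⁻¹ * (g * y p s * g⁻¹) = g * (y p s * y p s) * g⁻¹ by group, h.y_sq hp hs]; group)
    (fun q hq => by
      obtain ⟨a, c, hc, rfl⟩ := (h.mem_Q h0' hp').1 hq
      obtain ⟨k1, k2⟩ := h.act_x (h.act_inv k) hc
      rw [show γ⁻¹ (γ p) = p from γ.symm_apply_apply p] at k1 k2
      have k3 := (h.y_fix hp hs (C.T_self k1)).eq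
      change x C φ _ _ _ * _ = _ * x C φ _ _ _ at k3
      rw [← k2] at k3
      calc _ = g * (g⁻¹ * x C φ (γ p) a c * g⁻¹⁻¹ * y p s) * g⁻¹ := by group
        _ = _ := by rw [k3]; group) e1 with e | e
  · exact h.top_Zh_le hp' e
  · have c1 : Commute (g * y p s * g⁻¹) t := by
      obtain ⟨l, -, e⟩ := e
      rw [← inv_mul_cancel_left t (g * y p s * g⁻¹), ← e]
      exact (Commute.refl t).inv_left.mul_left (h.tφ l)
    rw [c1.eq, mul_inv_cancel_right, left_eq_mul, h.z_eq_one hp' hs', map_eq_zero] at e1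
    rw [e1.resolve_left h0', h.y_zero hp]
    simp

theorem t_norm : t ∈ normalizer (G0 C φ y : Set G) := by
  exact h.cent_le rfl

theorem cent_odd : Odd (Nat.card (centralizer (G0 C φ y : Set G))) := by
  obtain ⟨e, f, -, -, k, -⟩ := h.top_hh
  have he := (h.hp_iff.1 k).1
  refine SLE.odd_of_inv h.t2 (Core.normalizer_le_normalizer_centralizer _ h.t_norm) fun c hc c2 ct =>
    (h.invol_cent (centralizer_le h.top_L_le hc) ct c2).resolve_right fun e1 => ?_
  have := (h.mv e 1 he (map_one σ)).pt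
  rw [e1] at hc
  rw [hc _ (h.y_mem he (map_one σ)), mul_inv_cancel_right, left_eq_mul] at this
  exact h.top_z_ne (top_ne k) he this

theorem G0_eq {e : V} (h0 : e ≠ 0) (he : P.B e e = 0) : G0 C φ y = φ.range ⊔ Zh C φ y e := by
  refine le_antisymm (h.top_G0_le le_sup_left fun p s p0 hp hs => ?_) (sup_le h.top_L_le (h.top_Zh_le he))
  obtain ⟨l, rfl⟩ := h.trans h0 he p0 hp
  rw [← h.eqv l e s he hs]
  exact mul_mem (mul_mem_sup ⟨l, rfl⟩ (subset_closure ⟨s, hs, Or.inr rfl⟩)) (mem_sup_left (inv_mem ⟨l, rfl⟩))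

theorem G0_le {H : Subgroup G} (hH : G0 C φ y ≤ normalizer (H : Set G)) (hL : φ.range ≤ H) :
    G0 C φ y ≤ H := by
  refine h.top_G0_le hL fun p s p0 hp hs => ?_
  obtain ⟨f, k⟩ := h.exists_hp p0 hp
  obtain ⟨a, b, k⟩ := h.exists_hh k
  obtain ⟨θ, hθ⟩ := h.herm.exists_trace_one
  have ha := (h.hp_iff.1 k.h₂).1
  obtain ⟨d, hd⟩ := h.exists_tok (a := (s * θ) • b) hp (by simp [k.ef])
  have e := h.wx hp ha k.ee hd
  rw [show P.B a ((s * θ) • b) + P.B ((s * θ) • b) a = s by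
    simp only [map_smul, map_smulₛₗ, LinearMap.smul_apply, k.h₂.ef, k.h₂.fe, smul_eq_mul, map_mul, hs]
    linear_combination s * hθ] at e
  have m : x C φ p ((s * θ) • b) d ∈ H := hL ⟨_, rfl⟩
  have := mul_mem (UFP.conj_mem' (hH (h.w_mem hp ha k.ee)) m) (inv_mem m)
  rwa [mul_assoc _⁻¹, mul_assoc _⁻¹, e, inv_mul_cancel_left] at this

theorem G0_le_Gs (hG : SLE.Glob Gs t) (hL : φ.range ≤ Gs) : G0 C φ y ≤ Gs := by
  have := hG.nrm
  exact h.G0_le le_normalizer_of_normal hL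

/-- the hats of the elements of `E(U)` -/
theorem top_hat {U : Submodule K V} (hU : TI P U) {a : G} (ha : a ∈ Eg C φ U) :
    ∃ g ∈ G0 C φ y, g * g = 1 ∧ g ∈ centralizer (Yg C φ U : Set G) ∧ g * t * g⁻¹ = t * a := by
  let X : Set G := {g | ∃ p ∈ U, ∃ s, σ s = s ∧ g = y p s}
  have h1 : closure X ≤ centralizer (closure X : Set G) := by
    rw [centralizer_closure, closure_le]
    rintro _ ⟨p, hp, s, hs, rfl⟩ _ ⟨p', hp', s', hs', rfl⟩
    exact h.com _ _ _ _ (top_orth hU hp' hp') (top_orth hU hp hp) (top_orth hU hp' hp) hs' hs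
  have h2 : ∀ g ∈ closure X, g * g = 1 := fun g hg => by
    induction hg using closure_induction with
    | mem _ hx => obtain ⟨p, hp, s, hs, rfl⟩ := hx; exact h.y_sq (top_orth hU hp hp) hs
    | one => exact one_mul 1
    | mul a b ha hb ea eb => rw [mul_assoc, ← mul_assoc b, h1 ha b hb, mul_assoc, eb, mul_one, ea]
    | inv a _ ea => rw [← mul_inv_rev, ea, inv_one]
  have h3 : closure X ≤ G0 C φ y ⊓ centralizer (Yg C φ U : Set G) := (closure_le _).2 (by
    rintro _ ⟨p, hp, s, hs, rfl⟩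
    refine ⟨h.y_mem (top_orth hU hp hp) hs, ?_⟩
    rintro _ ⟨l, hl, rfl⟩
    exact h.y_fix (top_orth hU hp hp) hs (hl p hp))
  suffices ∃ g ∈ closure X, g * t * g⁻¹ = t * a by
    obtain ⟨g, hg, e⟩ := this
    exact ⟨g, (h3 hg).1, h2 g hg, (h3 hg).2, e⟩
  obtain ⟨a, ha, rfl⟩ := ha
  have h4 := h.E_eq hU
  rw [SetLike.mem_coe, h4] at ha
  induction ha using closure_induction with
  | mem _ hx =>
    obtain ⟨p, hp, s, hs, rfl⟩ := hx
    exact ⟨_, subset_closure ⟨p, hp, s, hs, rfl⟩, (h.mv p s (top_orth hU hp hp) hs).pt⟩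
  | one => exact ⟨1, one_mem _, by simp⟩
  | mul a b _ hb ea eb =>
    obtain ⟨g, hg, ea⟩ := ea
    obtain ⟨g', hg', eb⟩ := eb
    have := (h3 hg).2 (φ b) ⟨b, rad_le_fix U (h.E_le_rad hU (h4 ▸ hb)), rfl⟩
    refine ⟨g * g', mul_mem hg hg', ?_⟩
    calc _ = g * (g' * t * g'⁻¹) * g⁻¹ := by group
      _ = g * t * g⁻¹ * (g * φ b) * g⁻¹ := by rw [eb]; group
      _ = _ := by rw [ea, ← this, map_mul]; group
  | inv a ha ea => rwa [inv_eq_of_mul_eq_one_right (h.E_sq hU (h4 ▸ ha))]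


theorem fus4 : Fus4 φ.range t := by
  obtain ⟨e, f, e', f', k⟩ := h.top_hh
  have he := (h.hp_iff.1 k.h₁).1
  have he' := (h.hp_iff.1 k.h₂).1
  have hU : TI P (span K {e, e'}) := ti_span.2 (by simp [he, he', k.ee, P.B_eq_zero_comm.1 k.ee])
  have m : ∀ p ∈ ({e, e'} : Set V), C.T p 0 1 ∈ C.fixG (P.perp (span K {e, e'})) := fun p hp =>
    h.T_mem_E hU (h.tok0 (top_orth hU (Submodule.subset_span hp) (Submodule.subset_span hp)) (map_one σ))
      (Submodule.subset_span hp) (zero_mem _)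
  have m1 := m e (by simp)
  have m2 := m e' (by simp)
  have c := fun s hs => rad_le_fix _ (h.E_le_rad hU (x := s) hs)
  refine ⟨z C φ e 1, ⟨_, rfl⟩, z C φ e' 1, ⟨_, rfl⟩, h.z_sq he (map_one σ), h.z_sq he' (map_one σ),
    (show Commute _ _ from h.E_cent hU m2 _ (c _ m1)).map φ, h.top_z_ne (top_ne k.h₁) he,
    h.top_z_ne (top_ne k.h₂) he', fun e1 => top_not_mem k
      (h.z_eq_z he he' (map_one σ) (map_one σ) e1 (h.top_z_ne (top_ne k.h₁) he)), fun a ha => ?_⟩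
  obtain ⟨g, -, -, g1, g2⟩ := h.top_hat hU (a := a) (by
    rcases ha with rfl | rfl | rfl
    exacts [⟨_, m1, rfl⟩, ⟨_, m2, rfl⟩, mul_mem ⟨_, m1, rfl⟩ ⟨_, m2, rfl⟩])
  exact ⟨g, (g1 _ ⟨_, c _ m1, rfl⟩).symm, (g1 _ ⟨_, c _ m2, rfl⟩).symm, g2⟩

theorem exists_conj {j : S} (j2 : j * j = 1) : ∃ g ∈ G0 C φ y, g * t * g⁻¹ = t * φ j := by
  obtain ⟨l, h1, rfl⟩ := h.invol_list j2
  have hU : TI P (span K {p | p ∈ l}) := ti_span.2 h1
  obtain ⟨g, g1, -, -, g2⟩ := h.top_hat hU ⟨_, list_prod_mem fun s hs => by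
    obtain ⟨p, hp, rfl⟩ := List.mem_map.1 hs
    exact h.T_mem_E hU (h.tok0 (h1 p hp p hp) (map_one σ)) (Submodule.subset_span hp) (zero_mem _), rfl⟩
  exact ⟨g, g1, g2⟩

/-- multiplying a conjugate of `t` by an involution of `O²` of its centraliser -/
theorem conj_mul {g k : G} (hk : k ∈ Od (centralizer {g * t * g⁻¹})) (k2 : k * k = 1) :
    ∃ g', g' * t * g'⁻¹ = g * t * g⁻¹ * k := by
  have h1 : g⁻¹ * k * g ∈ Od (centralizer {t}) := by
    refine Od_mono ?_ (map_Od (MulAut.conj g⁻¹).toMonoidHom _ ⟨k, hk, by simp⟩)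
    rintro _ ⟨a, ha, rfl⟩
    refine UFP.mem_cent1.2 ?_
    calc _ = g⁻¹ * (g * t * g⁻¹ * a) * g := by simp [mul_assoc]
      _ = _ := by rw [UFP.mem_cent1.1 ha]; simp [mul_assoc]
  have h2 : g⁻¹ * k * g * (g⁻¹ * k * g) = 1 := by
    rw [show g⁻¹ * k * g * (g⁻¹ * k * g) = g⁻¹ * (k * k) * g by group, k2]; group
  have h3 := UFP.pgroup_zpowers_of_sq h2
  obtain ⟨j, -, j1, j2⟩ := h.exists_two (h.mem_of_Od h1 h3) h3
  obtain ⟨a, -, e⟩ := h.exists_conj (j := j) (by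
    rw [← pow_two, ← orderOf_dvd_iff_pow_eq_one, j1, orderOf_dvd_iff_pow_eq_one, pow_two, h2])
  refine ⟨g * a, ?_⟩
  calc _ = g * (a * t * a⁻¹) * g⁻¹ := by group
    _ = _ := by rw [e, j2]; group

theorem top_hat_x {U0 : Subgroup G} {p a : V} (h0 : p ≠ 0) (hp : P.B p p = 0) (ha : P.B a a = 0) (hpa : P.B p a = 0)
    (h1 : a ∉ span K {p}) (hU : ∀ d, TOk P p a d → x C φ p a d ∈ U0) {d : K} (hd : σ d = d) :
    UFP.Hat t U0 (x C φ p a d) := by
  have k := fun d (hd : σ d = d) => h.tok1 hp ha hpa hd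
  have c : ∀ b d, TOk P p b d → P.B a b = 0 → Commute (x C φ p b d) (w y p a) := fun b d k e => by
    have := h.wx hp ha hpa k
    rwa [e, P.B_eq_zero_comm.1 e, add_zero, h.y_zero hp, mul_one, mul_inv_eq_iff_eq_mul] at this
  refine ⟨w y p a * y p d, closure {g | ∃ d, σ d = d ∧ g = x C φ p a d}, ?_, subset_closure ⟨d, hd, rfl⟩,
    (closure_le _).2 ?_, (closure_le _).2 ?_, fun W h2 h3 h4 => h.cent_odd_sub h2 (h3.trans h.CN) h0 hp ha hpa h1
      (fun d hd => h4 (subset_closure ⟨d, hd, rfl⟩)) hd⟩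
  · have e1 : x C φ p a d = x C φ p a 0 * z C φ p d := by
      rw [x, x, z, ← map_mul, C.T_mul (k 0 (map_zero σ)) (h.tok0 hp hd)]; simp
    have e2 : z C φ p d * w y p a = _ := (c 0 d (h.tok0 hp hd) (by simp)).eq
    calc _ = w y p a * t * (w y p a)⁻¹ * (z C φ p d * w y p a) * (w y p a)⁻¹ := by rw [e1, h.w_t hp ha hpa]; group
      _ = w y p a * (t * z C φ p d) * (w y p a)⁻¹ := by rw [e2, z, x]; group
      _ = _ := by rw [← (h.mv p d hp hd).pt]; group
  · rintro _ ⟨d, hd, rfl⟩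
    exact hU d (k d hd)
  · rintro _ ⟨d', hd', rfl⟩
    exact UFP.mem_cent1.2 ((c a d' (k d' hd') ha).mul_right (h.y_fix hp hd (C.T_self (k d' hd')))).symm

theorem top_x_mem {U0 : Subgroup G} {U : Submodule K V} (hU : TI P U) (hd : finrank K V ≠ 2 * finrank K U + 1) {p : V}
    (hp : p ∈ U) (h1 : ∀ a ∈ P.perp U, ∀ d, TOk P p a d → x C φ p a d ∈ U0)
    (h2 : p ≠ 0 → ∃ a ∈ P.perp U, P.B a a = 0 ∧ a ∉ span K {p}) {a : V} (ha : a ∈ P.perp U) :
    ∀ d, TOk P p a d → x C φ p a d ∈ closure {g | UFP.Hat t U0 g} := by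
  by_cases h0 : p = 0
  · intro d k
    subst h0
    rw [x, h.top_T_zero k, map_one]; exact one_mem _
  have pp := top_orth hU hp hp
  have k1 : ∀ a ∈ P.perp U, P.B a a = 0 → a ∉ span K {p} → ∀ d, σ d = d → x C φ p a d ∈ closure {g | UFP.Hat t U0 g} :=
    fun a ha aa n d hd => subset_closure (h.top_hat_x h0 pp aa (ha p hp) n (h1 a ha) hd)
  have k2 : ∀ {c : K}, c + σ c = 0 → σ c = c := fun {c} e => by linear_combination e - h.add_self c
  suffices a ∈ P.perp U ∧ ∀ d, TOk P p a d → x C φ p a d ∈ closure {g | UFP.Hat t U0 g} from this.2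
  have := h.iso_span hU hd ha
  clear ha
  induction this using AddSubgroup.closure_induction with
  | mem a ha =>
    refine ⟨ha.1, fun d k => ?_⟩
    have hd := k2 ((h.tok.1 k).2.2.trans ha.2)
    by_cases n : a ∈ span K {p}
    · obtain ⟨l, rfl⟩ := Submodule.mem_span_singleton.1 n
      obtain ⟨b, b1, b2, b3⟩ := h2 h0
      obtain ⟨-, k3, e⟩ := h.T_shift (h.tok0 pp hd) l
      have k4 := k2 ((h.tok.1 k3).2.2.trans (by simp))
      have := mul_mem (k1 b b1 b2 b3 0 (map_zero σ)) (k1 b b1 b2 b3 _ k4)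
      rw [x, x, ← map_mul, C.T_mul (h.tok1 pp b2 (b1 p hp) (map_zero σ)) (h.tok1 pp b2 (b1 p hp) k4), h.vadd_self, b2,
        zero_add, add_zero, ← e, zero_add] at this
      exact this
    · exact k1 a ha.1 ha.2 n d hd
  | zero =>
    obtain ⟨b, b1, b2, b3⟩ := h2 h0
    refine ⟨zero_mem _, fun d k => ?_⟩
    have hd := k2 ((h.tok.1 k).2.2.trans (by simp))
    have := mul_mem (k1 b b1 b2 b3 0 (map_zero σ)) (k1 b b1 b2 b3 _ hd)
    rwa [x, x, ← map_mul, C.T_mul (h.tok1 pp b2 (b1 p hp) (map_zero σ)) (h.tok1 pp b2 (b1 p hp) hd), h.vadd_self, b2,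
      zero_add, add_zero] at this
  | add a b _ _ ea eb =>
    refine ⟨add_mem ea.1 eb.1, fun d k => ?_⟩
    obtain ⟨c, hc⟩ := h.exists_tok pp (ea.1 p hp)
    have hc' : TOk P p b (d - c - P.B b a) := h.tok.2 ⟨pp, eb.1 p hp, by
      have e1 := (h.tok.1 k).2.2
      simp only [map_add, LinearMap.add_apply, map_sub, h.conj] at e1 ⊢
      linear_combination e1 - (h.tok.1 hc).2.2⟩
    have := mul_mem (ea.2 c hc) (eb.2 _ hc')
    rwa [x, x, ← map_mul, C.T_mul hc hc', show c + (d - c - P.B b a) + P.B b a = d by ring] at this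
  | neg a _ ea => rwa [neg_eq_of_add_eq_zero_left (h.vadd_self a)]


theorem eq_Gs (hG : SLE.Glob Gs t) (hL : φ.range ≤ Gs)
    (h1 : ∀ u ∈ Gs, u * u = 1 → u ∈ normalizer (G0 C φ y : Set G)) : G0 C φ y = Gs := by
  obtain ⟨e, f, -, -, k, -⟩ := h.top_hh
  have he := (h.hp_iff.1 k).1
  have h2 := h.top_z_ne (top_ne k) he
  exact hG.eq_of_norm (h.G0_le_Gs hG hL) (UFP.le_of_invol hG.simple (hL ⟨_, rfl⟩) h2 (h.z_sq he (map_one σ)) h1)
    (h.top_L_le ⟨_, rfl⟩) h2

end HL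

end CfsgLib.U5
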