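import Cfsg.Agent.Lib.U5.Top
import Cfsg.Agent.Lib.UFP.Gr1

/-! The hat of the radical of a point -/

set_option autoImplicit false
set_option linter.unusedSectionVars false

namespace CfsgLib.U5

open Subgroup Module CfsgLib.Forms CfsgLib.LieMult
open CfsgLib.HX (Std CO Two Mv Tr Heis NF Fus4 Has4 M2)
open Submodule (span)
open scoped commutatorElement Pointwise

universe u

variable {K : Type} [Field K] [Finite K] {σ : K →+* K} {V : Type} [AddCommGroup V] [Module K V]
  [FiniteDimensional K V] {P : PQ σ V} {S : Type} [Group S] [Finite S] {G : Type u} [Group G]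
  [Finite G] {C : CG P S} {φ : S →* G} {t : G}

variable (C) in
/-- the subgroup `(Q_e ∩ R(U)) E(U)` -/
def R0 (e : V) (U : Submodule K V) : Subgroup S := Rad C (span K {e}) ⊓ Rad C U ⊔ C.fixG (P.perp U)

variable (C φ) in
/-- the hat `Qt` of `Q_e` -/
structure QT (t : G) (y : V → K → G) (e : V) (Qt : Subgroup G) : Prop where
  two : IsPGroup 2 Qt
  le : Rg C φ (span K {e}) ≤ Qt
  tn : t ∈ normalizer (Qt : Set G)
  tm : t ∉ Qt
  nrm : (Stb C (span K {e})).map φ ≤ normalizer (Qt : Set G)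
  gen : ∀ H : Subgroup G, (∀ a, P.B a a = 0 → P.B e a = 0 → a ∉ span K {e} →
    ∀ g ∈ centralizer (Rg C φ (span K {e, a}) : Set G), ∀ q ∈ Rg C φ (span K {e}), g * q * g⁻¹ ∈ H) → Qt ≤ H
  fin : ∀ W : Subgroup G, Odd (Nat.card W) → normalizer (Qt : Set G) ≤ normalizer (W : Set G) →
    Qt ≤ centralizer (W : Set G) →
    (∀ p s, P.B p p = 0 → P.B e p = 0 → σ s = s → z C φ p s ∈ centralizer (W : Set G)) →
    W ⊓ centralizer {t} ≤ centralizer (G0 C φ y : Set G) → Yg C φ (span K {e}) ≤ centralizer (W : Set G)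

end CfsgLib.U5
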