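import Cfsg.Agent.Lib.U5.TopQ

/-! The centraliser of a subgroup of the radical of a line -/

set_option autoImplicit false
set_option linter.unusedSectionVars false

namespace CfsgLib.U5

open Subgroup Module CfsgLib.Forms CfsgLib.LieMult
open CfsgLib.HX (Std CO Two Mv Tr Heis NF Fus4 Has4 M2)
open Submodule (span)
open scoped commutatorElement Pointwise

universe u

variable {K : Type} [Field K] [Finite K] {σ : K →+* K} {V : Type} [AddCommGroup V] [Module K V]
  [FiniteDimensional K V] {P : PQ σ V} {S : Type} [Group S] [Finite S] {G : Type u} [Group G]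
  [Finite G] {C : CG P S} {φ : S →* G} {t : G}

theorem Mod.R0_le (h : Mod C) {e : V} {U : Submodule K V} (hU : TI P U) : R0 C e U ≤ Rad C U :=
  sup_le inf_le_right (h.E_le_rad hU)

theorem Emb.cR0 (h : Emb C φ) {e : V} {U : Submodule K V} (hU : TI P U) (h2 : 2 ≤ finrank K U) (he : e ∈ U)
    (h0 : e ≠ 0) {g : G} (hg : g ∈ normalizer (φ.range : Set G))
    (hc : g ∈ centralizer ((R0 C e U).map φ : Set G)) :
    ∃ q ∈ Eg C φ U, ∃ c ∈ centralizer (φ.range : Set G), g = q * c := by
  have he0 := h0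
  clear h0
  obtain ⟨α, γ, k⟩ := h.exists_act hg
  have iso : ∀ p ∈ U, P.B p p = 0 := fun p hp => hU hp p hp
  have cx : ∀ {a c}, TOk P e a c → a ∈ P.perp U → g * x C φ e a c * g⁻¹ = x C φ e a c :=
    fun t ha => by
      rw [x, ← hc _ ⟨_, mem_sup_left ⟨(h.toMod.mem_rad_pt he0 (iso e he)).2 ⟨_, _, t, rfl⟩,
        h.toMod.T_mem_rad hU t he ha⟩, rfl⟩, mul_inv_cancel_right]
  have cz : ∀ p ∈ U, g * z C φ p 1 * g⁻¹ = z C φ p 1 := fun p hp => by
    have m : C.T p 0 1 ∈ C.fixG (P.perp U) := fun v hv => by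
      change C.act _ v = v
      rw [h.toMod.z_app (iso p hp) (map_one σ), hv p hp, mul_zero, zero_smul, add_zero]
    rw [z, ← hc _ ⟨_, mem_sup_right m, rfl⟩, mul_inv_cancel_right]
  have h1 : ∀ p ∈ U, ∃ l : K, l • p = γ p := fun p hp => by
    by_cases h0 : p = 0
    · exact ⟨0, by simp [h0]⟩
    exact Submodule.mem_span_singleton.1 ((h.fix_of_z k (iso p hp) (map_one σ) (map_one σ)
      (h.z_one_ne h0 (iso p hp)) (cz p hp) p).2 (Submodule.mem_span_singleton_self p))
  obtain ⟨p, hp, h0⟩ := (Submodule.ne_bot_iff U).1 fun e => by rw [e, finrank_bot] at h2; omega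
  obtain ⟨p', hp', h0'⟩ : ∃ p' ∈ U, p' ∉ span K {p} := by
    by_contra hc
    push Not at hc
    have := Submodule.finrank_mono (show U ≤ span K {p} from hc)
    rw [finrank_span_singleton h0] at this
    omega
  obtain ⟨l, hl⟩ := h1 p hp
  have h3 : ∀ u ∈ U, u ∉ span K {p} → γ u = l • u ∧ ∀ c, α c * l = l * c := fun u hu hu' => by
    obtain ⟨l', hl'⟩ := h1 u hu
    have : ∀ c, α c * l' = l * c := fun c => by
      obtain ⟨m, hm⟩ := h1 (p + c • u) (add_mem hp (U.smul_mem c hu))
      rw [map_add, k.semi, ← hl, ← hl', smul_add, smul_smul, smul_smul] at hm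
      obtain ⟨rfl, e⟩ := eq_of_indep h0 hu' hm
      exact e.symm
    obtain rfl : l' = l := by simpa using this 1
    exact ⟨hl'.symm, this⟩
  have l0 : l ≠ 0 := fun e => h0 (γ.map_eq_zero_iff.1 (by rw [← hl, e, zero_smul]))
  obtain rfl : α = 1 := RingEquiv.ext fun c => mul_right_cancel₀ l0 (((h3 p' hp' h0').2 c).trans (mul_comm _ _))
  have h4 : ∀ u ∈ U, γ u = l • u := fun u hu => by
    by_cases c : u ∈ span K {p}
    · obtain ⟨c, rfl⟩ := Submodule.mem_span_singleton.1 c
      rw [k.semi, ← hl, smul_comm]; rfl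
    · exact (h3 u hu c).1
  have h5 : σ l * l = 1 := by
    have a := cz p hp
    have n : σ (σ l * l * 1) = σ l * l * 1 := by rw [mul_one, map_mul, P.σσ, mul_comm]
    rw [h.act_z k (iso p hp) (map_one σ), ← hl, map_one, h.z_smul (iso p hp) (map_one σ)] at a
    have b := h.z_add (iso p hp) n (map_one σ)
    rw [a, h.z_sq (iso p hp) (map_one σ), h.z_eq_one (iso p hp) (by rw [map_add, n, map_one])] at b
    have := b.resolve_left h0
    rw [mul_one, ← h.toMod.add_self 1] at this
    exact add_right_cancel this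
  obtain ⟨γ', k', h6⟩ := h.act_smul k (μ := σ l) (by rw [P.σσ, mul_comm, h5])
  have h7 : ∀ u ∈ U, γ' u = u := fun u hu => by rw [h6, h4 u hu, smul_smul, h5, one_smul]
  have h8 : ∀ a ∈ P.perp U, γ' a = a := fun a ha => by
    have key : ∀ b ∈ P.perp U, ∃ l : K, l • e = γ' b - b ∧ l + σ l = 0 := fun b hb => by
      obtain ⟨c, t⟩ := h.toMod.exists_tok (iso e he) (hb e he)
      obtain ⟨t1, e1⟩ := h.act_x k' t
      rw [h7 e he] at t1 e1
      have e2 := e1.symm.trans (cx t hb)
      obtain ⟨m, hm⟩ := Submodule.mem_span_singleton.1 (h.x_eq_x he0 t1 t e2)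
      refine ⟨m, hm, ?_⟩
      obtain ⟨-, t2, e3⟩ := h.toMod.T_shift t m
      change x C φ e (γ' b) c = _ at e2
      rw [← eq_sub_iff_add_eq'.1 hm, x, e3] at e2
      obtain ⟨f, hf⟩ := h.toMod.exists_hp he0 (iso e he)
      have := congrArg (fun u => C.act u f) (h.inj_pow (h.toMod.T_four t2) (h.toMod.T_four t) e2)
      simp only [h.toMod.T_app t, h.toMod.T_app t2, hf.ef, mul_one, add_left_inj, add_right_inj] at this
      have := σ.injective (add_left_cancel (smul_left_injective K he0 this))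
      rwa [add_assoc, add_eq_left] at this
    obtain ⟨m, hm, -⟩ := key a ha
    by_cases m0 : m = 0
    · exact sub_eq_zero.1 (by rw [← hm, m0, zero_smul])
    obtain ⟨θ, hθ⟩ := h.herm.exists_ne_conj
    obtain ⟨m', hm', e1⟩ := key ((θ / m) • a) (Submodule.smul_mem _ _ ha)
    rw [k'.semi, RingAut.one_apply, ← smul_sub, ← hm, smul_smul, div_mul_cancel₀ _ m0] at hm'
    rw [smul_left_injective K he0 hm'] at e1
    exact (hθ (h.toMod.eq_of_add e1).symm).elim
  have h9 : ∀ v, γ' (γ' v) = v := fun v => by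
    have : γ' v - v ∈ U := by
      rw [← P.perp_perp C.nondeg U]
      intro u hu
      rw [P.B_sub_right, sub_eq_zero]
      nth_rw 1 [← h8 u hu]
      exact k'.B_eq u v
    have := h7 _ this
    rw [map_sub, sub_eq_iff_eq_add, sub_add_eq_add_sub, h.toMod.vadd_self, zero_sub] at this
    rw [this, neg_eq_iff_add_eq_zero, h.toMod.vadd_self]
  obtain ⟨s, a1, a2⟩ := h.lin_det k' (h.toMod.eq_one_of_sq (by
    rw [← map_mul, show k'.semi.lin.toLinearMap * k'.semi.lin.toLinearMap = 1 from LinearMap.ext h9, map_one]))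
  exact ⟨_, ⟨s, fun v hv => (a1 v).trans (h8 v hv), rfl⟩, _, a2, (mul_inv_cancel_left _ _).symm⟩

theorem Sit.td0 (h : Sit C φ t) (h2 : Two φ.range t) {e : V} {U : Submodule K V} (hU : TI P U)
    (hd : 2 ≤ finrank K U) (he : e ∈ U) (h0 : e ≠ 0) : TD φ.range ((R0 C e U).map φ) (Eg C φ U) t :=
  have k := h.td h2 hU fun e0 => h0 (by simpa [e0] using he)
  { k with
    ER := map_mono le_sup_right
    RH := map_le_range _ _
    cen := k.cen.trans (centralizer_le (map_mono (h.toMod.R0_le hU)))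
    cR := fun g e1 e2 => h.toEmb.cR0 hU hd he h0 (h.cN e1) e2 }

end CfsgLib.U5
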